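import Cfsg.Agent.Coset.Th.TQ2Data
import Cfsg.Agent.Coset.Ly.Iv
import Cfsg.Agent.Coset.Ly.Fast

set_option autoImplicit false
set_option maxRecDepth 100000
set_option Elab.async false

/-! The point stabiliser with the derived relator. -/

namespace CfsgLib.Coset.Th

open CfsgLib.Coset.Ly (iv checkRelsF)

namespace TQ2

theorem hR : checkRules rels subs R = true := by decide +kernel
theorem hdefs : checkDefs E 12 10 544 = true := by decide +kernel
theorem hsteps : checkChunks E (iv 12) R 12 6 544 42 C = true := by decide +kernel
theorem htable : checkTable E (iv 12) (544 + chunk * 42) 512 12 9 4 Rep Ref Tb = true := by decide +kernel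

end TQ2

end CfsgLib.Coset.Th
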