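import Cfsg.Agent.Coset.Th.Kill
import Cfsg.Agent.Coset.Th.TQ2

/-!
The group presented by the relators on fourteen letters has order 634023936 and acts faithfully
on 819 points.
-/

set_option autoImplicit false
set_option maxRecDepth 100000
set_option Elab.async false

namespace CfsgLib.Coset.Th

open CfsgLib.Coset.Ly (iv agree agree_sound)

theorem card_le : Finite A ∧ Nat.card A ≤ 634023936 :=
  card_le_of_genBy (m := 774144) (level_step (relsX := relsA ++ [relK]) SP SQ rfl
    (by decide +kernel)
    (fun w hw => (List.mem_append.mp hw).elim (ev_relsA w)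
      fun h => (List.mem_singleton.mp h) ▸ ev_relK)
    (by decide +kernel) TQ2.hR TQ2.hdefs TQ2.hsteps TQ2.htable (by decide) card_genBy_SQ)

theorem card_and_injective : Nat.card A = 634023936 ∧ Function.Injective ρ :=
  card_eq_and_injective (by decide) card_le.2 (orbit_A _ (card_ker_le (ρ := ρ) baseF))

theorem baseF_eq_bot : baseStab ρ baseF = ⊥ := by
  refine baseStab_eq_bot (N := 634023936) (by decide) card_le.2 baseF ?_
  refine (orbit_A _ le_rfl).trans (le_of_eq ?_)
  simp [baseStab]

/-- Equality of two words in `A`, decided at the base. -/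
noncomputable def eqA (v w : List Nat) : Bool := agree TP.Tb [0, 1, 50, 26] 14 v w

theorem eqA_sound {v w : List Nat} (h : eqA v w = true) : ev LA v = ev LA w :=
  agree_sound matches_ρ baseF_eq_bot len_LA h

theorem exists_word_A (a : A) : ∃ w : List Nat, (∀ l ∈ w, l < 14) ∧ ev LA w = a := by
  have ha : a ∈ Subgroup.closure {x | x ∈ LA} := closure_LA ▸ Subgroup.mem_top a
  induction ha using Subgroup.closure_induction with
  | mem x hx =>
    obtain ⟨l, hl, rfl⟩ := List.getElem_of_mem hx
    exact ⟨[l], by simpa [len_LA] using hl,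
      by simp [fl, List.getD_eq_getElem?_getD, List.getElem?_eq_getElem hl]⟩
  | one => exact ⟨[], by simp, ev_nil _⟩
  | mul x y _ _ hx hy =>
    obtain ⟨v, hv, rfl⟩ := hx
    obtain ⟨w, hw, rfl⟩ := hy
    exact ⟨v ++ w, fun l hl => (List.mem_append.mp hl).elim (hv l) (hw l), ev_append _ _ _⟩
  | inv x _ hx =>
    obtain ⟨w, hw, rfl⟩ := hx
    refine ⟨invW w, fun l hl => ?_, ev_invW w hw⟩
    obtain ⟨m, hm, rfl⟩ := List.mem_map.mp hl
    exact (pairsA m (hw m (List.mem_reverse.mp hm))).1

end CfsgLib.Coset.Th
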