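import Cfsg.Agent.Coset.Prim

/-! Certificate data for the conjugates of the first letter in the model. -/

set_option autoImplicit false
set_option maxRecDepth 100000

namespace CfsgLib.Coset.Th

/-- A word to each point, packed. -/
noncomputable def ptP (i : Nat) : Nat := (Bool.rec (motive := fun _ => Nat) (Bool.rec (motive := fun _ => Nat) (Bool.rec (motive := fun _ => Nat) (Bool.rec (motive := fun _ => Nat) (Bool.rec (motive := fun _ => Nat) (Bool.rec (motive := fun _ => Nat) (Bool.rec (motive := fun _ => Nat) (Bool.rec (motive := fun _ => Nat) (Bool.rec (motive := fun _ => Nat) (0x0) (Bool.rec (motive := fun _ => Nat) (0x3) (0x13) (Nat.ble 2 i)) (Nat.ble 1 i)) (Bool.rec (motive := fun _ => Nat) (0x53) (Bool.rec (motive := fun _ => Nat) (0x513) (0x753) (Nat.ble 5 i)) (Nat.ble 4 i)) (Nat.ble 3 i)) (Bool.rec (motive := fun _ => Nat) (Bool.rec (motive := fun _ => Nat) (0x3513) (Bool.rec (motive := fun _ => Nat) (0x7513) (0x5753)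 (Nat.ble 8 i)) (Nat.ble 7 i)) (Bool.rec (motive := fun _ => Nat) (0x9753) (Bool.rec (motive := fun _ => Nat) (0x73513) (0x57513) (Nat.ble 11 i)) (Nat.ble 10 i)) (Nat.ble 9 i)) (Nat.ble 6 i)) (Bool.rec (motive := fun _ => Nat) (Bool.rec (motive := fun _ => Nat) (Bool.rec (motive := fun _ => Nat) (0x97513) (Bool.rec (motive := fun _ => Nat) (0x35753) (0x95753) (Nat.ble 14 i)) (Nat.ble 13 i)) (Bool.rec (motive := fun _ => Nat) (0xb9753) (Bool.rec (motive := fun _ => Nat) (0xc9753) (0x573513) (Nat.ble 17 i)) (Nat.ble 16 i)) (Nat.ble 15 i)) (Bool.rec (motive := fun _ => Nat) (Bool.rec (motive := fun _ => Nat) (0x973513) (Bool.rec (motive := fun _ => Nat) (0x357513) (0x957513) (Nat.ble 20 i)) (Nat.ble 19 i)) (Bool.rec (motive := fun _ => Nat) (Bool.rec (motive := fun _ => Nat) (0xb97513) (0xc97513) (Nat.ble 22 i)) (Bool.rec (motive := fun _ => Nat) (0x135753) (0x935753) (Nat.ble 24 i)) (Nat.ble 23 i)) (Nat.ble 21 i)) (Nat.ble 18 i)) (Nat.ble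 12 i)) (Bool.rec (motive := fun _ => Nat) (Bool.rec (motive := fun _ => Nat) (Bool.rec (motive := fun _ => Nat) (Bool.rec (motive := fun _ => Nat) (0x795753) (Bool.rec (motive := fun _ => Nat) (0xb95753) (0xc95753) (Nat.ble 27 i)) (Nat.ble 26 i)) (Bool.rec (motive := fun _ => Nat) (0x9b9753) (Bool.rec (motive := fun _ => Nat) (0xbb9753) (0xeb9753) (Nat.ble 30 i)) (Nat.ble 29 i)) (Nat.ble 28 i)) (Bool.rec (motive := fun _ => Nat) (Bool.rec (motive := fun _ => Nat) (0xcc9753) (Bool.rec (motive := fun _ => Nat) (0x3573513) (0x7573513) (Nat.ble 33 i)) (Nat.ble 32 i)) (Bool.rec (motive := fun _ => Nat) (Bool.rec (motive := fun _ => Nat) (0x9573513) (0xb973513) (Nat.ble 35 i)) (Bool.rec (motive := fun _ => Nat) (0xc973513) (0x1357513) (Nat.ble 37 i)) (Nat.ble 36 i)) (Nat.ble 34 i)) (Nat.ble 31 i)) (Bool.rec (motive := fun _ => Nat) (Bool.rec (motive := fun _ => Nat) (Bool.rec (motive := fun _ => Nat) (0x9357513) (Bool.rec (motive := fun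 _ => Nat) (0x7957513) (0xb957513) (Nat.ble 40 i)) (Nat.ble 39 i)) (Bool.rec (motive := fun _ => Nat) (0xc957513) (Bool.rec (motive := fun _ => Nat) (0x9b97513) (0xbb97513) (Nat.ble 43 i)) (Nat.ble 42 i)) (Nat.ble 41 i)) (Bool.rec (motive := fun _ => Nat) (Bool.rec (motive := fun _ => Nat) (0xeb97513) (Bool.rec (motive := fun _ => Nat) (0xcc97513) (0x9135753) (Nat.ble 46 i)) (Nat.ble 45 i)) (Bool.rec (motive := fun _ => Nat) (Bool.rec (motive := fun _ => Nat) (0x7935753) (0xb935753) (Nat.ble 48 i)) (Bool.rec (motive := fun _ => Nat) (0xc935753) (0x5795753) (Nat.ble 50 i)) (Nat.ble 49 i)) (Nat.ble 47 i)) (Nat.ble 44 i)) (Nat.ble 38 i)) (Nat.ble 25 i)) (Bool.rec (motive := fun _ => Nat) (Bool.rec (motive := fun _ => Nat) (Bool.rec (motive := fun _ => Nat) (Bool.rec (motive := fun _ => Nat) (Bool.rec (motive := fun _ => Nat) (0xb795753) (Bool.rec (motive := fun _ => Nat) (0xc795753) (0x9b95753) (Nat.ble 53 i)) (Nat.ble 52 i)) (Bool.rec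 (motive := fun _ => Nat) (0xbb95753) (Bool.rec (motive := fun _ => Nat) (0xeb95753) (0xcc95753) (Nat.ble 56 i)) (Nat.ble 55 i)) (Nat.ble 54 i)) (Bool.rec (motive := fun _ => Nat) (Bool.rec (motive := fun _ => Nat) (0x13573513) (Bool.rec (motive := fun _ => Nat) (0x73573513) (0x93573513) (Nat.ble 59 i)) (Nat.ble 58 i)) (Bool.rec (motive := fun _ => Nat) (0xb9573513) (Bool.rec (motive := fun _ => Nat) (0xc9573513) (0x9b973513) (Nat.ble 62 i)) (Nat.ble 61 i)) (Nat.ble 60 i)) (Nat.ble 57 i)) (Bool.rec (motive := fun _ => Nat) (Bool.rec (motive := fun _ => Nat) (Bool.rec (motive := fun _ => Nat) (0xbb973513) (Bool.rec (motive := fun _ => Nat) (0xeb973513) (0xcc973513) (Nat.ble 65 i)) (Nat.ble 64 i)) (Bool.rec (motive := fun _ => Nat) (0x91357513) (Bool.rec (motive := fun _ => Nat) (0x79357513) (0xb9357513) (Nat.ble 68 i)) (Nat.ble 67 i)) (Nat.ble 66 i)) (Bool.rec (motive := fun _ => Nat) (Bool.rec (motive := fun _ => Nat) (0xc9357513)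 (Bool.rec (motive := fun _ => Nat) (0x57957513) (0xb7957513) (Nat.ble 71 i)) (Nat.ble 70 i)) (Bool.rec (motive := fun _ => Nat) (Bool.rec (motive := fun _ => Nat) (0xc7957513) (0x9b957513) (Nat.ble 73 i)) (Bool.rec (motive := fun _ => Nat) (0xbb957513) (0xeb957513) (Nat.ble 75 i)) (Nat.ble 74 i)) (Nat.ble 72 i)) (Nat.ble 69 i)) (Nat.ble 63 i)) (Bool.rec (motive := fun _ => Nat) (Bool.rec (motive := fun _ => Nat) (Bool.rec (motive := fun _ => Nat) (Bool.rec (motive := fun _ => Nat) (0xcc957513) (Bool.rec (motive := fun _ => Nat) (0x79135753) (0xb9135753) (Nat.ble 78 i)) (Nat.ble 77 i)) (Bool.rec (motive := fun _ => Nat) (0xc9135753) (Bool.rec (motive := fun _ => Nat) (0x57935753) (0xb7935753) (Nat.ble 81 i)) (Nat.ble 80 i)) (Nat.ble 79 i)) (Bool.rec (motive := fun _ => Nat) (Bool.rec (motive := fun _ => Nat) (0xc7935753) (Bool.rec (motive := fun _ => Nat) (0x9b935753) (0xbb935753) (Nat.ble 84 i)) (Nat.ble 83 i)) (Bool.rec (motive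 := fun _ => Nat) (Bool.rec (motive := fun _ => Nat) (0xeb935753) (0xcc935753) (Nat.ble 86 i)) (Bool.rec (motive := fun _ => Nat) (0x35795753) (0xb5795753) (Nat.ble 88 i)) (Nat.ble 87 i)) (Nat.ble 85 i)) (Nat.ble 82 i)) (Bool.rec (motive := fun _ => Nat) (Bool.rec (motive := fun _ => Nat) (Bool.rec (motive := fun _ => Nat) (0xc5795753) (Bool.rec (motive := fun _ => Nat) (0x9b795753) (0xbb795753) (Nat.ble 91 i)) (Nat.ble 90 i)) (Bool.rec (motive := fun _ => Nat) (0xeb795753) (Bool.rec (motive := fun _ => Nat) (0x9c795753) (0xcc795753) (Nat.ble 94 i)) (Nat.ble 93 i)) (Nat.ble 92 i)) (Bool.rec (motive := fun _ => Nat) (Bool.rec (motive := fun _ => Nat) (0xec795753) (Bool.rec (motive := fun _ => Nat) (0x713573513) (0x913573513) (Nat.ble 97 i)) (Nat.ble 96 i)) (Bool.rec (motive := fun _ => Nat) (Bool.rec (motive := fun _ => Nat) (0xb93573513) (0xc93573513) (Nat.ble 99 i)) (Bool.rec (motive := fun _ => Nat) (0x9b9573513) (0xbb9573513)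 (Nat.ble 101 i)) (Nat.ble 100 i)) (Nat.ble 98 i)) (Nat.ble 95 i)) (Nat.ble 89 i)) (Nat.ble 76 i)) (Nat.ble 51 i)) (Bool.rec (motive := fun _ => Nat) (Bool.rec (motive := fun _ => Nat) (Bool.rec (motive := fun _ => Nat) (Bool.rec (motive := fun _ => Nat) (Bool.rec (motive := fun _ => Nat) (Bool.rec (motive := fun _ => Nat) (0xeb9573513) (Bool.rec (motive := fun _ => Nat) (0xcc9573513) (0x791357513) (Nat.ble 104 i)) (Nat.ble 103 i)) (Bool.rec (motive := fun _ => Nat) (0xb91357513) (Bool.rec (motive := fun _ => Nat) (0xc91357513) (0x579357513) (Nat.ble 107 i)) (Nat.ble 106 i)) (Nat.ble 105 i)) (Bool.rec (motive := fun _ => Nat) (Bool.rec (motive := fun _ => Nat) (0xb79357513) (Bool.rec (motive := fun _ => Nat) (0xc79357513) (0x9b9357513) (Nat.ble 110 i)) (Nat.ble 109 i)) (Bool.rec (motive := fun _ => Nat) (0xbb9357513) (Bool.rec (motive := fun _ => Nat) (0xeb9357513) (0xcc9357513) (Nat.ble 113 i)) (Nat.ble 112 i)) (Nat.ble 111 i))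 (Nat.ble 108 i)) (Bool.rec (motive := fun _ => Nat) (Bool.rec (motive := fun _ => Nat) (Bool.rec (motive := fun _ => Nat) (0x357957513) (Bool.rec (motive := fun _ => Nat) (0xb57957513) (0xc57957513) (Nat.ble 116 i)) (Nat.ble 115 i)) (Bool.rec (motive := fun _ => Nat) (0x9b7957513) (Bool.rec (motive := fun _ => Nat) (0xbb7957513) (0xeb7957513) (Nat.ble 119 i)) (Nat.ble 118 i)) (Nat.ble 117 i)) (Bool.rec (motive := fun _ => Nat) (Bool.rec (motive := fun _ => Nat) (0x9c7957513) (Bool.rec (motive := fun _ => Nat) (0xcc7957513) (0xec7957513) (Nat.ble 122 i)) (Nat.ble 121 i)) (Bool.rec (motive := fun _ => Nat) (Bool.rec (motive := fun _ => Nat) (0x579135753) (0xb79135753) (Nat.ble 124 i)) (Bool.rec (motive := fun _ => Nat) (0xc79135753) (0x9b9135753) (Nat.ble 126 i)) (Nat.ble 125 i)) (Nat.ble 123 i)) (Nat.ble 120 i)) (Nat.ble 114 i)) (Bool.rec (motive := fun _ => Nat) (Bool.rec (motive := fun _ => Nat) (Bool.rec (motive := fun _ => Nat)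 (Bool.rec (motive := fun _ => Nat) (0xbb9135753) (Bool.rec (motive := fun _ => Nat) (0xeb9135753) (0xcc9135753) (Nat.ble 129 i)) (Nat.ble 128 i)) (Bool.rec (motive := fun _ => Nat) (0x357935753) (Bool.rec (motive := fun _ => Nat) (0x757935753) (0xb57935753) (Nat.ble 132 i)) (Nat.ble 131 i)) (Nat.ble 130 i)) (Bool.rec (motive := fun _ => Nat) (Bool.rec (motive := fun _ => Nat) (0xc57935753) (Bool.rec (motive := fun _ => Nat) (0x9b7935753) (0xbb7935753) (Nat.ble 135 i)) (Nat.ble 134 i)) (Bool.rec (motive := fun _ => Nat) (Bool.rec (motive := fun _ => Nat) (0xeb7935753) (0x9c7935753) (Nat.ble 137 i)) (Bool.rec (motive := fun _ => Nat) (0xcc7935753) (0xec7935753) (Nat.ble 139 i)) (Nat.ble 138 i)) (Nat.ble 136 i)) (Nat.ble 133 i)) (Bool.rec (motive := fun _ => Nat) (Bool.rec (motive := fun _ => Nat) (Bool.rec (motive := fun _ => Nat) (0x135795753) (Bool.rec (motive := fun _ => Nat) (0xb35795753) (0xc35795753) (Nat.ble 142 i)) (Nat.ble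 141 i)) (Bool.rec (motive := fun _ => Nat) (0x9b5795753) (Bool.rec (motive := fun _ => Nat) (0xbb5795753) (0xeb5795753) (Nat.ble 145 i)) (Nat.ble 144 i)) (Nat.ble 143 i)) (Bool.rec (motive := fun _ => Nat) (Bool.rec (motive := fun _ => Nat) (0x9c5795753) (Bool.rec (motive := fun _ => Nat) (0xcc5795753) (0xec5795753) (Nat.ble 148 i)) (Nat.ble 147 i)) (Bool.rec (motive := fun _ => Nat) (Bool.rec (motive := fun _ => Nat) (0x79b795753) (0xb9b795753) (Nat.ble 150 i)) (Bool.rec (motive := fun _ => Nat) (0xc9b795753) (0xd9b795753) (Nat.ble 152 i)) (Nat.ble 151 i)) (Nat.ble 149 i)) (Nat.ble 146 i)) (Nat.ble 140 i)) (Nat.ble 127 i)) (Bool.rec (motive := fun _ => Nat) (Bool.rec (motive := fun _ => Nat) (Bool.rec (motive := fun _ => Nat) (Bool.rec (motive := fun _ => Nat) (Bool.rec (motive := fun _ => Nat) (0xe9b795753) (Bool.rec (motive := fun _ => Nat) (0xb9c795753) (0xc9c795753) (Nat.ble 155 i)) (Nat.ble 154 i)) (Bool.rec (motive := fun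 _ => Nat) (0xe9c795753) (Bool.rec (motive := fun _ => Nat) (0xb913573513) (0xc913573513) (Nat.ble 158 i)) (Nat.ble 157 i)) (Nat.ble 156 i)) (Bool.rec (motive := fun _ => Nat) (Bool.rec (motive := fun _ => Nat) (0x9b93573513) (Bool.rec (motive := fun _ => Nat) (0xbb93573513) (0xeb93573513) (Nat.ble 161 i)) (Nat.ble 160 i)) (Bool.rec (motive := fun _ => Nat) (0xcc93573513) (Bool.rec (motive := fun _ => Nat) (0x5791357513) (0xb791357513) (Nat.ble 164 i)) (Nat.ble 163 i)) (Nat.ble 162 i)) (Nat.ble 159 i)) (Bool.rec (motive := fun _ => Nat) (Bool.rec (motive := fun _ => Nat) (Bool.rec (motive := fun _ => Nat) (0xc791357513) (Bool.rec (motive := fun _ => Nat) (0x9b91357513) (0xbb91357513) (Nat.ble 167 i)) (Nat.ble 166 i)) (Bool.rec (motive := fun _ => Nat) (0xeb91357513) (Bool.rec (motive := fun _ => Nat) (0xcc91357513) (0x3579357513) (Nat.ble 170 i)) (Nat.ble 169 i)) (Nat.ble 168 i)) (Bool.rec (motive := fun _ => Nat) (Bool.rec (motive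 := fun _ => Nat) (0xb579357513) (Bool.rec (motive := fun _ => Nat) (0xc579357513) (0x9b79357513) (Nat.ble 173 i)) (Nat.ble 172 i)) (Bool.rec (motive := fun _ => Nat) (Bool.rec (motive := fun _ => Nat) (0xbb79357513) (0xeb79357513) (Nat.ble 175 i)) (Bool.rec (motive := fun _ => Nat) (0x9c79357513) (0xcc79357513) (Nat.ble 177 i)) (Nat.ble 176 i)) (Nat.ble 174 i)) (Nat.ble 171 i)) (Nat.ble 165 i)) (Bool.rec (motive := fun _ => Nat) (Bool.rec (motive := fun _ => Nat) (Bool.rec (motive := fun _ => Nat) (Bool.rec (motive := fun _ => Nat) (0xec79357513) (Bool.rec (motive := fun _ => Nat) (0x1357957513) (0xb357957513) (Nat.ble 180 i)) (Nat.ble 179 i)) (Bool.rec (motive := fun _ => Nat) (0xc357957513) (Bool.rec (motive := fun _ => Nat) (0x9b57957513) (0xbb57957513) (Nat.ble 183 i)) (Nat.ble 182 i)) (Nat.ble 181 i)) (Bool.rec (motive := fun _ => Nat) (Bool.rec (motive := fun _ => Nat) (0xeb57957513) (Bool.rec (motive := fun _ => Nat) (0x9c57957513)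 (0xcc57957513) (Nat.ble 186 i)) (Nat.ble 185 i)) (Bool.rec (motive := fun _ => Nat) (Bool.rec (motive := fun _ => Nat) (0xec57957513) (0x79b7957513) (Nat.ble 188 i)) (Bool.rec (motive := fun _ => Nat) (0xb9b7957513) (0xc9b7957513) (Nat.ble 190 i)) (Nat.ble 189 i)) (Nat.ble 187 i)) (Nat.ble 184 i)) (Bool.rec (motive := fun _ => Nat) (Bool.rec (motive := fun _ => Nat) (Bool.rec (motive := fun _ => Nat) (0xd9b7957513) (Bool.rec (motive := fun _ => Nat) (0xe9b7957513) (0xb9c7957513) (Nat.ble 193 i)) (Nat.ble 192 i)) (Bool.rec (motive := fun _ => Nat) (0xc9c7957513) (Bool.rec (motive := fun _ => Nat) (0xe9c7957513) (0x3579135753) (Nat.ble 196 i)) (Nat.ble 195 i)) (Nat.ble 194 i)) (Bool.rec (motive := fun _ => Nat) (Bool.rec (motive := fun _ => Nat) (0x7579135753) (Bool.rec (motive := fun _ => Nat) (0xb579135753) (0xc579135753) (Nat.ble 199 i)) (Nat.ble 198 i)) (Bool.rec (motive := fun _ => Nat) (Bool.rec (motive := fun _ => Nat) (0x9b79135753)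 (0xbb79135753) (Nat.ble 201 i)) (Bool.rec (motive := fun _ => Nat) (0xeb79135753) (0x9c79135753) (Nat.ble 203 i)) (Nat.ble 202 i)) (Nat.ble 200 i)) (Nat.ble 197 i)) (Nat.ble 191 i)) (Nat.ble 178 i)) (Nat.ble 153 i)) (Nat.ble 102 i)) (Bool.rec (motive := fun _ => Nat) (Bool.rec (motive := fun _ => Nat) (Bool.rec (motive := fun _ => Nat) (Bool.rec (motive := fun _ => Nat) (Bool.rec (motive := fun _ => Nat) (Bool.rec (motive := fun _ => Nat) (Bool.rec (motive := fun _ => Nat) (0xcc79135753) (Bool.rec (motive := fun _ => Nat) (0xec79135753) (0x1357935753) (Nat.ble 206 i)) (Nat.ble 205 i)) (Bool.rec (motive := fun _ => Nat) (0x7357935753) (Bool.rec (motive := fun _ => Nat) (0xb357935753) (0xc357935753) (Nat.ble 209 i)) (Nat.ble 208 i)) (Nat.ble 207 i)) (Bool.rec (motive := fun _ => Nat) (Bool.rec (motive := fun _ => Nat) (0xb757935753) (Bool.rec (motive := fun _ => Nat) (0xc757935753) (0x9b57935753) (Nat.ble 212 i)) (Nat.ble 211 i))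 (Bool.rec (motive := fun _ => Nat) (0xbb57935753) (Bool.rec (motive := fun _ => Nat) (0xeb57935753) (0x9c57935753) (Nat.ble 215 i)) (Nat.ble 214 i)) (Nat.ble 213 i)) (Nat.ble 210 i)) (Bool.rec (motive := fun _ => Nat) (Bool.rec (motive := fun _ => Nat) (Bool.rec (motive := fun _ => Nat) (0xcc57935753) (Bool.rec (motive := fun _ => Nat) (0xec57935753) (0x79b7935753) (Nat.ble 218 i)) (Nat.ble 217 i)) (Bool.rec (motive := fun _ => Nat) (0xb9b7935753) (Bool.rec (motive := fun _ => Nat) (0xc9b7935753) (0xd9b7935753) (Nat.ble 221 i)) (Nat.ble 220 i)) (Nat.ble 219 i)) (Bool.rec (motive := fun _ => Nat) (Bool.rec (motive := fun _ => Nat) (0xe9b7935753) (Bool.rec (motive := fun _ => Nat) (0xb9c7935753) (0xc9c7935753) (Nat.ble 224 i)) (Nat.ble 223 i)) (Bool.rec (motive := fun _ => Nat) (Bool.rec (motive := fun _ => Nat) (0xe9c7935753) (0xb135795753) (Nat.ble 226 i)) (Bool.rec (motive := fun _ => Nat) (0xc135795753) (0x9b35795753) (Nat.ble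 228 i)) (Nat.ble 227 i)) (Nat.ble 225 i)) (Nat.ble 222 i)) (Nat.ble 216 i)) (Bool.rec (motive := fun _ => Nat) (Bool.rec (motive := fun _ => Nat) (Bool.rec (motive := fun _ => Nat) (Bool.rec (motive := fun _ => Nat) (0xbb35795753) (Bool.rec (motive := fun _ => Nat) (0xeb35795753) (0x9c35795753) (Nat.ble 231 i)) (Nat.ble 230 i)) (Bool.rec (motive := fun _ => Nat) (0xcc35795753) (Bool.rec (motive := fun _ => Nat) (0xec35795753) (0x79b5795753) (Nat.ble 234 i)) (Nat.ble 233 i)) (Nat.ble 232 i)) (Bool.rec (motive := fun _ => Nat) (Bool.rec (motive := fun _ => Nat) (0xb9b5795753) (Bool.rec (motive := fun _ => Nat) (0xc9b5795753) (0xd9b5795753) (Nat.ble 237 i)) (Nat.ble 236 i)) (Bool.rec (motive := fun _ => Nat) (Bool.rec (motive := fun _ => Nat) (0xe9b5795753) (0x79c5795753) (Nat.ble 239 i)) (Bool.rec (motive := fun _ => Nat) (0xb9c5795753) (0xc9c5795753) (Nat.ble 241 i)) (Nat.ble 240 i)) (Nat.ble 238 i)) (Nat.ble 235 i)) (Bool.rec (motive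 := fun _ => Nat) (Bool.rec (motive := fun _ => Nat) (Bool.rec (motive := fun _ => Nat) (0xd9c5795753) (Bool.rec (motive := fun _ => Nat) (0xe9c5795753) (0xb79b795753) (Nat.ble 244 i)) (Nat.ble 243 i)) (Bool.rec (motive := fun _ => Nat) (0xc79b795753) (Bool.rec (motive := fun _ => Nat) (0x9b9b795753) (0xbb9b795753) (Nat.ble 247 i)) (Nat.ble 246 i)) (Nat.ble 245 i)) (Bool.rec (motive := fun _ => Nat) (Bool.rec (motive := fun _ => Nat) (0xdb9b795753) (Bool.rec (motive := fun _ => Nat) (0xeb9b795753) (0xcc9b795753) (Nat.ble 250 i)) (Nat.ble 249 i)) (Bool.rec (motive := fun _ => Nat) (Bool.rec (motive := fun _ => Nat) (0xdc9b795753) (0xcd9b795753) (Nat.ble 252 i)) (Bool.rec (motive := fun _ => Nat) (0xce9b795753) (0xbb9c795753) (Nat.ble 254 i)) (Nat.ble 253 i)) (Nat.ble 251 i)) (Nat.ble 248 i)) (Nat.ble 242 i)) (Nat.ble 229 i)) (Bool.rec (motive := fun _ => Nat) (Bool.rec (motive := fun _ => Nat) (Bool.rec (motive := fun _ => Nat) (Bool.rec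 (motive := fun _ => Nat) (Bool.rec (motive := fun _ => Nat) (0xeb9c795753) (Bool.rec (motive := fun _ => Nat) (0x9c9c795753) (0xdc9c795753) (Nat.ble 257 i)) (Nat.ble 256 i)) (Bool.rec (motive := fun _ => Nat) (0xec9c795753) (Bool.rec (motive := fun _ => Nat) (0xbe9c795753) (0x9b913573513) (Nat.ble 260 i)) (Nat.ble 259 i)) (Nat.ble 258 i)) (Bool.rec (motive := fun _ => Nat) (Bool.rec (motive := fun _ => Nat) (0xbb913573513) (Bool.rec (motive := fun _ => Nat) (0xeb913573513) (0xcc913573513) (Nat.ble 263 i)) (Nat.ble 262 i)) (Bool.rec (motive := fun _ => Nat) (0x35791357513) (Bool.rec (motive := fun _ => Nat) (0xb5791357513) (0xc5791357513) (Nat.ble 266 i)) (Nat.ble 265 i)) (Nat.ble 264 i)) (Nat.ble 261 i)) (Bool.rec (motive := fun _ => Nat) (Bool.rec (motive := fun _ => Nat) (Bool.rec (motive := fun _ => Nat) (0x9b791357513) (Bool.rec (motive := fun _ => Nat) (0xbb791357513) (0xeb791357513) (Nat.ble 269 i)) (Nat.ble 268 i)) (Bool.rec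 (motive := fun _ => Nat) (0x9c791357513) (Bool.rec (motive := fun _ => Nat) (0xcc791357513) (0xec791357513) (Nat.ble 272 i)) (Nat.ble 271 i)) (Nat.ble 270 i)) (Bool.rec (motive := fun _ => Nat) (Bool.rec (motive := fun _ => Nat) (0x13579357513) (Bool.rec (motive := fun _ => Nat) (0xb3579357513) (0xc3579357513) (Nat.ble 275 i)) (Nat.ble 274 i)) (Bool.rec (motive := fun _ => Nat) (Bool.rec (motive := fun _ => Nat) (0x9b579357513) (0xbb579357513) (Nat.ble 277 i)) (Bool.rec (motive := fun _ => Nat) (0xeb579357513) (0x9c579357513) (Nat.ble 279 i)) (Nat.ble 278 i)) (Nat.ble 276 i)) (Nat.ble 273 i)) (Nat.ble 267 i)) (Bool.rec (motive := fun _ => Nat) (Bool.rec (motive := fun _ => Nat) (Bool.rec (motive := fun _ => Nat) (Bool.rec (motive := fun _ => Nat) (0xcc579357513) (Bool.rec (motive := fun _ => Nat) (0xec579357513) (0x79b79357513) (Nat.ble 282 i)) (Nat.ble 281 i)) (Bool.rec (motive := fun _ => Nat) (0xb9b79357513) (Bool.rec (motive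 := fun _ => Nat) (0xc9b79357513) (0xd9b79357513) (Nat.ble 285 i)) (Nat.ble 284 i)) (Nat.ble 283 i)) (Bool.rec (motive := fun _ => Nat) (Bool.rec (motive := fun _ => Nat) (0xe9b79357513) (Bool.rec (motive := fun _ => Nat) (0xb9c79357513) (0xc9c79357513) (Nat.ble 288 i)) (Nat.ble 287 i)) (Bool.rec (motive := fun _ => Nat) (Bool.rec (motive := fun _ => Nat) (0xe9c79357513) (0xb1357957513) (Nat.ble 290 i)) (Bool.rec (motive := fun _ => Nat) (0xc1357957513) (0x9b357957513) (Nat.ble 292 i)) (Nat.ble 291 i)) (Nat.ble 289 i)) (Nat.ble 286 i)) (Bool.rec (motive := fun _ => Nat) (Bool.rec (motive := fun _ => Nat) (Bool.rec (motive := fun _ => Nat) (0xbb357957513) (Bool.rec (motive := fun _ => Nat) (0xeb357957513) (0x9c357957513) (Nat.ble 295 i)) (Nat.ble 294 i)) (Bool.rec (motive := fun _ => Nat) (0xcc357957513) (Bool.rec (motive := fun _ => Nat) (0xec357957513) (0x79b57957513) (Nat.ble 298 i)) (Nat.ble 297 i)) (Nat.ble 296 i)) (Bool.rec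 (motive := fun _ => Nat) (Bool.rec (motive := fun _ => Nat) (0xb9b57957513) (Bool.rec (motive := fun _ => Nat) (0xc9b57957513) (0xd9b57957513) (Nat.ble 301 i)) (Nat.ble 300 i)) (Bool.rec (motive := fun _ => Nat) (Bool.rec (motive := fun _ => Nat) (0xe9b57957513) (0x79c57957513) (Nat.ble 303 i)) (Bool.rec (motive := fun _ => Nat) (0xb9c57957513) (0xc9c57957513) (Nat.ble 305 i)) (Nat.ble 304 i)) (Nat.ble 302 i)) (Nat.ble 299 i)) (Nat.ble 293 i)) (Nat.ble 280 i)) (Nat.ble 255 i)) (Bool.rec (motive := fun _ => Nat) (Bool.rec (motive := fun _ => Nat) (Bool.rec (motive := fun _ => Nat) (Bool.rec (motive := fun _ => Nat) (Bool.rec (motive := fun _ => Nat) (Bool.rec (motive := fun _ => Nat) (0xd9c57957513) (Bool.rec (motive := fun _ => Nat) (0xe9c57957513) (0xc79b7957513) (Nat.ble 308 i)) (Nat.ble 307 i)) (Bool.rec (motive := fun _ => Nat) (0x9b9b7957513) (Bool.rec (motive := fun _ => Nat) (0xcd9b7957513) (0xce9b7957513) (Nat.ble 311 i))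 (Nat.ble 310 i)) (Nat.ble 309 i)) (Bool.rec (motive := fun _ => Nat) (Bool.rec (motive := fun _ => Nat) (0x9c9c7957513) (Bool.rec (motive := fun _ => Nat) (0xec9c7957513) (0x13579135753) (Nat.ble 314 i)) (Nat.ble 313 i)) (Bool.rec (motive := fun _ => Nat) (0x73579135753) (Bool.rec (motive := fun _ => Nat) (0xb3579135753) (0xc3579135753) (Nat.ble 317 i)) (Nat.ble 316 i)) (Nat.ble 315 i)) (Nat.ble 312 i)) (Bool.rec (motive := fun _ => Nat) (Bool.rec (motive := fun _ => Nat) (Bool.rec (motive := fun _ => Nat) (0xb7579135753) (Bool.rec (motive := fun _ => Nat) (0xc7579135753) (0x9b579135753) (Nat.ble 320 i)) (Nat.ble 319 i)) (Bool.rec (motive := fun _ => Nat) (0xbb579135753) (Bool.rec (motive := fun _ => Nat) (0xeb579135753) (0x9c579135753) (Nat.ble 323 i)) (Nat.ble 322 i)) (Nat.ble 321 i)) (Bool.rec (motive := fun _ => Nat) (Bool.rec (motive := fun _ => Nat) (0xcc579135753) (Bool.rec (motive := fun _ => Nat) (0xec579135753) (0x79b79135753)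 (Nat.ble 326 i)) (Nat.ble 325 i)) (Bool.rec (motive := fun _ => Nat) (Bool.rec (motive := fun _ => Nat) (0xb9b79135753) (0xc9b79135753) (Nat.ble 328 i)) (Bool.rec (motive := fun _ => Nat) (0xd9b79135753) (0xe9b79135753) (Nat.ble 330 i)) (Nat.ble 329 i)) (Nat.ble 327 i)) (Nat.ble 324 i)) (Nat.ble 318 i)) (Bool.rec (motive := fun _ => Nat) (Bool.rec (motive := fun _ => Nat) (Bool.rec (motive := fun _ => Nat) (Bool.rec (motive := fun _ => Nat) (0xb9c79135753) (Bool.rec (motive := fun _ => Nat) (0xc9c79135753) (0xe9c79135753) (Nat.ble 333 i)) (Nat.ble 332 i)) (Bool.rec (motive := fun _ => Nat) (0x71357935753) (Bool.rec (motive := fun _ => Nat) (0xb1357935753) (0xc1357935753) (Nat.ble 336 i)) (Nat.ble 335 i)) (Nat.ble 334 i)) (Bool.rec (motive := fun _ => Nat) (Bool.rec (motive := fun _ => Nat) (0x57357935753) (Bool.rec (motive := fun _ => Nat) (0xb7357935753) (0xc7357935753) (Nat.ble 339 i)) (Nat.ble 338 i)) (Bool.rec (motive := fun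 _ => Nat) (Bool.rec (motive := fun _ => Nat) (0x9b357935753) (0xbb357935753) (Nat.ble 341 i)) (Bool.rec (motive := fun _ => Nat) (0xeb357935753) (0x9c357935753) (Nat.ble 343 i)) (Nat.ble 342 i)) (Nat.ble 340 i)) (Nat.ble 337 i)) (Bool.rec (motive := fun _ => Nat) (Bool.rec (motive := fun _ => Nat) (Bool.rec (motive := fun _ => Nat) (0xcc357935753) (Bool.rec (motive := fun _ => Nat) (0xec357935753) (0xbb757935753) (Nat.ble 346 i)) (Nat.ble 345 i)) (Bool.rec (motive := fun _ => Nat) (0xeb757935753) (Bool.rec (motive := fun _ => Nat) (0xcc757935753) (0xec757935753) (Nat.ble 349 i)) (Nat.ble 348 i)) (Nat.ble 347 i)) (Bool.rec (motive := fun _ => Nat) (Bool.rec (motive := fun _ => Nat) (0xb9b57935753) (Bool.rec (motive := fun _ => Nat) (0xc9b57935753) (0xd9b57935753) (Nat.ble 352 i)) (Nat.ble 351 i)) (Bool.rec (motive := fun _ => Nat) (Bool.rec (motive := fun _ => Nat) (0xe9b57935753) (0xb9c57935753) (Nat.ble 354 i)) (Bool.rec (motive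 := fun _ => Nat) (0xc9c57935753) (0xd9c57935753) (Nat.ble 356 i)) (Nat.ble 355 i)) (Nat.ble 353 i)) (Nat.ble 350 i)) (Nat.ble 344 i)) (Nat.ble 331 i)) (Bool.rec (motive := fun _ => Nat) (Bool.rec (motive := fun _ => Nat) (Bool.rec (motive := fun _ => Nat) (Bool.rec (motive := fun _ => Nat) (Bool.rec (motive := fun _ => Nat) (0xe9c57935753) (Bool.rec (motive := fun _ => Nat) (0xb79b7935753) (0xc79b7935753) (Nat.ble 359 i)) (Nat.ble 358 i)) (Bool.rec (motive := fun _ => Nat) (0x9b9b7935753) (Bool.rec (motive := fun _ => Nat) (0xbb9b7935753) (0xdb9b7935753) (Nat.ble 362 i)) (Nat.ble 361 i)) (Nat.ble 360 i)) (Bool.rec (motive := fun _ => Nat) (Bool.rec (motive := fun _ => Nat) (0xeb9b7935753) (Bool.rec (motive := fun _ => Nat) (0xcc9b7935753) (0xdc9b7935753) (Nat.ble 365 i)) (Nat.ble 364 i)) (Bool.rec (motive := fun _ => Nat) (Bool.rec (motive := fun _ => Nat) (0xcd9b7935753) (0xce9b7935753) (Nat.ble 367 i)) (Bool.rec (motive := fun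 _ => Nat) (0xbb9c7935753) (0xeb9c7935753) (Nat.ble 369 i)) (Nat.ble 368 i)) (Nat.ble 366 i)) (Nat.ble 363 i)) (Bool.rec (motive := fun _ => Nat) (Bool.rec (motive := fun _ => Nat) (Bool.rec (motive := fun _ => Nat) (0x9c9c7935753) (Bool.rec (motive := fun _ => Nat) (0xdc9c7935753) (0xec9c7935753) (Nat.ble 372 i)) (Nat.ble 371 i)) (Bool.rec (motive := fun _ => Nat) (0xbe9c7935753) (Bool.rec (motive := fun _ => Nat) (0x9b135795753) (0xbb135795753) (Nat.ble 375 i)) (Nat.ble 374 i)) (Nat.ble 373 i)) (Bool.rec (motive := fun _ => Nat) (Bool.rec (motive := fun _ => Nat) (0xeb135795753) (Bool.rec (motive := fun _ => Nat) (0x9c135795753) (0xcc135795753) (Nat.ble 378 i)) (Nat.ble 377 i)) (Bool.rec (motive := fun _ => Nat) (Bool.rec (motive := fun _ => Nat) (0xec135795753) (0x79b35795753) (Nat.ble 380 i)) (Bool.rec (motive := fun _ => Nat) (0xb9b35795753) (0xc9b35795753) (Nat.ble 382 i)) (Nat.ble 381 i)) (Nat.ble 379 i)) (Nat.ble 376 i))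 (Nat.ble 370 i)) (Bool.rec (motive := fun _ => Nat) (Bool.rec (motive := fun _ => Nat) (Bool.rec (motive := fun _ => Nat) (Bool.rec (motive := fun _ => Nat) (0xd9b35795753) (Bool.rec (motive := fun _ => Nat) (0xe9b35795753) (0x79c35795753) (Nat.ble 385 i)) (Nat.ble 384 i)) (Bool.rec (motive := fun _ => Nat) (0xb9c35795753) (Bool.rec (motive := fun _ => Nat) (0xc9c35795753) (0xd9c35795753) (Nat.ble 388 i)) (Nat.ble 387 i)) (Nat.ble 386 i)) (Bool.rec (motive := fun _ => Nat) (Bool.rec (motive := fun _ => Nat) (0xe9c35795753) (Bool.rec (motive := fun _ => Nat) (0x579b5795753) (0xb79b5795753) (Nat.ble 391 i)) (Nat.ble 390 i)) (Bool.rec (motive := fun _ => Nat) (Bool.rec (motive := fun _ => Nat) (0xd79b5795753) (0xe79b5795753) (Nat.ble 393 i)) (Bool.rec (motive := fun _ => Nat) (0x9b9b5795753) (0xdb9b5795753) (Nat.ble 395 i)) (Nat.ble 394 i)) (Nat.ble 392 i)) (Nat.ble 389 i)) (Bool.rec (motive := fun _ => Nat) (Bool.rec (motive := fun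 _ => Nat) (Bool.rec (motive := fun _ => Nat) (0xeb9b5795753) (Bool.rec (motive := fun _ => Nat) (0xcc9b5795753) (0xdc9b5795753) (Nat.ble 398 i)) (Nat.ble 397 i)) (Bool.rec (motive := fun _ => Nat) (0xcd9b5795753) (Bool.rec (motive := fun _ => Nat) (0xce9b5795753) (0x579c5795753) (Nat.ble 401 i)) (Nat.ble 400 i)) (Nat.ble 399 i)) (Bool.rec (motive := fun _ => Nat) (Bool.rec (motive := fun _ => Nat) (0xb79c5795753) (Bool.rec (motive := fun _ => Nat) (0xc79c5795753) (0xd79c5795753) (Nat.ble 404 i)) (Nat.ble 403 i)) (Bool.rec (motive := fun _ => Nat) (Bool.rec (motive := fun _ => Nat) (0xe79c5795753) (0xbb9c5795753) (Nat.ble 406 i)) (Bool.rec (motive := fun _ => Nat) (0xeb9c5795753) (0x9c9c5795753) (Nat.ble 408 i)) (Nat.ble 407 i)) (Nat.ble 405 i)) (Nat.ble 402 i)) (Nat.ble 396 i)) (Nat.ble 383 i)) (Nat.ble 357 i)) (Nat.ble 306 i)) (Nat.ble 204 i)) (Bool.rec (motive := fun _ => Nat) (Bool.rec (motive := fun _ => Nat) (Bool.rec (motive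 := fun _ => Nat) (Bool.rec (motive := fun _ => Nat) (Bool.rec (motive := fun _ => Nat) (Bool.rec (motive := fun _ => Nat) (Bool.rec (motive := fun _ => Nat) (Bool.rec (motive := fun _ => Nat) (0xdc9c5795753) (Bool.rec (motive := fun _ => Nat) (0xec9c5795753) (0xbd9c5795753) (Nat.ble 411 i)) (Nat.ble 410 i)) (Bool.rec (motive := fun _ => Nat) (0xcd9c5795753) (Bool.rec (motive := fun _ => Nat) (0xbe9c5795753) (0x135791357513) (Nat.ble 414 i)) (Nat.ble 413 i)) (Nat.ble 412 i)) (Bool.rec (motive := fun _ => Nat) (Bool.rec (motive := fun _ => Nat) (0xb35791357513) (Bool.rec (motive := fun _ => Nat) (0xc35791357513) (0x9b5791357513) (Nat.ble 417 i)) (Nat.ble 416 i)) (Bool.rec (motive := fun _ => Nat) (0xbb5791357513) (Bool.rec (motive := fun _ => Nat) (0xeb5791357513) (0x9c5791357513) (Nat.ble 420 i)) (Nat.ble 419 i)) (Nat.ble 418 i)) (Nat.ble 415 i)) (Bool.rec (motive := fun _ => Nat) (Bool.rec (motive := fun _ => Nat) (Bool.rec (motive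 := fun _ => Nat) (0xcc5791357513) (Bool.rec (motive := fun _ => Nat) (0xec5791357513) (0x79b791357513) (Nat.ble 423 i)) (Nat.ble 422 i)) (Bool.rec (motive := fun _ => Nat) (0xb9b791357513) (Bool.rec (motive := fun _ => Nat) (0xc9b791357513) (0xd9b791357513) (Nat.ble 426 i)) (Nat.ble 425 i)) (Nat.ble 424 i)) (Bool.rec (motive := fun _ => Nat) (Bool.rec (motive := fun _ => Nat) (0xe9b791357513) (Bool.rec (motive := fun _ => Nat) (0xb9c791357513) (0xc9c791357513) (Nat.ble 429 i)) (Nat.ble 428 i)) (Bool.rec (motive := fun _ => Nat) (Bool.rec (motive := fun _ => Nat) (0xe9c791357513) (0xb13579357513) (Nat.ble 431 i)) (Bool.rec (motive := fun _ => Nat) (0xc13579357513) (0x9b3579357513) (Nat.ble 433 i)) (Nat.ble 432 i)) (Nat.ble 430 i)) (Nat.ble 427 i)) (Nat.ble 421 i)) (Bool.rec (motive := fun _ => Nat) (Bool.rec (motive := fun _ => Nat) (Bool.rec (motive := fun _ => Nat) (Bool.rec (motive := fun _ => Nat) (0xbb3579357513) (Bool.rec (motive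 := fun _ => Nat) (0xeb3579357513) (0x9c3579357513) (Nat.ble 436 i)) (Nat.ble 435 i)) (Bool.rec (motive := fun _ => Nat) (0xcc3579357513) (Bool.rec (motive := fun _ => Nat) (0xec3579357513) (0x79b579357513) (Nat.ble 439 i)) (Nat.ble 438 i)) (Nat.ble 437 i)) (Bool.rec (motive := fun _ => Nat) (Bool.rec (motive := fun _ => Nat) (0xb9b579357513) (Bool.rec (motive := fun _ => Nat) (0xc9b579357513) (0xd9b579357513) (Nat.ble 442 i)) (Nat.ble 441 i)) (Bool.rec (motive := fun _ => Nat) (Bool.rec (motive := fun _ => Nat) (0xe9b579357513) (0x79c579357513) (Nat.ble 444 i)) (Bool.rec (motive := fun _ => Nat) (0xb9c579357513) (0xc9c579357513) (Nat.ble 446 i)) (Nat.ble 445 i)) (Nat.ble 443 i)) (Nat.ble 440 i)) (Bool.rec (motive := fun _ => Nat) (Bool.rec (motive := fun _ => Nat) (Bool.rec (motive := fun _ => Nat) (0xd9c579357513) (Bool.rec (motive := fun _ => Nat) (0xe9c579357513) (0xc79b79357513) (Nat.ble 449 i)) (Nat.ble 448 i)) (Bool.rec (motive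 := fun _ => Nat) (0x9b9b79357513) (Bool.rec (motive := fun _ => Nat) (0xcd9b79357513) (0xce9b79357513) (Nat.ble 452 i)) (Nat.ble 451 i)) (Nat.ble 450 i)) (Bool.rec (motive := fun _ => Nat) (Bool.rec (motive := fun _ => Nat) (0x9c9c79357513) (Bool.rec (motive := fun _ => Nat) (0xec9c79357513) (0x9b1357957513) (Nat.ble 455 i)) (Nat.ble 454 i)) (Bool.rec (motive := fun _ => Nat) (Bool.rec (motive := fun _ => Nat) (0xbb1357957513) (0xeb1357957513) (Nat.ble 457 i)) (Bool.rec (motive := fun _ => Nat) (0x9c1357957513) (0xcc1357957513) (Nat.ble 459 i)) (Nat.ble 458 i)) (Nat.ble 456 i)) (Nat.ble 453 i)) (Nat.ble 447 i)) (Nat.ble 434 i)) (Bool.rec (motive := fun _ => Nat) (Bool.rec (motive := fun _ => Nat) (Bool.rec (motive := fun _ => Nat) (Bool.rec (motive := fun _ => Nat) (Bool.rec (motive := fun _ => Nat) (0xec1357957513) (Bool.rec (motive := fun _ => Nat) (0x79b357957513) (0xb9b357957513) (Nat.ble 462 i)) (Nat.ble 461 i)) (Bool.rec (motive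 := fun _ => Nat) (0xc9b357957513) (Bool.rec (motive := fun _ => Nat) (0xd9b357957513) (0xe9b357957513) (Nat.ble 465 i)) (Nat.ble 464 i)) (Nat.ble 463 i)) (Bool.rec (motive := fun _ => Nat) (Bool.rec (motive := fun _ => Nat) (0xb9c357957513) (Bool.rec (motive := fun _ => Nat) (0xd9c357957513) (0xe9c357957513) (Nat.ble 468 i)) (Nat.ble 467 i)) (Bool.rec (motive := fun _ => Nat) (0x579b57957513) (Bool.rec (motive := fun _ => Nat) (0xb79b57957513) (0xc79b57957513) (Nat.ble 471 i)) (Nat.ble 470 i)) (Nat.ble 469 i)) (Nat.ble 466 i)) (Bool.rec (motive := fun _ => Nat) (Bool.rec (motive := fun _ => Nat) (Bool.rec (motive := fun _ => Nat) (0xd79b57957513) (Bool.rec (motive := fun _ => Nat) (0xe79b57957513) (0x9b9b57957513) (Nat.ble 474 i)) (Nat.ble 473 i)) (Bool.rec (motive := fun _ => Nat) (0xcd9b57957513) (Bool.rec (motive := fun _ => Nat) (0xce9b57957513) (0x579c57957513) (Nat.ble 477 i)) (Nat.ble 476 i)) (Nat.ble 475 i)) (Bool.rec (motive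 := fun _ => Nat) (Bool.rec (motive := fun _ => Nat) (0xc79c57957513) (Bool.rec (motive := fun _ => Nat) (0xd79c57957513) (0xe79c57957513) (Nat.ble 480 i)) (Nat.ble 479 i)) (Bool.rec (motive := fun _ => Nat) (Bool.rec (motive := fun _ => Nat) (0x9c9c57957513) (0xec9c57957513) (Nat.ble 482 i)) (Bool.rec (motive := fun _ => Nat) (0xcd9c57957513) (0xb13579135753) (Nat.ble 484 i)) (Nat.ble 483 i)) (Nat.ble 481 i)) (Nat.ble 478 i)) (Nat.ble 472 i)) (Bool.rec (motive := fun _ => Nat) (Bool.rec (motive := fun _ => Nat) (Bool.rec (motive := fun _ => Nat) (Bool.rec (motive := fun _ => Nat) (0xc13579135753) (Bool.rec (motive := fun _ => Nat) (0xb73579135753) (0xc73579135753) (Nat.ble 487 i)) (Nat.ble 486 i)) (Bool.rec (motive := fun _ => Nat) (0x9b3579135753) (Bool.rec (motive := fun _ => Nat) (0xbb3579135753) (0xeb3579135753) (Nat.ble 490 i)) (Nat.ble 489 i)) (Nat.ble 488 i)) (Bool.rec (motive := fun _ => Nat) (Bool.rec (motive := fun _ =>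 Nat) (0x9c3579135753) (Bool.rec (motive := fun _ => Nat) (0xcc3579135753) (0xec3579135753) (Nat.ble 493 i)) (Nat.ble 492 i)) (Bool.rec (motive := fun _ => Nat) (Bool.rec (motive := fun _ => Nat) (0xbb7579135753) (0xeb7579135753) (Nat.ble 495 i)) (Bool.rec (motive := fun _ => Nat) (0xcc7579135753) (0xec7579135753) (Nat.ble 497 i)) (Nat.ble 496 i)) (Nat.ble 494 i)) (Nat.ble 491 i)) (Bool.rec (motive := fun _ => Nat) (Bool.rec (motive := fun _ => Nat) (Bool.rec (motive := fun _ => Nat) (0xb9b579135753) (Bool.rec (motive := fun _ => Nat) (0xc9b579135753) (0xd9b579135753) (Nat.ble 500 i)) (Nat.ble 499 i)) (Bool.rec (motive := fun _ => Nat) (0xe9b579135753) (Bool.rec (motive := fun _ => Nat) (0xb9c579135753) (0xc9c579135753) (Nat.ble 503 i)) (Nat.ble 502 i)) (Nat.ble 501 i)) (Bool.rec (motive := fun _ => Nat) (Bool.rec (motive := fun _ => Nat) (0xd9c579135753) (Bool.rec (motive := fun _ => Nat) (0xe9c579135753) (0xb79b79135753) (Nat.ble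 506 i)) (Nat.ble 505 i)) (Bool.rec (motive := fun _ => Nat) (Bool.rec (motive := fun _ => Nat) (0xc79b79135753) (0x9b9b79135753) (Nat.ble 508 i)) (Bool.rec (motive := fun _ => Nat) (0xbb9b79135753) (0xdb9b79135753) (Nat.ble 510 i)) (Nat.ble 509 i)) (Nat.ble 507 i)) (Nat.ble 504 i)) (Nat.ble 498 i)) (Nat.ble 485 i)) (Nat.ble 460 i)) (Bool.rec (motive := fun _ => Nat) (Bool.rec (motive := fun _ => Nat) (Bool.rec (motive := fun _ => Nat) (Bool.rec (motive := fun _ => Nat) (Bool.rec (motive := fun _ => Nat) (Bool.rec (motive := fun _ => Nat) (0xeb9b79135753) (Bool.rec (motive := fun _ => Nat) (0xcc9b79135753) (0xdc9b79135753) (Nat.ble 513 i)) (Nat.ble 512 i)) (Bool.rec (motive := fun _ => Nat) (0xcd9b79135753) (Bool.rec (motive := fun _ => Nat) (0xce9b79135753) (0xbb9c79135753) (Nat.ble 516 i)) (Nat.ble 515 i)) (Nat.ble 514 i)) (Bool.rec (motive := fun _ => Nat) (Bool.rec (motive := fun _ => Nat) (0xeb9c79135753) (Bool.rec (motive :=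 fun _ => Nat) (0x9c9c79135753) (0xdc9c79135753) (Nat.ble 519 i)) (Nat.ble 518 i)) (Bool.rec (motive := fun _ => Nat) (0xec9c79135753) (Bool.rec (motive := fun _ => Nat) (0xbe9c79135753) (0xb71357935753) (Nat.ble 522 i)) (Nat.ble 521 i)) (Nat.ble 520 i)) (Nat.ble 517 i)) (Bool.rec (motive := fun _ => Nat) (Bool.rec (motive := fun _ => Nat) (Bool.rec (motive := fun _ => Nat) (0xc71357935753) (Bool.rec (motive := fun _ => Nat) (0x9b1357935753) (0xbb1357935753) (Nat.ble 525 i)) (Nat.ble 524 i)) (Bool.rec (motive := fun _ => Nat) (0xeb1357935753) (Bool.rec (motive := fun _ => Nat) (0x9c1357935753) (0xcc1357935753) (Nat.ble 528 i)) (Nat.ble 527 i)) (Nat.ble 526 i)) (Bool.rec (motive := fun _ => Nat) (Bool.rec (motive := fun _ => Nat) (0xec1357935753) (Bool.rec (motive := fun _ => Nat) (0xb57357935753) (0xc57357935753) (Nat.ble 531 i)) (Nat.ble 530 i)) (Bool.rec (motive := fun _ => Nat) (Bool.rec (motive := fun _ => Nat) (0xbb7357935753)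 (0xeb7357935753) (Nat.ble 533 i)) (Bool.rec (motive := fun _ => Nat) (0xcc7357935753) (0xec7357935753) (Nat.ble 535 i)) (Nat.ble 534 i)) (Nat.ble 532 i)) (Nat.ble 529 i)) (Nat.ble 523 i)) (Bool.rec (motive := fun _ => Nat) (Bool.rec (motive := fun _ => Nat) (Bool.rec (motive := fun _ => Nat) (Bool.rec (motive := fun _ => Nat) (0xb9b357935753) (Bool.rec (motive := fun _ => Nat) (0xc9b357935753) (0xd9b357935753) (Nat.ble 538 i)) (Nat.ble 537 i)) (Bool.rec (motive := fun _ => Nat) (0xe9b357935753) (Bool.rec (motive := fun _ => Nat) (0xb9c357935753) (0xc9c357935753) (Nat.ble 541 i)) (Nat.ble 540 i)) (Nat.ble 539 i)) (Bool.rec (motive := fun _ => Nat) (Bool.rec (motive := fun _ => Nat) (0xd9c357935753) (Bool.rec (motive := fun _ => Nat) (0xe9c357935753) (0x9b9b57935753) (Nat.ble 544 i)) (Nat.ble 543 i)) (Bool.rec (motive := fun _ => Nat) (Bool.rec (motive := fun _ => Nat) (0xbb9b57935753) (0xdb9b57935753) (Nat.ble 546 i)) (Bool.rec (motive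 := fun _ => Nat) (0xeb9b57935753) (0xcc9b57935753) (Nat.ble 548 i)) (Nat.ble 547 i)) (Nat.ble 545 i)) (Nat.ble 542 i)) (Bool.rec (motive := fun _ => Nat) (Bool.rec (motive := fun _ => Nat) (Bool.rec (motive := fun _ => Nat) (0xdc9b57935753) (Bool.rec (motive := fun _ => Nat) (0xcd9b57935753) (0xce9b57935753) (Nat.ble 551 i)) (Nat.ble 550 i)) (Bool.rec (motive := fun _ => Nat) (0xbb9c57935753) (Bool.rec (motive := fun _ => Nat) (0xeb9c57935753) (0x9c9c57935753) (Nat.ble 554 i)) (Nat.ble 553 i)) (Nat.ble 552 i)) (Bool.rec (motive := fun _ => Nat) (Bool.rec (motive := fun _ => Nat) (0xdc9c57935753) (Bool.rec (motive := fun _ => Nat) (0xec9c57935753) (0xbd9c57935753) (Nat.ble 557 i)) (Nat.ble 556 i)) (Bool.rec (motive := fun _ => Nat) (Bool.rec (motive := fun _ => Nat) (0xcd9c57935753) (0xbe9c57935753) (Nat.ble 559 i)) (Bool.rec (motive := fun _ => Nat) (0xc9b135795753) (0xd9b135795753) (Nat.ble 561 i)) (Nat.ble 560 i)) (Nat.ble 558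 i)) (Nat.ble 555 i)) (Nat.ble 549 i)) (Nat.ble 536 i)) (Bool.rec (motive := fun _ => Nat) (Bool.rec (motive := fun _ => Nat) (Bool.rec (motive := fun _ => Nat) (Bool.rec (motive := fun _ => Nat) (Bool.rec (motive := fun _ => Nat) (0x79c135795753) (Bool.rec (motive := fun _ => Nat) (0xb9c135795753) (0xc9c135795753) (Nat.ble 564 i)) (Nat.ble 563 i)) (Bool.rec (motive := fun _ => Nat) (0xd9c135795753) (Bool.rec (motive := fun _ => Nat) (0xe9c135795753) (0x9b9b35795753) (Nat.ble 567 i)) (Nat.ble 566 i)) (Nat.ble 565 i)) (Bool.rec (motive := fun _ => Nat) (Bool.rec (motive := fun _ => Nat) (0xdb9b35795753) (Bool.rec (motive := fun _ => Nat) (0xeb9b35795753) (0xdc9b35795753) (Nat.ble 570 i)) (Nat.ble 569 i)) (Bool.rec (motive := fun _ => Nat) (Bool.rec (motive := fun _ => Nat) (0xcd9b35795753) (0x579c35795753) (Nat.ble 572 i)) (Bool.rec (motive := fun _ => Nat) (0xb79c35795753) (0xc79c35795753) (Nat.ble 574 i)) (Nat.ble 573 i)) (Nat.ble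 571 i)) (Nat.ble 568 i)) (Bool.rec (motive := fun _ => Nat) (Bool.rec (motive := fun _ => Nat) (Bool.rec (motive := fun _ => Nat) (0xd79c35795753) (Bool.rec (motive := fun _ => Nat) (0xe79c35795753) (0xbb9c35795753) (Nat.ble 577 i)) (Nat.ble 576 i)) (Bool.rec (motive := fun _ => Nat) (0xeb9c35795753) (Bool.rec (motive := fun _ => Nat) (0x9c9c35795753) (0xdc9c35795753) (Nat.ble 580 i)) (Nat.ble 579 i)) (Nat.ble 578 i)) (Bool.rec (motive := fun _ => Nat) (Bool.rec (motive := fun _ => Nat) (0xec9c35795753) (Bool.rec (motive := fun _ => Nat) (0xbd9c35795753) (0xcd9c35795753) (Nat.ble 583 i)) (Nat.ble 582 i)) (Bool.rec (motive := fun _ => Nat) (Bool.rec (motive := fun _ => Nat) (0xbe9c35795753) (0x7579b5795753) (Nat.ble 585 i)) (Bool.rec (motive := fun _ => Nat) (0xb579b5795753) (0xd579b5795753) (Nat.ble 587 i)) (Nat.ble 586 i)) (Nat.ble 584 i)) (Nat.ble 581 i)) (Nat.ble 575 i)) (Bool.rec (motive := fun _ => Nat) (Bool.rec (motive :=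 fun _ => Nat) (Bool.rec (motive := fun _ => Nat) (Bool.rec (motive := fun _ => Nat) (0xe579b5795753) (Bool.rec (motive := fun _ => Nat) (0x79b9b5795753) (0x3579c5795753) (Nat.ble 590 i)) (Nat.ble 589 i)) (Bool.rec (motive := fun _ => Nat) (0x7579c5795753) (Bool.rec (motive := fun _ => Nat) (0xb579c5795753) (0xc579c5795753) (Nat.ble 593 i)) (Nat.ble 592 i)) (Nat.ble 591 i)) (Bool.rec (motive := fun _ => Nat) (Bool.rec (motive := fun _ => Nat) (0xd579c5795753) (Bool.rec (motive := fun _ => Nat) (0xe579c5795753) (0x9c79c5795753) (Nat.ble 596 i)) (Nat.ble 595 i)) (Bool.rec (motive := fun _ => Nat) (Bool.rec (motive := fun _ => Nat) (0xcc79c5795753) (0xec79c5795753) (Nat.ble 598 i)) (Bool.rec (motive := fun _ => Nat) (0xcd79c5795753) (0xce79c5795753) (Nat.ble 600 i)) (Nat.ble 599 i)) (Nat.ble 597 i)) (Nat.ble 594 i)) (Bool.rec (motive := fun _ => Nat) (Bool.rec (motive := fun _ => Nat) (Bool.rec (motive := fun _ => Nat) (0x79c9c5795753)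 (Bool.rec (motive := fun _ => Nat) (0xb135791357513) (0xc135791357513) (Nat.ble 603 i)) (Nat.ble 602 i)) (Bool.rec (motive := fun _ => Nat) (0x9b35791357513) (Bool.rec (motive := fun _ => Nat) (0xbb35791357513) (0xeb35791357513) (Nat.ble 606 i)) (Nat.ble 605 i)) (Nat.ble 604 i)) (Bool.rec (motive := fun _ => Nat) (Bool.rec (motive := fun _ => Nat) (0x9c35791357513) (Bool.rec (motive := fun _ => Nat) (0xcc35791357513) (0xec35791357513) (Nat.ble 609 i)) (Nat.ble 608 i)) (Bool.rec (motive := fun _ => Nat) (Bool.rec (motive := fun _ => Nat) (0xc9b5791357513) (0xd9b5791357513) (Nat.ble 611 i)) (Bool.rec (motive := fun _ => Nat) (0xe9b5791357513) (0x79c5791357513) (Nat.ble 613 i)) (Nat.ble 612 i)) (Nat.ble 610 i)) (Nat.ble 607 i)) (Nat.ble 601 i)) (Nat.ble 588 i)) (Nat.ble 562 i)) (Nat.ble 511 i)) (Bool.rec (motive := fun _ => Nat) (Bool.rec (motive := fun _ => Nat) (Bool.rec (motive := fun _ => Nat) (Bool.rec (motive := fun _ => Nat)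 (Bool.rec (motive := fun _ => Nat) (Bool.rec (motive := fun _ => Nat) (Bool.rec (motive := fun _ => Nat) (0xb9c5791357513) (Bool.rec (motive := fun _ => Nat) (0xc9c5791357513) (0xd9c5791357513) (Nat.ble 616 i)) (Nat.ble 615 i)) (Bool.rec (motive := fun _ => Nat) (0xe9c5791357513) (Bool.rec (motive := fun _ => Nat) (0xc79b791357513) (0x9b9b791357513) (Nat.ble 619 i)) (Nat.ble 618 i)) (Nat.ble 617 i)) (Bool.rec (motive := fun _ => Nat) (Bool.rec (motive := fun _ => Nat) (0xcd9b791357513) (Bool.rec (motive := fun _ => Nat) (0xce9b791357513) (0x9c9c791357513) (Nat.ble 622 i)) (Nat.ble 621 i)) (Bool.rec (motive := fun _ => Nat) (0xec9c791357513) (Bool.rec (motive := fun _ => Nat) (0x9b13579357513) (0xbb13579357513) (Nat.ble 625 i)) (Nat.ble 624 i)) (Nat.ble 623 i)) (Nat.ble 620 i)) (Bool.rec (motive := fun _ => Nat) (Bool.rec (motive := fun _ => Nat) (Bool.rec (motive := fun _ => Nat) (0xeb13579357513) (Bool.rec (motive := fun _ => Nat)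 (0x9c13579357513) (0xcc13579357513) (Nat.ble 628 i)) (Nat.ble 627 i)) (Bool.rec (motive := fun _ => Nat) (0xec13579357513) (Bool.rec (motive := fun _ => Nat) (0x79b3579357513) (0xb9b3579357513) (Nat.ble 631 i)) (Nat.ble 630 i)) (Nat.ble 629 i)) (Bool.rec (motive := fun _ => Nat) (Bool.rec (motive := fun _ => Nat) (0xc9b3579357513) (Bool.rec (motive := fun _ => Nat) (0xd9b3579357513) (0xe9b3579357513) (Nat.ble 634 i)) (Nat.ble 633 i)) (Bool.rec (motive := fun _ => Nat) (Bool.rec (motive := fun _ => Nat) (0x79c3579357513) (0xb9c3579357513) (Nat.ble 636 i)) (Bool.rec (motive := fun _ => Nat) (0xd9c3579357513) (0xe9c3579357513) (Nat.ble 638 i)) (Nat.ble 637 i)) (Nat.ble 635 i)) (Nat.ble 632 i)) (Nat.ble 626 i)) (Bool.rec (motive := fun _ => Nat) (Bool.rec (motive := fun _ => Nat) (Bool.rec (motive := fun _ => Nat) (Bool.rec (motive := fun _ => Nat) (0xb79b579357513) (Bool.rec (motive := fun _ => Nat) (0xd79b579357513) (0xe79b579357513)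 (Nat.ble 641 i)) (Nat.ble 640 i)) (Bool.rec (motive := fun _ => Nat) (0xcd9b579357513) (Bool.rec (motive := fun _ => Nat) (0xce9b579357513) (0xd79c579357513) (Nat.ble 644 i)) (Nat.ble 643 i)) (Nat.ble 642 i)) (Bool.rec (motive := fun _ => Nat) (Bool.rec (motive := fun _ => Nat) (0x9c9c579357513) (Bool.rec (motive := fun _ => Nat) (0xec9c579357513) (0xc9b1357957513) (Nat.ble 647 i)) (Nat.ble 646 i)) (Bool.rec (motive := fun _ => Nat) (Bool.rec (motive := fun _ => Nat) (0xd9b1357957513) (0x579b357957513) (Nat.ble 649 i)) (Bool.rec (motive := fun _ => Nat) (0xb79b357957513) (0xd79b357957513) (Nat.ble 651 i)) (Nat.ble 650 i)) (Nat.ble 648 i)) (Nat.ble 645 i)) (Bool.rec (motive := fun _ => Nat) (Bool.rec (motive := fun _ => Nat) (Bool.rec (motive := fun _ => Nat) (0xcd9b357957513) (Bool.rec (motive := fun _ => Nat) (0x3579b57957513) (0xb579b57957513) (Nat.ble 654 i)) (Nat.ble 653 i)) (Bool.rec (motive := fun _ => Nat) (0xc579b57957513)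 (Bool.rec (motive := fun _ => Nat) (0xd579b57957513) (0x9b79b57957513) (Nat.ble 657 i)) (Nat.ble 656 i)) (Nat.ble 655 i)) (Bool.rec (motive := fun _ => Nat) (Bool.rec (motive := fun _ => Nat) (0xbd79b57957513) (Bool.rec (motive := fun _ => Nat) (0xe579c57957513) (0x9b13579135753) (Nat.ble 660 i)) (Nat.ble 659 i)) (Bool.rec (motive := fun _ => Nat) (Bool.rec (motive := fun _ => Nat) (0xbb13579135753) (0xeb13579135753) (Nat.ble 662 i)) (Bool.rec (motive := fun _ => Nat) (0x9c13579135753) (0xcc13579135753) (Nat.ble 664 i)) (Nat.ble 663 i)) (Nat.ble 661 i)) (Nat.ble 658 i)) (Nat.ble 652 i)) (Nat.ble 639 i)) (Bool.rec (motive := fun _ => Nat) (Bool.rec (motive := fun _ => Nat) (Bool.rec (motive := fun _ => Nat) (Bool.rec (motive := fun _ => Nat) (Bool.rec (motive := fun _ => Nat) (0xec13579135753) (Bool.rec (motive := fun _ => Nat) (0xbb73579135753) (0xeb73579135753) (Nat.ble 667 i)) (Nat.ble 666 i)) (Bool.rec (motive := fun _ => Nat)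 (0xcc73579135753) (Bool.rec (motive := fun _ => Nat) (0xec73579135753) (0xb9b3579135753) (Nat.ble 670 i)) (Nat.ble 669 i)) (Nat.ble 668 i)) (Bool.rec (motive := fun _ => Nat) (Bool.rec (motive := fun _ => Nat) (0xc9b3579135753) (Bool.rec (motive := fun _ => Nat) (0xd9b3579135753) (0xe9b3579135753) (Nat.ble 673 i)) (Nat.ble 672 i)) (Bool.rec (motive := fun _ => Nat) (0xb9c3579135753) (Bool.rec (motive := fun _ => Nat) (0xc9c3579135753) (0xd9c3579135753) (Nat.ble 676 i)) (Nat.ble 675 i)) (Nat.ble 674 i)) (Nat.ble 671 i)) (Bool.rec (motive := fun _ => Nat) (Bool.rec (motive := fun _ => Nat) (Bool.rec (motive := fun _ => Nat) (0xe9c3579135753) (Bool.rec (motive := fun _ => Nat) (0x9b9b579135753) (0xbb9b579135753) (Nat.ble 679 i)) (Nat.ble 678 i)) (Bool.rec (motive := fun _ => Nat) (0xdb9b579135753) (Bool.rec (motive := fun _ => Nat) (0xeb9b579135753) (0xcc9b579135753) (Nat.ble 682 i)) (Nat.ble 681 i)) (Nat.ble 680 i)) (Bool.rec (motive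 := fun _ => Nat) (Bool.rec (motive := fun _ => Nat) (0xdc9b579135753) (Bool.rec (motive := fun _ => Nat) (0xcd9b579135753) (0xce9b579135753) (Nat.ble 685 i)) (Nat.ble 684 i)) (Bool.rec (motive := fun _ => Nat) (Bool.rec (motive := fun _ => Nat) (0xeb9c579135753) (0x9c9c579135753) (Nat.ble 687 i)) (Bool.rec (motive := fun _ => Nat) (0xec9c579135753) (0xbd9c579135753) (Nat.ble 689 i)) (Nat.ble 688 i)) (Nat.ble 686 i)) (Nat.ble 683 i)) (Nat.ble 677 i)) (Bool.rec (motive := fun _ => Nat) (Bool.rec (motive := fun _ => Nat) (Bool.rec (motive := fun _ => Nat) (Bool.rec (motive := fun _ => Nat) (0xcd9c579135753) (Bool.rec (motive := fun _ => Nat) (0xbb71357935753) (0xeb71357935753) (Nat.ble 692 i)) (Nat.ble 691 i)) (Bool.rec (motive := fun _ => Nat) (0xcc71357935753) (Bool.rec (motive := fun _ => Nat) (0xec71357935753) (0xc9b1357935753) (Nat.ble 695 i)) (Nat.ble 694 i)) (Nat.ble 693 i)) (Bool.rec (motive := fun _ => Nat) (Bool.rec (motive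 := fun _ => Nat) (0xd9b1357935753) (Bool.rec (motive := fun _ => Nat) (0xb9c1357935753) (0xc9c1357935753) (Nat.ble 698 i)) (Nat.ble 697 i)) (Bool.rec (motive := fun _ => Nat) (Bool.rec (motive := fun _ => Nat) (0xd9c1357935753) (0xe9c1357935753) (Nat.ble 700 i)) (Bool.rec (motive := fun _ => Nat) (0xbb57357935753) (0xeb57357935753) (Nat.ble 702 i)) (Nat.ble 701 i)) (Nat.ble 699 i)) (Nat.ble 696 i)) (Bool.rec (motive := fun _ => Nat) (Bool.rec (motive := fun _ => Nat) (Bool.rec (motive := fun _ => Nat) (0xcc57357935753) (Bool.rec (motive := fun _ => Nat) (0xec57357935753) (0x9b9b357935753) (Nat.ble 705 i)) (Nat.ble 704 i)) (Bool.rec (motive := fun _ => Nat) (0xdb9b357935753) (Bool.rec (motive := fun _ => Nat) (0xeb9b357935753) (0xdc9b357935753) (Nat.ble 708 i)) (Nat.ble 707 i)) (Nat.ble 706 i)) (Bool.rec (motive := fun _ => Nat) (Bool.rec (motive := fun _ => Nat) (0xcd9b357935753) (Bool.rec (motive := fun _ => Nat) (0xbb9c357935753)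 (0xeb9c357935753) (Nat.ble 711 i)) (Nat.ble 710 i)) (Bool.rec (motive := fun _ => Nat) (Bool.rec (motive := fun _ => Nat) (0x9c9c357935753) (0xdc9c357935753) (Nat.ble 713 i)) (Bool.rec (motive := fun _ => Nat) (0xec9c357935753) (0xbd9c357935753) (Nat.ble 715 i)) (Nat.ble 714 i)) (Nat.ble 712 i)) (Nat.ble 709 i)) (Nat.ble 703 i)) (Nat.ble 690 i)) (Nat.ble 665 i)) (Bool.rec (motive := fun _ => Nat) (Bool.rec (motive := fun _ => Nat) (Bool.rec (motive := fun _ => Nat) (Bool.rec (motive := fun _ => Nat) (Bool.rec (motive := fun _ => Nat) (Bool.rec (motive := fun _ => Nat) (0xcd9c357935753) (Bool.rec (motive := fun _ => Nat) (0xbe9c357935753) (0x79b9b57935753) (Nat.ble 718 i)) (Nat.ble 717 i)) (Bool.rec (motive := fun _ => Nat) (0x79c9c57935753) (Bool.rec (motive := fun _ => Nat) (0x579c135795753) (0xbb9c135795753) (Nat.ble 721 i)) (Nat.ble 720 i)) (Nat.ble 719 i)) (Bool.rec (motive := fun _ => Nat) (Bool.rec (motive := fun _ => Nat)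 (0xeb9c135795753) (Bool.rec (motive := fun _ => Nat) (0x3579c35795753) (0x7579c35795753) (Nat.ble 724 i)) (Nat.ble 723 i)) (Bool.rec (motive := fun _ => Nat) (0xb579c35795753) (Bool.rec (motive := fun _ => Nat) (0xc579c35795753) (0xd579c35795753) (Nat.ble 727 i)) (Nat.ble 726 i)) (Nat.ble 725 i)) (Nat.ble 722 i)) (Bool.rec (motive := fun _ => Nat) (Bool.rec (motive := fun _ => Nat) (Bool.rec (motive := fun _ => Nat) (0xe579c35795753) (Bool.rec (motive := fun _ => Nat) (0xec79c35795753) (0x579b9b5795753) (Nat.ble 730 i)) (Nat.ble 729 i)) (Bool.rec (motive := fun _ => Nat) (0x13579c5795753) (Bool.rec (motive := fun _ => Nat) (0x73579c5795753) (0xb3579c5795753) (Nat.ble 733 i)) (Nat.ble 732 i)) (Nat.ble 731 i)) (Bool.rec (motive := fun _ => Nat) (Bool.rec (motive := fun _ => Nat) (0xc3579c5795753) (Bool.rec (motive := fun _ => Nat) (0xd3579c5795753) (0xe3579c5795753) (Nat.ble 736 i)) (Nat.ble 735 i)) (Bool.rec (motive := fun _ => Nat)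 (Bool.rec (motive := fun _ => Nat) (0x9c579c5795753) (0xcc579c5795753) (Nat.ble 738 i)) (Bool.rec (motive := fun _ => Nat) (0xec579c5795753) (0xcd579c5795753) (Nat.ble 740 i)) (Nat.ble 739 i)) (Nat.ble 737 i)) (Nat.ble 734 i)) (Nat.ble 728 i)) (Bool.rec (motive := fun _ => Nat) (Bool.rec (motive := fun _ => Nat) (Bool.rec (motive := fun _ => Nat) (Bool.rec (motive := fun _ => Nat) (0xce579c5795753) (Bool.rec (motive := fun _ => Nat) (0x579c9c5795753) (0x9b135791357513) (Nat.ble 743 i)) (Nat.ble 742 i)) (Bool.rec (motive := fun _ => Nat) (0xbb135791357513) (Bool.rec (motive := fun _ => Nat) (0xeb135791357513) (0x9c135791357513) (Nat.ble 746 i)) (Nat.ble 745 i)) (Nat.ble 744 i)) (Bool.rec (motive := fun _ => Nat) (Bool.rec (motive := fun _ => Nat) (0xcc135791357513) (Bool.rec (motive := fun _ => Nat) (0xec135791357513) (0xc9b35791357513) (Nat.ble 749 i)) (Nat.ble 748 i)) (Bool.rec (motive := fun _ => Nat) (Bool.rec (motive := fun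 _ => Nat) (0xd9b35791357513) (0xe9b35791357513) (Nat.ble 751 i)) (Bool.rec (motive := fun _ => Nat) (0x79c35791357513) (0xb9c35791357513) (Nat.ble 753 i)) (Nat.ble 752 i)) (Nat.ble 750 i)) (Nat.ble 747 i)) (Bool.rec (motive := fun _ => Nat) (Bool.rec (motive := fun _ => Nat) (Bool.rec (motive := fun _ => Nat) (0xc9c35791357513) (Bool.rec (motive := fun _ => Nat) (0xd9c35791357513) (0xe9c35791357513) (Nat.ble 756 i)) (Nat.ble 755 i)) (Bool.rec (motive := fun _ => Nat) (0xd79c5791357513) (Bool.rec (motive := fun _ => Nat) (0x9c9c5791357513) (0xec9c5791357513) (Nat.ble 759 i)) (Nat.ble 758 i)) (Nat.ble 757 i)) (Bool.rec (motive := fun _ => Nat) (Bool.rec (motive := fun _ => Nat) (0x79b13579357513) (Bool.rec (motive := fun _ => Nat) (0xc9b13579357513) (0xd9b13579357513) (Nat.ble 762 i)) (Nat.ble 761 i)) (Bool.rec (motive := fun _ => Nat) (Bool.rec (motive := fun _ => Nat) (0xb79b3579357513) (0xd79b3579357513) (Nat.ble 764 i)) (Bool.rec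 (motive := fun _ => Nat) (0xe79b3579357513) (0xcd9b3579357513) (Nat.ble 766 i)) (Nat.ble 765 i)) (Nat.ble 763 i)) (Nat.ble 760 i)) (Nat.ble 754 i)) (Nat.ble 741 i)) (Bool.rec (motive := fun _ => Nat) (Bool.rec (motive := fun _ => Nat) (Bool.rec (motive := fun _ => Nat) (Bool.rec (motive := fun _ => Nat) (Bool.rec (motive := fun _ => Nat) (0x3579b357957513) (Bool.rec (motive := fun _ => Nat) (0x7579b357957513) (0xb579b357957513) (Nat.ble 769 i)) (Nat.ble 768 i)) (Bool.rec (motive := fun _ => Nat) (0xd579b357957513) (Bool.rec (motive := fun _ => Nat) (0x13579b57957513) (0xb3579b57957513) (Nat.ble 772 i)) (Nat.ble 771 i)) (Nat.ble 770 i)) (Bool.rec (motive := fun _ => Nat) (Bool.rec (motive := fun _ => Nat) (0xc3579b57957513) (Bool.rec (motive := fun _ => Nat) (0xd3579b57957513) (0x9b579b57957513) (Nat.ble 775 i)) (Nat.ble 774 i)) (Bool.rec (motive := fun _ => Nat) (Bool.rec (motive := fun _ => Nat) (0xbd579b57957513) (0xc9b13579135753)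 (Nat.ble 777 i)) (Bool.rec (motive := fun _ => Nat) (0xd9b13579135753) (0xb9c13579135753) (Nat.ble 779 i)) (Nat.ble 778 i)) (Nat.ble 776 i)) (Nat.ble 773 i)) (Bool.rec (motive := fun _ => Nat) (Bool.rec (motive := fun _ => Nat) (Bool.rec (motive := fun _ => Nat) (0xc9c13579135753) (Bool.rec (motive := fun _ => Nat) (0xd9c13579135753) (0xe9c13579135753) (Nat.ble 782 i)) (Nat.ble 781 i)) (Bool.rec (motive := fun _ => Nat) (0x9b9b3579135753) (Bool.rec (motive := fun _ => Nat) (0xdb9b3579135753) (0xeb9b3579135753) (Nat.ble 785 i)) (Nat.ble 784 i)) (Nat.ble 783 i)) (Bool.rec (motive := fun _ => Nat) (Bool.rec (motive := fun _ => Nat) (0xcc9b3579135753) (Bool.rec (motive := fun _ => Nat) (0xdc9b3579135753) (0xcd9b3579135753) (Nat.ble 788 i)) (Nat.ble 787 i)) (Bool.rec (motive := fun _ => Nat) (Bool.rec (motive := fun _ => Nat) (0xeb9c3579135753) (0x9c9c3579135753) (Nat.ble 790 i)) (Bool.rec (motive := fun _ => Nat) (0xec9c3579135753)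 (0xbd9c3579135753) (Nat.ble 792 i)) (Nat.ble 791 i)) (Nat.ble 789 i)) (Nat.ble 786 i)) (Nat.ble 780 i)) (Bool.rec (motive := fun _ => Nat) (Bool.rec (motive := fun _ => Nat) (Bool.rec (motive := fun _ => Nat) (Bool.rec (motive := fun _ => Nat) (0xcd9c3579135753) (Bool.rec (motive := fun _ => Nat) (0xbb9c1357935753) (0xeb9c1357935753) (Nat.ble 795 i)) (Nat.ble 794 i)) (Bool.rec (motive := fun _ => Nat) (0x79b9b357935753) (Bool.rec (motive := fun _ => Nat) (0x79c9c357935753) (0xb3579c35795753) (Nat.ble 798 i)) (Nat.ble 797 i)) (Nat.ble 796 i)) (Bool.rec (motive := fun _ => Nat) (Bool.rec (motive := fun _ => Nat) (0xd3579c35795753) (Bool.rec (motive := fun _ => Nat) (0xe3579c35795753) (0xc7579c35795753) (Nat.ble 801 i)) (Nat.ble 800 i)) (Bool.rec (motive := fun _ => Nat) (Bool.rec (motive := fun _ => Nat) (0xd7579c35795753) (0xe7579c35795753) (Nat.ble 803 i)) (Bool.rec (motive := fun _ => Nat) (0xec579c35795753) (0x3579b9b5795753)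 (Nat.ble 805 i)) (Nat.ble 804 i)) (Nat.ble 802 i)) (Nat.ble 799 i)) (Bool.rec (motive := fun _ => Nat) (Bool.rec (motive := fun _ => Nat) (Bool.rec (motive := fun _ => Nat) (0xe13579c5795753) (Bool.rec (motive := fun _ => Nat) (0xcc3579c5795753) (0xec3579c5795753) (Nat.ble 808 i)) (Nat.ble 807 i)) (Bool.rec (motive := fun _ => Nat) (0xcd3579c5795753) (Bool.rec (motive := fun _ => Nat) (0xce3579c5795753) (0x3579c9c5795753) (Nat.ble 811 i)) (Nat.ble 810 i)) (Nat.ble 809 i)) (Bool.rec (motive := fun _ => Nat) (Bool.rec (motive := fun _ => Nat) (0xd9b135791357513) (Bool.rec (motive := fun _ => Nat) (0xd79c35791357513) (0xec9c35791357513) (Nat.ble 814 i)) (Nat.ble 813 i)) (Bool.rec (motive := fun _ => Nat) (Bool.rec (motive := fun _ => Nat) (0xd79b13579357513) (0xd3579b357957513) (Nat.ble 816 i)) (Bool.rec (motive := fun _ => Nat) (0xd7579b357957513) (0xbd3579b57957513) (Nat.ble 818 i)) (Nat.ble 817 i)) (Nat.ble 815 i)) (Nat.ble 812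 i)) (Nat.ble 806 i)) (Nat.ble 793 i)) (Nat.ble 767 i)) (Nat.ble 716 i)) (Nat.ble 614 i)) (Nat.ble 409 i))

/-- The points in increasing order of the images of the base. -/
noncomputable def sigOrd (i : Nat) : Nat := (Bool.rec (motive := fun _ => Nat) (Bool.rec (motive := fun _ => Nat) (Bool.rec (motive := fun _ => Nat) (Bool.rec (motive := fun _ => Nat) (Bool.rec (motive := fun _ => Nat) (Bool.rec (motive := fun _ => Nat) (Bool.rec (motive := fun _ => Nat) (Bool.rec (motive := fun _ => Nat) (Bool.rec (motive := fun _ => Nat) (0x0) (Bool.rec (motive := fun _ => Nat) (0x6) (0x21) (Nat.ble 2 i)) (Nat.ble 1 i)) (Bool.rec (motive := fun _ => Nat) (0xa) (Bool.rec (motive := fun _ => Nat) (0x11) (0x12) (Nat.ble 5 i)) (Nat.ble 4 i)) (Nat.ble 3 i)) (Bool.rec (motive := fun _ => Nat) (Bool.rec (motive := fun _ => Nat) (0x22) (Bool.rec (motive := fun _ => Nat) (0x23) (0x24) (Nat.ble 8 i)) (Nat.ble 7 i)) (Bool.rec (motive := fun _ => Nat) (0x3c)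 (Bool.rec (motive := fun _ => Nat) (0x3d) (0x3e) (Nat.ble 11 i)) (Nat.ble 10 i)) (Nat.ble 9 i)) (Nat.ble 6 i)) (Bool.rec (motive := fun _ => Nat) (Bool.rec (motive := fun _ => Nat) (Bool.rec (motive := fun _ => Nat) (0x3f) (Bool.rec (motive := fun _ => Nat) (0x40) (0x41) (Nat.ble 14 i)) (Nat.ble 13 i)) (Bool.rec (motive := fun _ => Nat) (0x64) (Bool.rec (motive := fun _ => Nat) (0x65) (0x66) (Nat.ble 17 i)) (Nat.ble 16 i)) (Nat.ble 15 i)) (Bool.rec (motive := fun _ => Nat) (Bool.rec (motive := fun _ => Nat) (0x67) (Bool.rec (motive := fun _ => Nat) (0x2) (0x1) (Nat.ble 20 i)) (Nat.ble 19 i)) (Bool.rec (motive := fun _ => Nat) (Bool.rec (motive := fun _ => Nat) (0x4) (0x3) (Nat.ble 22 i)) (Bool.rec (motive := fun _ => Nat) (0x7) (0x3a) (Nat.ble 24 i)) (Nat.ble 23 i)) (Nat.ble 21 i)) (Nat.ble 18 i)) (Nat.ble 12 i)) (Bool.rec (motive := fun _ => Nat) (Bool.rec (motive := fun _ => Nat) (Bool.rec (motive := fun _ => Nat) (Bool.rec (motive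 := fun _ => Nat) (0x60) (Bool.rec (motive := fun _ => Nat) (0xc5) (0x83) (Nat.ble 27 i)) (Nat.ble 26 i)) (Bool.rec (motive := fun _ => Nat) (0x13e) (Bool.rec (motive := fun _ => Nat) (0x13f) (0xd2) (Nat.ble 30 i)) (Nat.ble 29 i)) (Nat.ble 28 i)) (Bool.rec (motive := fun _ => Nat) (Bool.rec (motive := fun _ => Nat) (0xd3) (Bool.rec (motive := fun _ => Nat) (0x1ee) (0x1ef) (Nat.ble 33 i)) (Nat.ble 32 i)) (Bool.rec (motive := fun _ => Nat) (Bool.rec (motive := fun _ => Nat) (0x1f0) (0x1f1) (Nat.ble 35 i)) (Bool.rec (motive := fun _ => Nat) (0x15a) (0x15b) (Nat.ble 37 i)) (Nat.ble 36 i)) (Nat.ble 34 i)) (Nat.ble 31 i)) (Bool.rec (motive := fun _ => Nat) (Bool.rec (motive := fun _ => Nat) (Bool.rec (motive := fun _ => Nat) (0x15c) (Bool.rec (motive := fun _ => Nat) (0x15d) (0x5) (Nat.ble 40 i)) (Nat.ble 39 i)) (Bool.rec (motive := fun _ => Nat) (0xb) (Bool.rec (motive := fun _ => Nat) (0xc) (0x20) (Nat.ble 43 i)) (Nat.ble 42 i)) (Nat.ble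 41 i)) (Bool.rec (motive := fun _ => Nat) (Bool.rec (motive := fun _ => Nat) (0x39) (Bool.rec (motive := fun _ => Nat) (0x7b) (0x50) (Nat.ble 46 i)) (Nat.ble 45 i)) (Bool.rec (motive := fun _ => Nat) (Bool.rec (motive := fun _ => Nat) (0xc6) (0xc7) (Nat.ble 48 i)) (Bool.rec (motive := fun _ => Nat) (0x84) (0x85) (Nat.ble 50 i)) (Nat.ble 49 i)) (Nat.ble 47 i)) (Nat.ble 44 i)) (Nat.ble 38 i)) (Nat.ble 25 i)) (Bool.rec (motive := fun _ => Nat) (Bool.rec (motive := fun _ => Nat) (Bool.rec (motive := fun _ => Nat) (Bool.rec (motive := fun _ => Nat) (Bool.rec (motive := fun _ => Nat) (0x141) (Bool.rec (motive := fun _ => Nat) (0x142) (0x144) (Nat.ble 53 i)) (Nat.ble 52 i)) (Bool.rec (motive := fun _ => Nat) (0x145) (Bool.rec (motive := fun _ => Nat) (0xd5) (0xd6) (Nat.ble 56 i)) (Nat.ble 55 i)) (Nat.ble 54 i)) (Bool.rec (motive := fun _ => Nat) (Bool.rec (motive := fun _ => Nat) (0xd8) (Bool.rec (motive := fun _ => Nat) (0xd9) (0x8) (Nat.ble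 59 i)) (Nat.ble 58 i)) (Bool.rec (motive := fun _ => Nat) (0x9) (Bool.rec (motive := fun _ => Nat) (0x14) (0x15) (Nat.ble 62 i)) (Nat.ble 61 i)) (Nat.ble 60 i)) (Nat.ble 57 i)) (Bool.rec (motive := fun _ => Nat) (Bool.rec (motive := fun _ => Nat) (Bool.rec (motive := fun _ => Nat) (0x16) (Bool.rec (motive := fun _ => Nat) (0x13) (0x25) (Nat.ble 65 i)) (Nat.ble 64 i)) (Bool.rec (motive := fun _ => Nat) (0x4d) (Bool.rec (motive := fun _ => Nat) (0x2f) (0x7c) (Nat.ble 68 i)) (Nat.ble 67 i)) (Nat.ble 66 i)) (Bool.rec (motive := fun _ => Nat) (Bool.rec (motive := fun _ => Nat) (0x7d) (Bool.rec (motive := fun _ => Nat) (0x51) (0x52) (Nat.ble 71 i)) (Nat.ble 70 i)) (Bool.rec (motive := fun _ => Nat) (Bool.rec (motive := fun _ => Nat) (0xcd) (0xc9) (Nat.ble 73 i)) (Bool.rec (motive := fun _ => Nat) (0xca) (0xcc) (Nat.ble 75 i)) (Nat.ble 74 i)) (Nat.ble 72 i)) (Nat.ble 69 i)) (Nat.ble 63 i)) (Bool.rec (motive := fun _ => Nat) (Bool.rec (motive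 := fun _ => Nat) (Bool.rec (motive := fun _ => Nat) (Bool.rec (motive := fun _ => Nat) (0x87) (Bool.rec (motive := fun _ => Nat) (0x88) (0x8a) (Nat.ble 78 i)) (Nat.ble 77 i)) (Bool.rec (motive := fun _ => Nat) (0x8b) (Bool.rec (motive := fun _ => Nat) (0x3b) (0x61) (Nat.ble 81 i)) (Nat.ble 80 i)) (Nat.ble 79 i)) (Bool.rec (motive := fun _ => Nat) (Bool.rec (motive := fun _ => Nat) (0xa3) (Bool.rec (motive := fun _ => Nat) (0x6b) (0x140) (Nat.ble 84 i)) (Nat.ble 83 i)) (Bool.rec (motive := fun _ => Nat) (Bool.rec (motive := fun _ => Nat) (0x143) (0x1f5) (Nat.ble 86 i)) (Bool.rec (motive := fun _ => Nat) (0xd4) (0xd7) (Nat.ble 88 i)) (Nat.ble 87 i)) (Nat.ble 85 i)) (Nat.ble 82 i)) (Bool.rec (motive := fun _ => Nat) (Bool.rec (motive := fun _ => Nat) (Bool.rec (motive := fun _ => Nat) (0x1f4) (Bool.rec (motive := fun _ => Nat) (0x1f8) (0x1f9) (Nat.ble 91 i)) (Nat.ble 90 i)) (Bool.rec (motive := fun _ => Nat) (0x161) (Bool.rec (motive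 := fun _ => Nat) (0x160) (0x164) (Nat.ble 94 i)) (Nat.ble 93 i)) (Nat.ble 92 i)) (Bool.rec (motive := fun _ => Nat) (Bool.rec (motive := fun _ => Nat) (0x165) (Bool.rec (motive := fun _ => Nat) (0xe) (0xf) (Nat.ble 97 i)) (Nat.ble 96 i)) (Bool.rec (motive := fun _ => Nat) (Bool.rec (motive := fun _ => Nat) (0x10) (0x27) (Nat.ble 99 i)) (Bool.rec (motive := fun _ => Nat) (0x28) (0x29) (Nat.ble 101 i)) (Nat.ble 100 i)) (Nat.ble 98 i)) (Nat.ble 95 i)) (Nat.ble 89 i)) (Nat.ble 76 i)) (Nat.ble 51 i)) (Bool.rec (motive := fun _ => Nat) (Bool.rec (motive := fun _ => Nat) (Bool.rec (motive := fun _ => Nat) (Bool.rec (motive := fun _ => Nat) (Bool.rec (motive := fun _ => Nat) (Bool.rec (motive := fun _ => Nat) (0x2a) (Bool.rec (motive := fun _ => Nat) (0x2b) (0x2c) (Nat.ble 104 i)) (Nat.ble 103 i)) (Bool.rec (motive := fun _ => Nat) (0x2d) (Bool.rec (motive := fun _ => Nat) (0xd) (0x17) (Nat.ble 107 i)) (Nat.ble 106 i)) (Nat.ble 105 i))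 (Bool.rec (motive := fun _ => Nat) (Bool.rec (motive := fun _ => Nat) (0x18) (Bool.rec (motive := fun _ => Nat) (0x2e) (0x30) (Nat.ble 110 i)) (Nat.ble 109 i)) (Bool.rec (motive := fun _ => Nat) (0x31) (Bool.rec (motive := fun _ => Nat) (0x4e) (0x4f) (Nat.ble 113 i)) (Nat.ble 112 i)) (Nat.ble 111 i)) (Nat.ble 108 i)) (Bool.rec (motive := fun _ => Nat) (Bool.rec (motive := fun _ => Nat) (Bool.rec (motive := fun _ => Nat) (0x53) (Bool.rec (motive := fun _ => Nat) (0x54) (0x55) (Nat.ble 116 i)) (Nat.ble 115 i)) (Bool.rec (motive := fun _ => Nat) (0x56) (Bool.rec (motive := fun _ => Nat) (0x7e) (0x7f) (Nat.ble 119 i)) (Nat.ble 118 i)) (Nat.ble 117 i)) (Bool.rec (motive := fun _ => Nat) (Bool.rec (motive := fun _ => Nat) (0x80) (Bool.rec (motive := fun _ => Nat) (0x81) (0x26) (Nat.ble 122 i)) (Nat.ble 121 i)) (Bool.rec (motive := fun _ => Nat) (Bool.rec (motive := fun _ => Nat) (0x68) (0x43) (Nat.ble 124 i)) (Bool.rec (motive := fun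 _ => Nat) (0x42) (0x14d) (Nat.ble 126 i)) (Nat.ble 125 i)) (Nat.ble 123 i)) (Nat.ble 120 i)) (Nat.ble 114 i)) (Bool.rec (motive := fun _ => Nat) (Bool.rec (motive := fun _ => Nat) (Bool.rec (motive := fun _ => Nat) (Bool.rec (motive := fun _ => Nat) (0x149) (Bool.rec (motive := fun _ => Nat) (0xc8) (0xcb) (Nat.ble 129 i)) (Nat.ble 128 i)) (Bool.rec (motive := fun _ => Nat) (0x146) (Bool.rec (motive := fun _ => Nat) (0x14a) (0x86) (Nat.ble 132 i)) (Nat.ble 131 i)) (Nat.ble 130 i)) (Bool.rec (motive := fun _ => Nat) (Bool.rec (motive := fun _ => Nat) (0x89) (Bool.rec (motive := fun _ => Nat) (0xda) (0xdd) (Nat.ble 135 i)) (Nat.ble 134 i)) (Bool.rec (motive := fun _ => Nat) (Bool.rec (motive := fun _ => Nat) (0xde) (0xe1) (Nat.ble 137 i)) (Bool.rec (motive := fun _ => Nat) (0x62) (0x9d) (Nat.ble 139 i)) (Nat.ble 138 i)) (Nat.ble 136 i)) (Nat.ble 133 i)) (Bool.rec (motive := fun _ => Nat) (Bool.rec (motive := fun _ => Nat) (Bool.rec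 (motive := fun _ => Nat) (0x109) (Bool.rec (motive := fun _ => Nat) (0x267) (0xab) (Nat.ble 142 i)) (Nat.ble 141 i)) (Bool.rec (motive := fun _ => Nat) (0x1f2) (Bool.rec (motive := fun _ => Nat) (0x1f6) (0x2b1) (Nat.ble 145 i)) (Nat.ble 144 i)) (Nat.ble 143 i)) (Bool.rec (motive := fun _ => Nat) (Bool.rec (motive := fun _ => Nat) (0x1be) (Bool.rec (motive := fun _ => Nat) (0x269) (0x15e) (Nat.ble 148 i)) (Nat.ble 147 i)) (Bool.rec (motive := fun _ => Nat) (Bool.rec (motive := fun _ => Nat) (0x280) (0x162) (Nat.ble 150 i)) (Bool.rec (motive := fun _ => Nat) (0x22d) (0x1c0) (Nat.ble 152 i)) (Nat.ble 151 i)) (Nat.ble 149 i)) (Nat.ble 146 i)) (Nat.ble 140 i)) (Nat.ble 127 i)) (Bool.rec (motive := fun _ => Nat) (Bool.rec (motive := fun _ => Nat) (Bool.rec (motive := fun _ => Nat) (Bool.rec (motive := fun _ => Nat) (Bool.rec (motive := fun _ => Nat) (0x22f) (Bool.rec (motive := fun _ => Nat) (0x63) (0x9e) (Nat.ble 155 i)) (Nat.ble 154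 i)) (Bool.rec (motive := fun _ => Nat) (0x2ad) (Bool.rec (motive := fun _ => Nat) (0x10a) (0x227) (Nat.ble 158 i)) (Nat.ble 157 i)) (Nat.ble 156 i)) (Bool.rec (motive := fun _ => Nat) (Bool.rec (motive := fun _ => Nat) (0xac) (Bool.rec (motive := fun _ => Nat) (0x1f3) (0x1f7) (Nat.ble 161 i)) (Nat.ble 160 i)) (Bool.rec (motive := fun _ => Nat) (0x2ac) (Bool.rec (motive := fun _ => Nat) (0x263) (0x2b2) (Nat.ble 164 i)) (Nat.ble 163 i)) (Nat.ble 162 i)) (Nat.ble 159 i)) (Bool.rec (motive := fun _ => Nat) (Bool.rec (motive := fun _ => Nat) (Bool.rec (motive := fun _ => Nat) (0x15f) (Bool.rec (motive := fun _ => Nat) (0x163) (0x22e) (Nat.ble 167 i)) (Nat.ble 166 i)) (Bool.rec (motive := fun _ => Nat) (0x226) (Bool.rec (motive := fun _ => Nat) (0x1ba) (0x19) (Nat.ble 170 i)) (Nat.ble 169 i)) (Nat.ble 168 i)) (Bool.rec (motive := fun _ => Nat) (Bool.rec (motive := fun _ => Nat) (0x1a) (Bool.rec (motive := fun _ => Nat) (0x1b) (0x1c) (Nat.ble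 173 i)) (Nat.ble 172 i)) (Bool.rec (motive := fun _ => Nat) (Bool.rec (motive := fun _ => Nat) (0x1d) (0x1e) (Nat.ble 175 i)) (Bool.rec (motive := fun _ => Nat) (0x1f) (0x46) (Nat.ble 177 i)) (Nat.ble 176 i)) (Nat.ble 174 i)) (Nat.ble 171 i)) (Nat.ble 165 i)) (Bool.rec (motive := fun _ => Nat) (Bool.rec (motive := fun _ => Nat) (Bool.rec (motive := fun _ => Nat) (Bool.rec (motive := fun _ => Nat) (0x47) (Bool.rec (motive := fun _ => Nat) (0x48) (0x49) (Nat.ble 180 i)) (Nat.ble 179 i)) (Bool.rec (motive := fun _ => Nat) (0x4a) (Bool.rec (motive := fun _ => Nat) (0x4b) (0x4c) (Nat.ble 183 i)) (Nat.ble 182 i)) (Nat.ble 181 i)) (Bool.rec (motive := fun _ => Nat) (Bool.rec (motive := fun _ => Nat) (0xa4) (Bool.rec (motive := fun _ => Nat) (0x44) (0x69) (Nat.ble 186 i)) (Nat.ble 185 i)) (Bool.rec (motive := fun _ => Nat) (Bool.rec (motive := fun _ => Nat) (0x1ae) (0x6c) (Nat.ble 188 i)) (Bool.rec (motive := fun _ => Nat) (0x1ad) (0x14b)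 (Nat.ble 190 i)) (Nat.ble 189 i)) (Nat.ble 187 i)) (Nat.ble 184 i)) (Bool.rec (motive := fun _ => Nat) (Bool.rec (motive := fun _ => Nat) (Bool.rec (motive := fun _ => Nat) (0x209) (Bool.rec (motive := fun _ => Nat) (0x147) (0x1fa) (Nat.ble 193 i)) (Nat.ble 192 i)) (Bool.rec (motive := fun _ => Nat) (0x120) (Bool.rec (motive := fun _ => Nat) (0x121) (0xdb) (Nat.ble 196 i)) (Nat.ble 195 i)) (Nat.ble 194 i)) (Bool.rec (motive := fun _ => Nat) (Bool.rec (motive := fun _ => Nat) (0xdf) (Bool.rec (motive := fun _ => Nat) (0x175) (0x166) (Nat.ble 199 i)) (Nat.ble 198 i)) (Bool.rec (motive := fun _ => Nat) (Bool.rec (motive := fun _ => Nat) (0xa5) (0x45) (Nat.ble 201 i)) (Bool.rec (motive := fun _ => Nat) (0x6a) (0x1aa) (Nat.ble 203 i)) (Nat.ble 202 i)) (Nat.ble 200 i)) (Nat.ble 197 i)) (Nat.ble 191 i)) (Nat.ble 178 i)) (Nat.ble 153 i)) (Nat.ble 102 i)) (Bool.rec (motive := fun _ => Nat) (Bool.rec (motive := fun _ => Nat) (Bool.rec (motive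 := fun _ => Nat) (Bool.rec (motive := fun _ => Nat) (Bool.rec (motive := fun _ => Nat) (Bool.rec (motive := fun _ => Nat) (Bool.rec (motive := fun _ => Nat) (0x6d) (Bool.rec (motive := fun _ => Nat) (0x14c) (0x1fb) (Nat.ble 206 i)) (Nat.ble 205 i)) (Bool.rec (motive := fun _ => Nat) (0x148) (Bool.rec (motive := fun _ => Nat) (0x203) (0x202) (Nat.ble 209 i)) (Nat.ble 208 i)) (Nat.ble 207 i)) (Bool.rec (motive := fun _ => Nat) (Bool.rec (motive := fun _ => Nat) (0x11d) (Bool.rec (motive := fun _ => Nat) (0xdc) (0xe0) (Nat.ble 212 i)) (Nat.ble 211 i)) (Bool.rec (motive := fun _ => Nat) (0x167) (Bool.rec (motive := fun _ => Nat) (0x16e) (0x16f) (Nat.ble 215 i)) (Nat.ble 214 i)) (Nat.ble 213 i)) (Nat.ble 210 i)) (Bool.rec (motive := fun _ => Nat) (Bool.rec (motive := fun _ => Nat) (Bool.rec (motive := fun _ => Nat) (0x9f) (Bool.rec (motive := fun _ => Nat) (0x104) (0x2f6) (Nat.ble 218 i)) (Nat.ble 217 i)) (Bool.rec (motive := fun _ =>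 Nat) (0x1a1) (Bool.rec (motive := fun _ => Nat) (0x1a6) (0x2f5) (Nat.ble 221 i)) (Nat.ble 220 i)) (Nat.ble 219 i)) (Bool.rec (motive := fun _ => Nat) (Bool.rec (motive := fun _ => Nat) (0x220) (Bool.rec (motive := fun _ => Nat) (0x2a6) (0x266) (Nat.ble 224 i)) (Nat.ble 223 i)) (Bool.rec (motive := fun _ => Nat) (Bool.rec (motive := fun _ => Nat) (0x285) (0x114) (Nat.ble 226 i)) (Bool.rec (motive := fun _ => Nat) (0x119) (0x2b0) (Nat.ble 228 i)) (Nat.ble 227 i)) (Nat.ble 225 i)) (Nat.ble 222 i)) (Nat.ble 216 i)) (Bool.rec (motive := fun _ => Nat) (Bool.rec (motive := fun _ => Nat) (Bool.rec (motive := fun _ => Nat) (Bool.rec (motive := fun _ => Nat) (0x284) (Bool.rec (motive := fun _ => Nat) (0x1bd) (0x22c) (Nat.ble 231 i)) (Nat.ble 230 i)) (Bool.rec (motive := fun _ => Nat) (0xa0) (Bool.rec (motive := fun _ => Nat) (0x105) (0x2a7) (Nat.ble 234 i)) (Nat.ble 233 i)) (Nat.ble 232 i)) (Bool.rec (motive := fun _ => Nat) (Bool.rec (motive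 := fun _ => Nat) (0x1a2) (Bool.rec (motive := fun _ => Nat) (0x1a4) (0x221) (Nat.ble 237 i)) (Nat.ble 236 i)) (Bool.rec (motive := fun _ => Nat) (Bool.rec (motive := fun _ => Nat) (0x2af) (0x2a8) (Nat.ble 239 i)) (Bool.rec (motive := fun _ => Nat) (0x115) (0x117) (Nat.ble 241 i)) (Nat.ble 240 i)) (Nat.ble 238 i)) (Nat.ble 235 i)) (Bool.rec (motive := fun _ => Nat) (Bool.rec (motive := fun _ => Nat) (Bool.rec (motive := fun _ => Nat) (0x262) (Bool.rec (motive := fun _ => Nat) (0x1b9) (0x281) (Nat.ble 244 i)) (Nat.ble 243 i)) (Bool.rec (motive := fun _ => Nat) (0x22a) (Bool.rec (motive := fun _ => Nat) (0x228) (0x222) (Nat.ble 247 i)) (Nat.ble 246 i)) (Nat.ble 245 i)) (Bool.rec (motive := fun _ => Nat) (Bool.rec (motive := fun _ => Nat) (0xa1) (Bool.rec (motive := fun _ => Nat) (0x106) (0x2ce) (Nat.ble 250 i)) (Nat.ble 249 i)) (Bool.rec (motive := fun _ => Nat) (Bool.rec (motive := fun _ => Nat) (0x1a3) (0x2f7) (Nat.ble 252 i)) (Bool.rec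 (motive := fun _ => Nat) (0x283) (0x1b7) (Nat.ble 254 i)) (Nat.ble 253 i)) (Nat.ble 251 i)) (Nat.ble 248 i)) (Nat.ble 242 i)) (Nat.ble 229 i)) (Bool.rec (motive := fun _ => Nat) (Bool.rec (motive := fun _ => Nat) (Bool.rec (motive := fun _ => Nat) (Bool.rec (motive := fun _ => Nat) (Bool.rec (motive := fun _ => Nat) (0x2a9) (Bool.rec (motive := fun _ => Nat) (0x268) (0x116) (Nat.ble 257 i)) (Nat.ble 256 i)) (Bool.rec (motive := fun _ => Nat) (0x1b8) (Bool.rec (motive := fun _ => Nat) (0x286) (0x2ae) (Nat.ble 260 i)) (Nat.ble 259 i)) (Nat.ble 258 i)) (Bool.rec (motive := fun _ => Nat) (Bool.rec (motive := fun _ => Nat) (0x223) (Bool.rec (motive := fun _ => Nat) (0x1bf) (0x229) (Nat.ble 263 i)) (Nat.ble 262 i)) (Bool.rec (motive := fun _ => Nat) (0xa2) (Bool.rec (motive := fun _ => Nat) (0x107) (0x265) (Nat.ble 266 i)) (Nat.ble 265 i)) (Nat.ble 264 i)) (Nat.ble 261 i)) (Bool.rec (motive := fun _ => Nat) (Bool.rec (motive := fun _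 => Nat) (Bool.rec (motive := fun _ => Nat) (0x2aa) (Bool.rec (motive := fun _ => Nat) (0x1a5) (0x27f) (Nat.ble 269 i)) (Nat.ble 268 i)) (Bool.rec (motive := fun _ => Nat) (0x264) (Bool.rec (motive := fun _ => Nat) (0x1bc) (0x224) (Nat.ble 272 i)) (Nat.ble 271 i)) (Nat.ble 270 i)) (Bool.rec (motive := fun _ => Nat) (Bool.rec (motive := fun _ => Nat) (0x118) (Bool.rec (motive := fun _ => Nat) (0x22b) (0x2ab) (Nat.ble 275 i)) (Nat.ble 274 i)) (Bool.rec (motive := fun _ => Nat) (Bool.rec (motive := fun _ => Nat) (0x1bb) (0x282) (Nat.ble 277 i)) (Bool.rec (motive := fun _ => Nat) (0x2cf) (0x225) (Nat.ble 279 i)) (Nat.ble 278 i)) (Nat.ble 276 i)) (Nat.ble 273 i)) (Nat.ble 267 i)) (Bool.rec (motive := fun _ => Nat) (Bool.rec (motive := fun _ => Nat) (Bool.rec (motive := fun _ => Nat) (Bool.rec (motive := fun _ => Nat) (0x32) (Bool.rec (motive := fun _ => Nat) (0x33) (0x34) (Nat.ble 282 i)) (Nat.ble 281 i)) (Bool.rec (motive := fun _ =>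 Nat) (0x35) (Bool.rec (motive := fun _ => Nat) (0x36) (0x37) (Nat.ble 285 i)) (Nat.ble 284 i)) (Nat.ble 283 i)) (Bool.rec (motive := fun _ => Nat) (Bool.rec (motive := fun _ => Nat) (0x38) (Bool.rec (motive := fun _ => Nat) (0x8c) (0x73) (Nat.ble 288 i)) (Nat.ble 287 i)) (Bool.rec (motive := fun _ => Nat) (Bool.rec (motive := fun _ => Nat) (0x74) (0x75) (Nat.ble 290 i)) (Bool.rec (motive := fun _ => Nat) (0x76) (0x77) (Nat.ble 292 i)) (Nat.ble 291 i)) (Nat.ble 289 i)) (Nat.ble 286 i)) (Bool.rec (motive := fun _ => Nat) (Bool.rec (motive := fun _ => Nat) (Bool.rec (motive := fun _ => Nat) (0x78) (Bool.rec (motive := fun _ => Nat) (0x79) (0x7a) (Nat.ble 295 i)) (Nat.ble 294 i)) (Bool.rec (motive := fun _ => Nat) (0x110) (Bool.rec (motive := fun _ => Nat) (0xa6) (0x10b) (Nat.ble 298 i)) (Nat.ble 297 i)) (Nat.ble 296 i)) (Bool.rec (motive := fun _ => Nat) (Bool.rec (motive := fun _ => Nat) (0x6e) (Bool.rec (motive := fun _ => Nat) (0x1ac)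 (0x26a) (Nat.ble 301 i)) (Nat.ble 300 i)) (Bool.rec (motive := fun _ => Nat) (Bool.rec (motive := fun _ => Nat) (0xad) (0xb2) (Nat.ble 303 i)) (Bool.rec (motive := fun _ => Nat) (0x26e) (0x208) (Nat.ble 305 i)) (Nat.ble 304 i)) (Nat.ble 302 i)) (Nat.ble 299 i)) (Nat.ble 293 i)) (Nat.ble 280 i)) (Nat.ble 255 i)) (Bool.rec (motive := fun _ => Nat) (Bool.rec (motive := fun _ => Nat) (Bool.rec (motive := fun _ => Nat) (Bool.rec (motive := fun _ => Nat) (Bool.rec (motive := fun _ => Nat) (Bool.rec (motive := fun _ => Nat) (0x1fc) (Bool.rec (motive := fun _ => Nat) (0x11f) (0x1c1) (Nat.ble 308 i)) (Nat.ble 307 i)) (Bool.rec (motive := fun _ => Nat) (0x1c5) (Bool.rec (motive := fun _ => Nat) (0x168) (0x174) (Nat.ble 311 i)) (Nat.ble 310 i)) (Nat.ble 309 i)) (Bool.rec (motive := fun _ => Nat) (Bool.rec (motive := fun _ => Nat) (0x10c) (Bool.rec (motive := fun _ => Nat) (0xa7) (0x10e) (Nat.ble 314 i)) (Nat.ble 313 i)) (Bool.rec (motive :=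 fun _ => Nat) (0x6f) (Bool.rec (motive := fun _ => Nat) (0x1fe) (0x1a9) (Nat.ble 317 i)) (Nat.ble 316 i)) (Nat.ble 315 i)) (Nat.ble 312 i)) (Bool.rec (motive := fun _ => Nat) (Bool.rec (motive := fun _ => Nat) (Bool.rec (motive := fun _ => Nat) (0xae) (Bool.rec (motive := fun _ => Nat) (0xb0) (0x206) (Nat.ble 320 i)) (Nat.ble 319 i)) (Bool.rec (motive := fun _ => Nat) (0x204) (Bool.rec (motive := fun _ => Nat) (0x1fd) (0x11c) (Nat.ble 323 i)) (Nat.ble 322 i)) (Nat.ble 321 i)) (Bool.rec (motive := fun _ => Nat) (Bool.rec (motive := fun _ => Nat) (0x170) (Bool.rec (motive := fun _ => Nat) (0x169) (0x16a) (Nat.ble 326 i)) (Nat.ble 325 i)) (Bool.rec (motive := fun _ => Nat) (Bool.rec (motive := fun _ => Nat) (0x172) (0x10d) (Nat.ble 328 i)) (Bool.rec (motive := fun _ => Nat) (0xa8) (0x1a7) (Nat.ble 330 i)) (Nat.ble 329 i)) (Nat.ble 327 i)) (Nat.ble 324 i)) (Nat.ble 318 i)) (Bool.rec (motive := fun _ => Nat) (Bool.rec (motive := fun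 _ => Nat) (Bool.rec (motive := fun _ => Nat) (Bool.rec (motive := fun _ => Nat) (0x70) (Bool.rec (motive := fun _ => Nat) (0x1a8) (0x26d) (Nat.ble 333 i)) (Nat.ble 332 i)) (Bool.rec (motive := fun _ => Nat) (0xaf) (Bool.rec (motive := fun _ => Nat) (0x26f) (0x1ff) (Nat.ble 336 i)) (Nat.ble 335 i)) (Nat.ble 334 i)) (Bool.rec (motive := fun _ => Nat) (Bool.rec (motive := fun _ => Nat) (0x205) (Bool.rec (motive := fun _ => Nat) (0x11a) (0x11b) (Nat.ble 339 i)) (Nat.ble 338 i)) (Bool.rec (motive := fun _ => Nat) (Bool.rec (motive := fun _ => Nat) (0x171) (0x1c4) (Nat.ble 341 i)) (Bool.rec (motive := fun _ => Nat) (0x16b) (0x1c6) (Nat.ble 343 i)) (Nat.ble 342 i)) (Nat.ble 340 i)) (Nat.ble 337 i)) (Bool.rec (motive := fun _ => Nat) (Bool.rec (motive := fun _ => Nat) (Bool.rec (motive := fun _ => Nat) (0x10f) (Bool.rec (motive := fun _ => Nat) (0xa9) (0x1ab) (Nat.ble 346 i)) (Nat.ble 345 i)) (Bool.rec (motive := fun _ => Nat) (0x71) (Bool.rec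 (motive := fun _ => Nat) (0x200) (0x26c) (Nat.ble 349 i)) (Nat.ble 348 i)) (Nat.ble 347 i)) (Bool.rec (motive := fun _ => Nat) (Bool.rec (motive := fun _ => Nat) (0xb1) (Bool.rec (motive := fun _ => Nat) (0x26b) (0x207) (Nat.ble 352 i)) (Nat.ble 351 i)) (Bool.rec (motive := fun _ => Nat) (Bool.rec (motive := fun _ => Nat) (0x201) (0x11e) (Nat.ble 354 i)) (Bool.rec (motive := fun _ => Nat) (0x16c) (0x1c2) (Nat.ble 356 i)) (Nat.ble 355 i)) (Nat.ble 353 i)) (Nat.ble 350 i)) (Nat.ble 344 i)) (Nat.ble 331 i)) (Bool.rec (motive := fun _ => Nat) (Bool.rec (motive := fun _ => Nat) (Bool.rec (motive := fun _ => Nat) (Bool.rec (motive := fun _ => Nat) (Bool.rec (motive := fun _ => Nat) (0x173) (Bool.rec (motive := fun _ => Nat) (0x1c3) (0x16d) (Nat.ble 359 i)) (Nat.ble 358 i)) (Bool.rec (motive := fun _ => Nat) (0xb3) (Bool.rec (motive := fun _ => Nat) (0x58) (0x59) (Nat.ble 362 i)) (Nat.ble 361 i)) (Nat.ble 360 i)) (Bool.rec (motive := fun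 _ => Nat) (Bool.rec (motive := fun _ => Nat) (0x5a) (Bool.rec (motive := fun _ => Nat) (0x5b) (0x5c) (Nat.ble 365 i)) (Nat.ble 364 i)) (Bool.rec (motive := fun _ => Nat) (Bool.rec (motive := fun _ => Nat) (0x5d) (0x5e) (Nat.ble 367 i)) (Bool.rec (motive := fun _ => Nat) (0x5f) (0xce) (Nat.ble 369 i)) (Nat.ble 368 i)) (Nat.ble 366 i)) (Nat.ble 363 i)) (Bool.rec (motive := fun _ => Nat) (Bool.rec (motive := fun _ => Nat) (Bool.rec (motive := fun _ => Nat) (0x57) (Bool.rec (motive := fun _ => Nat) (0xe2) (0xe3) (Nat.ble 372 i)) (Nat.ble 371 i)) (Bool.rec (motive := fun _ => Nat) (0xb6) (Bool.rec (motive := fun _ => Nat) (0xb7) (0xb8) (Nat.ble 375 i)) (Nat.ble 374 i)) (Nat.ble 373 i)) (Bool.rec (motive := fun _ => Nat) (Bool.rec (motive := fun _ => Nat) (0xb9) (Bool.rec (motive := fun _ => Nat) (0xba) (0xbb) (Nat.ble 378 i)) (Nat.ble 377 i)) (Bool.rec (motive := fun _ => Nat) (Bool.rec (motive := fun _ => Nat) (0xbc) (0xbd) (Nat.ble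 380 i)) (Bool.rec (motive := fun _ => Nat) (0xbe) (0xbf) (Nat.ble 382 i)) (Nat.ble 381 i)) (Nat.ble 379 i)) (Nat.ble 376 i)) (Nat.ble 370 i)) (Bool.rec (motive := fun _ => Nat) (Bool.rec (motive := fun _ => Nat) (Bool.rec (motive := fun _ => Nat) (Bool.rec (motive := fun _ => Nat) (0xc0) (Bool.rec (motive := fun _ => Nat) (0xc1) (0xc2) (Nat.ble 385 i)) (Nat.ble 384 i)) (Bool.rec (motive := fun _ => Nat) (0xc3) (Bool.rec (motive := fun _ => Nat) (0x111) (0x72) (Nat.ble 388 i)) (Nat.ble 387 i)) (Nat.ble 386 i)) (Bool.rec (motive := fun _ => Nat) (Bool.rec (motive := fun _ => Nat) (0x122) (Bool.rec (motive := fun _ => Nat) (0x123) (0x8f) (Nat.ble 391 i)) (Nat.ble 390 i)) (Bool.rec (motive := fun _ => Nat) (Bool.rec (motive := fun _ => Nat) (0x90) (0x91) (Nat.ble 393 i)) (Bool.rec (motive := fun _ => Nat) (0x92) (0x93) (Nat.ble 395 i)) (Nat.ble 394 i)) (Nat.ble 392 i)) (Nat.ble 389 i)) (Bool.rec (motive := fun _ => Nat) (Bool.rec (motive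 := fun _ => Nat) (Bool.rec (motive := fun _ => Nat) (0x94) (Bool.rec (motive := fun _ => Nat) (0x95) (0x96) (Nat.ble 398 i)) (Nat.ble 397 i)) (Bool.rec (motive := fun _ => Nat) (0x97) (Bool.rec (motive := fun _ => Nat) (0x98) (0x99) (Nat.ble 401 i)) (Nat.ble 400 i)) (Nat.ble 399 i)) (Bool.rec (motive := fun _ => Nat) (Bool.rec (motive := fun _ => Nat) (0x9a) (Bool.rec (motive := fun _ => Nat) (0x9b) (0x9c) (Nat.ble 404 i)) (Nat.ble 403 i)) (Bool.rec (motive := fun _ => Nat) (Bool.rec (motive := fun _ => Nat) (0x13a) (0x82) (Nat.ble 406 i)) (Bool.rec (motive := fun _ => Nat) (0x14e) (0x14f) (Nat.ble 408 i)) (Nat.ble 407 i)) (Nat.ble 405 i)) (Nat.ble 402 i)) (Nat.ble 396 i)) (Nat.ble 383 i)) (Nat.ble 357 i)) (Nat.ble 306 i)) (Nat.ble 204 i)) (Bool.rec (motive := fun _ => Nat) (Bool.rec (motive := fun _ => Nat) (Bool.rec (motive := fun _ => Nat) (Bool.rec (motive := fun _ => Nat) (Bool.rec (motive := fun _ => Nat) (Bool.rec (motive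 := fun _ => Nat) (Bool.rec (motive := fun _ => Nat) (Bool.rec (motive := fun _ => Nat) (0x150) (Bool.rec (motive := fun _ => Nat) (0x8d) (0x8e) (Nat.ble 411 i)) (Nat.ble 410 i)) (Bool.rec (motive := fun _ => Nat) (0x176) (Bool.rec (motive := fun _ => Nat) (0x177) (0x178) (Nat.ble 414 i)) (Nat.ble 413 i)) (Nat.ble 412 i)) (Bool.rec (motive := fun _ => Nat) (Bool.rec (motive := fun _ => Nat) (0x179) (Bool.rec (motive := fun _ => Nat) (0x17a) (0x17b) (Nat.ble 417 i)) (Nat.ble 416 i)) (Bool.rec (motive := fun _ => Nat) (0x12a) (Bool.rec (motive := fun _ => Nat) (0x12b) (0x12c) (Nat.ble 420 i)) (Nat.ble 419 i)) (Nat.ble 418 i)) (Nat.ble 415 i)) (Bool.rec (motive := fun _ => Nat) (Bool.rec (motive := fun _ => Nat) (Bool.rec (motive := fun _ => Nat) (0x12d) (Bool.rec (motive := fun _ => Nat) (0x12e) (0x12f) (Nat.ble 423 i)) (Nat.ble 422 i)) (Bool.rec (motive := fun _ => Nat) (0x130) (Bool.rec (motive := fun _ => Nat) (0x131) (0x132) (Nat.ble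 426 i)) (Nat.ble 425 i)) (Nat.ble 424 i)) (Bool.rec (motive := fun _ => Nat) (Bool.rec (motive := fun _ => Nat) (0x133) (Bool.rec (motive := fun _ => Nat) (0xfa) (0x134) (Nat.ble 429 i)) (Nat.ble 428 i)) (Bool.rec (motive := fun _ => Nat) (Bool.rec (motive := fun _ => Nat) (0x135) (0x101) (Nat.ble 431 i)) (Bool.rec (motive := fun _ => Nat) (0x103) (0xfe) (Nat.ble 433 i)) (Nat.ble 432 i)) (Nat.ble 430 i)) (Nat.ble 427 i)) (Nat.ble 421 i)) (Bool.rec (motive := fun _ => Nat) (Bool.rec (motive := fun _ => Nat) (Bool.rec (motive := fun _ => Nat) (Bool.rec (motive := fun _ => Nat) (0xf4) (Bool.rec (motive := fun _ => Nat) (0xff) (0x136) (Nat.ble 436 i)) (Nat.ble 435 i)) (Bool.rec (motive := fun _ => Nat) (0x137) (Bool.rec (motive := fun _ => Nat) (0xf9) (0xfb) (Nat.ble 439 i)) (Nat.ble 438 i)) (Nat.ble 437 i)) (Bool.rec (motive := fun _ => Nat) (Bool.rec (motive := fun _ => Nat) (0x138) (Bool.rec (motive := fun _ => Nat) (0xf7) (0x139)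 (Nat.ble 442 i)) (Nat.ble 441 i)) (Bool.rec (motive := fun _ => Nat) (Bool.rec (motive := fun _ => Nat) (0xf8) (0x19e) (Nat.ble 444 i)) (Bool.rec (motive := fun _ => Nat) (0xaa) (0x1af) (Nat.ble 446 i)) (Nat.ble 445 i)) (Nat.ble 443 i)) (Nat.ble 440 i)) (Bool.rec (motive := fun _ => Nat) (Bool.rec (motive := fun _ => Nat) (Bool.rec (motive := fun _ => Nat) (0x1b0) (Bool.rec (motive := fun _ => Nat) (0xb4) (0xb5) (Nat.ble 449 i)) (Nat.ble 448 i)) (Bool.rec (motive := fun _ => Nat) (0x1c7) (Bool.rec (motive := fun _ => Nat) (0x1c8) (0x1c9) (Nat.ble 452 i)) (Nat.ble 451 i)) (Nat.ble 450 i)) (Bool.rec (motive := fun _ => Nat) (Bool.rec (motive := fun _ => Nat) (0x1ca) (Bool.rec (motive := fun _ => Nat) (0x1cb) (0x1cc) (Nat.ble 455 i)) (Nat.ble 454 i)) (Bool.rec (motive := fun _ => Nat) (Bool.rec (motive := fun _ => Nat) (0xea) (0xeb) (Nat.ble 457 i)) (Bool.rec (motive := fun _ => Nat) (0xec) (0xed) (Nat.ble 459 i)) (Nat.ble 458 i))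 (Nat.ble 456 i)) (Nat.ble 453 i)) (Nat.ble 447 i)) (Nat.ble 434 i)) (Bool.rec (motive := fun _ => Nat) (Bool.rec (motive := fun _ => Nat) (Bool.rec (motive := fun _ => Nat) (Bool.rec (motive := fun _ => Nat) (Bool.rec (motive := fun _ => Nat) (0xee) (Bool.rec (motive := fun _ => Nat) (0xef) (0xf0) (Nat.ble 462 i)) (Nat.ble 461 i)) (Bool.rec (motive := fun _ => Nat) (0xf1) (Bool.rec (motive := fun _ => Nat) (0xf2) (0xf3) (Nat.ble 465 i)) (Nat.ble 464 i)) (Nat.ble 463 i)) (Bool.rec (motive := fun _ => Nat) (Bool.rec (motive := fun _ => Nat) (0xf5) (Bool.rec (motive := fun _ => Nat) (0xf6) (0xfc) (Nat.ble 468 i)) (Nat.ble 467 i)) (Bool.rec (motive := fun _ => Nat) (0xfd) (Bool.rec (motive := fun _ => Nat) (0x100) (0x102) (Nat.ble 471 i)) (Nat.ble 470 i)) (Nat.ble 469 i)) (Nat.ble 466 i)) (Bool.rec (motive := fun _ => Nat) (Bool.rec (motive := fun _ => Nat) (Bool.rec (motive := fun _ => Nat) (0xc4) (Bool.rec (motive := fun _ => Nat)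 (0x151) (0x1e4) (Nat.ble 474 i)) (Nat.ble 473 i)) (Bool.rec (motive := fun _ => Nat) (0x1e5) (Bool.rec (motive := fun _ => Nat) (0xcf) (0xd0) (Nat.ble 477 i)) (Nat.ble 476 i)) (Nat.ble 475 i)) (Bool.rec (motive := fun _ => Nat) (Bool.rec (motive := fun _ => Nat) (0xd1) (Bool.rec (motive := fun _ => Nat) (0x13b) (0x20a) (Nat.ble 480 i)) (Nat.ble 479 i)) (Bool.rec (motive := fun _ => Nat) (Bool.rec (motive := fun _ => Nat) (0x20b) (0x20c) (Nat.ble 482 i)) (Bool.rec (motive := fun _ => Nat) (0x20d) (0x20e) (Nat.ble 484 i)) (Nat.ble 483 i)) (Nat.ble 481 i)) (Nat.ble 478 i)) (Nat.ble 472 i)) (Bool.rec (motive := fun _ => Nat) (Bool.rec (motive := fun _ => Nat) (Bool.rec (motive := fun _ => Nat) (Bool.rec (motive := fun _ => Nat) (0x20f) (Bool.rec (motive := fun _ => Nat) (0x210) (0x211) (Nat.ble 487 i)) (Nat.ble 486 i)) (Bool.rec (motive := fun _ => Nat) (0xe4) (Bool.rec (motive := fun _ => Nat) (0xe5) (0xe6) (Nat.ble 490 i)) (Nat.ble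 489 i)) (Nat.ble 488 i)) (Bool.rec (motive := fun _ => Nat) (Bool.rec (motive := fun _ => Nat) (0xe7) (Bool.rec (motive := fun _ => Nat) (0xe8) (0xe9) (Nat.ble 493 i)) (Nat.ble 492 i)) (Bool.rec (motive := fun _ => Nat) (Bool.rec (motive := fun _ => Nat) (0x199) (0x1d7) (Nat.ble 495 i)) (Bool.rec (motive := fun _ => Nat) (0x230) (0x231) (Nat.ble 497 i)) (Nat.ble 496 i)) (Nat.ble 494 i)) (Nat.ble 491 i)) (Bool.rec (motive := fun _ => Nat) (Bool.rec (motive := fun _ => Nat) (Bool.rec (motive := fun _ => Nat) (0x192) (Bool.rec (motive := fun _ => Nat) (0x232) (0x233) (Nat.ble 500 i)) (Nat.ble 499 i)) (Bool.rec (motive := fun _ => Nat) (0x234) (Bool.rec (motive := fun _ => Nat) (0x235) (0x236) (Nat.ble 503 i)) (Nat.ble 502 i)) (Nat.ble 501 i)) (Bool.rec (motive := fun _ => Nat) (Bool.rec (motive := fun _ => Nat) (0x1d5) (Bool.rec (motive := fun _ => Nat) (0x1d6) (0x1d8) (Nat.ble 506 i)) (Nat.ble 505 i)) (Bool.rec (motive := fun _ =>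 Nat) (Bool.rec (motive := fun _ => Nat) (0x1d9) (0x1da) (Nat.ble 508 i)) (Bool.rec (motive := fun _ => Nat) (0x19d) (0x196) (Nat.ble 510 i)) (Nat.ble 509 i)) (Nat.ble 507 i)) (Nat.ble 504 i)) (Nat.ble 498 i)) (Nat.ble 485 i)) (Nat.ble 460 i)) (Bool.rec (motive := fun _ => Nat) (Bool.rec (motive := fun _ => Nat) (Bool.rec (motive := fun _ => Nat) (Bool.rec (motive := fun _ => Nat) (Bool.rec (motive := fun _ => Nat) (Bool.rec (motive := fun _ => Nat) (0x19b) (Bool.rec (motive := fun _ => Nat) (0x197) (0x1db) (Nat.ble 513 i)) (Nat.ble 512 i)) (Bool.rec (motive := fun _ => Nat) (0x1dc) (Bool.rec (motive := fun _ => Nat) (0x1dd) (0x180) (Nat.ble 516 i)) (Nat.ble 515 i)) (Nat.ble 514 i)) (Bool.rec (motive := fun _ => Nat) (Bool.rec (motive := fun _ => Nat) (0x1de) (Bool.rec (motive := fun _ => Nat) (0x1df) (0x1e0) (Nat.ble 519 i)) (Nat.ble 518 i)) (Bool.rec (motive := fun _ => Nat) (0x18c) (Bool.rec (motive := fun _ => Nat) (0x18e) (0x1e1)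 (Nat.ble 522 i)) (Nat.ble 521 i)) (Nat.ble 520 i)) (Nat.ble 517 i)) (Bool.rec (motive := fun _ => Nat) (Bool.rec (motive := fun _ => Nat) (Bool.rec (motive := fun _ => Nat) (0x17c) (Bool.rec (motive := fun _ => Nat) (0x1e2) (0x18d) (Nat.ble 525 i)) (Nat.ble 524 i)) (Bool.rec (motive := fun _ => Nat) (0x1e3) (Bool.rec (motive := fun _ => Nat) (0x18b) (0x108) (Nat.ble 528 i)) (Nat.ble 527 i)) (Nat.ble 526 i)) (Bool.rec (motive := fun _ => Nat) (Bool.rec (motive := fun _ => Nat) (0x25a) (Bool.rec (motive := fun _ => Nat) (0x25b) (0x112) (Nat.ble 531 i)) (Nat.ble 530 i)) (Bool.rec (motive := fun _ => Nat) (Bool.rec (motive := fun _ => Nat) (0x113) (0x270) (Nat.ble 533 i)) (Bool.rec (motive := fun _ => Nat) (0x271) (0x272) (Nat.ble 535 i)) (Nat.ble 534 i)) (Nat.ble 532 i)) (Nat.ble 529 i)) (Nat.ble 523 i)) (Bool.rec (motive := fun _ => Nat) (Bool.rec (motive := fun _ => Nat) (Bool.rec (motive := fun _ => Nat) (Bool.rec (motive := fun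 _ => Nat) (0x273) (Bool.rec (motive := fun _ => Nat) (0x274) (0x275) (Nat.ble 538 i)) (Nat.ble 537 i)) (Bool.rec (motive := fun _ => Nat) (0x124) (Bool.rec (motive := fun _ => Nat) (0x125) (0x126) (Nat.ble 541 i)) (Nat.ble 540 i)) (Nat.ble 539 i)) (Bool.rec (motive := fun _ => Nat) (Bool.rec (motive := fun _ => Nat) (0x127) (Bool.rec (motive := fun _ => Nat) (0x128) (0x129) (Nat.ble 544 i)) (Nat.ble 543 i)) (Bool.rec (motive := fun _ => Nat) (Bool.rec (motive := fun _ => Nat) (0x244) (0x254) (Nat.ble 546 i)) (Bool.rec (motive := fun _ => Nat) (0x287) (0x288) (Nat.ble 548 i)) (Nat.ble 547 i)) (Nat.ble 545 i)) (Nat.ble 542 i)) (Bool.rec (motive := fun _ => Nat) (Bool.rec (motive := fun _ => Nat) (Bool.rec (motive := fun _ => Nat) (0x23d) (Bool.rec (motive := fun _ => Nat) (0x24d) (0x257) (Nat.ble 551 i)) (Nat.ble 550 i)) (Bool.rec (motive := fun _ => Nat) (0x259) (Bool.rec (motive := fun _ => Nat) (0x186) (0x187) (Nat.ble 554 i))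 (Nat.ble 553 i)) (Nat.ble 552 i)) (Bool.rec (motive := fun _ => Nat) (Bool.rec (motive := fun _ => Nat) (0x17d) (Bool.rec (motive := fun _ => Nat) (0x188) (0x189) (Nat.ble 557 i)) (Nat.ble 556 i)) (Bool.rec (motive := fun _ => Nat) (Bool.rec (motive := fun _ => Nat) (0x18a) (0x18f) (Nat.ble 559 i)) (Bool.rec (motive := fun _ => Nat) (0x190) (0x191) (Nat.ble 561 i)) (Nat.ble 560 i)) (Nat.ble 558 i)) (Nat.ble 555 i)) (Nat.ble 549 i)) (Nat.ble 536 i)) (Bool.rec (motive := fun _ => Nat) (Bool.rec (motive := fun _ => Nat) (Bool.rec (motive := fun _ => Nat) (Bool.rec (motive := fun _ => Nat) (Bool.rec (motive := fun _ => Nat) (0x193) (Bool.rec (motive := fun _ => Nat) (0x194) (0x195) (Nat.ble 564 i)) (Nat.ble 563 i)) (Bool.rec (motive := fun _ => Nat) (0x198) (Bool.rec (motive := fun _ => Nat) (0x19a) (0x19c) (Nat.ble 567 i)) (Nat.ble 566 i)) (Nat.ble 565 i)) (Bool.rec (motive := fun _ => Nat) (Bool.rec (motive := fun _ => Nat) (0x13c)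 (Bool.rec (motive := fun _ => Nat) (0x13d) (0x212) (Nat.ble 570 i)) (Nat.ble 569 i)) (Bool.rec (motive := fun _ => Nat) (Bool.rec (motive := fun _ => Nat) (0x213) (0x294) (Nat.ble 572 i)) (Bool.rec (motive := fun _ => Nat) (0x295) (0x296) (Nat.ble 574 i)) (Nat.ble 573 i)) (Nat.ble 571 i)) (Nat.ble 568 i)) (Bool.rec (motive := fun _ => Nat) (Bool.rec (motive := fun _ => Nat) (Bool.rec (motive := fun _ => Nat) (0x297) (Bool.rec (motive := fun _ => Nat) (0x298) (0x299) (Nat.ble 577 i)) (Nat.ble 576 i)) (Bool.rec (motive := fun _ => Nat) (0x152) (Bool.rec (motive := fun _ => Nat) (0x153) (0x154) (Nat.ble 580 i)) (Nat.ble 579 i)) (Nat.ble 578 i)) (Bool.rec (motive := fun _ => Nat) (Bool.rec (motive := fun _ => Nat) (0x155) (Bool.rec (motive := fun _ => Nat) (0x156) (0x157) (Nat.ble 583 i)) (Nat.ble 582 i)) (Bool.rec (motive := fun _ => Nat) (Bool.rec (motive := fun _ => Nat) (0x158) (0x159) (Nat.ble 585 i)) (Bool.rec (motive := fun _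 => Nat) (0x1e6) (0x1e7) (Nat.ble 587 i)) (Nat.ble 586 i)) (Nat.ble 584 i)) (Nat.ble 581 i)) (Nat.ble 575 i)) (Bool.rec (motive := fun _ => Nat) (Bool.rec (motive := fun _ => Nat) (Bool.rec (motive := fun _ => Nat) (Bool.rec (motive := fun _ => Nat) (0x2b3) (Bool.rec (motive := fun _ => Nat) (0x2b4) (0x2b5) (Nat.ble 590 i)) (Nat.ble 589 i)) (Bool.rec (motive := fun _ => Nat) (0x2b6) (Bool.rec (motive := fun _ => Nat) (0x28f) (0x2b7) (Nat.ble 593 i)) (Nat.ble 592 i)) (Nat.ble 591 i)) (Bool.rec (motive := fun _ => Nat) (Bool.rec (motive := fun _ => Nat) (0x2b8) (Bool.rec (motive := fun _ => Nat) (0x250) (0x2b9) (Nat.ble 596 i)) (Nat.ble 595 i)) (Bool.rec (motive := fun _ => Nat) (Bool.rec (motive := fun _ => Nat) (0x2ba) (0x2bb) (Nat.ble 598 i)) (Bool.rec (motive := fun _ => Nat) (0x2bc) (0x17e) (Nat.ble 600 i)) (Nat.ble 599 i)) (Nat.ble 597 i)) (Nat.ble 594 i)) (Bool.rec (motive := fun _ => Nat) (Bool.rec (motive := fun _ => Nat)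 (Bool.rec (motive := fun _ => Nat) (0x17f) (Bool.rec (motive := fun _ => Nat) (0x181) (0x182) (Nat.ble 603 i)) (Nat.ble 602 i)) (Bool.rec (motive := fun _ => Nat) (0x183) (Bool.rec (motive := fun _ => Nat) (0x184) (0x185) (Nat.ble 606 i)) (Nat.ble 605 i)) (Nat.ble 604 i)) (Bool.rec (motive := fun _ => Nat) (Bool.rec (motive := fun _ => Nat) (0x23e) (Bool.rec (motive := fun _ => Nat) (0x258) (0x255) (Nat.ble 609 i)) (Nat.ble 608 i)) (Bool.rec (motive := fun _ => Nat) (Bool.rec (motive := fun _ => Nat) (0x292) (0x256) (Nat.ble 611 i)) (Bool.rec (motive := fun _ => Nat) (0x2d0) (0x1d1) (Nat.ble 613 i)) (Nat.ble 612 i)) (Nat.ble 610 i)) (Nat.ble 607 i)) (Nat.ble 601 i)) (Nat.ble 588 i)) (Nat.ble 562 i)) (Nat.ble 511 i)) (Bool.rec (motive := fun _ => Nat) (Bool.rec (motive := fun _ => Nat) (Bool.rec (motive := fun _ => Nat) (Bool.rec (motive := fun _ => Nat) (Bool.rec (motive := fun _ => Nat) (Bool.rec (motive := fun _ => Nat) (Bool.rec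 (motive := fun _ => Nat) (0x237) (Bool.rec (motive := fun _ => Nat) (0x246) (0x243) (Nat.ble 616 i)) (Nat.ble 615 i)) (Bool.rec (motive := fun _ => Nat) (0x2d1) (Bool.rec (motive := fun _ => Nat) (0x2d2) (0x240) (Nat.ble 619 i)) (Nat.ble 618 i)) (Nat.ble 617 i)) (Bool.rec (motive := fun _ => Nat) (Bool.rec (motive := fun _ => Nat) (0x1cd) (Bool.rec (motive := fun _ => Nat) (0x28b) (0x23f) (Nat.ble 622 i)) (Nat.ble 621 i)) (Bool.rec (motive := fun _ => Nat) (0x28a) (Bool.rec (motive := fun _ => Nat) (0x291) (0x252) (Nat.ble 625 i)) (Nat.ble 624 i)) (Nat.ble 623 i)) (Nat.ble 620 i)) (Bool.rec (motive := fun _ => Nat) (Bool.rec (motive := fun _ => Nat) (Bool.rec (motive := fun _ => Nat) (0x28e) (Bool.rec (motive := fun _ => Nat) (0x290) (0x24f) (Nat.ble 628 i)) (Nat.ble 627 i)) (Bool.rec (motive := fun _ => Nat) (0x1d2) (Bool.rec (motive := fun _ => Nat) (0x2db) (0x24c) (Nat.ble 631 i)) (Nat.ble 630 i)) (Nat.ble 629 i)) (Bool.rec (motive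 := fun _ => Nat) (Bool.rec (motive := fun _ => Nat) (0x21b) (Bool.rec (motive := fun _ => Nat) (0x27b) (0x249) (Nat.ble 634 i)) (Nat.ble 633 i)) (Bool.rec (motive := fun _ => Nat) (Bool.rec (motive := fun _ => Nat) (0x293) (0x1ce) (Nat.ble 636 i)) (Bool.rec (motive := fun _ => Nat) (0x239) (0x23b) (Nat.ble 638 i)) (Nat.ble 637 i)) (Nat.ble 635 i)) (Nat.ble 632 i)) (Nat.ble 626 i)) (Bool.rec (motive := fun _ => Nat) (Bool.rec (motive := fun _ => Nat) (Bool.rec (motive := fun _ => Nat) (Bool.rec (motive := fun _ => Nat) (0x1d3) (Bool.rec (motive := fun _ => Nat) (0x238) (0x1d4) (Nat.ble 641 i)) (Nat.ble 640 i)) (Bool.rec (motive := fun _ => Nat) (0x19f) (Bool.rec (motive := fun _ => Nat) (0x1a0) (0x2e7) (Nat.ble 644 i)) (Nat.ble 643 i)) (Nat.ble 642 i)) (Bool.rec (motive := fun _ => Nat) (Bool.rec (motive := fun _ => Nat) (0x2e8) (Bool.rec (motive := fun _ => Nat) (0x2e9) (0x2ea) (Nat.ble 647 i)) (Nat.ble 646 i)) (Bool.rec (motive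 := fun _ => Nat) (Bool.rec (motive := fun _ => Nat) (0x2eb) (0x2ec) (Nat.ble 649 i)) (Bool.rec (motive := fun _ => Nat) (0x1b1) (0x1b2) (Nat.ble 651 i)) (Nat.ble 650 i)) (Nat.ble 648 i)) (Nat.ble 645 i)) (Bool.rec (motive := fun _ => Nat) (Bool.rec (motive := fun _ => Nat) (Bool.rec (motive := fun _ => Nat) (0x1b3) (Bool.rec (motive := fun _ => Nat) (0x1b4) (0x1b5) (Nat.ble 654 i)) (Nat.ble 653 i)) (Bool.rec (motive := fun _ => Nat) (0x1b6) (Bool.rec (motive := fun _ => Nat) (0x2f8) (0x2e1) (Nat.ble 657 i)) (Nat.ble 656 i)) (Nat.ble 655 i)) (Bool.rec (motive := fun _ => Nat) (Bool.rec (motive := fun _ => Nat) (0x2f9) (Bool.rec (motive := fun _ => Nat) (0x2fa) (0x2d5) (Nat.ble 660 i)) (Nat.ble 659 i)) (Bool.rec (motive := fun _ => Nat) (Bool.rec (motive := fun _ => Nat) (0x251) (0x2da) (Nat.ble 662 i)) (Bool.rec (motive := fun _ => Nat) (0x2e4) (0x2e6) (Nat.ble 664 i)) (Nat.ble 663 i)) (Nat.ble 661 i)) (Nat.ble 658 i)) (Nat.ble 652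 i)) (Nat.ble 639 i)) (Bool.rec (motive := fun _ => Nat) (Bool.rec (motive := fun _ => Nat) (Bool.rec (motive := fun _ => Nat) (Bool.rec (motive := fun _ => Nat) (Bool.rec (motive := fun _ => Nat) (0x1cf) (Bool.rec (motive := fun _ => Nat) (0x1d0) (0x2c9) (Nat.ble 667 i)) (Nat.ble 666 i)) (Bool.rec (motive := fun _ => Nat) (0x247) (Bool.rec (motive := fun _ => Nat) (0x245) (0x2d9) (Nat.ble 670 i)) (Nat.ble 669 i)) (Nat.ble 668 i)) (Bool.rec (motive := fun _ => Nat) (Bool.rec (motive := fun _ => Nat) (0x303) (Bool.rec (motive := fun _ => Nat) (0x24a) (0x218) (Nat.ble 673 i)) (Nat.ble 672 i)) (Bool.rec (motive := fun _ => Nat) (0x24b) (Bool.rec (motive := fun _ => Nat) (0x248) (0x23a) (Nat.ble 676 i)) (Nat.ble 675 i)) (Nat.ble 674 i)) (Nat.ble 671 i)) (Bool.rec (motive := fun _ => Nat) (Bool.rec (motive := fun _ => Nat) (Bool.rec (motive := fun _ => Nat) (0x253) (Bool.rec (motive := fun _ => Nat) (0x1e8) (0x1e9) (Nat.ble 679 i)) (Nat.ble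 678 i)) (Bool.rec (motive := fun _ => Nat) (0x1ea) (Bool.rec (motive := fun _ => Nat) (0x1eb) (0x1ec) (Nat.ble 682 i)) (Nat.ble 681 i)) (Nat.ble 680 i)) (Bool.rec (motive := fun _ => Nat) (Bool.rec (motive := fun _ => Nat) (0x1ed) (Bool.rec (motive := fun _ => Nat) (0x2bd) (0x2be) (Nat.ble 685 i)) (Nat.ble 684 i)) (Bool.rec (motive := fun _ => Nat) (Bool.rec (motive := fun _ => Nat) (0x2bf) (0x2c0) (Nat.ble 687 i)) (Bool.rec (motive := fun _ => Nat) (0x305) (0x309) (Nat.ble 689 i)) (Nat.ble 688 i)) (Nat.ble 686 i)) (Nat.ble 683 i)) (Nat.ble 677 i)) (Bool.rec (motive := fun _ => Nat) (Bool.rec (motive := fun _ => Nat) (Bool.rec (motive := fun _ => Nat) (Bool.rec (motive := fun _ => Nat) (0x30a) (Bool.rec (motive := fun _ => Nat) (0x2dd) (0x30b) (Nat.ble 692 i)) (Nat.ble 691 i)) (Bool.rec (motive := fun _ => Nat) (0x30c) (Bool.rec (motive := fun _ => Nat) (0x30d) (0x30e) (Nat.ble 695 i)) (Nat.ble 694 i)) (Nat.ble 693 i)) (Bool.rec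 (motive := fun _ => Nat) (Bool.rec (motive := fun _ => Nat) (0x214) (Bool.rec (motive := fun _ => Nat) (0x215) (0x216) (Nat.ble 698 i)) (Nat.ble 697 i)) (Bool.rec (motive := fun _ => Nat) (Bool.rec (motive := fun _ => Nat) (0x217) (0x219) (Nat.ble 700 i)) (Bool.rec (motive := fun _ => Nat) (0x21a) (0x21c) (Nat.ble 702 i)) (Nat.ble 701 i)) (Nat.ble 699 i)) (Nat.ble 696 i)) (Bool.rec (motive := fun _ => Nat) (Bool.rec (motive := fun _ => Nat) (Bool.rec (motive := fun _ => Nat) (0x21d) (Bool.rec (motive := fun _ => Nat) (0x21e) (0x21f) (Nat.ble 705 i)) (Nat.ble 704 i)) (Bool.rec (motive := fun _ => Nat) (0x29a) (Bool.rec (motive := fun _ => Nat) (0x29b) (0x29c) (Nat.ble 708 i)) (Nat.ble 707 i)) (Nat.ble 706 i)) (Bool.rec (motive := fun _ => Nat) (Bool.rec (motive := fun _ => Nat) (0x29d) (Bool.rec (motive := fun _ => Nat) (0x2d6) (0x2e5) (Nat.ble 711 i)) (Nat.ble 710 i)) (Bool.rec (motive := fun _ => Nat) (Bool.rec (motive := fun _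 => Nat) (0x2e2) (0x308) (Nat.ble 713 i)) (Bool.rec (motive := fun _ => Nat) (0x2e3) (0x31a) (Nat.ble 715 i)) (Nat.ble 714 i)) (Nat.ble 712 i)) (Nat.ble 709 i)) (Nat.ble 703 i)) (Nat.ble 690 i)) (Nat.ble 665 i)) (Bool.rec (motive := fun _ => Nat) (Bool.rec (motive := fun _ => Nat) (Bool.rec (motive := fun _ => Nat) (Bool.rec (motive := fun _ => Nat) (Bool.rec (motive := fun _ => Nat) (Bool.rec (motive := fun _ => Nat) (0x31b) (Bool.rec (motive := fun _ => Nat) (0x2d8) (0x289) (Nat.ble 718 i)) (Nat.ble 717 i)) (Bool.rec (motive := fun _ => Nat) (0x302) (Bool.rec (motive := fun _ => Nat) (0x2d7) (0x301) (Nat.ble 721 i)) (Nat.ble 720 i)) (Nat.ble 719 i)) (Bool.rec (motive := fun _ => Nat) (Bool.rec (motive := fun _ => Nat) (0x307) (Bool.rec (motive := fun _ => Nat) (0x23c) (0x241) (Nat.ble 724 i)) (Nat.ble 723 i)) (Bool.rec (motive := fun _ => Nat) (0x242) (Bool.rec (motive := fun _ => Nat) (0x31c) (0x30f) (Nat.ble 727 i)) (Nat.ble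 726 i)) (Nat.ble 725 i)) (Nat.ble 722 i)) (Bool.rec (motive := fun _ => Nat) (Bool.rec (motive := fun _ => Nat) (Bool.rec (motive := fun _ => Nat) (0x27a) (Bool.rec (motive := fun _ => Nat) (0x2c1) (0x2cb) (Nat.ble 730 i)) (Nat.ble 729 i)) (Bool.rec (motive := fun _ => Nat) (0x2c8) (Bool.rec (motive := fun _ => Nat) (0x28c) (0x27c) (Nat.ble 733 i)) (Nat.ble 732 i)) (Nat.ble 731 i)) (Bool.rec (motive := fun _ => Nat) (Bool.rec (motive := fun _ => Nat) (0x24e) (Bool.rec (motive := fun _ => Nat) (0x2f2) (0x2a1) (Nat.ble 736 i)) (Nat.ble 735 i)) (Bool.rec (motive := fun _ => Nat) (Bool.rec (motive := fun _ => Nat) (0x2f0) (0x312) (Nat.ble 738 i)) (Bool.rec (motive := fun _ => Nat) (0x326) (0x277) (Nat.ble 740 i)) (Nat.ble 739 i)) (Nat.ble 737 i)) (Nat.ble 734 i)) (Nat.ble 728 i)) (Bool.rec (motive := fun _ => Nat) (Bool.rec (motive := fun _ => Nat) (Bool.rec (motive := fun _ => Nat) (Bool.rec (motive := fun _ => Nat) (0x2c3) (Bool.rec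 (motive := fun _ => Nat) (0x2c5) (0x27d) (Nat.ble 743 i)) (Nat.ble 742 i)) (Bool.rec (motive := fun _ => Nat) (0x2c2) (Bool.rec (motive := fun _ => Nat) (0x27e) (0x25c) (Nat.ble 746 i)) (Nat.ble 745 i)) (Nat.ble 744 i)) (Bool.rec (motive := fun _ => Nat) (Bool.rec (motive := fun _ => Nat) (0x25d) (Bool.rec (motive := fun _ => Nat) (0x25e) (0x25f) (Nat.ble 749 i)) (Nat.ble 748 i)) (Bool.rec (motive := fun _ => Nat) (Bool.rec (motive := fun _ => Nat) (0x260) (0x261) (Nat.ble 751 i)) (Bool.rec (motive := fun _ => Nat) (0x300) (0x32c) (Nat.ble 753 i)) (Nat.ble 752 i)) (Nat.ble 750 i)) (Nat.ble 747 i)) (Bool.rec (motive := fun _ => Nat) (Bool.rec (motive := fun _ => Nat) (Bool.rec (motive := fun _ => Nat) (0x31e) (Bool.rec (motive := fun _ => Nat) (0x2de) (0x325) (Nat.ble 756 i)) (Nat.ble 755 i)) (Bool.rec (motive := fun _ => Nat) (0x2dc) (Bool.rec (motive := fun _ => Nat) (0x329) (0x32b) (Nat.ble 759 i)) (Nat.ble 758 i)) (Nat.ble 757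 i)) (Bool.rec (motive := fun _ => Nat) (Bool.rec (motive := fun _ => Nat) (0x276) (Bool.rec (motive := fun _ => Nat) (0x278) (0x279) (Nat.ble 762 i)) (Nat.ble 761 i)) (Bool.rec (motive := fun _ => Nat) (Bool.rec (motive := fun _ => Nat) (0x2ff) (0x32f) (Nat.ble 764 i)) (Bool.rec (motive := fun _ => Nat) (0x321) (0x324) (Nat.ble 766 i)) (Nat.ble 765 i)) (Nat.ble 763 i)) (Nat.ble 760 i)) (Nat.ble 754 i)) (Nat.ble 741 i)) (Bool.rec (motive := fun _ => Nat) (Bool.rec (motive := fun _ => Nat) (Bool.rec (motive := fun _ => Nat) (Bool.rec (motive := fun _ => Nat) (Bool.rec (motive := fun _ => Nat) (0x2fb) (Bool.rec (motive := fun _ => Nat) (0x2ed) (0x2cc) (Nat.ble 769 i)) (Nat.ble 768 i)) (Bool.rec (motive := fun _ => Nat) (0x2ca) (Bool.rec (motive := fun _ => Nat) (0x28d) (0x32d) (Nat.ble 772 i)) (Nat.ble 771 i)) (Nat.ble 770 i)) (Bool.rec (motive := fun _ => Nat) (Bool.rec (motive := fun _ => Nat) (0x29e) (Bool.rec (motive := fun _ =>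 Nat) (0x32e) (0x2cd) (Nat.ble 775 i)) (Nat.ble 774 i)) (Bool.rec (motive := fun _ => Nat) (Bool.rec (motive := fun _ => Nat) (0x2c4) (0x29f) (Nat.ble 777 i)) (Bool.rec (motive := fun _ => Nat) (0x2a0) (0x2a2) (Nat.ble 779 i)) (Nat.ble 778 i)) (Nat.ble 776 i)) (Nat.ble 773 i)) (Bool.rec (motive := fun _ => Nat) (Bool.rec (motive := fun _ => Nat) (Bool.rec (motive := fun _ => Nat) (0x2a3) (Bool.rec (motive := fun _ => Nat) (0x2a4) (0x2a5) (Nat.ble 782 i)) (Nat.ble 781 i)) (Bool.rec (motive := fun _ => Nat) (0x2d4) (Bool.rec (motive := fun _ => Nat) (0x32a) (0x327) (Nat.ble 785 i)) (Nat.ble 784 i)) (Nat.ble 783 i)) (Bool.rec (motive := fun _ => Nat) (Bool.rec (motive := fun _ => Nat) (0x2df) (Bool.rec (motive := fun _ => Nat) (0x332) (0x328) (Nat.ble 788 i)) (Nat.ble 787 i)) (Bool.rec (motive := fun _ => Nat) (Bool.rec (motive := fun _ => Nat) (0x331) (0x320) (Nat.ble 790 i)) (Bool.rec (motive := fun _ => Nat) (0x330) (0x31f) (Nat.ble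 792 i)) (Nat.ble 791 i)) (Nat.ble 789 i)) (Nat.ble 786 i)) (Nat.ble 780 i)) (Bool.rec (motive := fun _ => Nat) (Bool.rec (motive := fun _ => Nat) (Bool.rec (motive := fun _ => Nat) (Bool.rec (motive := fun _ => Nat) (0x322) (Bool.rec (motive := fun _ => Nat) (0x2c6) (0x2c7) (Nat.ble 795 i)) (Nat.ble 794 i)) (Bool.rec (motive := fun _ => Nat) (0x2d3) (Bool.rec (motive := fun _ => Nat) (0x323) (0x2ef) (Nat.ble 798 i)) (Nat.ble 797 i)) (Nat.ble 796 i)) (Bool.rec (motive := fun _ => Nat) (Bool.rec (motive := fun _ => Nat) (0x318) (Bool.rec (motive := fun _ => Nat) (0x316) (0x2fd) (Nat.ble 801 i)) (Nat.ble 800 i)) (Bool.rec (motive := fun _ => Nat) (Bool.rec (motive := fun _ => Nat) (0x319) (0x31d) (Nat.ble 803 i)) (Bool.rec (motive := fun _ => Nat) (0x2fe) (0x2f1) (Nat.ble 805 i)) (Nat.ble 804 i)) (Nat.ble 802 i)) (Nat.ble 799 i)) (Bool.rec (motive := fun _ => Nat) (Bool.rec (motive := fun _ => Nat) (Bool.rec (motive := fun _ => Nat)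 (0x2e0) (Bool.rec (motive := fun _ => Nat) (0x311) (0x314) (Nat.ble 808 i)) (Nat.ble 807 i)) (Bool.rec (motive := fun _ => Nat) (0x2f3) (Bool.rec (motive := fun _ => Nat) (0x310) (0x2f4) (Nat.ble 811 i)) (Nat.ble 810 i)) (Nat.ble 809 i)) (Bool.rec (motive := fun _ => Nat) (Bool.rec (motive := fun _ => Nat) (0x2ee) (Bool.rec (motive := fun _ => Nat) (0x304) (0x306) (Nat.ble 814 i)) (Nat.ble 813 i)) (Bool.rec (motive := fun _ => Nat) (Bool.rec (motive := fun _ => Nat) (0x2fc) (0x317) (Nat.ble 816 i)) (Bool.rec (motive := fun _ => Nat) (0x315) (0x313) (Nat.ble 818 i)) (Nat.ble 817 i)) (Nat.ble 815 i)) (Nat.ble 812 i)) (Nat.ble 806 i)) (Nat.ble 793 i)) (Nat.ble 767 i)) (Nat.ble 716 i)) (Nat.ble 614 i)) (Nat.ble 409 i))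

end CfsgLib.Coset.Th
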