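import Cfsg.Agent.Coset.Th.A
import Cfsg.Agent.Coset.Th.CentAData

/-!
The conjugates of the first letter in the model are in bijection with the points; its centralizer
is the stabiliser of the first point.
-/

set_option autoImplicit false
set_option maxRecDepth 100000
set_option Elab.async false

namespace CfsgLib.Coset.Th

open CfsgLib.Coset.Ly (iv ff ff_eq)

section Kernel

/-- Unpack a word. -/
noncomputable def unpW : Nat → Nat → List Nat :=
  fun n => Nat.rec (fun _ => [])
    (fun _ ih v => cond (Nat.beq v 0) []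
      (Nat.sub (Nat.land v 15) 1 :: ih (Nat.shiftRight v 4))) n

/-- A word to a point. -/
noncomputable def ptW (i : Nat) : List Nat := unpW 16 (ptP i)

/-- The conjugate of the first letter belonging to a point. -/
noncomputable def aW (i : Nat) : List Nat := invW (ptW i) ++ [0] ++ ptW i

/-- The images of the base under a word, packed. -/
noncomputable def sigB (w : List Nat) : Nat :=
  Nat.add (ff (tget TP.Tb) 26 w) (Nat.mul 1024 (Nat.add (ff (tget TP.Tb) 50 w)
    (Nat.mul 1024 (Nat.add (ff (tget TP.Tb) 1 w) (Nat.mul 1024 (ff (tget TP.Tb) 0 w))))))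

/-- All letters of the word are letters of the subgroup. -/
noncomputable def lt14 (w : List Nat) : Bool := allList (fun x => Nat.ble (Nat.add x 1) 14) w

/-- A point is reached by its word. -/
noncomputable def ptOK (i : Nat) : Bool :=
  cond (lt14 (ptW i)) (Nat.beq (ff (tget TP.Tb) 0 (ptW i)) i) false

/-- Consecutive images are increasing. -/
noncomputable def sigStep (k : Nat) : Bool :=
  cond (Nat.ble (Nat.add (sigOrd k) 1) 819)
    (cond (Nat.ble 818 k) true
      (Nat.ble (Nat.add (sigB (aW (sigOrd k))) 1) (sigB (aW (sigOrd (Nat.add k 1)))))) false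

end Kernel

theorem ptOK_all : allBelow 10 819 ptOK = true := by decide +kernel

theorem sigStep_all : allBelow 10 819 sigStep = true := by decide +kernel

theorem lt14_sound {w : List Nat} (h : lt14 w = true) : ∀ l ∈ w, l < 14 := fun l hl =>
  Nat.ble_eq.mp (allList_iff.mp h l hl)

theorem ptW_lt {i : Nat} (hi : i < 819) : ∀ l ∈ ptW i, l < 14 :=
  lt14_sound (cond_false_eq_true.mp (of_allBelow ptOK_all i hi)).1

theorem aW_lt {i : Nat} (hi : i < 819) : ∀ l ∈ aW i, l < 14 := by
  intro l hl
  simp only [aW, List.mem_append, List.mem_singleton] at hl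
  rcases hl with (hl | rfl) | hl
  · simp only [invW, List.mem_map, List.mem_reverse] at hl
    obtain ⟨m, hm, rfl⟩ := hl
    exact (pairsA m (ptW_lt hi m hm)).1
  · norm_num
  · exact ptW_lt hi l hl

/-- The first letter. -/
noncomputable abbrev aA : A := ev LA [0]

/-- The conjugate belonging to a point. -/
noncomputable def aPt (i : Fin 819) : A := ev LA (aW i)

theorem aPt_eq (i : Fin 819) : aPt i = (ev LA (ptW i))⁻¹ * aA * ev LA (ptW i) := by
  rw [aPt, aW, ev_append, ev_append, ev_invW _ (ptW_lt i.2)]

theorem sig_eq {v w : List Nat} (hv : ∀ l ∈ v, l < 14) (hw : ∀ l ∈ w, l < 14)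
    (h : ev LA v = ev LA w) : sigB v = sigB w := by
  have e : ∀ b : Fin 819, ff (tget TP.Tb) b v = ff (tget TP.Tb) b w := fun b => by
    rw [ff_eq, ff_eq, ← matches_ρ.follow_eq v b fun l hl => (hv l hl).trans_eq len_LA.symm, h,
      matches_ρ.follow_eq w b fun l hl => (hw l hl).trans_eq len_LA.symm]
  unfold sigB
  rw [show ff (tget TP.Tb) 26 v = _ from e 26, show ff (tget TP.Tb) 50 v = _ from e 50,
    show ff (tget TP.Tb) 1 v = _ from e 1, show ff (tget TP.Tb) 0 v = _ from e 0]
  rfl

theorem sigOrd_lt {k : Nat} (hk : k < 819) : sigOrd k < 819 :=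
  Nat.ble_eq.mp (cond_false_eq_true.mp (of_allBelow sigStep_all k hk)).1

theorem sig_mono : ∀ j k : Nat, j < k → k < 819 →
    sigB (aW (sigOrd j)) < sigB (aW (sigOrd k)) := by
  intro j k
  induction k with
  | zero => intro h; omega
  | succ k ih =>
    intro hjk hk
    have hs := (cond_false_eq_true.mp (of_allBelow sigStep_all k (by omega))).2
    rw [show Nat.ble 818 k = false from Bool.eq_false_iff.mpr fun h => by
      have := Nat.ble_eq.mp h; omega, cond_false] at hs
    have hs' : sigB (aW (sigOrd k)) < sigB (aW (sigOrd (k + 1))) := Nat.ble_eq.mp hs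
    rcases eq_or_lt_of_le (Nat.le_of_lt_succ hjk) with rfl | h
    · exact hs'
    · exact (ih h (by omega)).trans hs'

theorem aPt_injective : Function.Injective aPt := by
  let σ : Fin 819 → Fin 819 := fun k => ⟨sigOrd k, sigOrd_lt k.2⟩
  have hσ : Function.Injective fun k => aPt (σ k) := by
    intro j k h
    by_contra hne
    have e : sigB (aW (sigOrd j)) = sigB (aW (sigOrd k)) :=
      sig_eq (aW_lt (sigOrd_lt j.2)) (aW_lt (sigOrd_lt k.2)) h
    rcases lt_or_gt_of_ne (fun h => hne (Fin.ext h) : (j : Nat) ≠ k) with h' | h'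
    · exact absurd e (sig_mono j k h' k.2).ne
    · exact absurd e (sig_mono k j h' j.2).ne'
  have hinj : Function.Injective σ := fun j k h => hσ (congrArg aPt h)
  intro i i' h
  obtain ⟨j, rfl⟩ := Finite.injective_iff_surjective.mp hinj i
  obtain ⟨k, rfl⟩ := Finite.injective_iff_surjective.mp hinj i'
  rw [hσ h]

theorem P_comm {g : A} (hg : g ∈ P) : g * aA = aA * g := by
  induction hg using Subgroup.closure_induction with
  | mem x hx =>
    obtain ⟨w, hw, rfl⟩ := hx
    rw [← ev_append, ← ev_append]
    exact eqA_sound (allList_iff.mp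
      (show allList (fun w => eqA (w ++ [0]) ([0] ++ w)) TP.subs = true by decide +kernel) w hw)
  | one => simp
  | mul x y _ _ hx hy => exact (Commute.mul_left hx hy : Commute (x * y) aA)
  | inv x _ hx => exact (Commute.inv_left hx : Commute x⁻¹ aA)

theorem card_P_ge : 774144 ≤ Nat.card P := by
  obtain ⟨_, hc⟩ := top_table.finite_card_le (by decide) (closure_LA ▸ le_top) inferInstance le_rfl
  rw [closure_LA, Subgroup.card_top, card_and_injective.1] at hc
  omega

theorem card_centralizer_aA : Nat.card (Subgroup.centralizer {aA} : Subgroup A) = 774144 ∧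
    P = Subgroup.centralizer {aA} := by
  set C := (Subgroup.centralizer {aA} : Subgroup A)
  have hle : P ≤ C := fun g hg => Subgroup.mem_centralizer_singleton_iff.mpr (P_comm hg)
  have hidx : 819 ≤ C.index := by
    rw [Subgroup.index_eq_card]
    refine le_trans (Nat.card_fin 819).ge (Nat.card_le_card_of_injective
      (fun i : Fin 819 => (QuotientGroup.mk (ev LA (ptW i))⁻¹ : A ⧸ C)) fun i j h => ?_)
    refine aPt_injective ?_
    have hm : ev LA (ptW i) * (ev LA (ptW j))⁻¹ ∈ C := by
      have := QuotientGroup.eq.mp h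
      simpa using this
    have hc := Subgroup.mem_centralizer_singleton_iff.mp hm
    rw [aPt_eq, aPt_eq]
    calc (ev LA (ptW i))⁻¹ * aA * ev LA (ptW i)
        = (ev LA (ptW i))⁻¹ * (aA * (ev LA (ptW i) * (ev LA (ptW j))⁻¹)) * ev LA (ptW j) := by group
      _ = (ev LA (ptW i))⁻¹ * (ev LA (ptW i) * (ev LA (ptW j))⁻¹ * aA) * ev LA (ptW j) := by rw [hc]
      _ = _ := by group
  have hmul := C.card_mul_index
  rw [card_and_injective.1] at hmul
  have h1 := Subgroup.card_le_of_le hle
  have h2 := card_P_ge
  have h3 := Nat.mul_le_mul_left (Nat.card C) hidx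
  have hC : Nat.card C = 774144 := by omega
  exact ⟨hC, Subgroup.eq_of_le_of_card_ge hle (by omega)⟩

theorem exists_aPt (g : A) : ∃ i : Fin 819, g⁻¹ * aA * g = aPt i := by
  set C := (Subgroup.centralizer {aA} : Subgroup A)
  have hidx : C.index = 819 := by
    have hmul := C.card_mul_index
    rw [card_and_injective.1, card_centralizer_aA.1] at hmul
    omega
  have hinj : Function.Injective (fun i : Fin 819 => (QuotientGroup.mk (ev LA (ptW i))⁻¹ : A ⧸ C)) := by
    intro i j h
    refine aPt_injective ?_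
    have hm : ev LA (ptW i) * (ev LA (ptW j))⁻¹ ∈ C := by
      have := QuotientGroup.eq.mp h
      simpa using this
    have hc := Subgroup.mem_centralizer_singleton_iff.mp hm
    rw [aPt_eq, aPt_eq]
    calc (ev LA (ptW i))⁻¹ * aA * ev LA (ptW i)
        = (ev LA (ptW i))⁻¹ * (aA * (ev LA (ptW i) * (ev LA (ptW j))⁻¹)) * ev LA (ptW j) := by group
      _ = (ev LA (ptW i))⁻¹ * (ev LA (ptW i) * (ev LA (ptW j))⁻¹ * aA) * ev LA (ptW j) := by rw [hc]
      _ = _ := by group
  have hbij := hinj.bijective_of_nat_card_le (by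
    rw [← Subgroup.index_eq_card, hidx, Nat.card_fin])
  obtain ⟨i, hi⟩ := hbij.2 (QuotientGroup.mk g⁻¹)
  refine ⟨i, ?_⟩
  have hm : ev LA (ptW i) * g⁻¹ ∈ C := by
    have := QuotientGroup.eq.mp hi
    simpa using this
  have hc := Subgroup.mem_centralizer_singleton_iff.mp hm
  rw [aPt_eq]
  calc g⁻¹ * aA * g = (ev LA (ptW i))⁻¹ * (ev LA (ptW i) * g⁻¹ * aA) * g := by group
    _ = (ev LA (ptW i))⁻¹ * (aA * (ev LA (ptW i) * g⁻¹)) * g := by rw [hc]
    _ = _ := by group

end CfsgLib.Coset.Th
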