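import Cfsg.Agent.BPres.Carmichael
import Cfsg.Agent.Monster.ExtraBasics
import Cfsg.Agent.LargeExtra.SimpleCriterion
import Mathlib.GroupTheory.SpecificGroups.Alternating.Simple
import Mathlib.GroupTheory.QuotientGroup.Basic
import Mathlib.GroupTheory.Index

/-!
An involution with a subgroup of order 512 in its centralizer, normalised by seven elements satisfying
Carmichael's relations modulo it, and with centralizer of order at most `2 ^ 9 * 181440`.
-/

set_option autoImplicit false
set_option linter.style.haveILetI false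
set_option linter.unusedSectionVars false

namespace CfsgLib.Coset.Th.CentAbs

open CfsgLib.BPres

/-- Seven elements indexed by the points other than the last two. -/
def extend9 {M : Type*} [One M] (y : Fin 7 → M) (i : Fin 9) : M :=
  if h : (i : ℕ) < 7 then y ⟨i, h⟩ else 1

theorem extend9_spec {M : Type*} [One M] (y : Fin 7 → M) (i : Fin 9) (h1 : i ≠ 7) (h2 : i ≠ 8) :
    ∃ k : Fin 7, (k : ℕ) = i ∧ extend9 y i = y k := by
  have hi : (i : ℕ) < 7 := by
    rcases Nat.lt_or_ge (i : ℕ) 7 with h | h
    · exact h
    · have := i.2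
      rcases (show (i : ℕ) = 7 ∨ (i : ℕ) = 8 by omega) with h' | h'
      · exact absurd (Fin.ext h') h1
      · exact absurd (Fin.ext h') h2
  exact ⟨⟨i, hi⟩, rfl, by simp [extend9, hi]⟩

variable {G : Type*} [Group G] [Finite G]

/-- A subgroup normal in its join with seven elements satisfying Carmichael's relations modulo it
has a quotient isomorphic to the alternating group, filling the centralizer. -/
theorem quotient_alt {z : G} {Q : Subgroup G} {x : Fin 7 → G}
    (hQz : Q ≤ Subgroup.centralizer {z}) (hxz : ∀ i, x i ∈ Subgroup.centralizer {z})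
    (hn : ∀ i, ∀ q ∈ Q, x i * q * (x i)⁻¹ ∈ Q) (h3 : ∀ i, x i ^ 3 ∈ Q)
    (h2 : ∀ i j, i ≠ j → (x i * x j) ^ 2 ∈ Q) (h0 : x 0 ∉ Q) (hQ : Nat.card Q = 512)
    (hC : Nat.card (Subgroup.centralizer {z}) ≤ 92897280) :
    ∃ (_ : (Q.subgroupOf (Subgroup.centralizer {z})).Normal),
      Nonempty (Subgroup.centralizer {z} ⧸ Q.subgroupOf (Subgroup.centralizer {z}) ≃*
        alternatingGroup (Fin 9)) := by
  classical
  set C := Subgroup.centralizer ({z} : Set G)
  -- everything happens inside the normaliser of the subgroup in the centralizer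
  set N := Subgroup.normalizer (Q : Set G) ⊓ C
  have hQN : Q ≤ N := le_inf Subgroup.le_normalizer hQz
  have hxN : ∀ i, x i ∈ N := fun i => by
    refine ⟨?_, hxz i⟩
    have hle : Q.map (MulAut.conj (x i)).toMonoidHom ≤ Q := by
      rintro _ ⟨q, hq, rfl⟩
      exact hn i q hq
    have he := Subgroup.eq_of_le_of_card_ge hle
      (by rw [Subgroup.card_map_of_injective (MulEquiv.injective _)])
    refine Subgroup.mem_normalizer_iff.mpr fun q => ?_
    refine ⟨fun hq => hn i q hq, fun hq => ?_⟩
    obtain ⟨q', hq', e⟩ : x i * q * (x i)⁻¹ ∈ Q.map (MulAut.conj (x i)).toMonoidHom := by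
      rw [he]; exact hq
    have : q' = q := by simpa using e
    exact this ▸ hq'
  set R := Q.subgroupOf N
  haveI : R.Normal := ⟨fun n hn' g => (Subgroup.mem_normalizer_iff.mp g.2.1 (n : G)).mp hn'⟩
  let y : Fin 7 → N := fun i => ⟨x i, hxN i⟩
  let w : Fin 9 → N ⧸ R := extend9 fun i => QuotientGroup.mk' R (y i)
  obtain ⟨φ, hφ⟩ := carmichael (a := (7 : Fin 9)) (b := 8) (by decide) w
    (fun i h1 h2' => by
      obtain ⟨k, -, hk⟩ := extend9_spec (fun i => QuotientGroup.mk' R (y i)) i h1 h2'
      rw [show w i = _ from hk, ← map_pow]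
      exact (QuotientGroup.eq_one_iff _).mpr (h3 k))
    (fun i j h1 h2' h3' h4 hij => by
      obtain ⟨k, hk', hk⟩ := extend9_spec (fun i => QuotientGroup.mk' R (y i)) i h1 h2'
      obtain ⟨l, hl', hl⟩ := extend9_spec (fun i => QuotientGroup.mk' R (y i)) j h3' h4
      rw [show w i = _ from hk, show w j = _ from hl, ← map_mul, ← map_pow]
      refine (QuotientGroup.eq_one_iff _).mpr (h2 k l fun e => hij (Fin.ext ?_))
      rw [← hk', ← hl', e])
  haveI := alternatingGroup.isSimpleGroup (α := Fin 9) (by simp)
  have hinj : Function.Injective φ := by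
    rw [← MonoidHom.ker_eq_bot_iff]
    rcases (inferInstance : IsSimpleGroup (alternatingGroup (Fin 9))).eq_bot_or_eq_top_of_normal
      φ.ker inferInstance with h | h
    · exact h
    exfalso
    have h0' := hφ 0 (by decide) (by decide)
    rw [MonoidHom.mem_ker.mp (h ▸ Subgroup.mem_top (cyc (7 : Fin 9) 8 0) :
      cyc (7 : Fin 9) 8 0 ∈ φ.ker)] at h0'
    obtain ⟨k, hk', hk⟩ := extend9_spec (fun i => QuotientGroup.mk' R (y i)) 0 (by decide) (by decide)
    obtain rfl : k = 0 := Fin.ext (by simpa using hk')
    rw [show w 0 = _ from hk] at h0'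
    exact h0 ((QuotientGroup.eq_one_iff (y 0)).mp h0'.symm)
  have hA : Nat.card (alternatingGroup (Fin 9)) = 181440 := by
    have h4 := two_mul_nat_card_alternatingGroup (α := Fin 9)
    rw [Nat.card_perm, Nat.card_fin] at h4
    have : Nat.factorial 9 = 362880 := rfl
    omega
  have hR : Nat.card R = 512 := by
    rw [← hQ]
    exact Nat.card_congr (Subgroup.subgroupOfEquivOfLe hQN).toEquiv
  have hNC : N = C := by
    refine Subgroup.eq_of_le_of_card_ge inf_le_right (hC.trans ?_)
    rw [← R.card_mul_index, hR, Subgroup.index_eq_card]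
    have := Nat.card_le_card_of_injective φ hinj
    rw [hA] at this
    omega
  have hbij : Function.Bijective φ := by
    refine hinj.bijective_of_nat_card_le ?_
    have e := R.card_mul_index
    rw [hR, Subgroup.index_eq_card] at e
    have : Nat.card N ≤ 92897280 := by rw [hNC]; exact hC
    rw [hA]
    omega
  haveI hnorm : (Q.subgroupOf C).Normal := by
    rw [← hNC]
    infer_instance
  refine ⟨hnorm, ⟨(QuotientGroup.congr R (Q.subgroupOf C) (MulEquiv.subgroupCongr hNC) ?_).symm.trans
    (MulEquiv.ofBijective φ hbij).symm⟩⟩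
  ext g
  constructor
  · rintro ⟨n, hn', rfl⟩
    exact hn'
  · intro hg
    exact ⟨⟨g, hNC.ge g.2⟩, hg, rfl⟩

/-- The statement about a centralizer of an involution as in the classification, from generators
of the subgroup. -/
theorem centralizer_structure {z : G} (hz : orderOf z = 2) {Q : Subgroup G} {x : Fin 7 → G}
    (hQz : Q ≤ Subgroup.centralizer {z}) (hxz : ∀ i, x i ∈ Subgroup.centralizer {z})
    (hn : ∀ i, ∀ q ∈ Q, x i * q * (x i)⁻¹ ∈ Q) (h3 : ∀ i, x i ^ 3 ∈ Q)
    (h2 : ∀ i j, i ≠ j → (x i * x j) ^ 2 ∈ Q) (h0 : x 0 ∉ Q) (hQ : Nat.card Q = 512)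
    (hE : Cfsg.IsExtraspecial 2 Q)
    (hC : Nat.card (Subgroup.centralizer {z}) ≤ 92897280) :
    orderOf z = 2 ∧ ∃ (R : Subgroup (Subgroup.centralizer ({z} : Set G))) (_ : R.Normal),
      Nat.card R = 2 ^ 9 ∧ Cfsg.IsExtraspecial 2 R ∧
        Nonempty ((Subgroup.centralizer ({z} : Set G)) ⧸ R ≃* alternatingGroup (Fin 9)) := by
  obtain ⟨hnorm, hiso⟩ := quotient_alt hQz hxz hn h3 h2 h0 hQ hC
  exact ⟨hz, Q.subgroupOf _, hnorm,
    (Nat.card_congr (Subgroup.subgroupOfEquivOfLe hQz).toEquiv).trans hQ,
    CfsgLib.LargeExtra.isExtraspecial_equiv (Subgroup.subgroupOfEquivOfLe hQz).symm hE, hiso⟩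

/-- A subgroup generated by a set whose squares and commutators lie in a central subgroup of order
two, equal to the centre, is extraspecial. -/
theorem isExtraspecial_closure {z : G} (hz : orderOf z = 2) {S : Set G} {Q : Subgroup G}
    (hQ : Q = Subgroup.closure S) (hzQ : z ∈ Q) (hzc : ∀ g ∈ S, g * z = z * g)
    (hsq : ∀ g ∈ S, g * g = 1 ∨ g * g = z)
    (hcomm : ∀ g ∈ S, ∀ h ∈ S, g * h = h * g ∨ g * h = z * (h * g))
    (hcen : ∀ g ∈ Q, (∀ h ∈ S, g * h = h * g) → g = 1 ∨ g = z) (hne : ∃ g ∈ S, g ≠ 1 ∧ g ≠ z) :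
    Cfsg.IsExtraspecial 2 Q := by
  classical
  subst hQ
  set Q := Subgroup.closure S
  haveI : Fact (Nat.Prime 2) := ⟨Nat.prime_two⟩
  have hz2 : z * z = 1 := by rw [← pow_two, ← hz, pow_orderOf_eq_one]
  have hzall : ∀ g ∈ Q, g * z = z * g := by
    intro g hg
    induction hg using Subgroup.closure_induction with
    | mem x hx => exact hzc x hx
    | one => simp
    | mul a b _ _ ha hb => exact (Commute.mul_left ha hb : Commute (a * b) z)
    | inv a _ ha => exact (Commute.inv_left ha : Commute a⁻¹ z)
  have hpair : ∀ g ∈ Q, ∀ h ∈ Q, g * h = h * g ∨ g * h = z * (h * g) := by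
    intro g hg h hh
    induction hh using Subgroup.closure_induction generalizing g with
    | mem y hy =>
      induction hg using Subgroup.closure_induction with
      | mem x hx => exact hcomm x hx y hy
      | one => simp
      | mul a b ha _ iha ihb =>
        have hz' := hzall a ha
        rcases iha with e | e <;> rcases ihb with f | f
        · left; rw [mul_assoc, f, ← mul_assoc, e, mul_assoc]
        · right
          rw [mul_assoc, f, ← mul_assoc a z, hz', mul_assoc z a, ← mul_assoc a y, e, mul_assoc]
        · right; rw [mul_assoc, f, ← mul_assoc, e]; simp only [mul_assoc]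
        · left
          rw [mul_assoc, f, ← mul_assoc a z, hz', mul_assoc z a, ← mul_assoc a y, e]
          simp only [mul_assoc]
          rw [← mul_assoc z z, hz2, one_mul]
      | inv a ha iha =>
        have hz' : z * a⁻¹ = a⁻¹ * z := ((hzall a⁻¹ (inv_mem ha))).symm
        rcases iha with e | e
        · left
          exact (Commute.inv_left e : Commute a⁻¹ y)
        · right
          have : y * a = z * (a * y) := by rw [e, ← mul_assoc z z, hz2, one_mul]
          calc a⁻¹ * y = a⁻¹ * (y * a) * a⁻¹ := by group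
            _ = a⁻¹ * z * a * y * a⁻¹ := by rw [this]; group
            _ = z * a⁻¹ * a * y * a⁻¹ := by rw [hz']
            _ = z * (y * a⁻¹) := by group
    | one => simp
    | mul a b ha _ iha ihb =>
      have hz' := hzall a ha
      rcases iha g hg with e | e <;> rcases ihb g hg with f | f
      · left; rw [← mul_assoc, e, mul_assoc, f, mul_assoc]
      · right
        rw [← mul_assoc, e, mul_assoc, f, ← mul_assoc a z, hz']; simp only [mul_assoc]
      · right; rw [← mul_assoc, e]; simp only [mul_assoc]; rw [f]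
      · left
        rw [← mul_assoc, e]; simp only [mul_assoc]; rw [f, ← mul_assoc a z, hz']
        simp only [mul_assoc]
        rw [← mul_assoc z z, hz2, one_mul]
    | inv a ha iha =>
      have hz' : z * a⁻¹ = a⁻¹ * z := ((hzall a⁻¹ (inv_mem ha))).symm
      rcases iha g hg with e | e
      · left
        exact (Commute.inv_right e : Commute g a⁻¹)
      · right
        have : a * g = z * (g * a) := by rw [e, ← mul_assoc z z, hz2, one_mul]
        calc g * a⁻¹ = a⁻¹ * (a * g) * a⁻¹ := by group
          _ = a⁻¹ * z * g * a * a⁻¹ := by rw [this]; group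
          _ = z * a⁻¹ * g * a * a⁻¹ := by rw [hz']
          _ = z * (a⁻¹ * g) := by group
  have hsq' : ∀ g ∈ Q, g * g = 1 ∨ g * g = z := by
    intro g hg
    induction hg using Subgroup.closure_induction with
    | mem x hx => exact hsq x hx
    | one => simp
    | mul a b ha hb iha ihb =>
      have hz' := hzall a ha
      have key : a * b * (a * b) = a * a * (b * b) ∨ a * b * (a * b) = z * (a * a * (b * b)) := by
        rcases hpair b hb a ha with e | e
        · left; rw [mul_assoc a b, ← mul_assoc b a, e]; group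
        · right
          rw [mul_assoc a b, ← mul_assoc b a, e, ← mul_assoc a, ← mul_assoc a, hz']
          simp only [mul_assoc]
      rcases iha with e | e <;> rcases ihb with f | f <;> rcases key with k | k <;>
        simp [e, f, hz2] at k ⊢ <;> simp [k]
    | inv a _ iha =>
      rcases iha with e | e
      · left; rw [← mul_inv_rev, e, inv_one]
      · right
        rw [← mul_inv_rev, e]
        exact inv_eq_of_mul_eq_one_right hz2
  let w : Q := ⟨z, hzQ⟩
  have hw : w ≠ 1 := fun h => by
    have : z = 1 := congrArg Subtype.val h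
    rw [this, orderOf_one] at hz
    exact absurd hz (by norm_num)
  have hcenter : ∀ g : Q, g ∈ Subgroup.center Q ↔ g = 1 ∨ g = w := by
    intro g
    constructor
    · intro hg
      rcases hcen g g.2 fun h hh => (congrArg Subtype.val
        (Subgroup.mem_center_iff.mp hg ⟨h, Subgroup.subset_closure hh⟩)).symm with e | e
      · exact Or.inl (Subtype.ext e)
      · exact Or.inr (Subtype.ext e)
    · rintro (rfl | rfl)
      · exact one_mem _
      · exact Subgroup.mem_center_iff.mpr fun h => Subtype.ext (hzall h h.2)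
  have hzmem : ∀ g : Q, ((g : G) = 1 ∨ (g : G) = z) → g ∈ Subgroup.center Q := fun g h =>
    (hcenter g).mpr (h.imp (fun e => Subtype.ext e) fun e => Subtype.ext e)
  refine CfsgLib.Monster.isExtraspecial_of ?_ ?_ ?_ ?_ ?_
  · intro g
    refine ⟨2, Subtype.ext ?_⟩
    show (g : G) ^ (2 ^ 2) = 1
    rw [show (2 : ℕ) ^ 2 = 2 * 2 by norm_num, pow_mul, pow_two (g : G)]
    rcases hsq' g g.2 with e | e <;> rw [e]
    · exact one_pow _
    · rw [pow_two, hz2]
  · have e : (Subgroup.center Q : Set Q) = {1, w} := by
      ext g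
      simp [hcenter g]
    have : (Subgroup.center Q : Set Q).ncard = 2 := by rw [e]; exact Set.ncard_pair hw.symm
    exact (Nat.card_coe_set_eq _).trans this
  · intro a b
    refine hzmem _ ?_
    rcases hpair a a.2 b b.2 with e | e
    · left; show (a : G) * b * (a : G)⁻¹ * (b : G)⁻¹ = 1; rw [e]; group
    · right; show (a : G) * b * (a : G)⁻¹ * (b : G)⁻¹ = z; rw [e]; group
  · exact fun a => hzmem _ (hsq' a a.2)
  · obtain ⟨g, hg, h1, h2⟩ := hne
    by_contra hall
    push Not at hall
    have hm := Subgroup.subset_closure (k := S) hg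
    rcases hcen g hm fun h hh =>
      congrArg Subtype.val (hall ⟨g, hm⟩ ⟨h, Subgroup.subset_closure hh⟩) with e | e
    · exact h1 e
    · exact h2 e

end CfsgLib.Coset.Th.CentAbs
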