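import Mathlib.GroupTheory.Coset.Card
import Mathlib.GroupTheory.Subgroup.Centralizer
import Mathlib.Algebra.Order.BigOperators.Group.Finset
import Mathlib.Data.Set.Card.Arithmetic
import Mathlib.Tactic.Group

/-!
An upper bound for the centralizer of the image of an element of a subgroup from the double cosets of
the subgroup.
-/

set_option autoImplicit false

namespace CfsgLib.Coset.Th.CentCount

variable {A G : Type*} [Group A] [Group G] [Finite A] [Finite G] (Ψ : A →* G)

/-- The coset of a node moved by an element of the subgroup. -/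
def cst (w : G) (α : A) : G ⧸ Ψ.range := QuotientGroup.mk (w * Ψ α)⁻¹

theorem cst_eq_iff (w : G) (α β : A) :
    cst Ψ w α = cst Ψ w β ↔ w * Ψ (α * β⁻¹) * w⁻¹ ∈ Ψ.range := by
  rw [cst, cst, QuotientGroup.eq, inv_inv, map_mul, map_inv, mul_inv_rev]
  simp only [mul_assoc]

/-- The cosets in one node fixed with the given class. -/
theorem ncard_image_le (w : G) (St : Subgroup A)
    (hSt : ∀ α, α ∈ St ↔ w * Ψ α * w⁻¹ ∈ Ψ.range) (a : A) (T : Finset A)
    (hT : ∀ s ∈ St, ∀ y ∈ T, s * y * s⁻¹ ∈ T) :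
    (cst Ψ w '' {α | α * a * α⁻¹ ∈ T}).ncard * Nat.card St ≤
      T.card * Nat.card (Subgroup.centralizer {a} : Subgroup A) := by
  classical
  set U : Set A := {α | α * a * α⁻¹ ∈ T}
  have h1 : (cst Ψ w '' U).ncard * Nat.card St ≤ U.ncard := by
    have hsec : ∀ q : cst Ψ w '' U, ∃ α ∈ U, cst Ψ w α = q.1 := fun q => q.2
    choose sec hsecU hsec using hsec
    let f : (cst Ψ w '' U) × St → U := fun p => ⟨p.2 * sec p.1, by
      have := hT _ p.2.2 _ (hsecU p.1)
      show (p.2 : A) * sec p.1 * a * ((p.2 : A) * sec p.1)⁻¹ ∈ T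
      rw [mul_inv_rev]
      simpa [mul_assoc] using this⟩
    have hf : Function.Injective f := by
      rintro ⟨q, s⟩ ⟨q', s'⟩ h
      have h' : (s : A) * sec q = s' * sec q' := congrArg Subtype.val h
      have hq : q = q' := by
        refine Subtype.ext ?_
        rw [← hsec q, ← hsec q', cst_eq_iff]
        refine (hSt _).mp ?_
        have e : sec q * (sec q')⁻¹ = (s : A)⁻¹ * s' := by
          rw [eq_inv_mul_iff_mul_eq, ← mul_assoc, h', mul_inv_cancel_right]
        rw [e]
        exact mul_mem (inv_mem s.2) s'.2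
      subst hq
      exact Prod.ext rfl (Subtype.ext (mul_right_cancel h'))
    have := Nat.card_le_card_of_injective f hf
    rwa [Nat.card_prod, Nat.card_coe_set_eq, Nat.card_coe_set_eq] at this
  refine h1.trans ?_
  have hex : ∀ α : U, ∃ y : T, (α : A) * a * (α : A)⁻¹ = y := fun α => ⟨⟨_, α.2⟩, rfl⟩
  choose im him using hex
  have hrep : ∀ y : T, ∃ β : A, (∃ α : U, im α = y) → β * a * β⁻¹ = y := by
    intro y
    by_cases h : ∃ α : U, im α = y
    · obtain ⟨α, rfl⟩ := h
      exact ⟨α, fun _ => him α⟩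
    · exact ⟨1, fun h' => absurd h' h⟩
  choose β hβ using hrep
  let g : U → T × (Subgroup.centralizer {a} : Subgroup A) := fun α =>
    (im α, ⟨(β (im α))⁻¹ * α, by
      rw [Subgroup.mem_centralizer_singleton_iff]
      have h1 := hβ (im α) ⟨α, rfl⟩
      rw [← him α] at h1
      calc (β (im α))⁻¹ * α * a = (β (im α))⁻¹ * ((α : A) * a * (α : A)⁻¹) * α := by group
        _ = (β (im α))⁻¹ * (β (im α) * a * (β (im α))⁻¹) * α := by rw [h1]
        _ = a * ((β (im α))⁻¹ * α) := by group⟩)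
  have hg : Function.Injective g := by
    intro α α' h
    have e1 : im α = im α' := congrArg Prod.fst h
    have e2 : (β (im α))⁻¹ * (α : A) = (β (im α'))⁻¹ * α' :=
      congrArg (fun p => (p.2 : A)) h
    rw [e1] at e2
    exact Subtype.ext (mul_left_cancel e2)
  have := Nat.card_le_card_of_injective g hg
  rwa [Nat.card_prod, Nat.card_coe_set_eq, Nat.card_eq_finsetCard] at this

/-- The bound. -/
theorem card_centralizer_le (hΨ : Function.Injective Ψ) {m : ℕ} (w : Fin m → G)
    (hcover : ∀ g : G, ∃ n α, g * (w n * Ψ α)⁻¹ ∈ Ψ.range) (St : Fin m → Subgroup A)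
    (hSt : ∀ n α, α ∈ St n ↔ w n * Ψ α * (w n)⁻¹ ∈ Ψ.range) (a : A) (T : Fin m → Finset A)
    (hinv : ∀ n, ∀ s ∈ St n, ∀ y ∈ T n, s * y * s⁻¹ ∈ T n)
    (hT : ∀ n (γ β : A), w n * Ψ (γ * a * γ⁻¹) * (w n)⁻¹ = Ψ (β * a * β⁻¹) → γ * a * γ⁻¹ ∈ T n)
    (B : Fin m → ℕ) (hB : ∀ n, (T n).card * Nat.card (Subgroup.centralizer {a} : Subgroup A) ≤
      B n * Nat.card (St n)) :
    Nat.card (Subgroup.centralizer {Ψ a}) ≤
      (∑ n, B n) * Nat.card (Subgroup.centralizer {a} : Subgroup A) := by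
  classical
  set O : Set (G ⧸ Ψ.range) := ⋃ n, cst Ψ (w n) '' {α | α * a * α⁻¹ ∈ T n}
  have hO : O.ncard ≤ ∑ n, B n := by
    refine (Set.ncard_iUnion_le_of_fintype _).trans (Finset.sum_le_sum fun n _ => ?_)
    refine Nat.le_of_mul_le_mul_right ((ncard_image_le Ψ (w n) (St n) (hSt n) a (T n) (hinv n)).trans
      (hB n)) Nat.card_pos
  set C := Subgroup.centralizer {Ψ a}
  have hmem : ∀ c : C, (QuotientGroup.mk (c : G)⁻¹ : G ⧸ Ψ.range) ∈ O := by
    intro c
    obtain ⟨n, α, h, hh⟩ := hcover c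
    have hc : (c : G) = Ψ h * (w n * Ψ α) := by rw [hh, inv_mul_cancel_right]
    refine Set.mem_iUnion.mpr ⟨n, α, hT n α h⁻¹ ?_, ?_⟩
    · have hcz : (c : G) * Ψ a * (c : G)⁻¹ = Ψ a := by
        rw [Subgroup.mem_centralizer_singleton_iff.mp c.2, mul_inv_cancel_right]
      rw [hc] at hcz
      simp only [map_mul, map_inv, inv_inv]
      conv_rhs => rw [← hcz]
      group
    · rw [cst, QuotientGroup.eq, inv_inv, hc]
      refine ⟨h⁻¹, ?_⟩
      rw [map_inv]; group
  let F : C → O := fun c => ⟨_, hmem c⟩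
  have hfib : ∀ c d : C, F c = F d → (c : G) * (d : G)⁻¹ ∈ Ψ.range := fun c d h => by
    have := QuotientGroup.eq.mp (congrArg Subtype.val h)
    simpa using this
  have hsec : ∀ q : O, ∃ d : C, (∃ c, F c = q) → F d = q := fun q => by
    by_cases h : ∃ c, F c = q
    · exact ⟨h.choose, fun _ => h.choose_spec⟩
    · exact ⟨1, fun h' => absurd h' h⟩
  choose sec hsec using hsec
  have hk : ∀ c : C, ∃ k : (Subgroup.centralizer {a} : Subgroup A),
      Ψ (k : A) = (c : G) * (sec (F c) : G)⁻¹ := fun c => by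
    obtain ⟨k, hk⟩ := hfib c (sec (F c)) (hsec _ ⟨c, rfl⟩).symm
    refine ⟨⟨k, Subgroup.mem_centralizer_singleton_iff.mpr (hΨ ?_)⟩, hk⟩
    rw [map_mul, map_mul, hk]
    exact Subgroup.mem_centralizer_singleton_iff.mp (mul_mem c.2 (inv_mem (sec (F c)).2))
  choose k hk using hk
  have hinj : Function.Injective fun c => (F c, k c) := by
    intro c d h
    have e1 : F c = F d := congrArg Prod.fst h
    have e2 : k c = k d := congrArg Prod.snd h
    have h1 := hk c
    rw [e2, hk d, e1] at h1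
    exact Subtype.ext (mul_right_cancel h1).symm
  have := Nat.card_le_card_of_injective _ hinj
  rw [Nat.card_prod, Nat.card_coe_set_eq] at this
  exact this.trans (Nat.mul_le_mul_right _ hO)

end CfsgLib.Coset.Th.CentCount
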