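import Cfsg.Agent.Coset.Prim

/-! Certificate data for the conjugates of the first letter at the ten nodes other than the first. -/

set_option autoImplicit false
set_option maxRecDepth 100000
set_option linter.unusedVariables false

namespace CfsgLib.Coset.Th

/-- Forest of the points at node 1. -/
noncomputable def tPar1 (i : Nat) : Nat := (Bool.rec (motive := fun _ => Nat) (Bool.rec (motive := fun _ => Nat) (Bool.rec (motive := fun _ => Nat) (Bool.rec (motive := fun _ => Nat) (Bool.rec (motive := fun _ => Nat) (Bool.rec (motive := fun _ => Nat) (Bool.rec (motive := fun _ => Nat) (Bool.rec (motive := fun _ => Nat) (Bool.rec (motive := fun _ => Nat) (14336) (Bool.rec (motive := fun _ => Nat) (15361) (5123) (Nat.ble 2 i)) (Nat.ble 1 i)) (Bool.rec (motive := fun _ => Nat) (1) (Bool.rec (motive := fun _ => Nat) (2) (3073) (Nat.ble 5 i)) (Nat.ble 4 i)) (Nat.ble 3 i)) (Bool.rec (motive := fun _ => Nat) (Bool.rec (motive := fun _ => Nat) (14342) (Bool.rec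 (motive := fun _ => Nat) (11) (5) (Nat.ble 8 i)) (Nat.ble 7 i)) (Bool.rec (motive := fun _ => Nat) (1029) (Bool.rec (motive := fun _ => Nat) (15370) (3075) (Nat.ble 11 i)) (Nat.ble 10 i)) (Nat.ble 9 i)) (Nat.ble 6 i)) (Bool.rec (motive := fun _ => Nat) (Bool.rec (motive := fun _ => Nat) (Bool.rec (motive := fun _ => Nat) (1031) (Bool.rec (motive := fun _ => Nat) (5130) (1032) (Nat.ble 14 i)) (Nat.ble 13 i)) (Bool.rec (motive := fun _ => Nat) (4127) (Bool.rec (motive := fun _ => Nat) (4101) (10) (Nat.ble 17 i)) (Nat.ble 16 i)) (Nat.ble 15 i)) (Bool.rec (motive := fun _ => Nat) (Bool.rec (motive := fun _ => Nat) (1034) (Bool.rec (motive := fun _ => Nat) (5125) (1035) (Nat.ble 20 i)) (Nat.ble 19 i)) (Bool.rec (motive := fun _ => Nat) (Bool.rec (motive := fun _ => Nat) (4141) (4103) (Nat.ble 22 i)) (Bool.rec (motive := fun _ => Nat) (5137) (5138) (Nat.ble 24 i)) (Nat.ble 23 i)) (Nat.ble 21 i)) (Nat.ble 18 i)) (Nat.ble 12 i)) (Bool.rec (motive :=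 fun _ => Nat) (Bool.rec (motive := fun _ => Nat) (Bool.rec (motive := fun _ => Nat) (Bool.rec (motive := fun _ => Nat) (3081) (Bool.rec (motive := fun _ => Nat) (4152) (4104) (Nat.ble 27 i)) (Nat.ble 26 i)) (Bool.rec (motive := fun _ => Nat) (2079) (Bool.rec (motive := fun _ => Nat) (4105) (2077) (Nat.ble 30 i)) (Nat.ble 29 i)) (Nat.ble 28 i)) (Bool.rec (motive := fun _ => Nat) (Bool.rec (motive := fun _ => Nat) (2064) (Bool.rec (motive := fun _ => Nat) (19) (14369) (Nat.ble 33 i)) (Nat.ble 32 i)) (Bool.rec (motive := fun _ => Nat) (Bool.rec (motive := fun _ => Nat) (1041) (4161) (Nat.ble 35 i)) (Bool.rec (motive := fun _ => Nat) (4106) (5128) (Nat.ble 37 i)) (Nat.ble 36 i)) (Nat.ble 34 i)) (Nat.ble 31 i)) (Bool.rec (motive := fun _ => Nat) (Bool.rec (motive := fun _ => Nat) (Bool.rec (motive := fun _ => Nat) (5129) (Bool.rec (motive := fun _ => Nat) (1049) (4172) (Nat.ble 40 i)) (Nat.ble 39 i)) (Bool.rec (motive := fun _ => Nat) (4107) (Bool.rec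 (motive := fun _ => Nat) (2093) (4108) (Nat.ble 43 i)) (Nat.ble 42 i)) (Nat.ble 41 i)) (Bool.rec (motive := fun _ => Nat) (Bool.rec (motive := fun _ => Nat) (2091) (Bool.rec (motive := fun _ => Nat) (2070) (5154) (Nat.ble 46 i)) (Nat.ble 45 i)) (Bool.rec (motive := fun _ => Nat) (Bool.rec (motive := fun _ => Nat) (1091) (5155) (Nat.ble 48 i)) (Bool.rec (motive := fun _ => Nat) (5156) (3092) (Nat.ble 50 i)) (Nat.ble 49 i)) (Nat.ble 47 i)) (Nat.ble 44 i)) (Nat.ble 38 i)) (Nat.ble 25 i)) (Bool.rec (motive := fun _ => Nat) (Bool.rec (motive := fun _ => Nat) (Bool.rec (motive := fun _ => Nat) (Bool.rec (motive := fun _ => Nat) (Bool.rec (motive := fun _ => Nat) (3087) (Bool.rec (motive := fun _ => Nat) (3088) (2104) (Nat.ble 53 i)) (Nat.ble 52 i)) (Bool.rec (motive := fun _ => Nat) (4110) (Bool.rec (motive := fun _ => Nat) (2102) (2075) (Nat.ble 56 i)) (Nat.ble 55 i)) (Nat.ble 54 i)) (Bool.rec (motive := fun _ => Nat) (Bool.rec (motive := fun _ =>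 Nat) (5131) (Bool.rec (motive := fun _ => Nat) (3085) (38) (Nat.ble 59 i)) (Nat.ble 58 i)) (Bool.rec (motive := fun _ => Nat) (4199) (Bool.rec (motive := fun _ => Nat) (4113) (2113) (Nat.ble 62 i)) (Nat.ble 61 i)) (Nat.ble 60 i)) (Nat.ble 57 i)) (Bool.rec (motive := fun _ => Nat) (Bool.rec (motive := fun _ => Nat) (Bool.rec (motive := fun _ => Nat) (4114) (Bool.rec (motive := fun _ => Nat) (2111) (2084) (Nat.ble 65 i)) (Nat.ble 64 i)) (Bool.rec (motive := fun _ => Nat) (5134) (Bool.rec (motive := fun _ => Nat) (3131) (5135) (Nat.ble 68 i)) (Nat.ble 67 i)) (Nat.ble 66 i)) (Bool.rec (motive := fun _ => Nat) (Bool.rec (motive := fun _ => Nat) (5136) (Bool.rec (motive := fun _ => Nat) (3086) (3093) (Nat.ble 71 i)) (Nat.ble 70 i)) (Bool.rec (motive := fun _ => Nat) (Bool.rec (motive := fun _ => Nat) (4148) (2124) (Nat.ble 73 i)) (Bool.rec (motive := fun _ => Nat) (4116) (2122) (Nat.ble 75 i)) (Nat.ble 74 i)) (Nat.ble 72 i)) (Nat.ble 69 i)) (Nat.ble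 63 i)) (Bool.rec (motive := fun _ => Nat) (Bool.rec (motive := fun _ => Nat) (Bool.rec (motive := fun _ => Nat) (Bool.rec (motive := fun _ => Nat) (2089) (Bool.rec (motive := fun _ => Nat) (1128) (5180) (Nat.ble 78 i)) (Nat.ble 77 i)) (Bool.rec (motive := fun _ => Nat) (5181) (Bool.rec (motive := fun _ => Nat) (1131) (4462) (Nat.ble 81 i)) (Nat.ble 80 i)) (Nat.ble 79 i)) (Bool.rec (motive := fun _ => Nat) (Bool.rec (motive := fun _ => Nat) (4205) (Bool.rec (motive := fun _ => Nat) (5182) (5183) (Nat.ble 84 i)) (Nat.ble 83 i)) (Bool.rec (motive := fun _ => Nat) (Bool.rec (motive := fun _ => Nat) (5184) (5185) (Nat.ble 86 i)) (Bool.rec (motive := fun _ => Nat) (3336) (3112) (Nat.ble 88 i)) (Nat.ble 87 i)) (Nat.ble 85 i)) (Nat.ble 82 i)) (Bool.rec (motive := fun _ => Nat) (Bool.rec (motive := fun _ => Nat) (Bool.rec (motive := fun _ => Nat) (3113) (Bool.rec (motive := fun _ => Nat) (1075) (3101) (Nat.ble 91 i)) (Nat.ble 90 i)) (Bool.rec (motive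 := fun _ => Nat) (3102) (Bool.rec (motive := fun _ => Nat) (1076) (3103) (Nat.ble 94 i)) (Nat.ble 93 i)) (Nat.ble 92 i)) (Bool.rec (motive := fun _ => Nat) (Bool.rec (motive := fun _ => Nat) (3100) (Bool.rec (motive := fun _ => Nat) (3095) (5140) (Nat.ble 97 i)) (Nat.ble 96 i)) (Bool.rec (motive := fun _ => Nat) (Bool.rec (motive := fun _ => Nat) (68) (69) (Nat.ble 99 i)) (Bool.rec (motive := fun _ => Nat) (2151) (4130) (Nat.ble 101 i)) (Nat.ble 100 i)) (Nat.ble 98 i)) (Nat.ble 95 i)) (Nat.ble 89 i)) (Nat.ble 76 i)) (Nat.ble 51 i)) (Bool.rec (motive := fun _ => Nat) (Bool.rec (motive := fun _ => Nat) (Bool.rec (motive := fun _ => Nat) (Bool.rec (motive := fun _ => Nat) (Bool.rec (motive := fun _ => Nat) (Bool.rec (motive := fun _ => Nat) (2149) (Bool.rec (motive := fun _ => Nat) (2109) (3169) (Nat.ble 104 i)) (Nat.ble 103 i)) (Bool.rec (motive := fun _ => Nat) (5146) (Bool.rec (motive := fun _ => Nat) (5147) (3138) (Nat.ble 107 i)) (Nat.ble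 106 i)) (Nat.ble 105 i)) (Bool.rec (motive := fun _ => Nat) (Bool.rec (motive := fun _ => Nat) (3170) (Bool.rec (motive := fun _ => Nat) (3171) (5148) (Nat.ble 110 i)) (Nat.ble 109 i)) (Bool.rec (motive := fun _ => Nat) (5149) (Bool.rec (motive := fun _ => Nat) (5150) (5151) (Nat.ble 113 i)) (Nat.ble 112 i)) (Nat.ble 111 i)) (Nat.ble 108 i)) (Bool.rec (motive := fun _ => Nat) (Bool.rec (motive := fun _ => Nat) (Bool.rec (motive := fun _ => Nat) (1111) (Bool.rec (motive := fun _ => Nat) (3098) (3099) (Nat.ble 116 i)) (Nat.ble 115 i)) (Bool.rec (motive := fun _ => Nat) (2240) (Bool.rec (motive := fun _ => Nat) (3115) (3116) (Nat.ble 119 i)) (Nat.ble 118 i)) (Nat.ble 117 i)) (Bool.rec (motive := fun _ => Nat) (Bool.rec (motive := fun _ => Nat) (4189) (Bool.rec (motive := fun _ => Nat) (2120) (2169) (Nat.ble 122 i)) (Nat.ble 121 i)) (Bool.rec (motive := fun _ => Nat) (Bool.rec (motive := fun _ => Nat) (1187) (1224) (Nat.ble 124 i)) (Bool.rec (motive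 := fun _ => Nat) (4261) (5220) (Nat.ble 126 i)) (Nat.ble 125 i)) (Nat.ble 123 i)) (Nat.ble 120 i)) (Nat.ble 114 i)) (Bool.rec (motive := fun _ => Nat) (Bool.rec (motive := fun _ => Nat) (Bool.rec (motive := fun _ => Nat) (Bool.rec (motive := fun _ => Nat) (5221) (Bool.rec (motive := fun _ => Nat) (5222) (5223) (Nat.ble 129 i)) (Nat.ble 128 i)) (Bool.rec (motive := fun _ => Nat) (3386) (Bool.rec (motive := fun _ => Nat) (3096) (4646) (Nat.ble 132 i)) (Nat.ble 131 i)) (Nat.ble 130 i)) (Bool.rec (motive := fun _ => Nat) (Bool.rec (motive := fun _ => Nat) (4268) (Bool.rec (motive := fun _ => Nat) (3576) (4381) (Nat.ble 135 i)) (Nat.ble 134 i)) (Bool.rec (motive := fun _ => Nat) (Bool.rec (motive := fun _ => Nat) (1246) (4272) (Nat.ble 137 i)) (Bool.rec (motive := fun _ => Nat) (5416) (4463) (Nat.ble 139 i)) (Nat.ble 138 i)) (Nat.ble 136 i)) (Nat.ble 133 i)) (Bool.rec (motive := fun _ => Nat) (Bool.rec (motive := fun _ => Nat) (Bool.rec (motive :=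 fun _ => Nat) (3486) (Bool.rec (motive := fun _ => Nat) (4667) (3488) (Nat.ble 142 i)) (Nat.ble 141 i)) (Bool.rec (motive := fun _ => Nat) (1112) (Bool.rec (motive := fun _ => Nat) (3146) (3147) (Nat.ble 145 i)) (Nat.ble 144 i)) (Nat.ble 143 i)) (Bool.rec (motive := fun _ => Nat) (Bool.rec (motive := fun _ => Nat) (1113) (Bool.rec (motive := fun _ => Nat) (3148) (3145) (Nat.ble 148 i)) (Nat.ble 147 i)) (Bool.rec (motive := fun _ => Nat) (Bool.rec (motive := fun _ => Nat) (1118) (3632) (Nat.ble 150 i)) (Bool.rec (motive := fun _ => Nat) (4121) (1115) (Nat.ble 152 i)) (Nat.ble 151 i)) (Nat.ble 149 i)) (Nat.ble 146 i)) (Nat.ble 140 i)) (Nat.ble 127 i)) (Bool.rec (motive := fun _ => Nat) (Bool.rec (motive := fun _ => Nat) (Bool.rec (motive := fun _ => Nat) (Bool.rec (motive := fun _ => Nat) (Bool.rec (motive := fun _ => Nat) (1116) (Bool.rec (motive := fun _ => Nat) (4347) (4190) (Nat.ble 155 i)) (Nat.ble 154 i)) (Bool.rec (motive := fun _ => Nat)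 (1119) (Bool.rec (motive := fun _ => Nat) (5160) (5161) (Nat.ble 158 i)) (Nat.ble 157 i)) (Nat.ble 156 i)) (Bool.rec (motive := fun _ => Nat) (Bool.rec (motive := fun _ => Nat) (110) (Bool.rec (motive := fun _ => Nat) (111) (112) (Nat.ble 161 i)) (Nat.ble 160 i)) (Bool.rec (motive := fun _ => Nat) (113) (Bool.rec (motive := fun _ => Nat) (3110) (3229) (Nat.ble 164 i)) (Nat.ble 163 i)) (Nat.ble 162 i)) (Nat.ble 159 i)) (Bool.rec (motive := fun _ => Nat) (Bool.rec (motive := fun _ => Nat) (Bool.rec (motive := fun _ => Nat) (3230) (Bool.rec (motive := fun _ => Nat) (5173) (5174) (Nat.ble 167 i)) (Nat.ble 166 i)) (Bool.rec (motive := fun _ => Nat) (5175) (Bool.rec (motive := fun _ => Nat) (5176) (1154) (Nat.ble 170 i)) (Nat.ble 169 i)) (Nat.ble 168 i)) (Bool.rec (motive := fun _ => Nat) (Bool.rec (motive := fun _ => Nat) (3177) (Bool.rec (motive := fun _ => Nat) (3178) (5348) (Nat.ble 173 i)) (Nat.ble 172 i)) (Bool.rec (motive := fun _ => Nat) (Bool.rec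 (motive := fun _ => Nat) (3232) (3233) (Nat.ble 175 i)) (Bool.rec (motive := fun _ => Nat) (1133) (3234) (Nat.ble 177 i)) (Nat.ble 176 i)) (Nat.ble 174 i)) (Nat.ble 171 i)) (Nat.ble 165 i)) (Bool.rec (motive := fun _ => Nat) (Bool.rec (motive := fun _ => Nat) (Bool.rec (motive := fun _ => Nat) (Bool.rec (motive := fun _ => Nat) (3231) (Bool.rec (motive := fun _ => Nat) (1164) (1316) (Nat.ble 180 i)) (Nat.ble 179 i)) (Bool.rec (motive := fun _ => Nat) (4238) (Bool.rec (motive := fun _ => Nat) (1139) (3126) (Nat.ble 183 i)) (Nat.ble 182 i)) (Nat.ble 181 i)) (Bool.rec (motive := fun _ => Nat) (Bool.rec (motive := fun _ => Nat) (3127) (Bool.rec (motive := fun _ => Nat) (1140) (3128) (Nat.ble 186 i)) (Nat.ble 185 i)) (Bool.rec (motive := fun _ => Nat) (Bool.rec (motive := fun _ => Nat) (3125) (2168) (Nat.ble 188 i)) (Bool.rec (motive := fun _ => Nat) (3454) (4135) (Nat.ble 190 i)) (Nat.ble 189 i)) (Nat.ble 187 i)) (Nat.ble 184 i)) (Bool.rec (motive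 := fun _ => Nat) (Bool.rec (motive := fun _ => Nat) (Bool.rec (motive := fun _ => Nat) (4187) (Bool.rec (motive := fun _ => Nat) (2239) (2299) (Nat.ble 193 i)) (Nat.ble 192 i)) (Bool.rec (motive := fun _ => Nat) (4217) (Bool.rec (motive := fun _ => Nat) (4353) (5145) (Nat.ble 196 i)) (Nat.ble 195 i)) (Nat.ble 194 i)) (Bool.rec (motive := fun _ => Nat) (Bool.rec (motive := fun _ => Nat) (3118) (Bool.rec (motive := fun _ => Nat) (1344) (4362) (Nat.ble 199 i)) (Nat.ble 198 i)) (Bool.rec (motive := fun _ => Nat) (Bool.rec (motive := fun _ => Nat) (3428) (4522) (Nat.ble 201 i)) (Bool.rec (motive := fun _ => Nat) (4603) (4366) (Nat.ble 203 i)) (Nat.ble 202 i)) (Nat.ble 200 i)) (Nat.ble 197 i)) (Nat.ble 191 i)) (Nat.ble 178 i)) (Nat.ble 153 i)) (Nat.ble 102 i)) (Bool.rec (motive := fun _ => Nat) (Bool.rec (motive := fun _ => Nat) (Bool.rec (motive := fun _ => Nat) (Bool.rec (motive := fun _ => Nat) (Bool.rec (motive := fun _ => Nat) (Bool.rec (motive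 := fun _ => Nat) (Bool.rec (motive := fun _ => Nat) (2173) (Bool.rec (motive := fun _ => Nat) (2252) (3268) (Nat.ble 206 i)) (Nat.ble 205 i)) (Bool.rec (motive := fun _ => Nat) (3186) (Bool.rec (motive := fun _ => Nat) (3556) (3557) (Nat.ble 209 i)) (Nat.ble 208 i)) (Nat.ble 207 i)) (Bool.rec (motive := fun _ => Nat) (Bool.rec (motive := fun _ => Nat) (3120) (Bool.rec (motive := fun _ => Nat) (3121) (4648) (Nat.ble 212 i)) (Nat.ble 211 i)) (Bool.rec (motive := fun _ => Nat) (4538) (Bool.rec (motive := fun _ => Nat) (4654) (4375) (Nat.ble 215 i)) (Nat.ble 214 i)) (Nat.ble 213 i)) (Nat.ble 210 i)) (Bool.rec (motive := fun _ => Nat) (Bool.rec (motive := fun _ => Nat) (Bool.rec (motive := fun _ => Nat) (2181) (Bool.rec (motive := fun _ => Nat) (2264) (5587) (Nat.ble 218 i)) (Nat.ble 217 i)) (Bool.rec (motive := fun _ => Nat) (4546) (Bool.rec (motive := fun _ => Nat) (4143) (4270) (Nat.ble 221 i)) (Nat.ble 220 i)) (Nat.ble 219 i)) (Bool.rec (motive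 := fun _ => Nat) (Bool.rec (motive := fun _ => Nat) (3395) (Bool.rec (motive := fun _ => Nat) (3518) (5513) (Nat.ble 224 i)) (Nat.ble 223 i)) (Bool.rec (motive := fun _ => Nat) (Bool.rec (motive := fun _ => Nat) (4457) (3674) (Nat.ble 226 i)) (Bool.rec (motive := fun _ => Nat) (3675) (3329) (Nat.ble 228 i)) (Nat.ble 227 i)) (Nat.ble 225 i)) (Nat.ble 222 i)) (Nat.ble 216 i)) (Bool.rec (motive := fun _ => Nat) (Bool.rec (motive := fun _ => Nat) (Bool.rec (motive := fun _ => Nat) (Bool.rec (motive := fun _ => Nat) (3677) (Bool.rec (motive := fun _ => Nat) (1408) (1166) (Nat.ble 231 i)) (Nat.ble 230 i)) (Bool.rec (motive := fun _ => Nat) (3680) (Bool.rec (motive := fun _ => Nat) (4399) (3221) (Nat.ble 234 i)) (Nat.ble 233 i)) (Nat.ble 232 i)) (Bool.rec (motive := fun _ => Nat) (Bool.rec (motive := fun _ => Nat) (3609) (Bool.rec (motive := fun _ => Nat) (4146) (1168) (Nat.ble 237 i)) (Nat.ble 236 i)) (Bool.rec (motive := fun _ => Nat) (Bool.rec (motive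 := fun _ => Nat) (1169) (2453) (Nat.ble 239 i)) (Bool.rec (motive := fun _ => Nat) (4494) (4243) (Nat.ble 241 i)) (Nat.ble 240 i)) (Nat.ble 238 i)) (Nat.ble 235 i)) (Bool.rec (motive := fun _ => Nat) (Bool.rec (motive := fun _ => Nat) (Bool.rec (motive := fun _ => Nat) (1171) (Bool.rec (motive := fun _ => Nat) (1172) (4346) (Nat.ble 244 i)) (Nat.ble 243 i)) (Bool.rec (motive := fun _ => Nat) (4188) (Bool.rec (motive := fun _ => Nat) (2358) (4252) (Nat.ble 247 i)) (Nat.ble 246 i)) (Nat.ble 245 i)) (Bool.rec (motive := fun _ => Nat) (Bool.rec (motive := fun _ => Nat) (4249) (Bool.rec (motive := fun _ => Nat) (2296) (2301) (Nat.ble 250 i)) (Nat.ble 249 i)) (Bool.rec (motive := fun _ => Nat) (Bool.rec (motive := fun _ => Nat) (2199) (4147) (Nat.ble 252 i)) (Bool.rec (motive := fun _ => Nat) (4191) (4186) (Nat.ble 254 i)) (Nat.ble 253 i)) (Nat.ble 251 i)) (Nat.ble 248 i)) (Nat.ble 242 i)) (Nat.ble 229 i)) (Bool.rec (motive := fun _ => Nat) (Bool.rec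 (motive := fun _ => Nat) (Bool.rec (motive := fun _ => Nat) (Bool.rec (motive := fun _ => Nat) (Bool.rec (motive := fun _ => Nat) (2238) (Bool.rec (motive := fun _ => Nat) (4245) (2203) (Nat.ble 257 i)) (Nat.ble 256 i)) (Bool.rec (motive := fun _ => Nat) (2305) (Bool.rec (motive := fun _ => Nat) (4288) (5193) (Nat.ble 260 i)) (Nat.ble 259 i)) (Nat.ble 258 i)) (Bool.rec (motive := fun _ => Nat) (Bool.rec (motive := fun _ => Nat) (5194) (Bool.rec (motive := fun _ => Nat) (5195) (5196) (Nat.ble 263 i)) (Nat.ble 262 i)) (Bool.rec (motive := fun _ => Nat) (5159) (Bool.rec (motive := fun _ => Nat) (3140) (3141) (Nat.ble 266 i)) (Nat.ble 265 i)) (Nat.ble 264 i)) (Nat.ble 261 i)) (Bool.rec (motive := fun _ => Nat) (Bool.rec (motive := fun _ => Nat) (Bool.rec (motive := fun _ => Nat) (1188) (Bool.rec (motive := fun _ => Nat) (3333) (3334) (Nat.ble 269 i)) (Nat.ble 268 i)) (Bool.rec (motive := fun _ => Nat) (1189) (Bool.rec (motive := fun _ => Nat) (3335)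 (3332) (Nat.ble 272 i)) (Nat.ble 271 i)) (Nat.ble 270 i)) (Bool.rec (motive := fun _ => Nat) (Bool.rec (motive := fun _ => Nat) (1230) (Bool.rec (motive := fun _ => Nat) (1457) (4305) (Nat.ble 275 i)) (Nat.ble 274 i)) (Bool.rec (motive := fun _ => Nat) (Bool.rec (motive := fun _ => Nat) (1195) (3239) (Nat.ble 277 i)) (Bool.rec (motive := fun _ => Nat) (3240) (1196) (Nat.ble 279 i)) (Nat.ble 278 i)) (Nat.ble 276 i)) (Nat.ble 273 i)) (Nat.ble 267 i)) (Bool.rec (motive := fun _ => Nat) (Bool.rec (motive := fun _ => Nat) (Bool.rec (motive := fun _ => Nat) (Bool.rec (motive := fun _ => Nat) (3241) (Bool.rec (motive := fun _ => Nat) (3238) (1201) (Nat.ble 282 i)) (Nat.ble 281 i)) (Bool.rec (motive := fun _ => Nat) (3519) (Bool.rec (motive := fun _ => Nat) (4163) (1198) (Nat.ble 285 i)) (Nat.ble 284 i)) (Nat.ble 283 i)) (Bool.rec (motive := fun _ => Nat) (Bool.rec (motive := fun _ => Nat) (5504) (Bool.rec (motive := fun _ => Nat) (4465) (4273) (Nat.ble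 288 i)) (Nat.ble 287 i)) (Bool.rec (motive := fun _ => Nat) (Bool.rec (motive := fun _ => Nat) (1202) (1479) (Nat.ble 290 i)) (Bool.rec (motive := fun _ => Nat) (4323) (3840) (Nat.ble 292 i)) (Nat.ble 291 i)) (Nat.ble 289 i)) (Nat.ble 286 i)) (Bool.rec (motive := fun _ => Nat) (Bool.rec (motive := fun _ => Nat) (Bool.rec (motive := fun _ => Nat) (1488) (Bool.rec (motive := fun _ => Nat) (5256) (3226) (Nat.ble 295 i)) (Nat.ble 294 i)) (Bool.rec (motive := fun _ => Nat) (4489) (Bool.rec (motive := fun _ => Nat) (2344) (3260) (Nat.ble 298 i)) (Nat.ble 297 i)) (Nat.ble 296 i)) (Bool.rec (motive := fun _ => Nat) (Bool.rec (motive := fun _ => Nat) (3767) (Bool.rec (motive := fun _ => Nat) (4166) (4240) (Nat.ble 301 i)) (Nat.ble 300 i)) (Bool.rec (motive := fun _ => Nat) (Bool.rec (motive := fun _ => Nat) (2349) (3264) (Nat.ble 303 i)) (Bool.rec (motive := fun _ => Nat) (2446) (4282) (Nat.ble 305 i)) (Nat.ble 304 i)) (Nat.ble 302 i)) (Nat.ble 299 i))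 (Nat.ble 293 i)) (Nat.ble 280 i)) (Nat.ble 255 i)) (Bool.rec (motive := fun _ => Nat) (Bool.rec (motive := fun _ => Nat) (Bool.rec (motive := fun _ => Nat) (Bool.rec (motive := fun _ => Nat) (Bool.rec (motive := fun _ => Nat) (Bool.rec (motive := fun _ => Nat) (1210) (Bool.rec (motive := fun _ => Nat) (1211) (4215) (Nat.ble 308 i)) (Nat.ble 307 i)) (Bool.rec (motive := fun _ => Nat) (2300) (Bool.rec (motive := fun _ => Nat) (2293) (2304) (Nat.ble 311 i)) (Nat.ble 310 i)) (Nat.ble 309 i)) (Bool.rec (motive := fun _ => Nat) (Bool.rec (motive := fun _ => Nat) (4284) (Bool.rec (motive := fun _ => Nat) (2295) (5170) (Nat.ble 314 i)) (Nat.ble 313 i)) (Bool.rec (motive := fun _ => Nat) (3242) (Bool.rec (motive := fun _ => Nat) (5171) (5172) (Nat.ble 317 i)) (Nat.ble 316 i)) (Nat.ble 315 i)) (Nat.ble 312 i)) (Bool.rec (motive := fun _ => Nat) (Bool.rec (motive := fun _ => Nat) (Bool.rec (motive := fun _ => Nat) (3150) (Bool.rec (motive := fun _ => Nat)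 (3151) (3398) (Nat.ble 320 i)) (Nat.ble 319 i)) (Bool.rec (motive := fun _ => Nat) (4707) (Bool.rec (motive := fun _ => Nat) (2369) (4516) (Nat.ble 323 i)) (Nat.ble 322 i)) (Nat.ble 321 i)) (Bool.rec (motive := fun _ => Nat) (Bool.rec (motive := fun _ => Nat) (2247) (Bool.rec (motive := fun _ => Nat) (2372) (5757) (Nat.ble 326 i)) (Nat.ble 325 i)) (Bool.rec (motive := fun _ => Nat) (Bool.rec (motive := fun _ => Nat) (1532) (4173) (Nat.ble 328 i)) (Bool.rec (motive := fun _ => Nat) (4364) (2377) (Nat.ble 330 i)) (Nat.ble 329 i)) (Nat.ble 327 i)) (Nat.ble 324 i)) (Nat.ble 318 i)) (Bool.rec (motive := fun _ => Nat) (Bool.rec (motive := fun _ => Nat) (Bool.rec (motive := fun _ => Nat) (Bool.rec (motive := fun _ => Nat) (3687) (Bool.rec (motive := fun _ => Nat) (5708) (3572) (Nat.ble 333 i)) (Nat.ble 332 i)) (Bool.rec (motive := fun _ => Nat) (3251) (Bool.rec (motive := fun _ => Nat) (3388) (3389) (Nat.ble 336 i)) (Nat.ble 335 i)) (Nat.ble 334 i))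 (Bool.rec (motive := fun _ => Nat) (Bool.rec (motive := fun _ => Nat) (3345) (Bool.rec (motive := fun _ => Nat) (3252) (3253) (Nat.ble 339 i)) (Nat.ble 338 i)) (Bool.rec (motive := fun _ => Nat) (Bool.rec (motive := fun _ => Nat) (3452) (3733) (Nat.ble 341 i)) (Bool.rec (motive := fun _ => Nat) (3734) (1233) (Nat.ble 343 i)) (Nat.ble 342 i)) (Nat.ble 340 i)) (Nat.ble 337 i)) (Bool.rec (motive := fun _ => Nat) (Bool.rec (motive := fun _ => Nat) (Bool.rec (motive := fun _ => Nat) (3736) (Bool.rec (motive := fun _ => Nat) (3737) (3156) (Nat.ble 346 i)) (Nat.ble 345 i)) (Bool.rec (motive := fun _ => Nat) (3157) (Bool.rec (motive := fun _ => Nat) (3158) (3155) (Nat.ble 349 i)) (Nat.ble 348 i)) (Nat.ble 347 i)) (Bool.rec (motive := fun _ => Nat) (Bool.rec (motive := fun _ => Nat) (5716) (Bool.rec (motive := fun _ => Nat) (4176) (4373) (Nat.ble 352 i)) (Nat.ble 351 i)) (Bool.rec (motive := fun _ => Nat) (Bool.rec (motive := fun _ => Nat) (2400) (3501)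 (Nat.ble 354 i)) (Bool.rec (motive := fun _ => Nat) (224) (5719) (Nat.ble 356 i)) (Nat.ble 355 i)) (Nat.ble 353 i)) (Nat.ble 350 i)) (Nat.ble 344 i)) (Nat.ble 331 i)) (Bool.rec (motive := fun _ => Nat) (Bool.rec (motive := fun _ => Nat) (Bool.rec (motive := fun _ => Nat) (Bool.rec (motive := fun _ => Nat) (Bool.rec (motive := fun _ => Nat) (5721) (Bool.rec (motive := fun _ => Nat) (5599) (3423) (Nat.ble 359 i)) (Nat.ble 358 i)) (Bool.rec (motive := fun _ => Nat) (3517) (Bool.rec (motive := fun _ => Nat) (3682) (4318) (Nat.ble 362 i)) (Nat.ble 361 i)) (Nat.ble 360 i)) (Bool.rec (motive := fun _ => Nat) (Bool.rec (motive := fun _ => Nat) (3790) (Bool.rec (motive := fun _ => Nat) (1478) (2268) (Nat.ble 365 i)) (Nat.ble 364 i)) (Bool.rec (motive := fun _ => Nat) (Bool.rec (motive := fun _ => Nat) (3683) (1385) (Nat.ble 367 i)) (Bool.rec (motive := fun _ => Nat) (3351) (2332) (Nat.ble 369 i)) (Nat.ble 368 i)) (Nat.ble 366 i)) (Nat.ble 363 i)) (Bool.rec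 (motive := fun _ => Nat) (Bool.rec (motive := fun _ => Nat) (Bool.rec (motive := fun _ => Nat) (5600) (Bool.rec (motive := fun _ => Nat) (5354) (4550) (Nat.ble 372 i)) (Nat.ble 371 i)) (Bool.rec (motive := fun _ => Nat) (5688) (Bool.rec (motive := fun _ => Nat) (3319) (3816) (Nat.ble 375 i)) (Nat.ble 374 i)) (Nat.ble 373 i)) (Bool.rec (motive := fun _ => Nat) (Bool.rec (motive := fun _ => Nat) (3817) (Bool.rec (motive := fun _ => Nat) (1251) (3819) (Nat.ble 378 i)) (Nat.ble 377 i)) (Bool.rec (motive := fun _ => Nat) (Bool.rec (motive := fun _ => Nat) (3820) (2353) (Nat.ble 380 i)) (Bool.rec (motive := fun _ => Nat) (3317) (4183) (Nat.ble 382 i)) (Nat.ble 381 i)) (Nat.ble 379 i)) (Nat.ble 376 i)) (Nat.ble 370 i)) (Bool.rec (motive := fun _ => Nat) (Bool.rec (motive := fun _ => Nat) (Bool.rec (motive := fun _ => Nat) (Bool.rec (motive := fun _ => Nat) (1253) (Bool.rec (motive := fun _ => Nat) (3227) (3563) (Nat.ble 385 i)) (Nat.ble 384 i)) (Bool.rec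 (motive := fun _ => Nat) (3795) (Bool.rec (motive := fun _ => Nat) (4328) (1256) (Nat.ble 388 i)) (Nat.ble 387 i)) (Nat.ble 386 i)) (Bool.rec (motive := fun _ => Nat) (Bool.rec (motive := fun _ => Nat) (4330) (Bool.rec (motive := fun _ => Nat) (3378) (1608) (Nat.ble 391 i)) (Nat.ble 390 i)) (Bool.rec (motive := fun _ => Nat) (Bool.rec (motive := fun _ => Nat) (3228) (3165) (Nat.ble 393 i)) (Bool.rec (motive := fun _ => Nat) (2523) (4334) (Nat.ble 395 i)) (Nat.ble 394 i)) (Nat.ble 392 i)) (Nat.ble 389 i)) (Bool.rec (motive := fun _ => Nat) (Bool.rec (motive := fun _ => Nat) (Bool.rec (motive := fun _ => Nat) (4278) (Bool.rec (motive := fun _ => Nat) (2448) (2284) (Nat.ble 398 i)) (Nat.ble 397 i)) (Bool.rec (motive := fun _ => Nat) (4184) (Bool.rec (motive := fun _ => Nat) (4244) (3374) (Nat.ble 401 i)) (Nat.ble 400 i)) (Nat.ble 399 i)) (Bool.rec (motive := fun _ => Nat) (Bool.rec (motive := fun _ => Nat) (3266) (Bool.rec (motive := fun _ => Nat)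 (3325) (3162) (Nat.ble 404 i)) (Nat.ble 403 i)) (Bool.rec (motive := fun _ => Nat) (Bool.rec (motive := fun _ => Nat) (4695) (4239) (Nat.ble 406 i)) (Bool.rec (motive := fun _ => Nat) (2348) (4338) (Nat.ble 408 i)) (Nat.ble 407 i)) (Nat.ble 405 i)) (Nat.ble 402 i)) (Nat.ble 396 i)) (Nat.ble 383 i)) (Nat.ble 357 i)) (Nat.ble 306 i)) (Nat.ble 204 i)) (Bool.rec (motive := fun _ => Nat) (Bool.rec (motive := fun _ => Nat) (Bool.rec (motive := fun _ => Nat) (Bool.rec (motive := fun _ => Nat) (Bool.rec (motive := fun _ => Nat) (Bool.rec (motive := fun _ => Nat) (Bool.rec (motive := fun _ => Nat) (Bool.rec (motive := fun _ => Nat) (2289) (Bool.rec (motive := fun _ => Nat) (2457) (2524) (Nat.ble 411 i)) (Nat.ble 410 i)) (Bool.rec (motive := fun _ => Nat) (4241) (Bool.rec (motive := fun _ => Nat) (4398) (5190) (Nat.ble 414 i)) (Nat.ble 413 i)) (Nat.ble 412 i)) (Bool.rec (motive := fun _ => Nat) (Bool.rec (motive := fun _ => Nat) (316) (Bool.rec (motive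 := fun _ => Nat) (5192) (1289) (Nat.ble 417 i)) (Nat.ble 416 i)) (Bool.rec (motive := fun _ => Nat) (3183) (Bool.rec (motive := fun _ => Nat) (3184) (1290) (Nat.ble 420 i)) (Nat.ble 419 i)) (Nat.ble 418 i)) (Nat.ble 415 i)) (Bool.rec (motive := fun _ => Nat) (Bool.rec (motive := fun _ => Nat) (Bool.rec (motive := fun _ => Nat) (3185) (Bool.rec (motive := fun _ => Nat) (3182) (1295) (Nat.ble 423 i)) (Nat.ble 422 i)) (Bool.rec (motive := fun _ => Nat) (3688) (Bool.rec (motive := fun _ => Nat) (4200) (1292) (Nat.ble 426 i)) (Nat.ble 425 i)) (Nat.ble 424 i)) (Bool.rec (motive := fun _ => Nat) (Bool.rec (motive := fun _ => Nat) (1293) (Bool.rec (motive := fun _ => Nat) (4613) (4367) (Nat.ble 429 i)) (Nat.ble 428 i)) (Bool.rec (motive := fun _ => Nat) (Bool.rec (motive := fun _ => Nat) (1296) (1648) (Nat.ble 431 i)) (Bool.rec (motive := fun _ => Nat) (4432) (3743) (Nat.ble 433 i)) (Nat.ble 432 i)) (Nat.ble 430 i)) (Nat.ble 427 i)) (Nat.ble 421 i))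 (Bool.rec (motive := fun _ => Nat) (Bool.rec (motive := fun _ => Nat) (Bool.rec (motive := fun _ => Nat) (Bool.rec (motive := fun _ => Nat) (1657) (Bool.rec (motive := fun _ => Nat) (1658) (3376) (Nat.ble 436 i)) (Nat.ble 435 i)) (Bool.rec (motive := fun _ => Nat) (1661) (Bool.rec (motive := fun _ => Nat) (1662) (3354) (Nat.ble 439 i)) (Nat.ble 438 i)) (Nat.ble 437 i)) (Bool.rec (motive := fun _ => Nat) (Bool.rec (motive := fun _ => Nat) (3495) (Bool.rec (motive := fun _ => Nat) (4203) (1301) (Nat.ble 442 i)) (Nat.ble 441 i)) (Bool.rec (motive := fun _ => Nat) (Bool.rec (motive := fun _ => Nat) (1302) (3358) (Nat.ble 444 i)) (Bool.rec (motive := fun _ => Nat) (4649) (4376) (Nat.ble 446 i)) (Nat.ble 445 i)) (Nat.ble 443 i)) (Nat.ble 440 i)) (Bool.rec (motive := fun _ => Nat) (Bool.rec (motive := fun _ => Nat) (Bool.rec (motive := fun _ => Nat) (1304) (Bool.rec (motive := fun _ => Nat) (1305) (4271) (Nat.ble 449 i)) (Nat.ble 448 i)) (Bool.rec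 (motive := fun _ => Nat) (3684) (Bool.rec (motive := fun _ => Nat) (5691) (5423) (Nat.ble 452 i)) (Nat.ble 451 i)) (Nat.ble 450 i)) (Bool.rec (motive := fun _ => Nat) (Bool.rec (motive := fun _ => Nat) (4378) (Bool.rec (motive := fun _ => Nat) (3758) (3821) (Nat.ble 455 i)) (Nat.ble 454 i)) (Bool.rec (motive := fun _ => Nat) (Bool.rec (motive := fun _ => Nat) (4657) (1597) (Nat.ble 457 i)) (Bool.rec (motive := fun _ => Nat) (3265) (1623) (Nat.ble 459 i)) (Nat.ble 458 i)) (Nat.ble 456 i)) (Nat.ble 453 i)) (Nat.ble 447 i)) (Nat.ble 434 i)) (Bool.rec (motive := fun _ => Nat) (Bool.rec (motive := fun _ => Nat) (Bool.rec (motive := fun _ => Nat) (Bool.rec (motive := fun _ => Nat) (Bool.rec (motive := fun _ => Nat) (1625) (Bool.rec (motive := fun _ => Nat) (4697) (4663) (Nat.ble 462 i)) (Nat.ble 461 i)) (Bool.rec (motive := fun _ => Nat) (4210) (Bool.rec (motive := fun _ => Nat) (3889) (5342) (Nat.ble 465 i)) (Nat.ble 464 i)) (Nat.ble 463 i)) (Bool.rec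 (motive := fun _ => Nat) (Bool.rec (motive := fun _ => Nat) (3326) (Bool.rec (motive := fun _ => Nat) (3262) (3327) (Nat.ble 468 i)) (Nat.ble 467 i)) (Bool.rec (motive := fun _ => Nat) (3314) (Bool.rec (motive := fun _ => Nat) (1681) (4499) (Nat.ble 471 i)) (Nat.ble 470 i)) (Nat.ble 469 i)) (Nat.ble 466 i)) (Bool.rec (motive := fun _ => Nat) (Bool.rec (motive := fun _ => Nat) (Bool.rec (motive := fun _ => Nat) (3267) (Bool.rec (motive := fun _ => Nat) (3192) (2447) (Nat.ble 474 i)) (Nat.ble 473 i)) (Bool.rec (motive := fun _ => Nat) (4211) (Bool.rec (motive := fun _ => Nat) (4283) (2707) (Nat.ble 477 i)) (Nat.ble 476 i)) (Nat.ble 475 i)) (Bool.rec (motive := fun _ => Nat) (Bool.rec (motive := fun _ => Nat) (4477) (Bool.rec (motive := fun _ => Nat) (3189) (3263) (Nat.ble 480 i)) (Nat.ble 479 i)) (Bool.rec (motive := fun _ => Nat) (Bool.rec (motive := fun _ => Nat) (4402) (2428) (Nat.ble 482 i)) (Bool.rec (motive := fun _ => Nat) (4280) (5208)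 (Nat.ble 484 i)) (Nat.ble 483 i)) (Nat.ble 481 i)) (Nat.ble 478 i)) (Nat.ble 472 i)) (Bool.rec (motive := fun _ => Nat) (Bool.rec (motive := fun _ => Nat) (Bool.rec (motive := fun _ => Nat) (Bool.rec (motive := fun _ => Nat) (5209) (Bool.rec (motive := fun _ => Nat) (3346) (3347) (Nat.ble 487 i)) (Nat.ble 486 i)) (Bool.rec (motive := fun _ => Nat) (5210) (Bool.rec (motive := fun _ => Nat) (5211) (5212) (Nat.ble 490 i)) (Nat.ble 489 i)) (Nat.ble 488 i)) (Bool.rec (motive := fun _ => Nat) (Bool.rec (motive := fun _ => Nat) (5213) (Bool.rec (motive := fun _ => Nat) (5214) (5215) (Nat.ble 493 i)) (Nat.ble 492 i)) (Bool.rec (motive := fun _ => Nat) (Bool.rec (motive := fun _ => Nat) (3199) (3200) (Nat.ble 495 i)) (Bool.rec (motive := fun _ => Nat) (3201) (3198) (Nat.ble 497 i)) (Nat.ble 496 i)) (Nat.ble 494 i)) (Nat.ble 491 i)) (Bool.rec (motive := fun _ => Nat) (Bool.rec (motive := fun _ => Nat) (Bool.rec (motive := fun _ => Nat) (2729) (Bool.rec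 (motive := fun _ => Nat) (4219) (4514) (Nat.ble 500 i)) (Nat.ble 499 i)) (Bool.rec (motive := fun _ => Nat) (2548) (Bool.rec (motive := fun _ => Nat) (2734) (5711) (Nat.ble 503 i)) (Nat.ble 502 i)) (Nat.ble 501 i)) (Bool.rec (motive := fun _ => Nat) (Bool.rec (motive := fun _ => Nat) (5860) (Bool.rec (motive := fun _ => Nat) (4775) (2669) (Nat.ble 506 i)) (Nat.ble 505 i)) (Bool.rec (motive := fun _ => Nat) (Bool.rec (motive := fun _ => Nat) (3571) (3686) (Nat.ble 508 i)) (Bool.rec (motive := fun _ => Nat) (3513) (3626) (Nat.ble 510 i)) (Nat.ble 509 i)) (Nat.ble 507 i)) (Nat.ble 504 i)) (Nat.ble 498 i)) (Nat.ble 485 i)) (Nat.ble 460 i)) (Bool.rec (motive := fun _ => Nat) (Bool.rec (motive := fun _ => Nat) (Bool.rec (motive := fun _ => Nat) (Bool.rec (motive := fun _ => Nat) (Bool.rec (motive := fun _ => Nat) (Bool.rec (motive := fun _ => Nat) (4363) (Bool.rec (motive := fun _ => Nat) (1647) (2376) (Nat.ble 513 i)) (Nat.ble 512 i)) (Bool.rec (motive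 := fun _ => Nat) (1540) (Bool.rec (motive := fun _ => Nat) (1533) (3492) (Nat.ble 516 i)) (Nat.ble 515 i)) (Nat.ble 514 i)) (Bool.rec (motive := fun _ => Nat) (Bool.rec (motive := fun _ => Nat) (2473) (Bool.rec (motive := fun _ => Nat) (5779) (5510) (Nat.ble 519 i)) (Nat.ble 518 i)) (Bool.rec (motive := fun _ => Nat) (3830) (Bool.rec (motive := fun _ => Nat) (3689) (3362) (Nat.ble 522 i)) (Nat.ble 521 i)) (Nat.ble 520 i)) (Nat.ble 517 i)) (Bool.rec (motive := fun _ => Nat) (Bool.rec (motive := fun _ => Nat) (Bool.rec (motive := fun _ => Nat) (3363) (Bool.rec (motive := fun _ => Nat) (3481) (3561) (Nat.ble 525 i)) (Nat.ble 524 i)) (Bool.rec (motive := fun _ => Nat) (3562) (Bool.rec (motive := fun _ => Nat) (1360) (3564) (Nat.ble 528 i)) (Nat.ble 527 i)) (Nat.ble 526 i)) (Bool.rec (motive := fun _ => Nat) (Bool.rec (motive := fun _ => Nat) (3565) (Bool.rec (motive := fun _ => Nat) (3503) (3504) (Nat.ble 531 i)) (Nat.ble 530 i)) (Bool.rec (motive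 := fun _ => Nat) (Bool.rec (motive := fun _ => Nat) (3365) (3366) (Nat.ble 533 i)) (Bool.rec (motive := fun _ => Nat) (3368) (3369) (Nat.ble 535 i)) (Nat.ble 534 i)) (Nat.ble 532 i)) (Nat.ble 529 i)) (Nat.ble 523 i)) (Bool.rec (motive := fun _ => Nat) (Bool.rec (motive := fun _ => Nat) (Bool.rec (motive := fun _ => Nat) (Bool.rec (motive := fun _ => Nat) (3555) (Bool.rec (motive := fun _ => Nat) (4226) (1365) (Nat.ble 538 i)) (Nat.ble 537 i)) (Bool.rec (motive := fun _ => Nat) (3377) (Bool.rec (motive := fun _ => Nat) (3803) (4440) (Nat.ble 541 i)) (Nat.ble 540 i)) (Nat.ble 539 i)) (Bool.rec (motive := fun _ => Nat) (Bool.rec (motive := fun _ => Nat) (1368) (Bool.rec (motive := fun _ => Nat) (4486) (5523) (Nat.ble 544 i)) (Nat.ble 543 i)) (Bool.rec (motive := fun _ => Nat) (Bool.rec (motive := fun _ => Nat) (3356) (3442) (Nat.ble 546 i)) (Bool.rec (motive := fun _ => Nat) (4372) (3443) (Nat.ble 548 i)) (Nat.ble 547 i)) (Nat.ble 545 i)) (Nat.ble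 542 i)) (Bool.rec (motive := fun _ => Nat) (Bool.rec (motive := fun _ => Nat) (Bool.rec (motive := fun _ => Nat) (2399) (Bool.rec (motive := fun _ => Nat) (1576) (3296) (Nat.ble 551 i)) (Nat.ble 550 i)) (Bool.rec (motive := fun _ => Nat) (3342) (Bool.rec (motive := fun _ => Nat) (2489) (5525) (Nat.ble 554 i)) (Nat.ble 553 i)) (Nat.ble 552 i)) (Bool.rec (motive := fun _ => Nat) (Bool.rec (motive := fun _ => Nat) (371) (Bool.rec (motive := fun _ => Nat) (3694) (5524) (Nat.ble 557 i)) (Nat.ble 556 i)) (Bool.rec (motive := fun _ => Nat) (Bool.rec (motive := fun _ => Nat) (3400) (5720) (Nat.ble 559 i)) (Bool.rec (motive := fun _ => Nat) (4236) (1399) (Nat.ble 561 i)) (Nat.ble 560 i)) (Nat.ble 558 i)) (Nat.ble 555 i)) (Nat.ble 549 i)) (Nat.ble 536 i)) (Bool.rec (motive := fun _ => Nat) (Bool.rec (motive := fun _ => Nat) (Bool.rec (motive := fun _ => Nat) (Bool.rec (motive := fun _ => Nat) (Bool.rec (motive := fun _ => Nat) (3735) (Bool.rec (motive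 := fun _ => Nat) (4754) (4474) (Nat.ble 564 i)) (Nat.ble 563 i)) (Bool.rec (motive := fun _ => Nat) (1402) (Bool.rec (motive := fun _ => Nat) (4394) (3852) (Nat.ble 567 i)) (Nat.ble 566 i)) (Nat.ble 565 i)) (Bool.rec (motive := fun _ => Nat) (Bool.rec (motive := fun _ => Nat) (4480) (Bool.rec (motive := fun _ => Nat) (4388) (2430) (Nat.ble 570 i)) (Nat.ble 569 i)) (Bool.rec (motive := fun _ => Nat) (Bool.rec (motive := fun _ => Nat) (3328) (3818) (Nat.ble 572 i)) (Bool.rec (motive := fun _ => Nat) (3746) (3747) (Nat.ble 574 i)) (Nat.ble 573 i)) (Nat.ble 571 i)) (Nat.ble 568 i)) (Bool.rec (motive := fun _ => Nat) (Bool.rec (motive := fun _ => Nat) (Bool.rec (motive := fun _ => Nat) (3748) (Bool.rec (motive := fun _ => Nat) (3749) (1595) (Nat.ble 577 i)) (Nat.ble 576 i)) (Bool.rec (motive := fun _ => Nat) (3872) (Bool.rec (motive := fun _ => Nat) (3854) (5481) (Nat.ble 580 i)) (Nat.ble 579 i)) (Nat.ble 578 i)) (Bool.rec (motive := fun _ => Nat)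 (Bool.rec (motive := fun _ => Nat) (5574) (Bool.rec (motive := fun _ => Nat) (3853) (4326) (Nat.ble 583 i)) (Nat.ble 582 i)) (Bool.rec (motive := fun _ => Nat) (Bool.rec (motive := fun _ => Nat) (3884) (3215) (Nat.ble 585 i)) (Bool.rec (motive := fun _ => Nat) (1741) (3379) (Nat.ble 587 i)) (Nat.ble 586 i)) (Nat.ble 584 i)) (Nat.ble 581 i)) (Nat.ble 575 i)) (Bool.rec (motive := fun _ => Nat) (Bool.rec (motive := fun _ => Nat) (Bool.rec (motive := fun _ => Nat) (Bool.rec (motive := fun _ => Nat) (3257) (Bool.rec (motive := fun _ => Nat) (5474) (5520) (Nat.ble 590 i)) (Nat.ble 589 i)) (Bool.rec (motive := fun _ => Nat) (3218) (Bool.rec (motive := fun _ => Nat) (3313) (3548) (Nat.ble 593 i)) (Nat.ble 592 i)) (Nat.ble 591 i)) (Bool.rec (motive := fun _ => Nat) (Bool.rec (motive := fun _ => Nat) (3254) (Bool.rec (motive := fun _ => Nat) (3373) (1427) (Nat.ble 596 i)) (Nat.ble 595 i)) (Bool.rec (motive := fun _ => Nat) (Bool.rec (motive := fun _ =>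 Nat) (5672) (3384) (Nat.ble 598 i)) (Bool.rec (motive := fun _ => Nat) (3223) (3324) (Nat.ble 600 i)) (Nat.ble 599 i)) (Nat.ble 597 i)) (Nat.ble 594 i)) (Bool.rec (motive := fun _ => Nat) (Bool.rec (motive := fun _ => Nat) (Bool.rec (motive := fun _ => Nat) (3323) (Bool.rec (motive := fun _ => Nat) (5235) (5236) (Nat.ble 603 i)) (Nat.ble 602 i)) (Bool.rec (motive := fun _ => Nat) (5237) (Bool.rec (motive := fun _ => Nat) (489) (490) (Nat.ble 606 i)) (Nat.ble 605 i)) (Nat.ble 604 i)) (Bool.rec (motive := fun _ => Nat) (Bool.rec (motive := fun _ => Nat) (5240) (Bool.rec (motive := fun _ => Nat) (492) (493) (Nat.ble 609 i)) (Nat.ble 608 i)) (Bool.rec (motive := fun _ => Nat) (Bool.rec (motive := fun _ => Nat) (4259) (1442) (Nat.ble 611 i)) (Bool.rec (motive := fun _ => Nat) (1443) (3499) (Nat.ble 613 i)) (Nat.ble 612 i)) (Nat.ble 610 i)) (Nat.ble 607 i)) (Nat.ble 601 i)) (Nat.ble 588 i)) (Nat.ble 562 i)) (Nat.ble 511 i)) (Bool.rec (motive := fun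 _ => Nat) (Bool.rec (motive := fun _ => Nat) (Bool.rec (motive := fun _ => Nat) (Bool.rec (motive := fun _ => Nat) (Bool.rec (motive := fun _ => Nat) (Bool.rec (motive := fun _ => Nat) (Bool.rec (motive := fun _ => Nat) (4782) (Bool.rec (motive := fun _ => Nat) (4517) (1445) (Nat.ble 616 i)) (Nat.ble 615 i)) (Bool.rec (motive := fun _ => Nat) (1446) (Bool.rec (motive := fun _ => Nat) (4365) (1448) (Nat.ble 619 i)) (Nat.ble 618 i)) (Nat.ble 617 i)) (Bool.rec (motive := fun _ => Nat) (Bool.rec (motive := fun _ => Nat) (4260) (Bool.rec (motive := fun _ => Nat) (4368) (4519) (Nat.ble 622 i)) (Nat.ble 621 i)) (Bool.rec (motive := fun _ => Nat) (3625) (Bool.rec (motive := fun _ => Nat) (3849) (4792) (Nat.ble 625 i)) (Nat.ble 624 i)) (Nat.ble 623 i)) (Nat.ble 620 i)) (Bool.rec (motive := fun _ => Nat) (Bool.rec (motive := fun _ => Nat) (Bool.rec (motive := fun _ => Nat) (2673) (Bool.rec (motive := fun _ => Nat) (4623) (4687) (Nat.ble 628 i)) (Nat.ble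 627 i)) (Bool.rec (motive := fun _ => Nat) (2676) (Bool.rec (motive := fun _ => Nat) (3533) (3560) (Nat.ble 631 i)) (Nat.ble 630 i)) (Nat.ble 629 i)) (Bool.rec (motive := fun _ => Nat) (Bool.rec (motive := fun _ => Nat) (4266) (Bool.rec (motive := fun _ => Nat) (3859) (3825) (Nat.ble 634 i)) (Nat.ble 633 i)) (Bool.rec (motive := fun _ => Nat) (Bool.rec (motive := fun _ => Nat) (3472) (5451) (Nat.ble 636 i)) (Bool.rec (motive := fun _ => Nat) (3308) (3470) (Nat.ble 638 i)) (Nat.ble 637 i)) (Nat.ble 635 i)) (Nat.ble 632 i)) (Nat.ble 626 i)) (Bool.rec (motive := fun _ => Nat) (Bool.rec (motive := fun _ => Nat) (Bool.rec (motive := fun _ => Nat) (Bool.rec (motive := fun _ => Nat) (5589) (Bool.rec (motive := fun _ => Nat) (4708) (3248) (Nat.ble 641 i)) (Nat.ble 640 i)) (Bool.rec (motive := fun _ => Nat) (4267) (Bool.rec (motive := fun _ => Nat) (4377) (4374) (Nat.ble 644 i)) (Nat.ble 643 i)) (Nat.ble 642 i)) (Bool.rec (motive := fun _ => Nat) (Bool.rec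 (motive := fun _ => Nat) (4543) (Bool.rec (motive := fun _ => Nat) (3441) (4275) (Nat.ble 647 i)) (Nat.ble 646 i)) (Bool.rec (motive := fun _ => Nat) (Bool.rec (motive := fun _ => Nat) (4471) (5799) (Nat.ble 649 i)) (Bool.rec (motive := fun _ => Nat) (3835) (2509) (Nat.ble 651 i)) (Nat.ble 650 i)) (Nat.ble 648 i)) (Nat.ble 645 i)) (Bool.rec (motive := fun _ => Nat) (Bool.rec (motive := fun _ => Nat) (Bool.rec (motive := fun _ => Nat) (5486) (Bool.rec (motive := fun _ => Nat) (5500) (1799) (Nat.ble 654 i)) (Nat.ble 653 i)) (Bool.rec (motive := fun _ => Nat) (3484) (Bool.rec (motive := fun _ => Nat) (3315) (3822) (Nat.ble 657 i)) (Nat.ble 656 i)) (Nat.ble 655 i)) (Bool.rec (motive := fun _ => Nat) (Bool.rec (motive := fun _ => Nat) (2608) (Bool.rec (motive := fun _ => Nat) (4733) (5263) (Nat.ble 660 i)) (Nat.ble 659 i)) (Bool.rec (motive := fun _ => Nat) (Bool.rec (motive := fun _ => Nat) (5264) (5265) (Nat.ble 662 i)) (Bool.rec (motive := fun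 _ => Nat) (5266) (5267) (Nat.ble 664 i)) (Nat.ble 663 i)) (Nat.ble 661 i)) (Nat.ble 658 i)) (Nat.ble 652 i)) (Nat.ble 639 i)) (Bool.rec (motive := fun _ => Nat) (Bool.rec (motive := fun _ => Nat) (Bool.rec (motive := fun _ => Nat) (Bool.rec (motive := fun _ => Nat) (Bool.rec (motive := fun _ => Nat) (5268) (Bool.rec (motive := fun _ => Nat) (3506) (3507) (Nat.ble 667 i)) (Nat.ble 666 i)) (Bool.rec (motive := fun _ => Nat) (3509) (Bool.rec (motive := fun _ => Nat) (3510) (3785) (Nat.ble 670 i)) (Nat.ble 669 i)) (Nat.ble 668 i)) (Bool.rec (motive := fun _ => Nat) (Bool.rec (motive := fun _ => Nat) (5271) (Bool.rec (motive := fun _ => Nat) (5272) (5273) (Nat.ble 673 i)) (Nat.ble 672 i)) (Bool.rec (motive := fun _ => Nat) (5274) (Bool.rec (motive := fun _ => Nat) (5275) (5269) (Nat.ble 676 i)) (Nat.ble 675 i)) (Nat.ble 674 i)) (Nat.ble 671 i)) (Bool.rec (motive := fun _ => Nat) (Bool.rec (motive := fun _ => Nat) (Bool.rec (motive := fun _ => Nat)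 (5276) (Bool.rec (motive := fun _ => Nat) (2767) (3497) (Nat.ble 679 i)) (Nat.ble 678 i)) (Bool.rec (motive := fun _ => Nat) (4597) (Bool.rec (motive := fun _ => Nat) (4513) (1783) (Nat.ble 682 i)) (Nat.ble 681 i)) (Nat.ble 680 i)) (Bool.rec (motive := fun _ => Nat) (Bool.rec (motive := fun _ => Nat) (2547) (Bool.rec (motive := fun _ => Nat) (3498) (1703) (Nat.ble 685 i)) (Nat.ble 684 i)) (Bool.rec (motive := fun _ => Nat) (Bool.rec (motive := fun _ => Nat) (2658) (5715) (Nat.ble 687 i)) (Bool.rec (motive := fun _ => Nat) (4855) (2766) (Nat.ble 689 i)) (Nat.ble 688 i)) (Nat.ble 686 i)) (Nat.ble 683 i)) (Nat.ble 677 i)) (Bool.rec (motive := fun _ => Nat) (Bool.rec (motive := fun _ => Nat) (Bool.rec (motive := fun _ => Nat) (Bool.rec (motive := fun _ => Nat) (3292) (Bool.rec (motive := fun _ => Nat) (3528) (3529) (Nat.ble 692 i)) (Nat.ble 691 i)) (Bool.rec (motive := fun _ => Nat) (3531) (Bool.rec (motive := fun _ => Nat) (3532) (4302) (Nat.ble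 695 i)) (Nat.ble 694 i)) (Nat.ble 693 i)) (Bool.rec (motive := fun _ => Nat) (Bool.rec (motive := fun _ => Nat) (1549) (Bool.rec (motive := fun _ => Nat) (4872) (4624) (Nat.ble 698 i)) (Nat.ble 697 i)) (Bool.rec (motive := fun _ => Nat) (Bool.rec (motive := fun _ => Nat) (1552) (4565) (Nat.ble 700 i)) (Bool.rec (motive := fun _ => Nat) (3697) (3698) (Nat.ble 702 i)) (Nat.ble 701 i)) (Nat.ble 699 i)) (Nat.ble 696 i)) (Bool.rec (motive := fun _ => Nat) (Bool.rec (motive := fun _ => Nat) (Bool.rec (motive := fun _ => Nat) (3700) (Bool.rec (motive := fun _ => Nat) (3701) (3826) (Nat.ble 705 i)) (Nat.ble 704 i)) (Bool.rec (motive := fun _ => Nat) (3471) (Bool.rec (motive := fun _ => Nat) (4529) (2585) (Nat.ble 708 i)) (Nat.ble 707 i)) (Nat.ble 706 i)) (Bool.rec (motive := fun _ => Nat) (Bool.rec (motive := fun _ => Nat) (3553) (Bool.rec (motive := fun _ => Nat) (3745) (2680) (Nat.ble 711 i)) (Nat.ble 710 i)) (Bool.rec (motive := fun _ => Nat) (Bool.rec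 (motive := fun _ => Nat) (4638) (4734) (Nat.ble 713 i)) (Bool.rec (motive := fun _ => Nat) (2761) (3827) (Nat.ble 715 i)) (Nat.ble 714 i)) (Nat.ble 712 i)) (Nat.ble 709 i)) (Nat.ble 703 i)) (Nat.ble 690 i)) (Nat.ble 665 i)) (Bool.rec (motive := fun _ => Nat) (Bool.rec (motive := fun _ => Nat) (Bool.rec (motive := fun _ => Nat) (Bool.rec (motive := fun _ => Nat) (Bool.rec (motive := fun _ => Nat) (Bool.rec (motive := fun _ => Nat) (4438) (Bool.rec (motive := fun _ => Nat) (3744) (4518) (Nat.ble 718 i)) (Nat.ble 717 i)) (Bool.rec (motive := fun _ => Nat) (4361) (Bool.rec (motive := fun _ => Nat) (3679) (3823) (Nat.ble 721 i)) (Nat.ble 720 i)) (Nat.ble 719 i)) (Bool.rec (motive := fun _ => Nat) (Bool.rec (motive := fun _ => Nat) (3862) (Bool.rec (motive := fun _ => Nat) (5596) (3303) (Nat.ble 724 i)) (Nat.ble 723 i)) (Bool.rec (motive := fun _ => Nat) (2810) (Bool.rec (motive := fun _ => Nat) (3804) (3881) (Nat.ble 727 i)) (Nat.ble 726 i)) (Nat.ble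 725 i)) (Nat.ble 722 i)) (Bool.rec (motive := fun _ => Nat) (Bool.rec (motive := fun _ => Nat) (Bool.rec (motive := fun _ => Nat) (4795) (Bool.rec (motive := fun _ => Nat) (5670) (2824) (Nat.ble 730 i)) (Nat.ble 729 i)) (Bool.rec (motive := fun _ => Nat) (5373) (Bool.rec (motive := fun _ => Nat) (5425) (5358) (Nat.ble 733 i)) (Nat.ble 732 i)) (Nat.ble 731 i)) (Bool.rec (motive := fun _ => Nat) (Bool.rec (motive := fun _ => Nat) (3599) (Bool.rec (motive := fun _ => Nat) (3833) (5601) (Nat.ble 736 i)) (Nat.ble 735 i)) (Bool.rec (motive := fun _ => Nat) (Bool.rec (motive := fun _ => Nat) (3732) (4720) (Nat.ble 738 i)) (Bool.rec (motive := fun _ => Nat) (3480) (3372) (Nat.ble 740 i)) (Nat.ble 739 i)) (Nat.ble 737 i)) (Nat.ble 734 i)) (Nat.ble 728 i)) (Bool.rec (motive := fun _ => Nat) (Bool.rec (motive := fun _ => Nat) (Bool.rec (motive := fun _ => Nat) (Bool.rec (motive := fun _ => Nat) (4688) (Bool.rec (motive := fun _ => Nat) (3479) (5302) (Nat.ble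 743 i)) (Nat.ble 742 i)) (Bool.rec (motive := fun _ => Nat) (5303) (Bool.rec (motive := fun _ => Nat) (5304) (5305) (Nat.ble 746 i)) (Nat.ble 745 i)) (Nat.ble 744 i)) (Bool.rec (motive := fun _ => Nat) (Bool.rec (motive := fun _ => Nat) (5306) (Bool.rec (motive := fun _ => Nat) (5307) (5310) (Nat.ble 749 i)) (Nat.ble 748 i)) (Bool.rec (motive := fun _ => Nat) (Bool.rec (motive := fun _ => Nat) (5311) (5312) (Nat.ble 751 i)) (Bool.rec (motive := fun _ => Nat) (3415) (5313) (Nat.ble 753 i)) (Nat.ble 752 i)) (Nat.ble 750 i)) (Nat.ble 747 i)) (Bool.rec (motive := fun _ => Nat) (Bool.rec (motive := fun _ => Nat) (Bool.rec (motive := fun _ => Nat) (675) (Bool.rec (motive := fun _ => Nat) (676) (677) (Nat.ble 756 i)) (Nat.ble 755 i)) (Bool.rec (motive := fun _ => Nat) (4515) (Bool.rec (motive := fun _ => Nat) (4712) (3589) (Nat.ble 759 i)) (Nat.ble 758 i)) (Nat.ble 757 i)) (Bool.rec (motive := fun _ => Nat) (Bool.rec (motive := fun _ => Nat) (5419)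 (Bool.rec (motive := fun _ => Nat) (4369) (4621) (Nat.ble 762 i)) (Nat.ble 761 i)) (Bool.rec (motive := fun _ => Nat) (Bool.rec (motive := fun _ => Nat) (5377) (5379) (Nat.ble 764 i)) (Bool.rec (motive := fun _ => Nat) (5374) (4370) (Nat.ble 766 i)) (Nat.ble 765 i)) (Nat.ble 763 i)) (Nat.ble 760 i)) (Nat.ble 754 i)) (Nat.ble 741 i)) (Bool.rec (motive := fun _ => Nat) (Bool.rec (motive := fun _ => Nat) (Bool.rec (motive := fun _ => Nat) (Bool.rec (motive := fun _ => Nat) (Bool.rec (motive := fun _ => Nat) (5529) (Bool.rec (motive := fun _ => Nat) (5420) (4622) (Nat.ble 769 i)) (Nat.ble 768 i)) (Bool.rec (motive := fun _ => Nat) (5879) (Bool.rec (motive := fun _ => Nat) (5367) (5603) (Nat.ble 772 i)) (Nat.ble 771 i)) (Nat.ble 770 i)) (Bool.rec (motive := fun _ => Nat) (Bool.rec (motive := fun _ => Nat) (4830) (Bool.rec (motive := fun _ => Nat) (5602) (3850) (Nat.ble 775 i)) (Nat.ble 774 i)) (Bool.rec (motive := fun _ => Nat) (Bool.rec (motive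 := fun _ => Nat) (2743) (5356) (Nat.ble 777 i)) (Bool.rec (motive := fun _ => Nat) (5357) (5360) (Nat.ble 779 i)) (Nat.ble 778 i)) (Nat.ble 776 i)) (Nat.ble 773 i)) (Bool.rec (motive := fun _ => Nat) (Bool.rec (motive := fun _ => Nat) (Bool.rec (motive := fun _ => Nat) (5361) (Bool.rec (motive := fun _ => Nat) (5362) (5363) (Nat.ble 782 i)) (Nat.ble 781 i)) (Bool.rec (motive := fun _ => Nat) (3449) (Bool.rec (motive := fun _ => Nat) (5368) (3613) (Nat.ble 785 i)) (Nat.ble 784 i)) (Nat.ble 783 i)) (Bool.rec (motive := fun _ => Nat) (Bool.rec (motive := fun _ => Nat) (5370) (Bool.rec (motive := fun _ => Nat) (5371) (5372) (Nat.ble 788 i)) (Nat.ble 787 i)) (Bool.rec (motive := fun _ => Nat) (Bool.rec (motive := fun _ => Nat) (5375) (5376) (Nat.ble 790 i)) (Bool.rec (motive := fun _ => Nat) (5378) (3719) (Nat.ble 792 i)) (Nat.ble 791 i)) (Nat.ble 789 i)) (Nat.ble 786 i)) (Nat.ble 780 i)) (Bool.rec (motive := fun _ => Nat) (Bool.rec (motive := fun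 _ => Nat) (Bool.rec (motive := fun _ => Nat) (Bool.rec (motive := fun _ => Nat) (5365) (Bool.rec (motive := fun _ => Nat) (3805) (2809) (Nat.ble 795 i)) (Nat.ble 794 i)) (Bool.rec (motive := fun _ => Nat) (731) (Bool.rec (motive := fun _ => Nat) (5430) (5422) (Nat.ble 798 i)) (Nat.ble 797 i)) (Nat.ble 796 i)) (Bool.rec (motive := fun _ => Nat) (Bool.rec (motive := fun _ => Nat) (5531) (Bool.rec (motive := fun _ => Nat) (5528) (5526) (Nat.ble 801 i)) (Nat.ble 800 i)) (Bool.rec (motive := fun _ => Nat) (Bool.rec (motive := fun _ => Nat) (5532) (5595) (Nat.ble 803 i)) (Bool.rec (motive := fun _ => Nat) (4527) (5424) (Nat.ble 805 i)) (Nat.ble 804 i)) (Nat.ble 802 i)) (Nat.ble 799 i)) (Bool.rec (motive := fun _ => Nat) (Bool.rec (motive := fun _ => Nat) (Bool.rec (motive := fun _ => Nat) (790) (Bool.rec (motive := fun _ => Nat) (3770) (5519) (Nat.ble 808 i)) (Nat.ble 807 i)) (Bool.rec (motive := fun _ => Nat) (5426) (Bool.rec (motive := fun _ =>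 Nat) (5515) (5427) (Nat.ble 811 i)) (Nat.ble 810 i)) (Nat.ble 809 i)) (Bool.rec (motive := fun _ => Nat) (Bool.rec (motive := fun _ => Nat) (5421) (Bool.rec (motive := fun _ => Nat) (793) (3838) (Nat.ble 814 i)) (Nat.ble 813 i)) (Bool.rec (motive := fun _ => Nat) (Bool.rec (motive := fun _ => Nat) (5533) (5530) (Nat.ble 816 i)) (Bool.rec (motive := fun _ => Nat) (5527) (5518) (Nat.ble 818 i)) (Nat.ble 817 i)) (Nat.ble 815 i)) (Nat.ble 812 i)) (Nat.ble 806 i)) (Nat.ble 793 i)) (Nat.ble 767 i)) (Nat.ble 716 i)) (Nat.ble 614 i)) (Nat.ble 409 i))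

/-- Stabilising words of node 1. -/
def tGen1 : List (List Nat) := [[4], [8], [12], [6, 4, 6], [10, 8, 11], [2, 0, 4, 2]]

/-- Roots at node 1. -/
def tRoot1 : List Nat := [1, 10]

/-- Forest of the points at node 2. -/
noncomputable def tPar2 (i : Nat) : Nat := (Bool.rec (motive := fun _ => Nat) (Bool.rec (motive := fun _ => Nat) (Bool.rec (motive := fun _ => Nat) (Bool.rec (motive := fun _ => Nat) (Bool.rec (motive := fun _ => Nat) (Bool.rec (motive := fun _ => Nat) (Bool.rec (motive := fun _ => Nat) (Bool.rec (motive := fun _ => Nat) (Bool.rec (motive := fun _ => Nat) (15360) (Bool.rec (motive := fun _ => Nat) (4415) (5457) (Nat.ble 2 i)) (Nat.ble 1 i)) (Bool.rec (motive := fun _ => Nat) (5454) (Bool.rec (motive := fun _ => Nat) (6710) (5828) (Nat.ble 5 i)) (Nat.ble 4 i)) (Nat.ble 3 i)) (Bool.rec (motive := fun _ => Nat) (Bool.rec (motive := fun _ => Nat) (0) (Bool.rec (motive := fun _ => Nat) (15367) (2208) (Nat.ble 8 i)) (Nat.ble 7 i))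 (Bool.rec (motive := fun _ => Nat) (5842) (Bool.rec (motive := fun _ => Nat) (6381) (1121) (Nat.ble 11 i)) (Nat.ble 10 i)) (Nat.ble 9 i)) (Nat.ble 6 i)) (Bool.rec (motive := fun _ => Nat) (Bool.rec (motive := fun _ => Nat) (Bool.rec (motive := fun _ => Nat) (99) (Bool.rec (motive := fun _ => Nat) (6431) (3278) (Nat.ble 14 i)) (Nat.ble 13 i)) (Bool.rec (motive := fun _ => Nat) (5756) (Bool.rec (motive := fun _ => Nat) (2311) (2132) (Nat.ble 17 i)) (Nat.ble 16 i)) (Nat.ble 15 i)) (Bool.rec (motive := fun _ => Nat) (Bool.rec (motive := fun _ => Nat) (5611) (Bool.rec (motive := fun _ => Nat) (1033) (1081) (Nat.ble 20 i)) (Nat.ble 19 i)) (Bool.rec (motive := fun _ => Nat) (Bool.rec (motive := fun _ => Nat) (1186) (162) (Nat.ble 22 i)) (Bool.rec (motive := fun _ => Nat) (1058) (36) (Nat.ble 24 i)) (Nat.ble 23 i)) (Nat.ble 21 i)) (Nat.ble 18 i)) (Nat.ble 12 i)) (Bool.rec (motive := fun _ => Nat) (Bool.rec (motive := fun _ => Nat) (Bool.rec (motive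 := fun _ => Nat) (Bool.rec (motive := fun _ => Nat) (6818) (Bool.rec (motive := fun _ => Nat) (6513) (2210) (Nat.ble 27 i)) (Nat.ble 26 i)) (Bool.rec (motive := fun _ => Nat) (5683) (Bool.rec (motive := fun _ => Nat) (112) (2105) (Nat.ble 30 i)) (Nat.ble 29 i)) (Nat.ble 28 i)) (Bool.rec (motive := fun _ => Nat) (Bool.rec (motive := fun _ => Nat) (2145) (Bool.rec (motive := fun _ => Nat) (43) (4154) (Nat.ble 33 i)) (Nat.ble 32 i)) (Bool.rec (motive := fun _ => Nat) (Bool.rec (motive := fun _ => Nat) (6626) (4678) (Nat.ble 35 i)) (Bool.rec (motive := fun _ => Nat) (86) (3186) (Nat.ble 37 i)) (Nat.ble 36 i)) (Nat.ble 34 i)) (Nat.ble 31 i)) (Bool.rec (motive := fun _ => Nat) (Bool.rec (motive := fun _ => Nat) (Bool.rec (motive := fun _ => Nat) (1029) (Bool.rec (motive := fun _ => Nat) (6502) (1287) (Nat.ble 40 i)) (Nat.ble 39 i)) (Bool.rec (motive := fun _ => Nat) (5197) (Bool.rec (motive := fun _ => Nat) (1185) (161) (Nat.ble 43 i)) (Nat.ble 42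 i)) (Nat.ble 41 i)) (Bool.rec (motive := fun _ => Nat) (Bool.rec (motive := fun _ => Nat) (3758) (Bool.rec (motive := fun _ => Nat) (59) (6432) (Nat.ble 46 i)) (Nat.ble 45 i)) (Bool.rec (motive := fun _ => Nat) (Bool.rec (motive := fun _ => Nat) (3104) (6559) (Nat.ble 48 i)) (Bool.rec (motive := fun _ => Nat) (1059) (6552) (Nat.ble 50 i)) (Nat.ble 49 i)) (Nat.ble 47 i)) (Nat.ble 44 i)) (Nat.ble 38 i)) (Nat.ble 25 i)) (Bool.rec (motive := fun _ => Nat) (Bool.rec (motive := fun _ => Nat) (Bool.rec (motive := fun _ => Nat) (Bool.rec (motive := fun _ => Nat) (Bool.rec (motive := fun _ => Nat) (1697) (Bool.rec (motive := fun _ => Nat) (5157) (1192) (Nat.ble 53 i)) (Nat.ble 52 i)) (Bool.rec (motive := fun _ => Nat) (2209) (Bool.rec (motive := fun _ => Nat) (3441) (2107) (Nat.ble 56 i)) (Nat.ble 55 i)) (Nat.ble 54 i)) (Bool.rec (motive := fun _ => Nat) (Bool.rec (motive := fun _ => Nat) (5673) (Bool.rec (motive := fun _ => Nat) (15418) (1031) (Nat.ble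 59 i)) (Nat.ble 58 i)) (Bool.rec (motive := fun _ => Nat) (6232) (Bool.rec (motive := fun _ => Nat) (2134) (3312) (Nat.ble 62 i)) (Nat.ble 61 i)) (Nat.ble 60 i)) (Nat.ble 57 i)) (Bool.rec (motive := fun _ => Nat) (Bool.rec (motive := fun _ => Nat) (Bool.rec (motive := fun _ => Nat) (6953) (Bool.rec (motive := fun _ => Nat) (6187) (1108) (Nat.ble 65 i)) (Nat.ble 64 i)) (Bool.rec (motive := fun _ => Nat) (5569) (Bool.rec (motive := fun _ => Nat) (1138) (15) (Nat.ble 68 i)) (Nat.ble 67 i)) (Nat.ble 66 i)) (Bool.rec (motive := fun _ => Nat) (Bool.rec (motive := fun _ => Nat) (5299) (Bool.rec (motive := fun _ => Nat) (777) (1775) (Nat.ble 71 i)) (Nat.ble 70 i)) (Bool.rec (motive := fun _ => Nat) (Bool.rec (motive := fun _ => Nat) (4128) (5451) (Nat.ble 73 i)) (Bool.rec (motive := fun _ => Nat) (5250) (5471) (Nat.ble 75 i)) (Nat.ble 74 i)) (Nat.ble 72 i)) (Nat.ble 69 i)) (Nat.ble 63 i)) (Bool.rec (motive := fun _ => Nat) (Bool.rec (motive := fun _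 => Nat) (Bool.rec (motive := fun _ => Nat) (Bool.rec (motive := fun _ => Nat) (5680) (Bool.rec (motive := fun _ => Nat) (1154) (2083) (Nat.ble 78 i)) (Nat.ble 77 i)) (Bool.rec (motive := fun _ => Nat) (5528) (Bool.rec (motive := fun _ => Nat) (560) (584) (Nat.ble 81 i)) (Nat.ble 80 i)) (Nat.ble 79 i)) (Bool.rec (motive := fun _ => Nat) (Bool.rec (motive := fun _ => Nat) (6598) (Bool.rec (motive := fun _ => Nat) (1088) (4233) (Nat.ble 84 i)) (Nat.ble 83 i)) (Bool.rec (motive := fun _ => Nat) (Bool.rec (motive := fun _ => Nat) (6911) (5163) (Nat.ble 86 i)) (Bool.rec (motive := fun _ => Nat) (6303) (4514) (Nat.ble 88 i)) (Nat.ble 87 i)) (Nat.ble 85 i)) (Nat.ble 82 i)) (Bool.rec (motive := fun _ => Nat) (Bool.rec (motive := fun _ => Nat) (Bool.rec (motive := fun _ => Nat) (4103) (Bool.rec (motive := fun _ => Nat) (3804) (4459) (Nat.ble 91 i)) (Nat.ble 90 i)) (Bool.rec (motive := fun _ => Nat) (4461) (Bool.rec (motive := fun _ => Nat) (4150) (1515)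 (Nat.ble 94 i)) (Nat.ble 93 i)) (Nat.ble 92 i)) (Bool.rec (motive := fun _ => Nat) (Bool.rec (motive := fun _ => Nat) (1700) (Bool.rec (motive := fun _ => Nat) (14432) (5633) (Nat.ble 97 i)) (Nat.ble 96 i)) (Bool.rec (motive := fun _ => Nat) (Bool.rec (motive := fun _ => Nat) (1069) (4699) (Nat.ble 99 i)) (Bool.rec (motive := fun _ => Nat) (4550) (3849) (Nat.ble 101 i)) (Nat.ble 100 i)) (Nat.ble 98 i)) (Nat.ble 95 i)) (Nat.ble 89 i)) (Nat.ble 76 i)) (Nat.ble 51 i)) (Bool.rec (motive := fun _ => Nat) (Bool.rec (motive := fun _ => Nat) (Bool.rec (motive := fun _ => Nat) (Bool.rec (motive := fun _ => Nat) (Bool.rec (motive := fun _ => Nat) (Bool.rec (motive := fun _ => Nat) (6391) (Bool.rec (motive := fun _ => Nat) (6436) (632) (Nat.ble 104 i)) (Nat.ble 103 i)) (Bool.rec (motive := fun _ => Nat) (1080) (Bool.rec (motive := fun _ => Nat) (2093) (5459) (Nat.ble 107 i)) (Nat.ble 106 i)) (Nat.ble 105 i)) (Bool.rec (motive := fun _ => Nat) (Bool.rec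 (motive := fun _ => Nat) (5852) (Bool.rec (motive := fun _ => Nat) (1413) (5709) (Nat.ble 110 i)) (Nat.ble 109 i)) (Bool.rec (motive := fun _ => Nat) (5227) (Bool.rec (motive := fun _ => Nat) (5752) (5545) (Nat.ble 113 i)) (Nat.ble 112 i)) (Nat.ble 111 i)) (Nat.ble 108 i)) (Bool.rec (motive := fun _ => Nat) (Bool.rec (motive := fun _ => Nat) (Bool.rec (motive := fun _ => Nat) (3079) (Bool.rec (motive := fun _ => Nat) (5794) (6306) (Nat.ble 116 i)) (Nat.ble 115 i)) (Bool.rec (motive := fun _ => Nat) (5910) (Bool.rec (motive := fun _ => Nat) (3267) (4302) (Nat.ble 119 i)) (Nat.ble 118 i)) (Nat.ble 117 i)) (Bool.rec (motive := fun _ => Nat) (Bool.rec (motive := fun _ => Nat) (4155) (Bool.rec (motive := fun _ => Nat) (6925) (4624) (Nat.ble 122 i)) (Nat.ble 121 i)) (Bool.rec (motive := fun _ => Nat) (Bool.rec (motive := fun _ => Nat) (1230) (4296) (Nat.ble 124 i)) (Bool.rec (motive := fun _ => Nat) (4305) (3825) (Nat.ble 126 i)) (Nat.ble 125 i))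 (Nat.ble 123 i)) (Nat.ble 120 i)) (Nat.ble 114 i)) (Bool.rec (motive := fun _ => Nat) (Bool.rec (motive := fun _ => Nat) (Bool.rec (motive := fun _ => Nat) (Bool.rec (motive := fun _ => Nat) (2112) (Bool.rec (motive := fun _ => Nat) (6311) (6263) (Nat.ble 129 i)) (Nat.ble 128 i)) (Bool.rec (motive := fun _ => Nat) (5607) (Bool.rec (motive := fun _ => Nat) (3072) (3838) (Nat.ble 132 i)) (Nat.ble 131 i)) (Nat.ble 130 i)) (Bool.rec (motive := fun _ => Nat) (Bool.rec (motive := fun _ => Nat) (6696) (Bool.rec (motive := fun _ => Nat) (391) (1316) (Nat.ble 135 i)) (Nat.ble 134 i)) (Bool.rec (motive := fun _ => Nat) (Bool.rec (motive := fun _ => Nat) (5241) (5179) (Nat.ble 137 i)) (Bool.rec (motive := fun _ => Nat) (4343) (2643) (Nat.ble 139 i)) (Nat.ble 138 i)) (Nat.ble 136 i)) (Nat.ble 133 i)) (Bool.rec (motive := fun _ => Nat) (Bool.rec (motive := fun _ => Nat) (Bool.rec (motive := fun _ => Nat) (351) (Bool.rec (motive := fun _ => Nat) (5711) (5315)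 (Nat.ble 142 i)) (Nat.ble 141 i)) (Bool.rec (motive := fun _ => Nat) (3680) (Bool.rec (motive := fun _ => Nat) (801) (5357) (Nat.ble 145 i)) (Nat.ble 144 i)) (Nat.ble 143 i)) (Bool.rec (motive := fun _ => Nat) (Bool.rec (motive := fun _ => Nat) (1689) (Bool.rec (motive := fun _ => Nat) (6726) (1805) (Nat.ble 148 i)) (Nat.ble 147 i)) (Bool.rec (motive := fun _ => Nat) (Bool.rec (motive := fun _ => Nat) (1341) (415) (Nat.ble 150 i)) (Bool.rec (motive := fun _ => Nat) (1698) (6249) (Nat.ble 152 i)) (Nat.ble 151 i)) (Nat.ble 149 i)) (Nat.ble 146 i)) (Nat.ble 140 i)) (Nat.ble 127 i)) (Bool.rec (motive := fun _ => Nat) (Bool.rec (motive := fun _ => Nat) (Bool.rec (motive := fun _ => Nat) (Bool.rec (motive := fun _ => Nat) (Bool.rec (motive := fun _ => Nat) (4465) (Bool.rec (motive := fun _ => Nat) (674) (2847) (Nat.ble 155 i)) (Nat.ble 154 i)) (Bool.rec (motive := fun _ => Nat) (2780) (Bool.rec (motive := fun _ => Nat) (5474) (5224) (Nat.ble 158 i))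 (Nat.ble 157 i)) (Nat.ble 156 i)) (Bool.rec (motive := fun _ => Nat) (Bool.rec (motive := fun _ => Nat) (42) (Bool.rec (motive := fun _ => Nat) (1066) (7) (Nat.ble 161 i)) (Nat.ble 160 i)) (Bool.rec (motive := fun _ => Nat) (1067) (Bool.rec (motive := fun _ => Nat) (5257) (4363) (Nat.ble 164 i)) (Nat.ble 163 i)) (Nat.ble 162 i)) (Nat.ble 159 i)) (Bool.rec (motive := fun _ => Nat) (Bool.rec (motive := fun _ => Nat) (Bool.rec (motive := fun _ => Nat) (1567) (Bool.rec (motive := fun _ => Nat) (2090) (1077) (Nat.ble 167 i)) (Nat.ble 166 i)) (Bool.rec (motive := fun _ => Nat) (2055) (Bool.rec (motive := fun _ => Nat) (1078) (425) (Nat.ble 170 i)) (Nat.ble 169 i)) (Nat.ble 168 i)) (Bool.rec (motive := fun _ => Nat) (Bool.rec (motive := fun _ => Nat) (4436) (Bool.rec (motive := fun _ => Nat) (6910) (3600) (Nat.ble 173 i)) (Nat.ble 172 i)) (Bool.rec (motive := fun _ => Nat) (Bool.rec (motive := fun _ => Nat) (2842) (5785) (Nat.ble 175 i)) (Bool.rec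 (motive := fun _ => Nat) (4130) (6312) (Nat.ble 177 i)) (Nat.ble 176 i)) (Nat.ble 174 i)) (Nat.ble 171 i)) (Nat.ble 165 i)) (Bool.rec (motive := fun _ => Nat) (Bool.rec (motive := fun _ => Nat) (Bool.rec (motive := fun _ => Nat) (Bool.rec (motive := fun _ => Nat) (5282) (Bool.rec (motive := fun _ => Nat) (5787) (6530) (Nat.ble 180 i)) (Nat.ble 179 i)) (Bool.rec (motive := fun _ => Nat) (1249) (Bool.rec (motive := fun _ => Nat) (5162) (5594) (Nat.ble 183 i)) (Nat.ble 182 i)) (Nat.ble 181 i)) (Bool.rec (motive := fun _ => Nat) (Bool.rec (motive := fun _ => Nat) (661) (Bool.rec (motive := fun _ => Nat) (4263) (6773) (Nat.ble 186 i)) (Nat.ble 185 i)) (Bool.rec (motive := fun _ => Nat) (Bool.rec (motive := fun _ => Nat) (1833) (2651) (Nat.ble 188 i)) (Bool.rec (motive := fun _ => Nat) (6739) (6237) (Nat.ble 190 i)) (Nat.ble 189 i)) (Nat.ble 187 i)) (Nat.ble 184 i)) (Bool.rec (motive := fun _ => Nat) (Bool.rec (motive := fun _ => Nat) (Bool.rec (motive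 := fun _ => Nat) (6913) (Bool.rec (motive := fun _ => Nat) (672) (2827) (Nat.ble 193 i)) (Nat.ble 192 i)) (Bool.rec (motive := fun _ => Nat) (3873) (Bool.rec (motive := fun _ => Nat) (5288) (4480) (Nat.ble 196 i)) (Nat.ble 195 i)) (Nat.ble 194 i)) (Bool.rec (motive := fun _ => Nat) (Bool.rec (motive := fun _ => Nat) (3078) (Bool.rec (motive := fun _ => Nat) (4331) (6752) (Nat.ble 199 i)) (Nat.ble 198 i)) (Bool.rec (motive := fun _ => Nat) (Bool.rec (motive := fun _ => Nat) (6678) (707) (Nat.ble 201 i)) (Bool.rec (motive := fun _ => Nat) (341) (6411) (Nat.ble 203 i)) (Nat.ble 202 i)) (Nat.ble 200 i)) (Nat.ble 197 i)) (Nat.ble 191 i)) (Nat.ble 178 i)) (Nat.ble 153 i)) (Nat.ble 102 i)) (Bool.rec (motive := fun _ => Nat) (Bool.rec (motive := fun _ => Nat) (Bool.rec (motive := fun _ => Nat) (Bool.rec (motive := fun _ => Nat) (Bool.rec (motive := fun _ => Nat) (Bool.rec (motive := fun _ => Nat) (Bool.rec (motive := fun _ => Nat) (6654) (Bool.rec (motive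 := fun _ => Nat) (6496) (3131) (Nat.ble 206 i)) (Nat.ble 205 i)) (Bool.rec (motive := fun _ => Nat) (6361) (Bool.rec (motive := fun _ => Nat) (1451) (6694) (Nat.ble 209 i)) (Nat.ble 208 i)) (Nat.ble 207 i)) (Bool.rec (motive := fun _ => Nat) (Bool.rec (motive := fun _ => Nat) (6687) (Bool.rec (motive := fun _ => Nat) (1521) (3624) (Nat.ble 212 i)) (Nat.ble 211 i)) (Bool.rec (motive := fun _ => Nat) (5494) (Bool.rec (motive := fun _ => Nat) (2389) (4366) (Nat.ble 215 i)) (Nat.ble 214 i)) (Nat.ble 213 i)) (Nat.ble 210 i)) (Bool.rec (motive := fun _ => Nat) (Bool.rec (motive := fun _ => Nat) (Bool.rec (motive := fun _ => Nat) (1482) (Bool.rec (motive := fun _ => Nat) (6357) (142) (Nat.ble 218 i)) (Nat.ble 217 i)) (Bool.rec (motive := fun _ => Nat) (4350) (Bool.rec (motive := fun _ => Nat) (4355) (5339) (Nat.ble 221 i)) (Nat.ble 220 i)) (Nat.ble 219 i)) (Bool.rec (motive := fun _ => Nat) (Bool.rec (motive := fun _ => Nat) (5455) (Bool.rec (motive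 := fun _ => Nat) (3170) (3206) (Nat.ble 224 i)) (Nat.ble 223 i)) (Bool.rec (motive := fun _ => Nat) (Bool.rec (motive := fun _ => Nat) (6895) (4470) (Nat.ble 226 i)) (Bool.rec (motive := fun _ => Nat) (4371) (449) (Nat.ble 228 i)) (Nat.ble 227 i)) (Nat.ble 225 i)) (Nat.ble 222 i)) (Nat.ble 216 i)) (Bool.rec (motive := fun _ => Nat) (Bool.rec (motive := fun _ => Nat) (Bool.rec (motive := fun _ => Nat) (Bool.rec (motive := fun _ => Nat) (363) (Bool.rec (motive := fun _ => Nat) (5649) (1202) (Nat.ble 231 i)) (Nat.ble 230 i)) (Bool.rec (motive := fun _ => Nat) (137) (Bool.rec (motive := fun _ => Nat) (4704) (4504) (Nat.ble 234 i)) (Nat.ble 233 i)) (Nat.ble 232 i)) (Bool.rec (motive := fun _ => Nat) (Bool.rec (motive := fun _ => Nat) (6233) (Bool.rec (motive := fun _ => Nat) (1803) (5165) (Nat.ble 237 i)) (Nat.ble 236 i)) (Bool.rec (motive := fun _ => Nat) (Bool.rec (motive := fun _ => Nat) (5509) (4605) (Nat.ble 239 i)) (Bool.rec (motive := fun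 _ => Nat) (6305) (1823) (Nat.ble 241 i)) (Nat.ble 240 i)) (Nat.ble 238 i)) (Nat.ble 235 i)) (Bool.rec (motive := fun _ => Nat) (Bool.rec (motive := fun _ => Nat) (Bool.rec (motive := fun _ => Nat) (603) (Bool.rec (motive := fun _ => Nat) (5184) (4152) (Nat.ble 244 i)) (Nat.ble 243 i)) (Bool.rec (motive := fun _ => Nat) (3871) (Bool.rec (motive := fun _ => Nat) (604) (2829) (Nat.ble 247 i)) (Nat.ble 246 i)) (Nat.ble 245 i)) (Bool.rec (motive := fun _ => Nat) (Bool.rec (motive := fun _ => Nat) (3385) (Bool.rec (motive := fun _ => Nat) (5810) (4194) (Nat.ble 250 i)) (Nat.ble 249 i)) (Bool.rec (motive := fun _ => Nat) (Bool.rec (motive := fun _ => Nat) (3158) (751) (Nat.ble 252 i)) (Bool.rec (motive := fun _ => Nat) (608) (6203) (Nat.ble 254 i)) (Nat.ble 253 i)) (Nat.ble 251 i)) (Nat.ble 248 i)) (Nat.ble 242 i)) (Nat.ble 229 i)) (Bool.rec (motive := fun _ => Nat) (Bool.rec (motive := fun _ => Nat) (Bool.rec (motive := fun _ => Nat) (Bool.rec (motive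 := fun _ => Nat) (Bool.rec (motive := fun _ => Nat) (6829) (Bool.rec (motive := fun _ => Nat) (6297) (2857) (Nat.ble 257 i)) (Nat.ble 256 i)) (Bool.rec (motive := fun _ => Nat) (6384) (Bool.rec (motive := fun _ => Nat) (5234) (3087) (Nat.ble 260 i)) (Nat.ble 259 i)) (Nat.ble 258 i)) (Bool.rec (motive := fun _ => Nat) (Bool.rec (motive := fun _ => Nat) (5200) (Bool.rec (motive := fun _ => Nat) (5657) (5767) (Nat.ble 263 i)) (Nat.ble 262 i)) (Bool.rec (motive := fun _ => Nat) (6950) (Bool.rec (motive := fun _ => Nat) (1616) (1724) (Nat.ble 266 i)) (Nat.ble 265 i)) (Nat.ble 264 i)) (Nat.ble 261 i)) (Bool.rec (motive := fun _ => Nat) (Bool.rec (motive := fun _ => Nat) (Bool.rec (motive := fun _ => Nat) (6144) (Bool.rec (motive := fun _ => Nat) (4731) (434) (Nat.ble 269 i)) (Nat.ble 268 i)) (Bool.rec (motive := fun _ => Nat) (6308) (Bool.rec (motive := fun _ => Nat) (2506) (6763) (Nat.ble 272 i)) (Nat.ble 271 i)) (Nat.ble 270 i)) (Bool.rec (motive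 := fun _ => Nat) (Bool.rec (motive := fun _ => Nat) (6507) (Bool.rec (motive := fun _ => Nat) (3622) (6851) (Nat.ble 275 i)) (Nat.ble 274 i)) (Bool.rec (motive := fun _ => Nat) (Bool.rec (motive := fun _ => Nat) (650) (1398) (Nat.ble 277 i)) (Bool.rec (motive := fun _ => Nat) (2482) (4554) (Nat.ble 279 i)) (Nat.ble 278 i)) (Nat.ble 276 i)) (Nat.ble 273 i)) (Nat.ble 267 i)) (Bool.rec (motive := fun _ => Nat) (Bool.rec (motive := fun _ => Nat) (Bool.rec (motive := fun _ => Nat) (Bool.rec (motive := fun _ => Nat) (458) (Bool.rec (motive := fun _ => Nat) (6615) (3407) (Nat.ble 282 i)) (Nat.ble 281 i)) (Bool.rec (motive := fun _ => Nat) (5929) (Bool.rec (motive := fun _ => Nat) (5483) (3601) (Nat.ble 285 i)) (Nat.ble 284 i)) (Nat.ble 283 i)) (Bool.rec (motive := fun _ => Nat) (Bool.rec (motive := fun _ => Nat) (1253) (Bool.rec (motive := fun _ => Nat) (3125) (1606) (Nat.ble 288 i)) (Nat.ble 287 i)) (Bool.rec (motive := fun _ => Nat) (Bool.rec (motive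 := fun _ => Nat) (4877) (4551) (Nat.ble 290 i)) (Bool.rec (motive := fun _ => Nat) (4268) (6918) (Nat.ble 292 i)) (Nat.ble 291 i)) (Nat.ble 289 i)) (Nat.ble 286 i)) (Bool.rec (motive := fun _ => Nat) (Bool.rec (motive := fun _ => Nat) (Bool.rec (motive := fun _ => Nat) (1158) (Bool.rec (motive := fun _ => Nat) (2466) (5154) (Nat.ble 295 i)) (Nat.ble 294 i)) (Bool.rec (motive := fun _ => Nat) (1161) (Bool.rec (motive := fun _ => Nat) (4886) (5581) (Nat.ble 298 i)) (Nat.ble 297 i)) (Nat.ble 296 i)) (Bool.rec (motive := fun _ => Nat) (Bool.rec (motive := fun _ => Nat) (5793) (Bool.rec (motive := fun _ => Nat) (6868) (2836) (Nat.ble 301 i)) (Nat.ble 300 i)) (Bool.rec (motive := fun _ => Nat) (Bool.rec (motive := fun _ => Nat) (1768) (4337) (Nat.ble 303 i)) (Bool.rec (motive := fun _ => Nat) (2722) (799) (Nat.ble 305 i)) (Nat.ble 304 i)) (Nat.ble 302 i)) (Nat.ble 299 i)) (Nat.ble 293 i)) (Nat.ble 280 i)) (Nat.ble 255 i)) (Bool.rec (motive := fun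 _ => Nat) (Bool.rec (motive := fun _ => Nat) (Bool.rec (motive := fun _ => Nat) (Bool.rec (motive := fun _ => Nat) (Bool.rec (motive := fun _ => Nat) (Bool.rec (motive := fun _ => Nat) (1627) (Bool.rec (motive := fun _ => Nat) (732) (6748) (Nat.ble 308 i)) (Nat.ble 307 i)) (Bool.rec (motive := fun _ => Nat) (5612) (Bool.rec (motive := fun _ => Nat) (673) (492) (Nat.ble 311 i)) (Nat.ble 310 i)) (Nat.ble 309 i)) (Bool.rec (motive := fun _ => Nat) (Bool.rec (motive := fun _ => Nat) (2822) (Bool.rec (motive := fun _ => Nat) (6258) (3106) (Nat.ble 314 i)) (Nat.ble 313 i)) (Bool.rec (motive := fun _ => Nat) (6582) (Bool.rec (motive := fun _ => Nat) (1177) (6200) (Nat.ble 317 i)) (Nat.ble 316 i)) (Nat.ble 315 i)) (Nat.ble 312 i)) (Bool.rec (motive := fun _ => Nat) (Bool.rec (motive := fun _ => Nat) (Bool.rec (motive := fun _ => Nat) (6592) (Bool.rec (motive := fun _ => Nat) (497) (2439) (Nat.ble 320 i)) (Nat.ble 319 i)) (Bool.rec (motive := fun _ =>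 Nat) (6923) (Bool.rec (motive := fun _ => Nat) (5648) (2610) (Nat.ble 323 i)) (Nat.ble 322 i)) (Nat.ble 321 i)) (Bool.rec (motive := fun _ => Nat) (Bool.rec (motive := fun _ => Nat) (6635) (Bool.rec (motive := fun _ => Nat) (4577) (1299) (Nat.ble 326 i)) (Nat.ble 325 i)) (Bool.rec (motive := fun _ => Nat) (Bool.rec (motive := fun _ => Nat) (5670) (2770) (Nat.ble 328 i)) (Bool.rec (motive := fun _ => Nat) (766) (1458) (Nat.ble 330 i)) (Nat.ble 329 i)) (Nat.ble 327 i)) (Nat.ble 324 i)) (Nat.ble 318 i)) (Bool.rec (motive := fun _ => Nat) (Bool.rec (motive := fun _ => Nat) (Bool.rec (motive := fun _ => Nat) (Bool.rec (motive := fun _ => Nat) (636) (Bool.rec (motive := fun _ => Nat) (6474) (6421) (Nat.ble 333 i)) (Nat.ble 332 i)) (Bool.rec (motive := fun _ => Nat) (5178) (Bool.rec (motive := fun _ => Nat) (6535) (1641) (Nat.ble 336 i)) (Nat.ble 335 i)) (Nat.ble 334 i)) (Bool.rec (motive := fun _ => Nat) (Bool.rec (motive := fun _ => Nat) (5153) (Bool.rec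 (motive := fun _ => Nat) (667) (4102) (Nat.ble 339 i)) (Nat.ble 338 i)) (Bool.rec (motive := fun _ => Nat) (Bool.rec (motive := fun _ => Nat) (618) (1291) (Nat.ble 341 i)) (Bool.rec (motive := fun _ => Nat) (6274) (4299) (Nat.ble 343 i)) (Nat.ble 342 i)) (Nat.ble 340 i)) (Nat.ble 337 i)) (Bool.rec (motive := fun _ => Nat) (Bool.rec (motive := fun _ => Nat) (Bool.rec (motive := fun _ => Nat) (203) (Bool.rec (motive := fun _ => Nat) (6568) (4582) (Nat.ble 346 i)) (Nat.ble 345 i)) (Bool.rec (motive := fun _ => Nat) (346) (Bool.rec (motive := fun _ => Nat) (4765) (4764) (Nat.ble 349 i)) (Nat.ble 348 i)) (Nat.ble 347 i)) (Bool.rec (motive := fun _ => Nat) (Bool.rec (motive := fun _ => Nat) (226) (Bool.rec (motive := fun _ => Nat) (722) (2814) (Nat.ble 352 i)) (Nat.ble 351 i)) (Bool.rec (motive := fun _ => Nat) (Bool.rec (motive := fun _ => Nat) (6569) (1746) (Nat.ble 354 i)) (Bool.rec (motive := fun _ => Nat) (2763) (4474) (Nat.ble 356 i)) (Nat.ble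 355 i)) (Nat.ble 353 i)) (Nat.ble 350 i)) (Nat.ble 344 i)) (Nat.ble 331 i)) (Bool.rec (motive := fun _ => Nat) (Bool.rec (motive := fun _ => Nat) (Bool.rec (motive := fun _ => Nat) (Bool.rec (motive := fun _ => Nat) (Bool.rec (motive := fun _ => Nat) (6682) (Bool.rec (motive := fun _ => Nat) (4182) (567) (Nat.ble 359 i)) (Nat.ble 358 i)) (Bool.rec (motive := fun _ => Nat) (6313) (Bool.rec (motive := fun _ => Nat) (3809) (4875) (Nat.ble 362 i)) (Nat.ble 361 i)) (Nat.ble 360 i)) (Bool.rec (motive := fun _ => Nat) (Bool.rec (motive := fun _ => Nat) (1415) (Bool.rec (motive := fun _ => Nat) (4156) (3128) (Nat.ble 365 i)) (Nat.ble 364 i)) (Bool.rec (motive := fun _ => Nat) (Bool.rec (motive := fun _ => Nat) (2640) (232) (Nat.ble 367 i)) (Bool.rec (motive := fun _ => Nat) (6820) (3233) (Nat.ble 369 i)) (Nat.ble 368 i)) (Nat.ble 366 i)) (Nat.ble 363 i)) (Bool.rec (motive := fun _ => Nat) (Bool.rec (motive := fun _ => Nat) (Bool.rec (motive := fun _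 => Nat) (1416) (Bool.rec (motive := fun _ => Nat) (4408) (2577) (Nat.ble 372 i)) (Nat.ble 371 i)) (Bool.rec (motive := fun _ => Nat) (2785) (Bool.rec (motive := fun _ => Nat) (6150) (4640) (Nat.ble 375 i)) (Nat.ble 374 i)) (Nat.ble 373 i)) (Bool.rec (motive := fun _ => Nat) (Bool.rec (motive := fun _ => Nat) (6791) (Bool.rec (motive := fun _ => Nat) (6370) (2251) (Nat.ble 378 i)) (Nat.ble 377 i)) (Bool.rec (motive := fun _ => Nat) (Bool.rec (motive := fun _ => Nat) (4697) (809) (Nat.ble 380 i)) (Bool.rec (motive := fun _ => Nat) (2246) (3115) (Nat.ble 382 i)) (Nat.ble 381 i)) (Nat.ble 379 i)) (Nat.ble 376 i)) (Nat.ble 370 i)) (Bool.rec (motive := fun _ => Nat) (Bool.rec (motive := fun _ => Nat) (Bool.rec (motive := fun _ => Nat) (Bool.rec (motive := fun _ => Nat) (4700) (Bool.rec (motive := fun _ => Nat) (6876) (3520) (Nat.ble 385 i)) (Nat.ble 384 i)) (Bool.rec (motive := fun _ => Nat) (1393) (Bool.rec (motive := fun _ => Nat) (6716) (5254)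 (Nat.ble 388 i)) (Nat.ble 387 i)) (Nat.ble 386 i)) (Bool.rec (motive := fun _ => Nat) (Bool.rec (motive := fun _ => Nat) (3490) (Bool.rec (motive := fun _ => Nat) (1542) (6151) (Nat.ble 391 i)) (Nat.ble 390 i)) (Bool.rec (motive := fun _ => Nat) (Bool.rec (motive := fun _ => Nat) (5901) (3364) (Nat.ble 393 i)) (Bool.rec (motive := fun _ => Nat) (4416) (6208) (Nat.ble 395 i)) (Nat.ble 394 i)) (Nat.ble 392 i)) (Nat.ble 389 i)) (Bool.rec (motive := fun _ => Nat) (Bool.rec (motive := fun _ => Nat) (Bool.rec (motive := fun _ => Nat) (5872) (Bool.rec (motive := fun _ => Nat) (4265) (3136) (Nat.ble 398 i)) (Nat.ble 397 i)) (Bool.rec (motive := fun _ => Nat) (2721) (Bool.rec (motive := fun _ => Nat) (6945) (6805) (Nat.ble 401 i)) (Nat.ble 400 i)) (Nat.ble 399 i)) (Bool.rec (motive := fun _ => Nat) (Bool.rec (motive := fun _ => Nat) (1301) (Bool.rec (motive := fun _ => Nat) (2315) (448) (Nat.ble 404 i)) (Nat.ble 403 i)) (Bool.rec (motive := fun _ =>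 Nat) (Bool.rec (motive := fun _ => Nat) (6794) (3313) (Nat.ble 406 i)) (Bool.rec (motive := fun _ => Nat) (4390) (774) (Nat.ble 408 i)) (Nat.ble 407 i)) (Nat.ble 405 i)) (Nat.ble 402 i)) (Nat.ble 396 i)) (Nat.ble 383 i)) (Nat.ble 357 i)) (Nat.ble 306 i)) (Nat.ble 204 i)) (Bool.rec (motive := fun _ => Nat) (Bool.rec (motive := fun _ => Nat) (Bool.rec (motive := fun _ => Nat) (Bool.rec (motive := fun _ => Nat) (Bool.rec (motive := fun _ => Nat) (Bool.rec (motive := fun _ => Nat) (Bool.rec (motive := fun _ => Nat) (Bool.rec (motive := fun _ => Nat) (781) (Bool.rec (motive := fun _ => Nat) (5209) (6611) (Nat.ble 411 i)) (Nat.ble 410 i)) (Bool.rec (motive := fun _ => Nat) (4478) (Bool.rec (motive := fun _ => Nat) (3482) (6448) (Nat.ble 414 i)) (Nat.ble 413 i)) (Nat.ble 412 i)) (Bool.rec (motive := fun _ => Nat) (Bool.rec (motive := fun _ => Nat) (6830) (Bool.rec (motive := fun _ => Nat) (1219) (4333) (Nat.ble 417 i)) (Nat.ble 416 i)) (Bool.rec (motive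 := fun _ => Nat) (5281) (Bool.rec (motive := fun _ => Nat) (1720) (1553) (Nat.ble 420 i)) (Nat.ble 419 i)) (Nat.ble 418 i)) (Nat.ble 415 i)) (Bool.rec (motive := fun _ => Nat) (Bool.rec (motive := fun _ => Nat) (Bool.rec (motive := fun _ => Nat) (5856) (Bool.rec (motive := fun _ => Nat) (5206) (275) (Nat.ble 423 i)) (Nat.ble 422 i)) (Bool.rec (motive := fun _ => Nat) (1790) (Bool.rec (motive := fun _ => Nat) (4818) (5252) (Nat.ble 426 i)) (Nat.ble 425 i)) (Nat.ble 424 i)) (Bool.rec (motive := fun _ => Nat) (Bool.rec (motive := fun _ => Nat) (1365) (Bool.rec (motive := fun _ => Nat) (1732) (6614) (Nat.ble 429 i)) (Nat.ble 428 i)) (Bool.rec (motive := fun _ => Nat) (Bool.rec (motive := fun _ => Nat) (1368) (3667) (Nat.ble 431 i)) (Bool.rec (motive := fun _ => Nat) (5145) (3779) (Nat.ble 433 i)) (Nat.ble 432 i)) (Nat.ble 430 i)) (Nat.ble 427 i)) (Nat.ble 421 i)) (Bool.rec (motive := fun _ => Nat) (Bool.rec (motive := fun _ => Nat) (Bool.rec (motive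 := fun _ => Nat) (Bool.rec (motive := fun _ => Nat) (5387) (Bool.rec (motive := fun _ => Nat) (2325) (4473) (Nat.ble 436 i)) (Nat.ble 435 i)) (Bool.rec (motive := fun _ => Nat) (1227) (Bool.rec (motive := fun _ => Nat) (6578) (4211) (Nat.ble 439 i)) (Nat.ble 438 i)) (Nat.ble 437 i)) (Bool.rec (motive := fun _ => Nat) (Bool.rec (motive := fun _ => Nat) (4425) (Bool.rec (motive := fun _ => Nat) (3719) (6241) (Nat.ble 442 i)) (Nat.ble 441 i)) (Bool.rec (motive := fun _ => Nat) (Bool.rec (motive := fun _ => Nat) (6697) (5841) (Nat.ble 444 i)) (Bool.rec (motive := fun _ => Nat) (563) (6683) (Nat.ble 446 i)) (Nat.ble 445 i)) (Nat.ble 443 i)) (Nat.ble 440 i)) (Bool.rec (motive := fun _ => Nat) (Bool.rec (motive := fun _ => Nat) (Bool.rec (motive := fun _ => Nat) (2323) (Bool.rec (motive := fun _ => Nat) (6652) (5326) (Nat.ble 449 i)) (Nat.ble 448 i)) (Bool.rec (motive := fun _ => Nat) (292) (Bool.rec (motive := fun _ => Nat) (1608) (296) (Nat.ble 452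 i)) (Nat.ble 451 i)) (Nat.ble 450 i)) (Bool.rec (motive := fun _ => Nat) (Bool.rec (motive := fun _ => Nat) (5574) (Bool.rec (motive := fun _ => Nat) (6398) (6812) (Nat.ble 455 i)) (Nat.ble 454 i)) (Bool.rec (motive := fun _ => Nat) (Bool.rec (motive := fun _ => Nat) (552) (3690) (Nat.ble 457 i)) (Bool.rec (motive := fun _ => Nat) (6518) (6801) (Nat.ble 459 i)) (Nat.ble 458 i)) (Nat.ble 456 i)) (Nat.ble 453 i)) (Nat.ble 447 i)) (Nat.ble 434 i)) (Bool.rec (motive := fun _ => Nat) (Bool.rec (motive := fun _ => Nat) (Bool.rec (motive := fun _ => Nat) (Bool.rec (motive := fun _ => Nat) (Bool.rec (motive := fun _ => Nat) (2566) (Bool.rec (motive := fun _ => Nat) (6688) (108) (Nat.ble 462 i)) (Nat.ble 461 i)) (Bool.rec (motive := fun _ => Nat) (2731) (Bool.rec (motive := fun _ => Nat) (6536) (5604) (Nat.ble 465 i)) (Nat.ble 464 i)) (Nat.ble 463 i)) (Bool.rec (motive := fun _ => Nat) (Bool.rec (motive := fun _ => Nat) (1389) (Bool.rec (motive := fun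 _ => Nat) (6350) (3639) (Nat.ble 468 i)) (Nat.ble 467 i)) (Bool.rec (motive := fun _ => Nat) (4896) (Bool.rec (motive := fun _ => Nat) (6776) (1574) (Nat.ble 471 i)) (Nat.ble 470 i)) (Nat.ble 469 i)) (Nat.ble 466 i)) (Bool.rec (motive := fun _ => Nat) (Bool.rec (motive := fun _ => Nat) (Bool.rec (motive := fun _ => Nat) (5329) (Bool.rec (motive := fun _ => Nat) (1581) (1825) (Nat.ble 474 i)) (Nat.ble 473 i)) (Bool.rec (motive := fun _ => Nat) (2799) (Bool.rec (motive := fun _ => Nat) (5414) (6473) (Nat.ble 477 i)) (Nat.ble 476 i)) (Nat.ble 475 i)) (Bool.rec (motive := fun _ => Nat) (Bool.rec (motive := fun _ => Nat) (1387) (Bool.rec (motive := fun _ => Nat) (2665) (454) (Nat.ble 480 i)) (Nat.ble 479 i)) (Bool.rec (motive := fun _ => Nat) (Bool.rec (motive := fun _ => Nat) (1798) (4264) (Nat.ble 482 i)) (Bool.rec (motive := fun _ => Nat) (6891) (2307) (Nat.ble 484 i)) (Nat.ble 483 i)) (Nat.ble 481 i)) (Nat.ble 478 i)) (Nat.ble 472 i)) (Bool.rec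 (motive := fun _ => Nat) (Bool.rec (motive := fun _ => Nat) (Bool.rec (motive := fun _ => Nat) (Bool.rec (motive := fun _ => Nat) (380) (Bool.rec (motive := fun _ => Nat) (2715) (4096) (Nat.ble 487 i)) (Nat.ble 486 i)) (Bool.rec (motive := fun _ => Nat) (5286) (Bool.rec (motive := fun _ => Nat) (254) (4779) (Nat.ble 490 i)) (Nat.ble 489 i)) (Nat.ble 488 i)) (Bool.rec (motive := fun _ => Nat) (Bool.rec (motive := fun _ => Nat) (4139) (Bool.rec (motive := fun _ => Nat) (120) (5796) (Nat.ble 493 i)) (Nat.ble 492 i)) (Bool.rec (motive := fun _ => Nat) (Bool.rec (motive := fun _ => Nat) (4434) (494) (Nat.ble 495 i)) (Bool.rec (motive := fun _ => Nat) (4631) (4630) (Nat.ble 497 i)) (Nat.ble 496 i)) (Nat.ble 494 i)) (Nat.ble 491 i)) (Bool.rec (motive := fun _ => Nat) (Bool.rec (motive := fun _ => Nat) (Bool.rec (motive := fun _ => Nat) (335) (Bool.rec (motive := fun _ => Nat) (2626) (6832) (Nat.ble 500 i)) (Nat.ble 499 i)) (Bool.rec (motive := fun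 _ => Nat) (5191) (Bool.rec (motive := fun _ => Nat) (3177) (3392) (Nat.ble 503 i)) (Nat.ble 502 i)) (Nat.ble 501 i)) (Bool.rec (motive := fun _ => Nat) (Bool.rec (motive := fun _ => Nat) (6211) (Bool.rec (motive := fun _ => Nat) (5867) (543) (Nat.ble 506 i)) (Nat.ble 505 i)) (Bool.rec (motive := fun _ => Nat) (Bool.rec (motive := fun _ => Nat) (6495) (2422) (Nat.ble 508 i)) (Bool.rec (motive := fun _ => Nat) (6779) (6780) (Nat.ble 510 i)) (Nat.ble 509 i)) (Nat.ble 507 i)) (Nat.ble 504 i)) (Nat.ble 498 i)) (Nat.ble 485 i)) (Nat.ble 460 i)) (Bool.rec (motive := fun _ => Nat) (Bool.rec (motive := fun _ => Nat) (Bool.rec (motive := fun _ => Nat) (Bool.rec (motive := fun _ => Nat) (Bool.rec (motive := fun _ => Nat) (Bool.rec (motive := fun _ => Nat) (3446) (Bool.rec (motive := fun _ => Nat) (2649) (5120) (Nat.ble 513 i)) (Nat.ble 512 i)) (Bool.rec (motive := fun _ => Nat) (539) (Bool.rec (motive := fun _ => Nat) (3615) (3527) (Nat.ble 516 i)) (Nat.ble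 515 i)) (Nat.ble 514 i)) (Bool.rec (motive := fun _ => Nat) (Bool.rec (motive := fun _ => Nat) (1656) (Bool.rec (motive := fun _ => Nat) (6762) (5629) (Nat.ble 519 i)) (Nat.ble 518 i)) (Bool.rec (motive := fun _ => Nat) (5292) (Bool.rec (motive := fun _ => Nat) (5554) (6177) (Nat.ble 522 i)) (Nat.ble 521 i)) (Nat.ble 520 i)) (Nat.ble 517 i)) (Bool.rec (motive := fun _ => Nat) (Bool.rec (motive := fun _ => Nat) (Bool.rec (motive := fun _ => Nat) (6666) (Bool.rec (motive := fun _ => Nat) (3249) (2411) (Nat.ble 525 i)) (Nat.ble 524 i)) (Bool.rec (motive := fun _ => Nat) (6921) (Bool.rec (motive := fun _ => Nat) (1446) (2185) (Nat.ble 528 i)) (Nat.ble 527 i)) (Nat.ble 526 i)) (Bool.rec (motive := fun _ => Nat) (Bool.rec (motive := fun _ => Nat) (5176) (Bool.rec (motive := fun _ => Nat) (6202) (6674) (Nat.ble 531 i)) (Nat.ble 530 i)) (Bool.rec (motive := fun _ => Nat) (Bool.rec (motive := fun _ => Nat) (338) (4293) (Nat.ble 533 i)) (Bool.rec (motive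 := fun _ => Nat) (487) (534) (Nat.ble 535 i)) (Nat.ble 534 i)) (Nat.ble 532 i)) (Nat.ble 529 i)) (Nat.ble 523 i)) (Bool.rec (motive := fun _ => Nat) (Bool.rec (motive := fun _ => Nat) (Bool.rec (motive := fun _ => Nat) (Bool.rec (motive := fun _ => Nat) (3424) (Bool.rec (motive := fun _ => Nat) (2601) (1188) (Nat.ble 538 i)) (Nat.ble 537 i)) (Bool.rec (motive := fun _ => Nat) (6852) (Bool.rec (motive := fun _ => Nat) (5789) (6587) (Nat.ble 541 i)) (Nat.ble 540 i)) (Nat.ble 539 i)) (Bool.rec (motive := fun _ => Nat) (Bool.rec (motive := fun _ => Nat) (5557) (Bool.rec (motive := fun _ => Nat) (6547) (374) (Nat.ble 544 i)) (Nat.ble 543 i)) (Bool.rec (motive := fun _ => Nat) (Bool.rec (motive := fun _ => Nat) (6494) (1427) (Nat.ble 546 i)) (Bool.rec (motive := fun _ => Nat) (6641) (5578) (Nat.ble 548 i)) (Nat.ble 547 i)) (Nat.ble 545 i)) (Nat.ble 542 i)) (Bool.rec (motive := fun _ => Nat) (Bool.rec (motive := fun _ => Nat) (Bool.rec (motive := fun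 _ => Nat) (2178) (Bool.rec (motive := fun _ => Nat) (6341) (6849) (Nat.ble 551 i)) (Nat.ble 550 i)) (Bool.rec (motive := fun _ => Nat) (6483) (Bool.rec (motive := fun _ => Nat) (5251) (651) (Nat.ble 554 i)) (Nat.ble 553 i)) (Nat.ble 552 i)) (Bool.rec (motive := fun _ => Nat) (Bool.rec (motive := fun _ => Nat) (6412) (Bool.rec (motive := fun _ => Nat) (6599) (3275) (Nat.ble 557 i)) (Nat.ble 556 i)) (Bool.rec (motive := fun _ => Nat) (Bool.rec (motive := fun _ => Nat) (1620) (5461) (Nat.ble 559 i)) (Bool.rec (motive := fun _ => Nat) (4609) (3668) (Nat.ble 561 i)) (Nat.ble 560 i)) (Nat.ble 558 i)) (Nat.ble 555 i)) (Nat.ble 549 i)) (Nat.ble 536 i)) (Bool.rec (motive := fun _ => Nat) (Bool.rec (motive := fun _ => Nat) (Bool.rec (motive := fun _ => Nat) (Bool.rec (motive := fun _ => Nat) (Bool.rec (motive := fun _ => Nat) (177) (Bool.rec (motive := fun _ => Nat) (1577) (3416) (Nat.ble 564 i)) (Nat.ble 563 i)) (Bool.rec (motive := fun _ => Nat) (1196)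 (Bool.rec (motive := fun _ => Nat) (6740) (5374) (Nat.ble 567 i)) (Nat.ble 566 i)) (Nat.ble 565 i)) (Bool.rec (motive := fun _ => Nat) (Bool.rec (motive := fun _ => Nat) (219) (Bool.rec (motive := fun _ => Nat) (1473) (2171) (Nat.ble 570 i)) (Nat.ble 569 i)) (Bool.rec (motive := fun _ => Nat) (Bool.rec (motive := fun _ => Nat) (5368) (2225) (Nat.ble 572 i)) (Bool.rec (motive := fun _ => Nat) (1237) (1576) (Nat.ble 574 i)) (Nat.ble 573 i)) (Nat.ble 571 i)) (Nat.ble 568 i)) (Bool.rec (motive := fun _ => Nat) (Bool.rec (motive := fun _ => Nat) (Bool.rec (motive := fun _ => Nat) (2381) (Bool.rec (motive := fun _ => Nat) (6546) (6915) (Nat.ble 577 i)) (Nat.ble 576 i)) (Bool.rec (motive := fun _ => Nat) (67) (Bool.rec (motive := fun _ => Nat) (5433) (3570) (Nat.ble 580 i)) (Nat.ble 579 i)) (Nat.ble 578 i)) (Bool.rec (motive := fun _ => Nat) (Bool.rec (motive := fun _ => Nat) (4158) (Bool.rec (motive := fun _ => Nat) (3463) (6816) (Nat.ble 583 i))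 (Nat.ble 582 i)) (Bool.rec (motive := fun _ => Nat) (Bool.rec (motive := fun _ => Nat) (6403) (3530) (Nat.ble 585 i)) (Bool.rec (motive := fun _ => Nat) (3414) (6344) (Nat.ble 587 i)) (Nat.ble 586 i)) (Nat.ble 584 i)) (Nat.ble 581 i)) (Nat.ble 575 i)) (Bool.rec (motive := fun _ => Nat) (Bool.rec (motive := fun _ => Nat) (Bool.rec (motive := fun _ => Nat) (Bool.rec (motive := fun _ => Nat) (6788) (Bool.rec (motive := fun _ => Nat) (354) (5682) (Nat.ble 590 i)) (Nat.ble 589 i)) (Bool.rec (motive := fun _ => Nat) (5173) (Bool.rec (motive := fun _ => Nat) (1442) (6189) (Nat.ble 593 i)) (Nat.ble 592 i)) (Nat.ble 591 i)) (Bool.rec (motive := fun _ => Nat) (Bool.rec (motive := fun _ => Nat) (617) (Bool.rec (motive := fun _ => Nat) (6562) (5886) (Nat.ble 596 i)) (Nat.ble 595 i)) (Bool.rec (motive := fun _ => Nat) (Bool.rec (motive := fun _ => Nat) (3272) (4607) (Nat.ble 598 i)) (Bool.rec (motive := fun _ => Nat) (172) (5333) (Nat.ble 600 i)) (Nat.ble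 599 i)) (Nat.ble 597 i)) (Nat.ble 594 i)) (Bool.rec (motive := fun _ => Nat) (Bool.rec (motive := fun _ => Nat) (Bool.rec (motive := fun _ => Nat) (6485) (Bool.rec (motive := fun _ => Nat) (6438) (5127) (Nat.ble 603 i)) (Nat.ble 602 i)) (Bool.rec (motive := fun _ => Nat) (6457) (Bool.rec (motive := fun _ => Nat) (6369) (91) (Nat.ble 606 i)) (Nat.ble 605 i)) (Nat.ble 604 i)) (Bool.rec (motive := fun _ => Nat) (Bool.rec (motive := fun _ => Nat) (5729) (Bool.rec (motive := fun _ => Nat) (1144) (1212) (Nat.ble 609 i)) (Nat.ble 608 i)) (Bool.rec (motive := fun _ => Nat) (Bool.rec (motive := fun _ => Nat) (5921) (1359) (Nat.ble 611 i)) (Bool.rec (motive := fun _ => Nat) (5781) (4278) (Nat.ble 613 i)) (Nat.ble 612 i)) (Nat.ble 610 i)) (Nat.ble 607 i)) (Nat.ble 601 i)) (Nat.ble 588 i)) (Nat.ble 562 i)) (Nat.ble 511 i)) (Bool.rec (motive := fun _ => Nat) (Bool.rec (motive := fun _ => Nat) (Bool.rec (motive := fun _ => Nat) (Bool.rec (motive := fun _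 => Nat) (Bool.rec (motive := fun _ => Nat) (Bool.rec (motive := fun _ => Nat) (Bool.rec (motive := fun _ => Nat) (3114) (Bool.rec (motive := fun _ => Nat) (594) (4339) (Nat.ble 616 i)) (Nat.ble 615 i)) (Bool.rec (motive := fun _ => Nat) (5489) (Bool.rec (motive := fun _ => Nat) (6657) (1731) (Nat.ble 619 i)) (Nat.ble 618 i)) (Nat.ble 617 i)) (Bool.rec (motive := fun _ => Nat) (Bool.rec (motive := fun _ => Nat) (4817) (Bool.rec (motive := fun _ => Nat) (6345) (6571) (Nat.ble 622 i)) (Nat.ble 621 i)) (Bool.rec (motive := fun _ => Nat) (6655) (Bool.rec (motive := fun _ => Nat) (5407) (1344) (Nat.ble 625 i)) (Nat.ble 624 i)) (Nat.ble 623 i)) (Nat.ble 620 i)) (Bool.rec (motive := fun _ => Nat) (Bool.rec (motive := fun _ => Nat) (Bool.rec (motive := fun _ => Nat) (418) (Bool.rec (motive := fun _ => Nat) (5134) (3440) (Nat.ble 628 i)) (Nat.ble 627 i)) (Bool.rec (motive := fun _ => Nat) (6243) (Bool.rec (motive := fun _ => Nat) (6560) (164) (Nat.ble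 631 i)) (Nat.ble 630 i)) (Nat.ble 629 i)) (Bool.rec (motive := fun _ => Nat) (Bool.rec (motive := fun _ => Nat) (513) (Bool.rec (motive := fun _ => Nat) (2598) (6704) (Nat.ble 634 i)) (Nat.ble 633 i)) (Bool.rec (motive := fun _ => Nat) (Bool.rec (motive := fun _ => Nat) (267) (1537) (Nat.ble 636 i)) (Bool.rec (motive := fun _ => Nat) (2220) (6586) (Nat.ble 638 i)) (Nat.ble 637 i)) (Nat.ble 635 i)) (Nat.ble 632 i)) (Nat.ble 626 i)) (Bool.rec (motive := fun _ => Nat) (Bool.rec (motive := fun _ => Nat) (Bool.rec (motive := fun _ => Nat) (Bool.rec (motive := fun _ => Nat) (1619) (Bool.rec (motive := fun _ => Nat) (5152) (1793) (Nat.ble 641 i)) (Nat.ble 640 i)) (Bool.rec (motive := fun _ => Nat) (6630) (Bool.rec (motive := fun _ => Nat) (2485) (2683) (Nat.ble 644 i)) (Nat.ble 643 i)) (Nat.ble 642 i)) (Bool.rec (motive := fun _ => Nat) (Bool.rec (motive := fun _ => Nat) (1675) (Bool.rec (motive := fun _ => Nat) (2486) (2561) (Nat.ble 647 i)) (Nat.ble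 646 i)) (Bool.rec (motive := fun _ => Nat) (Bool.rec (motive := fun _ => Nat) (550) (5273) (Nat.ble 649 i)) (Bool.rec (motive := fun _ => Nat) (6866) (6865) (Nat.ble 651 i)) (Nat.ble 650 i)) (Nat.ble 648 i)) (Nat.ble 645 i)) (Bool.rec (motive := fun _ => Nat) (Bool.rec (motive := fun _ => Nat) (Bool.rec (motive := fun _ => Nat) (3576) (Bool.rec (motive := fun _ => Nat) (306) (6892) (Nat.ble 654 i)) (Nat.ble 653 i)) (Bool.rec (motive := fun _ => Nat) (6207) (Bool.rec (motive := fun _ => Nat) (5402) (5523) (Nat.ble 657 i)) (Nat.ble 656 i)) (Nat.ble 655 i)) (Bool.rec (motive := fun _ => Nat) (Bool.rec (motive := fun _ => Nat) (1375) (Bool.rec (motive := fun _ => Nat) (6778) (5601) (Nat.ble 660 i)) (Nat.ble 659 i)) (Bool.rec (motive := fun _ => Nat) (Bool.rec (motive := fun _ => Nat) (5806) (4163) (Nat.ble 662 i)) (Bool.rec (motive := fun _ => Nat) (4110) (6332) (Nat.ble 664 i)) (Nat.ble 663 i)) (Nat.ble 661 i)) (Nat.ble 658 i)) (Nat.ble 652 i))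 (Nat.ble 639 i)) (Bool.rec (motive := fun _ => Nat) (Bool.rec (motive := fun _ => Nat) (Bool.rec (motive := fun _ => Nat) (Bool.rec (motive := fun _ => Nat) (Bool.rec (motive := fun _ => Nat) (4273) (Bool.rec (motive := fun _ => Nat) (1362) (4227) (Nat.ble 667 i)) (Nat.ble 666 i)) (Bool.rec (motive := fun _ => Nat) (1511) (Bool.rec (motive := fun _ => Nat) (2582) (2136) (Nat.ble 670 i)) (Nat.ble 669 i)) (Nat.ble 668 i)) (Bool.rec (motive := fun _ => Nat) (Bool.rec (motive := fun _ => Nat) (1178) (Bool.rec (motive := fun _ => Nat) (6339) (4782) (Nat.ble 673 i)) (Nat.ble 672 i)) (Bool.rec (motive := fun _ => Nat) (4487) (Bool.rec (motive := fun _ => Nat) (5734) (2137) (Nat.ble 676 i)) (Nat.ble 675 i)) (Nat.ble 674 i)) (Nat.ble 671 i)) (Bool.rec (motive := fun _ => Nat) (Bool.rec (motive := fun _ => Nat) (Bool.rec (motive := fun _ => Nat) (3824) (Bool.rec (motive := fun _ => Nat) (1818) (4588) (Nat.ble 679 i)) (Nat.ble 678 i)) (Bool.rec (motive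 := fun _ => Nat) (4336) (Bool.rec (motive := fun _ => Nat) (626) (3762) (Nat.ble 682 i)) (Nat.ble 681 i)) (Nat.ble 680 i)) (Bool.rec (motive := fun _ => Nat) (Bool.rec (motive := fun _ => Nat) (5174) (Bool.rec (motive := fun _ => Nat) (592) (4772) (Nat.ble 685 i)) (Nat.ble 684 i)) (Bool.rec (motive := fun _ => Nat) (Bool.rec (motive := fun _ => Nat) (3240) (4283) (Nat.ble 687 i)) (Bool.rec (motive := fun _ => Nat) (5308) (6170) (Nat.ble 689 i)) (Nat.ble 688 i)) (Nat.ble 686 i)) (Nat.ble 683 i)) (Nat.ble 677 i)) (Bool.rec (motive := fun _ => Nat) (Bool.rec (motive := fun _ => Nat) (Bool.rec (motive := fun _ => Nat) (Bool.rec (motive := fun _ => Nat) (6181) (Bool.rec (motive := fun _ => Nat) (530) (6478) (Nat.ble 692 i)) (Nat.ble 691 i)) (Bool.rec (motive := fun _ => Nat) (1555) (Bool.rec (motive := fun _ => Nat) (6835) (3126) (Nat.ble 695 i)) (Nat.ble 694 i)) (Nat.ble 693 i)) (Bool.rec (motive := fun _ => Nat) (Bool.rec (motive := fun _ => Nat)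 (6379) (Bool.rec (motive := fun _ => Nat) (1710) (3435) (Nat.ble 698 i)) (Nat.ble 697 i)) (Bool.rec (motive := fun _ => Nat) (Bool.rec (motive := fun _ => Nat) (4291) (4284) (Nat.ble 700 i)) (Bool.rec (motive := fun _ => Nat) (1554) (6481) (Nat.ble 702 i)) (Nat.ble 701 i)) (Nat.ble 699 i)) (Nat.ble 696 i)) (Bool.rec (motive := fun _ => Nat) (Bool.rec (motive := fun _ => Nat) (Bool.rec (motive := fun _ => Nat) (6836) (Bool.rec (motive := fun _ => Nat) (6845) (3506) (Nat.ble 705 i)) (Nat.ble 704 i)) (Bool.rec (motive := fun _ => Nat) (5397) (Bool.rec (motive := fun _ => Nat) (6631) (3585) (Nat.ble 708 i)) (Nat.ble 707 i)) (Nat.ble 706 i)) (Bool.rec (motive := fun _ => Nat) (Bool.rec (motive := fun _ => Nat) (6482) (Bool.rec (motive := fun _ => Nat) (6493) (2155) (Nat.ble 711 i)) (Nat.ble 710 i)) (Bool.rec (motive := fun _ => Nat) (Bool.rec (motive := fun _ => Nat) (1647) (6775) (Nat.ble 713 i)) (Bool.rec (motive := fun _ => Nat) (2265) (5323)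 (Nat.ble 715 i)) (Nat.ble 714 i)) (Nat.ble 712 i)) (Nat.ble 709 i)) (Nat.ble 703 i)) (Nat.ble 690 i)) (Nat.ble 665 i)) (Bool.rec (motive := fun _ => Nat) (Bool.rec (motive := fun _ => Nat) (Bool.rec (motive := fun _ => Nat) (Bool.rec (motive := fun _ => Nat) (Bool.rec (motive := fun _ => Nat) (Bool.rec (motive := fun _ => Nat) (2592) (Bool.rec (motive := fun _ => Nat) (1532) (5713) (Nat.ble 718 i)) (Nat.ble 717 i)) (Bool.rec (motive := fun _ => Nat) (6278) (Bool.rec (motive := fun _ => Nat) (6588) (3339) (Nat.ble 721 i)) (Nat.ble 720 i)) (Nat.ble 719 i)) (Bool.rec (motive := fun _ => Nat) (Bool.rec (motive := fun _ => Nat) (5126) (Bool.rec (motive := fun _ => Nat) (2169) (4230) (Nat.ble 724 i)) (Nat.ble 723 i)) (Bool.rec (motive := fun _ => Nat) (611) (Bool.rec (motive := fun _ => Nat) (2182) (2273) (Nat.ble 727 i)) (Nat.ble 726 i)) (Nat.ble 725 i)) (Nat.ble 722 i)) (Bool.rec (motive := fun _ => Nat) (Bool.rec (motive := fun _ => Nat) (Bool.rec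 (motive := fun _ => Nat) (6736) (Bool.rec (motive := fun _ => Nat) (443) (1707) (Nat.ble 730 i)) (Nat.ble 729 i)) (Bool.rec (motive := fun _ => Nat) (6943) (Bool.rec (motive := fun _ => Nat) (6186) (1168) (Nat.ble 733 i)) (Nat.ble 732 i)) (Nat.ble 731 i)) (Bool.rec (motive := fun _ => Nat) (Bool.rec (motive := fun _ => Nat) (5912) (Bool.rec (motive := fun _ => Nat) (2243) (1506) (Nat.ble 736 i)) (Nat.ble 735 i)) (Bool.rec (motive := fun _ => Nat) (Bool.rec (motive := fun _ => Nat) (5894) (6450) (Nat.ble 738 i)) (Bool.rec (motive := fun _ => Nat) (1704) (6896) (Nat.ble 740 i)) (Nat.ble 739 i)) (Nat.ble 737 i)) (Nat.ble 734 i)) (Nat.ble 728 i)) (Bool.rec (motive := fun _ => Nat) (Bool.rec (motive := fun _ => Nat) (Bool.rec (motive := fun _ => Nat) (Bool.rec (motive := fun _ => Nat) (2267) (Bool.rec (motive := fun _ => Nat) (4251) (5182) (Nat.ble 743 i)) (Nat.ble 742 i)) (Bool.rec (motive := fun _ => Nat) (2302) (Bool.rec (motive := fun _ => Nat)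 (6936) (6479) (Nat.ble 746 i)) (Nat.ble 745 i)) (Nat.ble 744 i)) (Bool.rec (motive := fun _ => Nat) (Bool.rec (motive := fun _ => Nat) (2168) (Bool.rec (motive := fun _ => Nat) (1330) (6468) (Nat.ble 749 i)) (Nat.ble 748 i)) (Bool.rec (motive := fun _ => Nat) (Bool.rec (motive := fun _ => Nat) (5289) (4210) (Nat.ble 751 i)) (Bool.rec (motive := fun _ => Nat) (1278) (2288) (Nat.ble 753 i)) (Nat.ble 752 i)) (Nat.ble 750 i)) (Nat.ble 747 i)) (Bool.rec (motive := fun _ => Nat) (Bool.rec (motive := fun _ => Nat) (Bool.rec (motive := fun _ => Nat) (244) (Bool.rec (motive := fun _ => Nat) (4485) (1145) (Nat.ble 756 i)) (Nat.ble 755 i)) (Bool.rec (motive := fun _ => Nat) (593) (Bool.rec (motive := fun _ => Nat) (5936) (5712) (Nat.ble 759 i)) (Nat.ble 758 i)) (Nat.ble 757 i)) (Bool.rec (motive := fun _ => Nat) (Bool.rec (motive := fun _ => Nat) (88) (Bool.rec (motive := fun _ => Nat) (4906) (5857) (Nat.ble 762 i)) (Nat.ble 761 i)) (Bool.rec (motive :=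 fun _ => Nat) (Bool.rec (motive := fun _ => Nat) (2354) (3389) (Nat.ble 764 i)) (Bool.rec (motive := fun _ => Nat) (119) (6275) (Nat.ble 766 i)) (Nat.ble 765 i)) (Nat.ble 763 i)) (Nat.ble 760 i)) (Nat.ble 754 i)) (Nat.ble 741 i)) (Bool.rec (motive := fun _ => Nat) (Bool.rec (motive := fun _ => Nat) (Bool.rec (motive := fun _ => Nat) (Bool.rec (motive := fun _ => Nat) (Bool.rec (motive := fun _ => Nat) (242) (Bool.rec (motive := fun _ => Nat) (1328) (3209) (Nat.ble 769 i)) (Nat.ble 768 i)) (Bool.rec (motive := fun _ => Nat) (1709) (Bool.rec (motive := fun _ => Nat) (5602) (394) (Nat.ble 772 i)) (Nat.ble 771 i)) (Nat.ble 770 i)) (Bool.rec (motive := fun _ => Nat) (Bool.rec (motive := fun _ => Nat) (1499) (Bool.rec (motive := fun _ => Nat) (4257) (2331) (Nat.ble 775 i)) (Nat.ble 774 i)) (Bool.rec (motive := fun _ => Nat) (Bool.rec (motive := fun _ => Nat) (3127) (1264) (Nat.ble 777 i)) (Bool.rec (motive := fun _ => Nat) (1112) (240) (Nat.ble 779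 i)) (Nat.ble 778 i)) (Nat.ble 776 i)) (Nat.ble 773 i)) (Bool.rec (motive := fun _ => Nat) (Bool.rec (motive := fun _ => Nat) (Bool.rec (motive := fun _ => Nat) (5702) (Bool.rec (motive := fun _ => Nat) (1113) (6176) (Nat.ble 782 i)) (Nat.ble 781 i)) (Bool.rec (motive := fun _ => Nat) (5599) (Bool.rec (motive := fun _ => Nat) (5871) (1269) (Nat.ble 785 i)) (Nat.ble 784 i)) (Nat.ble 783 i)) (Bool.rec (motive := fun _ => Nat) (Bool.rec (motive := fun _ => Nat) (4201) (Bool.rec (motive := fun _ => Nat) (6528) (1283) (Nat.ble 788 i)) (Nat.ble 787 i)) (Bool.rec (motive := fun _ => Nat) (Bool.rec (motive := fun _ => Nat) (1175) (313) (Nat.ble 790 i)) (Bool.rec (motive := fun _ => Nat) (4140) (4141) (Nat.ble 792 i)) (Nat.ble 791 i)) (Nat.ble 789 i)) (Nat.ble 786 i)) (Nat.ble 780 i)) (Bool.rec (motive := fun _ => Nat) (Bool.rec (motive := fun _ => Nat) (Bool.rec (motive := fun _ => Nat) (Bool.rec (motive := fun _ => Nat) (2442) (Bool.rec (motive := fun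 _ => Nat) (6198) (2115) (Nat.ble 795 i)) (Nat.ble 794 i)) (Bool.rec (motive := fun _ => Nat) (1179) (Bool.rec (motive := fun _ => Nat) (153) (3330) (Nat.ble 798 i)) (Nat.ble 797 i)) (Nat.ble 796 i)) (Bool.rec (motive := fun _ => Nat) (Bool.rec (motive := fun _ => Nat) (6747) (Bool.rec (motive := fun _ => Nat) (482) (5511) (Nat.ble 801 i)) (Nat.ble 800 i)) (Bool.rec (motive := fun _ => Nat) (Bool.rec (motive := fun _ => Nat) (1259) (4689) (Nat.ble 803 i)) (Bool.rec (motive := fun _ => Nat) (5403) (2202) (Nat.ble 805 i)) (Nat.ble 804 i)) (Nat.ble 802 i)) (Nat.ble 799 i)) (Bool.rec (motive := fun _ => Nat) (Bool.rec (motive := fun _ => Nat) (Bool.rec (motive := fun _ => Nat) (2530) (Bool.rec (motive := fun _ => Nat) (4833) (5530) (Nat.ble 808 i)) (Nat.ble 807 i)) (Bool.rec (motive := fun _ => Nat) (89) (Bool.rec (motive := fun _ => Nat) (3675) (6881) (Nat.ble 811 i)) (Nat.ble 810 i)) (Nat.ble 809 i)) (Bool.rec (motive := fun _ => Nat) (Bool.rec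 (motive := fun _ => Nat) (2300) (Bool.rec (motive := fun _ => Nat) (2522) (4262) (Nat.ble 814 i)) (Nat.ble 813 i)) (Bool.rec (motive := fun _ => Nat) (Bool.rec (motive := fun _ => Nat) (235) (4149) (Nat.ble 816 i)) (Bool.rec (motive := fun _ => Nat) (5502) (6706) (Nat.ble 818 i)) (Nat.ble 817 i)) (Nat.ble 815 i)) (Nat.ble 812 i)) (Nat.ble 806 i)) (Nat.ble 793 i)) (Nat.ble 767 i)) (Nat.ble 716 i)) (Nat.ble 614 i)) (Nat.ble 409 i))

/-- Stabilising words of node 2. -/
def tGen2 : List (List Nat) := [[2, 0, 4, 2, 8, 10, 8, 11, 12], [2, 0, 4, 2, 8, 12], [0, 2, 0, 4, 2, 0, 8, 10, 8, 11, 12], [8, 6, 4, 2, 6, 4, 6, 8, 6, 4, 2, 6, 4, 6], [10, 8, 6, 4, 2, 6, 4, 6, 8, 6, 4, 2, 6, 4, 7, 9, 11, 3], [4, 2, 10, 8, 6, 4, 2, 6, 11, 8, 6, 4, 6, 10, 1, 3, 5, 7, 9, 10, 13, 5], [0, 2, 8, 6, 4, 2, 6, 4, 13, 10, 8, 6, 10, 10, 9, 5, 7, 3, 5, 7, 9, 10, 10, 3, 1]]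

/-- Roots at node 2. -/
def tRoot2 : List Nat := [0, 58, 7]

/-- Forest of the points at node 3. -/
noncomputable def tPar3 (i : Nat) : Nat := (Bool.rec (motive := fun _ => Nat) (Bool.rec (motive := fun _ => Nat) (Bool.rec (motive := fun _ => Nat) (Bool.rec (motive := fun _ => Nat) (Bool.rec (motive := fun _ => Nat) (Bool.rec (motive := fun _ => Nat) (Bool.rec (motive := fun _ => Nat) (Bool.rec (motive := fun _ => Nat) (Bool.rec (motive := fun _ => Nat) (15360) (Bool.rec (motive := fun _ => Nat) (15361) (80) (Nat.ble 2 i)) (Nat.ble 1 i)) (Bool.rec (motive := fun _ => Nat) (2128) (Bool.rec (motive := fun _ => Nat) (15364) (2118) (Nat.ble 5 i)) (Nat.ble 4 i)) (Nat.ble 3 i)) (Bool.rec (motive := fun _ => Nat) (Bool.rec (motive := fun _ => Nat) (2081) (Bool.rec (motive := fun _ => Nat) (2087) (4423) (Nat.ble 8 i)) (Nat.ble 7 i)) (Bool.rec (motive := fun _ => Nat) (4660) (Bool.rec (motive := fun _ => Nat) (3072) (2098) (Nat.ble 11 i)) (Nat.ble 10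 i)) (Nat.ble 9 i)) (Nat.ble 6 i)) (Bool.rec (motive := fun _ => Nat) (Bool.rec (motive := fun _ => Nat) (Bool.rec (motive := fun _ => Nat) (2382) (Bool.rec (motive := fun _ => Nat) (3142) (2255) (Nat.ble 14 i)) (Nat.ble 13 i)) (Bool.rec (motive := fun _ => Nat) (15375) (Bool.rec (motive := fun _ => Nat) (15376) (3082) (Nat.ble 17 i)) (Nat.ble 16 i)) (Nat.ble 15 i)) (Bool.rec (motive := fun _ => Nat) (Bool.rec (motive := fun _ => Nat) (3104) (Bool.rec (motive := fun _ => Nat) (3078) (3159) (Nat.ble 20 i)) (Nat.ble 19 i)) (Bool.rec (motive := fun _ => Nat) (Bool.rec (motive := fun _ => Nat) (387) (15382) (Nat.ble 22 i)) (Bool.rec (motive := fun _ => Nat) (3092) (2106) (Nat.ble 24 i)) (Nat.ble 23 i)) (Nat.ble 21 i)) (Nat.ble 18 i)) (Nat.ble 12 i)) (Bool.rec (motive := fun _ => Nat) (Bool.rec (motive := fun _ => Nat) (Bool.rec (motive := fun _ => Nat) (Bool.rec (motive := fun _ => Nat) (4861) (Bool.rec (motive := fun _ => Nat) (564) (2813) (Nat.ble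 27 i)) (Nat.ble 26 i)) (Bool.rec (motive := fun _ => Nat) (1595) (Bool.rec (motive := fun _ => Nat) (1722) (1673) (Nat.ble 30 i)) (Nat.ble 29 i)) (Nat.ble 28 i)) (Bool.rec (motive := fun _ => Nat) (Bool.rec (motive := fun _ => Nat) (1415) (Bool.rec (motive := fun _ => Nat) (3149) (0) (Nat.ble 33 i)) (Nat.ble 32 i)) (Bool.rec (motive := fun _ => Nat) (Bool.rec (motive := fun _ => Nat) (3129) (4138) (Nat.ble 35 i)) (Bool.rec (motive := fun _ => Nat) (1373) (3105) (Nat.ble 37 i)) (Nat.ble 36 i)) (Nat.ble 34 i)) (Nat.ble 31 i)) (Bool.rec (motive := fun _ => Nat) (Bool.rec (motive := fun _ => Nat) (Bool.rec (motive := fun _ => Nat) (3202) (Bool.rec (motive := fun _ => Nat) (3176) (3364) (Nat.ble 40 i)) (Nat.ble 39 i)) (Bool.rec (motive := fun _ => Nat) (4444) (Bool.rec (motive := fun _ => Nat) (1763) (1411) (Nat.ble 43 i)) (Nat.ble 42 i)) (Nat.ble 41 i)) (Bool.rec (motive := fun _ => Nat) (Bool.rec (motive := fun _ => Nat) (1604) (Bool.rec (motive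 := fun _ => Nat) (1678) (3387) (Nat.ble 46 i)) (Nat.ble 45 i)) (Bool.rec (motive := fun _ => Nat) (Bool.rec (motive := fun _ => Nat) (4) (1152) (Nat.ble 48 i)) (Bool.rec (motive := fun _ => Nat) (2366) (97) (Nat.ble 50 i)) (Nat.ble 49 i)) (Nat.ble 47 i)) (Nat.ble 44 i)) (Nat.ble 38 i)) (Nat.ble 25 i)) (Bool.rec (motive := fun _ => Nat) (Bool.rec (motive := fun _ => Nat) (Bool.rec (motive := fun _ => Nat) (Bool.rec (motive := fun _ => Nat) (Bool.rec (motive := fun _ => Nat) (1783) (Bool.rec (motive := fun _ => Nat) (2805) (4226) (Nat.ble 53 i)) (Nat.ble 52 i)) (Bool.rec (motive := fun _ => Nat) (1588) (Bool.rec (motive := fun _ => Nat) (3746) (2678) (Nat.ble 56 i)) (Nat.ble 55 i)) (Nat.ble 54 i)) (Bool.rec (motive := fun _ => Nat) (Bool.rec (motive := fun _ => Nat) (3119) (Bool.rec (motive := fun _ => Nat) (10) (39) (Nat.ble 59 i)) (Nat.ble 58 i)) (Bool.rec (motive := fun _ => Nat) (1371) (Bool.rec (motive := fun _ => Nat) (1521) (349) (Nat.ble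 62 i)) (Nat.ble 61 i)) (Nat.ble 60 i)) (Nat.ble 57 i)) (Bool.rec (motive := fun _ => Nat) (Bool.rec (motive := fun _ => Nat) (Bool.rec (motive := fun _ => Nat) (1342) (Bool.rec (motive := fun _ => Nat) (4373) (1235) (Nat.ble 65 i)) (Nat.ble 64 i)) (Bool.rec (motive := fun _ => Nat) (25) (Bool.rec (motive := fun _ => Nat) (4149) (2619) (Nat.ble 68 i)) (Nat.ble 67 i)) (Nat.ble 66 i)) (Bool.rec (motive := fun _ => Nat) (Bool.rec (motive := fun _ => Nat) (2746) (Bool.rec (motive := fun _ => Nat) (2152) (3712) (Nat.ble 71 i)) (Nat.ble 70 i)) (Bool.rec (motive := fun _ => Nat) (Bool.rec (motive := fun _ => Nat) (1702) (3710) (Nat.ble 73 i)) (Bool.rec (motive := fun _ => Nat) (713) (3537) (Nat.ble 75 i)) (Nat.ble 74 i)) (Nat.ble 72 i)) (Nat.ble 69 i)) (Nat.ble 63 i)) (Bool.rec (motive := fun _ => Nat) (Bool.rec (motive := fun _ => Nat) (Bool.rec (motive := fun _ => Nat) (Bool.rec (motive := fun _ => Nat) (4612) (Bool.rec (motive := fun _ => Nat) (1)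 (2544) (Nat.ble 78 i)) (Nat.ble 77 i)) (Bool.rec (motive := fun _ => Nat) (3845) (Bool.rec (motive := fun _ => Nat) (3109) (3107) (Nat.ble 81 i)) (Nat.ble 80 i)) (Nat.ble 79 i)) (Bool.rec (motive := fun _ => Nat) (Bool.rec (motive := fun _ => Nat) (2686) (Bool.rec (motive := fun _ => Nat) (4594) (2397) (Nat.ble 84 i)) (Nat.ble 83 i)) (Bool.rec (motive := fun _ => Nat) (Bool.rec (motive := fun _ => Nat) (2259) (2542) (Nat.ble 86 i)) (Bool.rec (motive := fun _ => Nat) (2052) (2472) (Nat.ble 88 i)) (Nat.ble 87 i)) (Nat.ble 85 i)) (Nat.ble 82 i)) (Bool.rec (motive := fun _ => Nat) (Bool.rec (motive := fun _ => Nat) (Bool.rec (motive := fun _ => Nat) (558) (Bool.rec (motive := fun _ => Nat) (2565) (1639) (Nat.ble 91 i)) (Nat.ble 90 i)) (Bool.rec (motive := fun _ => Nat) (759) (Bool.rec (motive := fun _ => Nat) (4505) (2732) (Nat.ble 94 i)) (Nat.ble 93 i)) (Nat.ble 92 i)) (Bool.rec (motive := fun _ => Nat) (Bool.rec (motive := fun _ => Nat) (2661)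 (Bool.rec (motive := fun _ => Nat) (17) (4347) (Nat.ble 97 i)) (Nat.ble 96 i)) (Bool.rec (motive := fun _ => Nat) (Bool.rec (motive := fun _ => Nat) (2787) (2435) (Nat.ble 99 i)) (Bool.rec (motive := fun _ => Nat) (1520) (346) (Nat.ble 101 i)) (Nat.ble 100 i)) (Nat.ble 98 i)) (Nat.ble 95 i)) (Nat.ble 89 i)) (Nat.ble 76 i)) (Nat.ble 51 i)) (Bool.rec (motive := fun _ => Nat) (Bool.rec (motive := fun _ => Nat) (Bool.rec (motive := fun _ => Nat) (Bool.rec (motive := fun _ => Nat) (Bool.rec (motive := fun _ => Nat) (Bool.rec (motive := fun _ => Nat) (1370) (Bool.rec (motive := fun _ => Nat) (4111) (3073) (Nat.ble 104 i)) (Nat.ble 103 i)) (Bool.rec (motive := fun _ => Nat) (765) (Bool.rec (motive := fun _ => Nat) (2612) (3386) (Nat.ble 107 i)) (Nat.ble 106 i)) (Nat.ble 105 i)) (Bool.rec (motive := fun _ => Nat) (Bool.rec (motive := fun _ => Nat) (1437) (Bool.rec (motive := fun _ => Nat) (4273) (1280) (Nat.ble 110 i)) (Nat.ble 109 i)) (Bool.rec (motive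 := fun _ => Nat) (1831) (Bool.rec (motive := fun _ => Nat) (2439) (2697) (Nat.ble 113 i)) (Nat.ble 112 i)) (Nat.ble 111 i)) (Nat.ble 108 i)) (Bool.rec (motive := fun _ => Nat) (Bool.rec (motive := fun _ => Nat) (Bool.rec (motive := fun _ => Nat) (8) (Bool.rec (motive := fun _ => Nat) (4315) (2692) (Nat.ble 116 i)) (Nat.ble 115 i)) (Bool.rec (motive := fun _ => Nat) (4589) (Bool.rec (motive := fun _ => Nat) (4681) (4428) (Nat.ble 119 i)) (Nat.ble 118 i)) (Nat.ble 117 i)) (Bool.rec (motive := fun _ => Nat) (Bool.rec (motive := fun _ => Nat) (3664) (Bool.rec (motive := fun _ => Nat) (1714) (678) (Nat.ble 122 i)) (Nat.ble 121 i)) (Bool.rec (motive := fun _ => Nat) (Bool.rec (motive := fun _ => Nat) (3091) (3132) (Nat.ble 124 i)) (Bool.rec (motive := fun _ => Nat) (667) (2395) (Nat.ble 126 i)) (Nat.ble 125 i)) (Nat.ble 123 i)) (Nat.ble 120 i)) (Nat.ble 114 i)) (Bool.rec (motive := fun _ => Nat) (Bool.rec (motive := fun _ => Nat) (Bool.rec (motive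 := fun _ => Nat) (Bool.rec (motive := fun _ => Nat) (2545) (Bool.rec (motive := fun _ => Nat) (3328) (2394) (Nat.ble 129 i)) (Nat.ble 128 i)) (Bool.rec (motive := fun _ => Nat) (2049) (Bool.rec (motive := fun _ => Nat) (18) (1555) (Nat.ble 132 i)) (Nat.ble 131 i)) (Nat.ble 130 i)) (Bool.rec (motive := fun _ => Nat) (Bool.rec (motive := fun _ => Nat) (702) (Bool.rec (motive := fun _ => Nat) (1803) (2340) (Nat.ble 135 i)) (Nat.ble 134 i)) (Bool.rec (motive := fun _ => Nat) (Bool.rec (motive := fun _ => Nat) (339) (3417) (Nat.ble 137 i)) (Bool.rec (motive := fun _ => Nat) (3137) (4745) (Nat.ble 139 i)) (Nat.ble 138 i)) (Nat.ble 136 i)) (Nat.ble 133 i)) (Bool.rec (motive := fun _ => Nat) (Bool.rec (motive := fun _ => Nat) (Bool.rec (motive := fun _ => Nat) (3130) (Bool.rec (motive := fun _ => Nat) (3198) (3156) (Nat.ble 142 i)) (Nat.ble 141 i)) (Bool.rec (motive := fun _ => Nat) (4128) (Bool.rec (motive := fun _ => Nat) (4781) (2564) (Nat.ble 145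 i)) (Nat.ble 144 i)) (Nat.ble 143 i)) (Bool.rec (motive := fun _ => Nat) (Bool.rec (motive := fun _ => Nat) (1441) (Bool.rec (motive := fun _ => Nat) (1582) (4776) (Nat.ble 148 i)) (Nat.ble 147 i)) (Bool.rec (motive := fun _ => Nat) (Bool.rec (motive := fun _ => Nat) (4541) (1188) (Nat.ble 150 i)) (Bool.rec (motive := fun _ => Nat) (1239) (3648) (Nat.ble 152 i)) (Nat.ble 151 i)) (Nat.ble 149 i)) (Nat.ble 146 i)) (Nat.ble 140 i)) (Nat.ble 127 i)) (Bool.rec (motive := fun _ => Nat) (Bool.rec (motive := fun _ => Nat) (Bool.rec (motive := fun _ => Nat) (Bool.rec (motive := fun _ => Nat) (Bool.rec (motive := fun _ => Nat) (2473) (Bool.rec (motive := fun _ => Nat) (3485) (3547) (Nat.ble 155 i)) (Nat.ble 154 i)) (Bool.rec (motive := fun _ => Nat) (2597) (Bool.rec (motive := fun _ => Nat) (1808) (3263) (Nat.ble 158 i)) (Nat.ble 157 i)) (Nat.ble 156 i)) (Bool.rec (motive := fun _ => Nat) (Bool.rec (motive := fun _ => Nat) (4798) (Bool.rec (motive :=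 fun _ => Nat) (4835) (2702) (Nat.ble 161 i)) (Nat.ble 160 i)) (Bool.rec (motive := fun _ => Nat) (4458) (Bool.rec (motive := fun _ => Nat) (414) (4296) (Nat.ble 164 i)) (Nat.ble 163 i)) (Nat.ble 162 i)) (Nat.ble 159 i)) (Bool.rec (motive := fun _ => Nat) (Bool.rec (motive := fun _ => Nat) (Bool.rec (motive := fun _ => Nat) (3224) (Bool.rec (motive := fun _ => Nat) (3323) (1789) (Nat.ble 167 i)) (Nat.ble 166 i)) (Bool.rec (motive := fun _ => Nat) (4348) (Bool.rec (motive := fun _ => Nat) (4411) (2362) (Nat.ble 170 i)) (Nat.ble 169 i)) (Nat.ble 168 i)) (Bool.rec (motive := fun _ => Nat) (Bool.rec (motive := fun _ => Nat) (4131) (Bool.rec (motive := fun _ => Nat) (4750) (3771) (Nat.ble 173 i)) (Nat.ble 172 i)) (Bool.rec (motive := fun _ => Nat) (Bool.rec (motive := fun _ => Nat) (299) (2636) (Nat.ble 175 i)) (Bool.rec (motive := fun _ => Nat) (3805) (4438) (Nat.ble 177 i)) (Nat.ble 176 i)) (Nat.ble 174 i)) (Nat.ble 171 i)) (Nat.ble 165 i)) (Bool.rec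 (motive := fun _ => Nat) (Bool.rec (motive := fun _ => Nat) (Bool.rec (motive := fun _ => Nat) (Bool.rec (motive := fun _ => Nat) (4717) (Bool.rec (motive := fun _ => Nat) (3110) (3445) (Nat.ble 180 i)) (Nat.ble 179 i)) (Bool.rec (motive := fun _ => Nat) (3586) (Bool.rec (motive := fun _ => Nat) (1306) (1470) (Nat.ble 183 i)) (Nat.ble 182 i)) (Nat.ble 181 i)) (Bool.rec (motive := fun _ => Nat) (Bool.rec (motive := fun _ => Nat) (4667) (Bool.rec (motive := fun _ => Nat) (285) (2598) (Nat.ble 186 i)) (Nat.ble 185 i)) (Bool.rec (motive := fun _ => Nat) (Bool.rec (motive := fun _ => Nat) (2492) (1466) (Nat.ble 188 i)) (Bool.rec (motive := fun _ => Nat) (4194) (4751) (Nat.ble 190 i)) (Nat.ble 189 i)) (Nat.ble 187 i)) (Nat.ble 184 i)) (Bool.rec (motive := fun _ => Nat) (Bool.rec (motive := fun _ => Nat) (Bool.rec (motive := fun _ => Nat) (279) (Bool.rec (motive := fun _ => Nat) (3735) (2548) (Nat.ble 193 i)) (Nat.ble 192 i)) (Bool.rec (motive := fun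 _ => Nat) (4595) (Bool.rec (motive := fun _ => Nat) (4515) (3406) (Nat.ble 196 i)) (Nat.ble 195 i)) (Nat.ble 194 i)) (Bool.rec (motive := fun _ => Nat) (Bool.rec (motive := fun _ => Nat) (3409) (Bool.rec (motive := fun _ => Nat) (3276) (4190) (Nat.ble 199 i)) (Nat.ble 198 i)) (Bool.rec (motive := fun _ => Nat) (Bool.rec (motive := fun _ => Nat) (3413) (3173) (Nat.ble 201 i)) (Bool.rec (motive := fun _ => Nat) (3174) (3565) (Nat.ble 203 i)) (Nat.ble 202 i)) (Nat.ble 200 i)) (Nat.ble 197 i)) (Nat.ble 191 i)) (Nat.ble 178 i)) (Nat.ble 153 i)) (Nat.ble 102 i)) (Bool.rec (motive := fun _ => Nat) (Bool.rec (motive := fun _ => Nat) (Bool.rec (motive := fun _ => Nat) (Bool.rec (motive := fun _ => Nat) (Bool.rec (motive := fun _ => Nat) (Bool.rec (motive := fun _ => Nat) (Bool.rec (motive := fun _ => Nat) (3175) (Bool.rec (motive := fun _ => Nat) (2515) (3279) (Nat.ble 206 i)) (Nat.ble 205 i)) (Bool.rec (motive := fun _ => Nat) (37) (Bool.rec (motive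 := fun _ => Nat) (4602) (3652) (Nat.ble 209 i)) (Nat.ble 208 i)) (Nat.ble 207 i)) (Bool.rec (motive := fun _ => Nat) (Bool.rec (motive := fun _ => Nat) (3550) (Bool.rec (motive := fun _ => Nat) (3721) (3408) (Nat.ble 212 i)) (Nat.ble 211 i)) (Bool.rec (motive := fun _ => Nat) (3211) (Bool.rec (motive := fun _ => Nat) (531) (1275) (Nat.ble 215 i)) (Nat.ble 214 i)) (Nat.ble 213 i)) (Nat.ble 210 i)) (Bool.rec (motive := fun _ => Nat) (Bool.rec (motive := fun _ => Nat) (Bool.rec (motive := fun _ => Nat) (1726) (Bool.rec (motive := fun _ => Nat) (1554) (3281) (Nat.ble 218 i)) (Nat.ble 217 i)) (Bool.rec (motive := fun _ => Nat) (2079) (Bool.rec (motive := fun _ => Nat) (2274) (817) (Nat.ble 221 i)) (Nat.ble 220 i)) (Nat.ble 219 i)) (Bool.rec (motive := fun _ => Nat) (Bool.rec (motive := fun _ => Nat) (1841) (Bool.rec (motive := fun _ => Nat) (3792) (2614) (Nat.ble 224 i)) (Nat.ble 223 i)) (Bool.rec (motive := fun _ => Nat) (Bool.rec (motive := fun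 _ => Nat) (4381) (3421) (Nat.ble 226 i)) (Bool.rec (motive := fun _ => Nat) (761) (2461) (Nat.ble 228 i)) (Nat.ble 227 i)) (Nat.ble 225 i)) (Nat.ble 222 i)) (Nat.ble 216 i)) (Bool.rec (motive := fun _ => Nat) (Bool.rec (motive := fun _ => Nat) (Bool.rec (motive := fun _ => Nat) (Bool.rec (motive := fun _ => Nat) (3151) (Bool.rec (motive := fun _ => Nat) (3201) (3570) (Nat.ble 231 i)) (Nat.ble 230 i)) (Bool.rec (motive := fun _ => Nat) (3157) (Bool.rec (motive := fun _ => Nat) (4829) (3481) (Nat.ble 234 i)) (Nat.ble 233 i)) (Nat.ble 232 i)) (Bool.rec (motive := fun _ => Nat) (Bool.rec (motive := fun _ => Nat) (3182) (Bool.rec (motive := fun _ => Nat) (1161) (4410) (Nat.ble 237 i)) (Nat.ble 236 i)) (Bool.rec (motive := fun _ => Nat) (Bool.rec (motive := fun _ => Nat) (3399) (542) (Nat.ble 239 i)) (Bool.rec (motive := fun _ => Nat) (3625) (3232) (Nat.ble 241 i)) (Nat.ble 240 i)) (Nat.ble 238 i)) (Nat.ble 235 i)) (Bool.rec (motive := fun _ => Nat)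 (Bool.rec (motive := fun _ => Nat) (Bool.rec (motive := fun _ => Nat) (1635) (Bool.rec (motive := fun _ => Nat) (417) (69) (Nat.ble 244 i)) (Nat.ble 243 i)) (Bool.rec (motive := fun _ => Nat) (1570) (Bool.rec (motive := fun _ => Nat) (546) (3779) (Nat.ble 247 i)) (Nat.ble 246 i)) (Nat.ble 245 i)) (Bool.rec (motive := fun _ => Nat) (Bool.rec (motive := fun _ => Nat) (3461) (Bool.rec (motive := fun _ => Nat) (3303) (3299) (Nat.ble 250 i)) (Nat.ble 249 i)) (Bool.rec (motive := fun _ => Nat) (Bool.rec (motive := fun _ => Nat) (4096) (327) (Nat.ble 252 i)) (Bool.rec (motive := fun _ => Nat) (4853) (3855) (Nat.ble 254 i)) (Nat.ble 253 i)) (Nat.ble 251 i)) (Nat.ble 248 i)) (Nat.ble 242 i)) (Nat.ble 229 i)) (Bool.rec (motive := fun _ => Nat) (Bool.rec (motive := fun _ => Nat) (Bool.rec (motive := fun _ => Nat) (Bool.rec (motive := fun _ => Nat) (Bool.rec (motive := fun _ => Nat) (2248) (Bool.rec (motive := fun _ => Nat) (2733) (3466) (Nat.ble 257 i))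 (Nat.ble 256 i)) (Bool.rec (motive := fun _ => Nat) (3484) (Bool.rec (motive := fun _ => Nat) (1301) (3189) (Nat.ble 260 i)) (Nat.ble 259 i)) (Nat.ble 258 i)) (Bool.rec (motive := fun _ => Nat) (Bool.rec (motive := fun _ => Nat) (4582) (Bool.rec (motive := fun _ => Nat) (784) (4344) (Nat.ble 263 i)) (Nat.ble 262 i)) (Bool.rec (motive := fun _ => Nat) (67) (Bool.rec (motive := fun _ => Nat) (2517) (2633) (Nat.ble 266 i)) (Nat.ble 265 i)) (Nat.ble 264 i)) (Nat.ble 261 i)) (Bool.rec (motive := fun _ => Nat) (Bool.rec (motive := fun _ => Nat) (Bool.rec (motive := fun _ => Nat) (2706) (Bool.rec (motive := fun _ => Nat) (4889) (248) (Nat.ble 269 i)) (Nat.ble 268 i)) (Bool.rec (motive := fun _ => Nat) (3782) (Bool.rec (motive := fun _ => Nat) (4281) (4843) (Nat.ble 272 i)) (Nat.ble 271 i)) (Nat.ble 270 i)) (Bool.rec (motive := fun _ => Nat) (Bool.rec (motive := fun _ => Nat) (4556) (Bool.rec (motive := fun _ => Nat) (3659) (3667) (Nat.ble 275 i)) (Nat.ble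 274 i)) (Bool.rec (motive := fun _ => Nat) (Bool.rec (motive := fun _ => Nat) (3838) (4692) (Nat.ble 277 i)) (Bool.rec (motive := fun _ => Nat) (4759) (3640) (Nat.ble 279 i)) (Nat.ble 278 i)) (Nat.ble 276 i)) (Nat.ble 273 i)) (Nat.ble 267 i)) (Bool.rec (motive := fun _ => Nat) (Bool.rec (motive := fun _ => Nat) (Bool.rec (motive := fun _ => Nat) (Bool.rec (motive := fun _ => Nat) (1759) (Bool.rec (motive := fun _ => Nat) (1760) (4794) (Nat.ble 282 i)) (Nat.ble 281 i)) (Bool.rec (motive := fun _ => Nat) (3669) (Bool.rec (motive := fun _ => Nat) (1626) (3772) (Nat.ble 285 i)) (Nat.ble 284 i)) (Nat.ble 283 i)) (Bool.rec (motive := fun _ => Nat) (Bool.rec (motive := fun _ => Nat) (3599) (Bool.rec (motive := fun _ => Nat) (3216) (1143) (Nat.ble 288 i)) (Nat.ble 287 i)) (Bool.rec (motive := fun _ => Nat) (Bool.rec (motive := fun _ => Nat) (3850) (3689) (Nat.ble 290 i)) (Bool.rec (motive := fun _ => Nat) (2299) (4868) (Nat.ble 292 i)) (Nat.ble 291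 i)) (Nat.ble 289 i)) (Nat.ble 286 i)) (Bool.rec (motive := fun _ => Nat) (Bool.rec (motive := fun _ => Nat) (Bool.rec (motive := fun _ => Nat) (4699) (Bool.rec (motive := fun _ => Nat) (4583) (3467) (Nat.ble 295 i)) (Nat.ble 294 i)) (Bool.rec (motive := fun _ => Nat) (1318) (Bool.rec (motive := fun _ => Nat) (3690) (4665) (Nat.ble 298 i)) (Nat.ble 297 i)) (Nat.ble 296 i)) (Bool.rec (motive := fun _ => Nat) (Bool.rec (motive := fun _ => Nat) (2554) (Bool.rec (motive := fun _ => Nat) (4155) (1313) (Nat.ble 301 i)) (Nat.ble 300 i)) (Bool.rec (motive := fun _ => Nat) (Bool.rec (motive := fun _ => Nat) (282) (3563) (Nat.ble 303 i)) (Bool.rec (motive := fun _ => Nat) (1249) (2220) (Nat.ble 305 i)) (Nat.ble 304 i)) (Nat.ble 302 i)) (Nat.ble 299 i)) (Nat.ble 293 i)) (Nat.ble 280 i)) (Nat.ble 255 i)) (Bool.rec (motive := fun _ => Nat) (Bool.rec (motive := fun _ => Nat) (Bool.rec (motive := fun _ => Nat) (Bool.rec (motive := fun _ => Nat) (Bool.rec (motive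 := fun _ => Nat) (Bool.rec (motive := fun _ => Nat) (3404) (Bool.rec (motive := fun _ => Nat) (3591) (4201) (Nat.ble 308 i)) (Nat.ble 307 i)) (Bool.rec (motive := fun _ => Nat) (1351) (Bool.rec (motive := fun _ => Nat) (3604) (1137) (Nat.ble 311 i)) (Nat.ble 310 i)) (Nat.ble 309 i)) (Bool.rec (motive := fun _ => Nat) (Bool.rec (motive := fun _ => Nat) (3450) (Bool.rec (motive := fun _ => Nat) (4220) (104) (Nat.ble 314 i)) (Nat.ble 313 i)) (Bool.rec (motive := fun _ => Nat) (2085) (Bool.rec (motive := fun _ => Nat) (1541) (3832) (Nat.ble 317 i)) (Nat.ble 316 i)) (Nat.ble 315 i)) (Nat.ble 312 i)) (Bool.rec (motive := fun _ => Nat) (Bool.rec (motive := fun _ => Nat) (Bool.rec (motive := fun _ => Nat) (4897) (Bool.rec (motive := fun _ => Nat) (2110) (2339) (Nat.ble 320 i)) (Nat.ble 319 i)) (Bool.rec (motive := fun _ => Nat) (4538) (Bool.rec (motive := fun _ => Nat) (4841) (3556) (Nat.ble 323 i)) (Nat.ble 322 i)) (Nat.ble 321 i)) (Bool.rec (motive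 := fun _ => Nat) (Bool.rec (motive := fun _ => Nat) (3153) (Bool.rec (motive := fun _ => Nat) (691) (1178) (Nat.ble 326 i)) (Nat.ble 325 i)) (Bool.rec (motive := fun _ => Nat) (Bool.rec (motive := fun _ => Nat) (4097) (1689) (Nat.ble 328 i)) (Bool.rec (motive := fun _ => Nat) (3414) (3280) (Nat.ble 330 i)) (Nat.ble 329 i)) (Nat.ble 327 i)) (Nat.ble 324 i)) (Nat.ble 318 i)) (Bool.rec (motive := fun _ => Nat) (Bool.rec (motive := fun _ => Nat) (Bool.rec (motive := fun _ => Nat) (Bool.rec (motive := fun _ => Nat) (3818) (Bool.rec (motive := fun _ => Nat) (2748) (4809) (Nat.ble 333 i)) (Nat.ble 332 i)) (Bool.rec (motive := fun _ => Nat) (32) (Bool.rec (motive := fun _ => Nat) (3472) (4134) (Nat.ble 336 i)) (Nat.ble 335 i)) (Nat.ble 334 i)) (Bool.rec (motive := fun _ => Nat) (Bool.rec (motive := fun _ => Nat) (3076) (Bool.rec (motive := fun _ => Nat) (3593) (4485) (Nat.ble 339 i)) (Nat.ble 338 i)) (Bool.rec (motive := fun _ => Nat) (Bool.rec (motive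 := fun _ => Nat) (2296) (3726) (Nat.ble 341 i)) (Bool.rec (motive := fun _ => Nat) (3811) (3193) (Nat.ble 343 i)) (Nat.ble 342 i)) (Nat.ble 340 i)) (Nat.ble 337 i)) (Bool.rec (motive := fun _ => Nat) (Bool.rec (motive := fun _ => Nat) (Bool.rec (motive := fun _ => Nat) (4442) (Bool.rec (motive := fun _ => Nat) (4755) (3463) (Nat.ble 346 i)) (Nat.ble 345 i)) (Bool.rec (motive := fun _ => Nat) (3643) (Bool.rec (motive := fun _ => Nat) (3842) (3770) (Nat.ble 349 i)) (Nat.ble 348 i)) (Nat.ble 347 i)) (Bool.rec (motive := fun _ => Nat) (Bool.rec (motive := fun _ => Nat) (4688) (Bool.rec (motive := fun _ => Nat) (1517) (3600) (Nat.ble 352 i)) (Nat.ble 351 i)) (Bool.rec (motive := fun _ => Nat) (Bool.rec (motive := fun _ => Nat) (4135) (4430) (Nat.ble 354 i)) (Bool.rec (motive := fun _ => Nat) (1271) (4885) (Nat.ble 356 i)) (Nat.ble 355 i)) (Nat.ble 353 i)) (Nat.ble 350 i)) (Nat.ble 344 i)) (Nat.ble 331 i)) (Bool.rec (motive := fun _ => Nat) (Bool.rec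 (motive := fun _ => Nat) (Bool.rec (motive := fun _ => Nat) (Bool.rec (motive := fun _ => Nat) (Bool.rec (motive := fun _ => Nat) (251) (Bool.rec (motive := fun _ => Nat) (3661) (4425) (Nat.ble 359 i)) (Nat.ble 358 i)) (Bool.rec (motive := fun _ => Nat) (3456) (Bool.rec (motive := fun _ => Nat) (118) (2076) (Nat.ble 362 i)) (Nat.ble 361 i)) (Nat.ble 360 i)) (Bool.rec (motive := fun _ => Nat) (Bool.rec (motive := fun _ => Nat) (2064) (Bool.rec (motive := fun _ => Nat) (780) (4158) (Nat.ble 365 i)) (Nat.ble 364 i)) (Bool.rec (motive := fun _ => Nat) (Bool.rec (motive := fun _ => Nat) (2644) (4740) (Nat.ble 367 i)) (Bool.rec (motive := fun _ => Nat) (750) (3784) (Nat.ble 369 i)) (Nat.ble 368 i)) (Nat.ble 366 i)) (Nat.ble 363 i)) (Bool.rec (motive := fun _ => Nat) (Bool.rec (motive := fun _ => Nat) (Bool.rec (motive := fun _ => Nat) (3632) (Bool.rec (motive := fun _ => Nat) (305) (1329) (Nat.ble 372 i)) (Nat.ble 371 i)) (Bool.rec (motive := fun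 _ => Nat) (4222) (Bool.rec (motive := fun _ => Nat) (4575) (3283) (Nat.ble 375 i)) (Nat.ble 374 i)) (Nat.ble 373 i)) (Bool.rec (motive := fun _ => Nat) (Bool.rec (motive := fun _ => Nat) (4593) (Bool.rec (motive := fun _ => Nat) (1503) (4684) (Nat.ble 378 i)) (Nat.ble 377 i)) (Bool.rec (motive := fun _ => Nat) (Bool.rec (motive := fun _ => Nat) (3390) (2328) (Nat.ble 380 i)) (Bool.rec (motive := fun _ => Nat) (2711) (4866) (Nat.ble 382 i)) (Nat.ble 381 i)) (Nat.ble 379 i)) (Nat.ble 376 i)) (Nat.ble 370 i)) (Bool.rec (motive := fun _ => Nat) (Bool.rec (motive := fun _ => Nat) (Bool.rec (motive := fun _ => Nat) (Bool.rec (motive := fun _ => Nat) (3555) (Bool.rec (motive := fun _ => Nat) (3471) (2163) (Nat.ble 385 i)) (Nat.ble 384 i)) (Bool.rec (motive := fun _ => Nat) (2793) (Bool.rec (motive := fun _ => Nat) (2828) (3752) (Nat.ble 388 i)) (Nat.ble 387 i)) (Nat.ble 386 i)) (Bool.rec (motive := fun _ => Nat) (Bool.rec (motive := fun _ => Nat) (3753)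 (Bool.rec (motive := fun _ => Nat) (2782) (16) (Nat.ble 391 i)) (Nat.ble 390 i)) (Bool.rec (motive := fun _ => Nat) (Bool.rec (motive := fun _ => Nat) (3482) (3313) (Nat.ble 393 i)) (Bool.rec (motive := fun _ => Nat) (2116) (3141) (Nat.ble 395 i)) (Nat.ble 394 i)) (Nat.ble 392 i)) (Nat.ble 389 i)) (Bool.rec (motive := fun _ => Nat) (Bool.rec (motive := fun _ => Nat) (Bool.rec (motive := fun _ => Nat) (3185) (Bool.rec (motive := fun _ => Nat) (1190) (225) (Nat.ble 398 i)) (Nat.ble 397 i)) (Bool.rec (motive := fun _ => Nat) (1705) (Bool.rec (motive := fun _ => Nat) (3287) (4645) (Nat.ble 401 i)) (Nat.ble 400 i)) (Nat.ble 399 i)) (Bool.rec (motive := fun _ => Nat) (Bool.rec (motive := fun _ => Nat) (2237) (Bool.rec (motive := fun _ => Nat) (1100) (3654) (Nat.ble 404 i)) (Nat.ble 403 i)) (Bool.rec (motive := fun _ => Nat) (Bool.rec (motive := fun _ => Nat) (4529) (2669) (Nat.ble 406 i)) (Bool.rec (motive := fun _ => Nat) (4114) (4549) (Nat.ble 408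 i)) (Nat.ble 407 i)) (Nat.ble 405 i)) (Nat.ble 402 i)) (Nat.ble 396 i)) (Nat.ble 383 i)) (Nat.ble 357 i)) (Nat.ble 306 i)) (Nat.ble 204 i)) (Bool.rec (motive := fun _ => Nat) (Bool.rec (motive := fun _ => Nat) (Bool.rec (motive := fun _ => Nat) (Bool.rec (motive := fun _ => Nat) (Bool.rec (motive := fun _ => Nat) (Bool.rec (motive := fun _ => Nat) (Bool.rec (motive := fun _ => Nat) (Bool.rec (motive := fun _ => Nat) (3233) (Bool.rec (motive := fun _ => Nat) (3170) (2501) (Nat.ble 411 i)) (Nat.ble 410 i)) (Bool.rec (motive := fun _ => Nat) (363) (Bool.rec (motive := fun _ => Nat) (3244) (4596) (Nat.ble 414 i)) (Nat.ble 413 i)) (Nat.ble 412 i)) (Bool.rec (motive := fun _ => Nat) (Bool.rec (motive := fun _ => Nat) (1710) (Bool.rec (motive := fun _ => Nat) (4209) (4113) (Nat.ble 417 i)) (Nat.ble 416 i)) (Bool.rec (motive := fun _ => Nat) (1420) (Bool.rec (motive := fun _ => Nat) (4300) (3324) (Nat.ble 420 i)) (Nat.ble 419 i)) (Nat.ble 418 i)) (Nat.ble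 415 i)) (Bool.rec (motive := fun _ => Nat) (Bool.rec (motive := fun _ => Nat) (Bool.rec (motive := fun _ => Nat) (2707) (Bool.rec (motive := fun _ => Nat) (1814) (4847) (Nat.ble 423 i)) (Nat.ble 422 i)) (Bool.rec (motive := fun _ => Nat) (1802) (Bool.rec (motive := fun _ => Nat) (4795) (2637) (Nat.ble 426 i)) (Nat.ble 425 i)) (Nat.ble 424 i)) (Bool.rec (motive := fun _ => Nat) (Bool.rec (motive := fun _ => Nat) (2608) (Bool.rec (motive := fun _ => Nat) (3126) (2753) (Nat.ble 429 i)) (Nat.ble 428 i)) (Bool.rec (motive := fun _ => Nat) (Bool.rec (motive := fun _ => Nat) (3789) (1315) (Nat.ble 431 i)) (Bool.rec (motive := fun _ => Nat) (3309) (3862) (Nat.ble 433 i)) (Nat.ble 432 i)) (Nat.ble 430 i)) (Nat.ble 427 i)) (Nat.ble 421 i)) (Bool.rec (motive := fun _ => Nat) (Bool.rec (motive := fun _ => Nat) (Bool.rec (motive := fun _ => Nat) (Bool.rec (motive := fun _ => Nat) (3660) (Bool.rec (motive := fun _ => Nat) (3462) (2714) (Nat.ble 436 i)) (Nat.ble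 435 i)) (Bool.rec (motive := fun _ => Nat) (4772) (Bool.rec (motive := fun _ => Nat) (3666) (4208) (Nat.ble 439 i)) (Nat.ble 438 i)) (Nat.ble 437 i)) (Bool.rec (motive := fun _ => Nat) (Bool.rec (motive := fun _ => Nat) (673) (Bool.rec (motive := fun _ => Nat) (3125) (4771) (Nat.ble 442 i)) (Nat.ble 441 i)) (Bool.rec (motive := fun _ => Nat) (Bool.rec (motive := fun _ => Nat) (2430) (1770) (Nat.ble 444 i)) (Bool.rec (motive := fun _ => Nat) (2390) (1208) (Nat.ble 446 i)) (Nat.ble 445 i)) (Nat.ble 443 i)) (Nat.ble 440 i)) (Bool.rec (motive := fun _ => Nat) (Bool.rec (motive := fun _ => Nat) (Bool.rec (motive := fun _ => Nat) (3641) (Bool.rec (motive := fun _ => Nat) (2843) (4856) (Nat.ble 449 i)) (Nat.ble 448 i)) (Bool.rec (motive := fun _ => Nat) (1687) (Bool.rec (motive := fun _ => Nat) (3455) (3730) (Nat.ble 452 i)) (Nat.ble 451 i)) (Nat.ble 450 i)) (Bool.rec (motive := fun _ => Nat) (Bool.rec (motive := fun _ => Nat) (1804) (Bool.rec (motive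 := fun _ => Nat) (1142) (4734) (Nat.ble 455 i)) (Nat.ble 454 i)) (Bool.rec (motive := fun _ => Nat) (Bool.rec (motive := fun _ => Nat) (3492) (3688) (Nat.ble 457 i)) (Bool.rec (motive := fun _ => Nat) (3848) (2241) (Nat.ble 459 i)) (Nat.ble 458 i)) (Nat.ble 456 i)) (Nat.ble 453 i)) (Nat.ble 447 i)) (Nat.ble 434 i)) (Bool.rec (motive := fun _ => Nat) (Bool.rec (motive := fun _ => Nat) (Bool.rec (motive := fun _ => Nat) (Bool.rec (motive := fun _ => Nat) (Bool.rec (motive := fun _ => Nat) (4102) (Bool.rec (motive := fun _ => Nat) (4303) (3575) (Nat.ble 462 i)) (Nat.ble 461 i)) (Bool.rec (motive := fun _ => Nat) (2650) (Bool.rec (motive := fun _ => Nat) (4656) (3630) (Nat.ble 465 i)) (Nat.ble 464 i)) (Nat.ble 463 i)) (Bool.rec (motive := fun _ => Nat) (Bool.rec (motive := fun _ => Nat) (226) (Bool.rec (motive := fun _ => Nat) (4874) (638) (Nat.ble 468 i)) (Nat.ble 467 i)) (Bool.rec (motive := fun _ => Nat) (3757) (Bool.rec (motive := fun _ => Nat)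 (4733) (2794) (Nat.ble 471 i)) (Nat.ble 470 i)) (Nat.ble 469 i)) (Nat.ble 466 i)) (Bool.rec (motive := fun _ => Nat) (Bool.rec (motive := fun _ => Nat) (Bool.rec (motive := fun _ => Nat) (4414) (Bool.rec (motive := fun _ => Nat) (561) (2146) (Nat.ble 474 i)) (Nat.ble 473 i)) (Bool.rec (motive := fun _ => Nat) (1387) (Bool.rec (motive := fun _ => Nat) (2412) (3291) (Nat.ble 477 i)) (Nat.ble 476 i)) (Nat.ble 475 i)) (Bool.rec (motive := fun _ => Nat) (Bool.rec (motive := fun _ => Nat) (1055) (Bool.rec (motive := fun _ => Nat) (4268) (4256) (Nat.ble 480 i)) (Nat.ble 479 i)) (Bool.rec (motive := fun _ => Nat) (Bool.rec (motive := fun _ => Nat) (3429) (4570) (Nat.ble 482 i)) (Bool.rec (motive := fun _ => Nat) (681) (1577) (Nat.ble 484 i)) (Nat.ble 483 i)) (Nat.ble 481 i)) (Nat.ble 478 i)) (Nat.ble 472 i)) (Bool.rec (motive := fun _ => Nat) (Bool.rec (motive := fun _ => Nat) (Bool.rec (motive := fun _ => Nat) (Bool.rec (motive := fun _ => Nat) (2465)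 (Bool.rec (motive := fun _ => Nat) (204) (3731) (Nat.ble 487 i)) (Nat.ble 486 i)) (Bool.rec (motive := fun _ => Nat) (3191) (Bool.rec (motive := fun _ => Nat) (1355) (517) (Nat.ble 490 i)) (Nat.ble 489 i)) (Nat.ble 488 i)) (Bool.rec (motive := fun _ => Nat) (Bool.rec (motive := fun _ => Nat) (684) (Bool.rec (motive := fun _ => Nat) (3887) (3873) (Nat.ble 493 i)) (Nat.ble 492 i)) (Bool.rec (motive := fun _ => Nat) (Bool.rec (motive := fun _ => Nat) (4832) (64) (Nat.ble 495 i)) (Bool.rec (motive := fun _ => Nat) (103) (1127) (Nat.ble 497 i)) (Nat.ble 496 i)) (Nat.ble 494 i)) (Nat.ble 491 i)) (Bool.rec (motive := fun _ => Nat) (Bool.rec (motive := fun _ => Nat) (Bool.rec (motive := fun _ => Nat) (2093) (Bool.rec (motive := fun _ => Nat) (603) (4129) (Nat.ble 500 i)) (Nat.ble 499 i)) (Bool.rec (motive := fun _ => Nat) (2508) (Bool.rec (motive := fun _ => Nat) (4685) (2437) (Nat.ble 503 i)) (Nat.ble 502 i)) (Nat.ble 501 i)) (Bool.rec (motive := fun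 _ => Nat) (Bool.rec (motive := fun _ => Nat) (1264) (Bool.rec (motive := fun _ => Nat) (3734) (808) (Nat.ble 506 i)) (Nat.ble 505 i)) (Bool.rec (motive := fun _ => Nat) (Bool.rec (motive := fun _ => Nat) (4906) (4207) (Nat.ble 508 i)) (Bool.rec (motive := fun _ => Nat) (144) (2101) (Nat.ble 510 i)) (Nat.ble 509 i)) (Nat.ble 507 i)) (Nat.ble 504 i)) (Nat.ble 498 i)) (Nat.ble 485 i)) (Nat.ble 460 i)) (Bool.rec (motive := fun _ => Nat) (Bool.rec (motive := fun _ => Nat) (Bool.rec (motive := fun _ => Nat) (Bool.rec (motive := fun _ => Nat) (Bool.rec (motive := fun _ => Nat) (Bool.rec (motive := fun _ => Nat) (1333) (Bool.rec (motive := fun _ => Nat) (4530) (3098) (Nat.ble 513 i)) (Nat.ble 512 i)) (Bool.rec (motive := fun _ => Nat) (1780) (Bool.rec (motive := fun _ => Nat) (3833) (778) (Nat.ble 516 i)) (Nat.ble 515 i)) (Nat.ble 514 i)) (Bool.rec (motive := fun _ => Nat) (Bool.rec (motive := fun _ => Nat) (3883) (Bool.rec (motive := fun _ => Nat)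 (1832) (2575) (Nat.ble 519 i)) (Nat.ble 518 i)) (Bool.rec (motive := fun _ => Nat) (2747) (Bool.rec (motive := fun _ => Nat) (1757) (4454) (Nat.ble 522 i)) (Nat.ble 521 i)) (Nat.ble 520 i)) (Nat.ble 517 i)) (Bool.rec (motive := fun _ => Nat) (Bool.rec (motive := fun _ => Nat) (Bool.rec (motive := fun _ => Nat) (2261) (Bool.rec (motive := fun _ => Nat) (1493) (3469) (Nat.ble 525 i)) (Nat.ble 524 i)) (Bool.rec (motive := fun _ => Nat) (3553) (Bool.rec (motive := fun _ => Nat) (3103) (4166) (Nat.ble 528 i)) (Nat.ble 527 i)) (Nat.ble 526 i)) (Bool.rec (motive := fun _ => Nat) (Bool.rec (motive := fun _ => Nat) (3837) (Bool.rec (motive := fun _ => Nat) (4280) (4378) (Nat.ble 531 i)) (Nat.ble 530 i)) (Bool.rec (motive := fun _ => Nat) (Bool.rec (motive := fun _ => Nat) (139) (1163) (Nat.ble 533 i)) (Bool.rec (motive := fun _ => Nat) (4486) (1105) (Nat.ble 535 i)) (Nat.ble 534 i)) (Nat.ble 532 i)) (Nat.ble 529 i)) (Nat.ble 523 i)) (Bool.rec (motive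 := fun _ => Nat) (Bool.rec (motive := fun _ => Nat) (Bool.rec (motive := fun _ => Nat) (Bool.rec (motive := fun _ => Nat) (2655) (Bool.rec (motive := fun _ => Nat) (3238) (3180) (Nat.ble 538 i)) (Nat.ble 537 i)) (Bool.rec (motive := fun _ => Nat) (234) (Bool.rec (motive := fun _ => Nat) (1368) (4299) (Nat.ble 541 i)) (Nat.ble 540 i)) (Nat.ble 539 i)) (Bool.rec (motive := fun _ => Nat) (Bool.rec (motive := fun _ => Nat) (3194) (Bool.rec (motive := fun _ => Nat) (3144) (1171) (Nat.ble 544 i)) (Nat.ble 543 i)) (Bool.rec (motive := fun _ => Nat) (Bool.rec (motive := fun _ => Nat) (1139) (4199) (Nat.ble 546 i)) (Bool.rec (motive := fun _ => Nat) (4816) (732) (Nat.ble 548 i)) (Nat.ble 547 i)) (Nat.ble 545 i)) (Nat.ble 542 i)) (Bool.rec (motive := fun _ => Nat) (Bool.rec (motive := fun _ => Nat) (Bool.rec (motive := fun _ => Nat) (2389) (Bool.rec (motive := fun _ => Nat) (1835) (1677) (Nat.ble 551 i)) (Nat.ble 550 i)) (Bool.rec (motive := fun _ =>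 Nat) (3866) (Bool.rec (motive := fun _ => Nat) (4200) (4495) (Nat.ble 554 i)) (Nat.ble 553 i)) (Nat.ble 552 i)) (Bool.rec (motive := fun _ => Nat) (Bool.rec (motive := fun _ => Nat) (3783) (Bool.rec (motive := fun _ => Nat) (3612) (1837) (Nat.ble 557 i)) (Nat.ble 556 i)) (Bool.rec (motive := fun _ => Nat) (Bool.rec (motive := fun _ => Nat) (4777) (3847) (Nat.ble 559 i)) (Bool.rec (motive := fun _ => Nat) (341) (4689) (Nat.ble 561 i)) (Nat.ble 560 i)) (Nat.ble 558 i)) (Nat.ble 555 i)) (Nat.ble 549 i)) (Nat.ble 536 i)) (Bool.rec (motive := fun _ => Nat) (Bool.rec (motive := fun _ => Nat) (Bool.rec (motive := fun _ => Nat) (Bool.rec (motive := fun _ => Nat) (Bool.rec (motive := fun _ => Nat) (3234) (Bool.rec (motive := fun _ => Nat) (3239) (4106) (Nat.ble 564 i)) (Nat.ble 563 i)) (Bool.rec (motive := fun _ => Nat) (2783) (Bool.rec (motive := fun _ => Nat) (2784) (3718) (Nat.ble 567 i)) (Nat.ble 566 i)) (Nat.ble 565 i)) (Bool.rec (motive := fun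 _ => Nat) (Bool.rec (motive := fun _ => Nat) (596) (Bool.rec (motive := fun _ => Nat) (1620) (2464) (Nat.ble 570 i)) (Nat.ble 569 i)) (Bool.rec (motive := fun _ => Nat) (Bool.rec (motive := fun _ => Nat) (1040) (3655) (Nat.ble 572 i)) (Bool.rec (motive := fun _ => Nat) (1786) (3589) (Nat.ble 574 i)) (Nat.ble 573 i)) (Nat.ble 571 i)) (Nat.ble 568 i)) (Bool.rec (motive := fun _ => Nat) (Bool.rec (motive := fun _ => Nat) (Bool.rec (motive := fun _ => Nat) (4508) (Bool.rec (motive := fun _ => Nat) (4124) (3760) (Nat.ble 577 i)) (Nat.ble 576 i)) (Bool.rec (motive := fun _ => Nat) (4206) (Bool.rec (motive := fun _ => Nat) (4156) (4164) (Nat.ble 580 i)) (Nat.ble 579 i)) (Nat.ble 578 i)) (Bool.rec (motive := fun _ => Nat) (Bool.rec (motive := fun _ => Nat) (4869) (Bool.rec (motive := fun _ => Nat) (4623) (3518) (Nat.ble 583 i)) (Nat.ble 582 i)) (Bool.rec (motive := fun _ => Nat) (Bool.rec (motive := fun _ => Nat) (3711) (700) (Nat.ble 585 i)) (Bool.rec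 (motive := fun _ => Nat) (1077) (2820) (Nat.ble 587 i)) (Nat.ble 586 i)) (Nat.ble 584 i)) (Nat.ble 581 i)) (Nat.ble 575 i)) (Bool.rec (motive := fun _ => Nat) (Bool.rec (motive := fun _ => Nat) (Bool.rec (motive := fun _ => Nat) (Bool.rec (motive := fun _ => Nat) (2856) (Bool.rec (motive := fun _ => Nat) (1366) (4664) (Nat.ble 590 i)) (Nat.ble 589 i)) (Bool.rec (motive := fun _ => Nat) (3830) (Bool.rec (motive := fun _ => Nat) (4126) (1069) (Nat.ble 593 i)) (Nat.ble 592 i)) (Nat.ble 591 i)) (Bool.rec (motive := fun _ => Nat) (Bool.rec (motive := fun _ => Nat) (389) (Bool.rec (motive := fun _ => Nat) (1413) (4118) (Nat.ble 596 i)) (Nat.ble 595 i)) (Bool.rec (motive := fun _ => Nat) (Bool.rec (motive := fun _ => Nat) (4127) (76) (Nat.ble 598 i)) (Bool.rec (motive := fun _ => Nat) (4535) (4490) (Nat.ble 600 i)) (Nat.ble 599 i)) (Nat.ble 597 i)) (Nat.ble 594 i)) (Bool.rec (motive := fun _ => Nat) (Bool.rec (motive := fun _ => Nat) (Bool.rec (motive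 := fun _ => Nat) (4676) (Bool.rec (motive := fun _ => Nat) (2330) (3418) (Nat.ble 603 i)) (Nat.ble 602 i)) (Bool.rec (motive := fun _ => Nat) (4714) (Bool.rec (motive := fun _ => Nat) (4904) (4754) (Nat.ble 606 i)) (Nat.ble 605 i)) (Nat.ble 604 i)) (Bool.rec (motive := fun _ => Nat) (Bool.rec (motive := fun _ => Nat) (2726) (Bool.rec (motive := fun _ => Nat) (2490) (287) (Nat.ble 609 i)) (Nat.ble 608 i)) (Bool.rec (motive := fun _ => Nat) (Bool.rec (motive := fun _ => Nat) (605) (3804) (Nat.ble 611 i)) (Bool.rec (motive := fun _ => Nat) (3725) (3806) (Nat.ble 613 i)) (Nat.ble 612 i)) (Nat.ble 610 i)) (Nat.ble 607 i)) (Nat.ble 601 i)) (Nat.ble 588 i)) (Nat.ble 562 i)) (Nat.ble 511 i)) (Bool.rec (motive := fun _ => Nat) (Bool.rec (motive := fun _ => Nat) (Bool.rec (motive := fun _ => Nat) (Bool.rec (motive := fun _ => Nat) (Bool.rec (motive := fun _ => Nat) (Bool.rec (motive := fun _ => Nat) (Bool.rec (motive := fun _ => Nat) (1771) (Bool.rec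 (motive := fun _ => Nat) (4402) (3381) (Nat.ble 616 i)) (Nat.ble 615 i)) (Bool.rec (motive := fun _ => Nat) (1262) (Bool.rec (motive := fun _ => Nat) (756) (1631) (Nat.ble 619 i)) (Nat.ble 618 i)) (Nat.ble 617 i)) (Bool.rec (motive := fun _ => Nat) (Bool.rec (motive := fun _ => Nat) (2645) (Bool.rec (motive := fun _ => Nat) (4437) (3769) (Nat.ble 622 i)) (Nat.ble 621 i)) (Bool.rec (motive := fun _ => Nat) (1168) (Bool.rec (motive := fun _ => Nat) (455) (460) (Nat.ble 625 i)) (Nat.ble 624 i)) (Nat.ble 623 i)) (Nat.ble 620 i)) (Bool.rec (motive := fun _ => Nat) (Bool.rec (motive := fun _ => Nat) (Bool.rec (motive := fun _ => Nat) (291) (Bool.rec (motive := fun _ => Nat) (3758) (3310) (Nat.ble 628 i)) (Nat.ble 627 i)) (Bool.rec (motive := fun _ => Nat) (3215) (Bool.rec (motive := fun _ => Nat) (2375) (4742) (Nat.ble 631 i)) (Nat.ble 630 i)) (Nat.ble 629 i)) (Bool.rec (motive := fun _ => Nat) (Bool.rec (motive := fun _ => Nat) (1369) (Bool.rec (motive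 := fun _ => Nat) (1457) (3864) (Nat.ble 634 i)) (Nat.ble 633 i)) (Bool.rec (motive := fun _ => Nat) (Bool.rec (motive := fun _ => Nat) (53) (4192) (Nat.ble 636 i)) (Bool.rec (motive := fun _ => Nat) (467) (4165) (Nat.ble 638 i)) (Nat.ble 637 i)) (Nat.ble 635 i)) (Nat.ble 632 i)) (Nat.ble 626 i)) (Bool.rec (motive := fun _ => Nat) (Bool.rec (motive := fun _ => Nat) (Bool.rec (motive := fun _ => Nat) (Bool.rec (motive := fun _ => Nat) (3808) (Bool.rec (motive := fun _ => Nat) (4903) (2624) (Nat.ble 641 i)) (Nat.ble 640 i)) (Bool.rec (motive := fun _ => Nat) (2617) (Bool.rec (motive := fun _ => Nat) (813) (811) (Nat.ble 644 i)) (Nat.ble 643 i)) (Nat.ble 642 i)) (Bool.rec (motive := fun _ => Nat) (Bool.rec (motive := fun _ => Nat) (1756) (Bool.rec (motive := fun _ => Nat) (184) (1553) (Nat.ble 647 i)) (Nat.ble 646 i)) (Bool.rec (motive := fun _ => Nat) (Bool.rec (motive := fun _ => Nat) (4512) (1039) (Nat.ble 649 i)) (Bool.rec (motive := fun _ =>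 Nat) (3403) (3572) (Nat.ble 651 i)) (Nat.ble 650 i)) (Nat.ble 648 i)) (Nat.ble 645 i)) (Bool.rec (motive := fun _ => Nat) (Bool.rec (motive := fun _ => Nat) (Bool.rec (motive := fun _ => Nat) (4636) (Bool.rec (motive := fun _ => Nat) (4154) (22) (Nat.ble 654 i)) (Nat.ble 653 i)) (Bool.rec (motive := fun _ => Nat) (3621) (Bool.rec (motive := fun _ => Nat) (3754) (1592) (Nat.ble 657 i)) (Nat.ble 656 i)) (Nat.ble 655 i)) (Bool.rec (motive := fun _ => Nat) (Bool.rec (motive := fun _ => Nat) (1365) (Bool.rec (motive := fun _ => Nat) (3435) (3102) (Nat.ble 660 i)) (Nat.ble 659 i)) (Bool.rec (motive := fun _ => Nat) (Bool.rec (motive := fun _ => Nat) (3658) (553) (Nat.ble 662 i)) (Bool.rec (motive := fun _ => Nat) (4141) (3723) (Nat.ble 664 i)) (Nat.ble 663 i)) (Nat.ble 661 i)) (Nat.ble 658 i)) (Nat.ble 652 i)) (Nat.ble 639 i)) (Bool.rec (motive := fun _ => Nat) (Bool.rec (motive := fun _ => Nat) (Bool.rec (motive := fun _ => Nat) (Bool.rec (motive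 := fun _ => Nat) (Bool.rec (motive := fun _ => Nat) (3636) (Bool.rec (motive := fun _ => Nat) (4887) (2187) (Nat.ble 667 i)) (Nat.ble 666 i)) (Bool.rec (motive := fun _ => Nat) (3549) (Bool.rec (motive := fun _ => Nat) (3657) (4181) (Nat.ble 670 i)) (Nat.ble 669 i)) (Nat.ble 668 i)) (Bool.rec (motive := fun _ => Nat) (Bool.rec (motive := fun _ => Nat) (200) (Bool.rec (motive := fun _ => Nat) (4269) (3190) (Nat.ble 673 i)) (Nat.ble 672 i)) (Bool.rec (motive := fun _ => Nat) (1524) (Bool.rec (motive := fun _ => Nat) (1709) (1708) (Nat.ble 676 i)) (Nat.ble 675 i)) (Nat.ble 674 i)) (Nat.ble 671 i)) (Bool.rec (motive := fun _ => Nat) (Bool.rec (motive := fun _ => Nat) (Bool.rec (motive := fun _ => Nat) (1637) (Bool.rec (motive := fun _ => Nat) (4796) (3827) (Nat.ble 679 i)) (Nat.ble 678 i)) (Bool.rec (motive := fun _ => Nat) (2090) (Bool.rec (motive := fun _ => Nat) (2070) (2077) (Nat.ble 682 i)) (Nat.ble 681 i)) (Nat.ble 680 i)) (Bool.rec (motive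 := fun _ => Nat) (Bool.rec (motive := fun _ => Nat) (1627) (Bool.rec (motive := fun _ => Nat) (3880) (2063) (Nat.ble 685 i)) (Nat.ble 684 i)) (Bool.rec (motive := fun _ => Nat) (Bool.rec (motive := fun _ => Nat) (1629) (2572) (Nat.ble 687 i)) (Bool.rec (motive := fun _ => Nat) (4857) (2640) (Nat.ble 689 i)) (Nat.ble 688 i)) (Nat.ble 686 i)) (Nat.ble 683 i)) (Nat.ble 677 i)) (Bool.rec (motive := fun _ => Nat) (Bool.rec (motive := fun _ => Nat) (Bool.rec (motive := fun _ => Nat) (Bool.rec (motive := fun _ => Nat) (3256) (Bool.rec (motive := fun _ => Nat) (3351) (3519) (Nat.ble 692 i)) (Nat.ble 691 i)) (Bool.rec (motive := fun _ => Nat) (198) (Bool.rec (motive := fun _ => Nat) (4180) (3494) (Nat.ble 695 i)) (Nat.ble 694 i)) (Nat.ble 693 i)) (Bool.rec (motive := fun _ => Nat) (Bool.rec (motive := fun _ => Nat) (4642) (Bool.rec (motive := fun _ => Nat) (4599) (15) (Nat.ble 698 i)) (Nat.ble 697 i)) (Bool.rec (motive := fun _ => Nat) (Bool.rec (motive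 := fun _ => Nat) (3100) (3088) (Nat.ble 700 i)) (Bool.rec (motive := fun _ => Nat) (3257) (4907) (Nat.ble 702 i)) (Nat.ble 701 i)) (Nat.ble 699 i)) (Nat.ble 696 i)) (Bool.rec (motive := fun _ => Nat) (Bool.rec (motive := fun _ => Nat) (Bool.rec (motive := fun _ => Nat) (4235) (Bool.rec (motive := fun _ => Nat) (3254) (2826) (Nat.ble 705 i)) (Nat.ble 704 i)) (Bool.rec (motive := fun _ => Nat) (4616) (Bool.rec (motive := fun _ => Nat) (4443) (4236) (Nat.ble 708 i)) (Nat.ble 707 i)) (Nat.ble 706 i)) (Bool.rec (motive := fun _ => Nat) (Bool.rec (motive := fun _ => Nat) (2357) (Bool.rec (motive := fun _ => Nat) (1621) (344) (Nat.ble 711 i)) (Nat.ble 710 i)) (Bool.rec (motive := fun _ => Nat) (Bool.rec (motive := fun _ => Nat) (3747) (3677) (Nat.ble 713 i)) (Bool.rec (motive := fun _ => Nat) (2862) (3863) (Nat.ble 715 i)) (Nat.ble 714 i)) (Nat.ble 712 i)) (Nat.ble 709 i)) (Nat.ble 703 i)) (Nat.ble 690 i)) (Nat.ble 665 i)) (Bool.rec (motive := fun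 _ => Nat) (Bool.rec (motive := fun _ => Nat) (Bool.rec (motive := fun _ => Nat) (Bool.rec (motive := fun _ => Nat) (Bool.rec (motive := fun _ => Nat) (Bool.rec (motive := fun _ => Nat) (2781) (Bool.rec (motive := fun _ => Nat) (597) (4352) (Nat.ble 718 i)) (Nat.ble 717 i)) (Bool.rec (motive := fun _ => Nat) (2755) (Bool.rec (motive := fun _ => Nat) (4125) (1593) (Nat.ble 721 i)) (Nat.ble 720 i)) (Nat.ble 719 i)) (Bool.rec (motive := fun _ => Nat) (Bool.rec (motive := fun _ => Nat) (3177) (Bool.rec (motive := fun _ => Nat) (4701) (2313) (Nat.ble 724 i)) (Nat.ble 723 i)) (Bool.rec (motive := fun _ => Nat) (4617) (Bool.rec (motive := fun _ => Nat) (575) (574) (Nat.ble 727 i)) (Nat.ble 726 i)) (Nat.ble 725 i)) (Nat.ble 722 i)) (Bool.rec (motive := fun _ => Nat) (Bool.rec (motive := fun _ => Nat) (Bool.rec (motive := fun _ => Nat) (1598) (Bool.rec (motive := fun _ => Nat) (3497) (2795) (Nat.ble 730 i)) (Nat.ble 729 i)) (Bool.rec (motive := fun _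 => Nat) (3823) (Bool.rec (motive := fun _ => Nat) (4133) (3101) (Nat.ble 733 i)) (Nat.ble 732 i)) (Nat.ble 731 i)) (Bool.rec (motive := fun _ => Nat) (Bool.rec (motive := fun _ => Nat) (3117) (Bool.rec (motive := fun _ => Nat) (172) (1196) (Nat.ble 736 i)) (Nat.ble 735 i)) (Bool.rec (motive := fun _ => Nat) (Bool.rec (motive := fun _ => Nat) (4168) (4351) (Nat.ble 738 i)) (Bool.rec (motive := fun _ => Nat) (1046) (3574) (Nat.ble 740 i)) (Nat.ble 739 i)) (Nat.ble 737 i)) (Nat.ble 734 i)) (Nat.ble 728 i)) (Bool.rec (motive := fun _ => Nat) (Bool.rec (motive := fun _ => Nat) (Bool.rec (motive := fun _ => Nat) (Bool.rec (motive := fun _ => Nat) (3517) (Bool.rec (motive := fun _ => Nat) (3682) (1463) (Nat.ble 743 i)) (Nat.ble 742 i)) (Bool.rec (motive := fun _ => Nat) (2337) (Bool.rec (motive := fun _ => Nat) (3568) (4459) (Nat.ble 746 i)) (Nat.ble 745 i)) (Nat.ble 744 i)) (Bool.rec (motive := fun _ => Nat) (Bool.rec (motive := fun _ => Nat) (3419)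 (Bool.rec (motive := fun _ => Nat) (3282) (4453) (Nat.ble 749 i)) (Nat.ble 748 i)) (Bool.rec (motive := fun _ => Nat) (Bool.rec (motive := fun _ => Nat) (3436) (3525) (Nat.ble 751 i)) (Bool.rec (motive := fun _ => Nat) (554) (1353) (Nat.ble 753 i)) (Nat.ble 752 i)) (Nat.ble 750 i)) (Nat.ble 747 i)) (Bool.rec (motive := fun _ => Nat) (Bool.rec (motive := fun _ => Nat) (Bool.rec (motive := fun _ => Nat) (3411) (Bool.rec (motive := fun _ => Nat) (2738) (3852) (Nat.ble 756 i)) (Nat.ble 755 i)) (Bool.rec (motive := fun _ => Nat) (3844) (Bool.rec (motive := fun _ => Nat) (2078) (3828) (Nat.ble 759 i)) (Nat.ble 758 i)) (Nat.ble 757 i)) (Bool.rec (motive := fun _ => Nat) (Bool.rec (motive := fun _ => Nat) (1122) (Bool.rec (motive := fun _ => Nat) (3668) (4307) (Nat.ble 762 i)) (Nat.ble 761 i)) (Bool.rec (motive := fun _ => Nat) (Bool.rec (motive := fun _ => Nat) (2161) (1191) (Nat.ble 764 i)) (Bool.rec (motive := fun _ => Nat) (4173) (720) (Nat.ble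 766 i)) (Nat.ble 765 i)) (Nat.ble 763 i)) (Nat.ble 760 i)) (Nat.ble 754 i)) (Nat.ble 741 i)) (Bool.rec (motive := fun _ => Nat) (Bool.rec (motive := fun _ => Nat) (Bool.rec (motive := fun _ => Nat) (Bool.rec (motive := fun _ => Nat) (Bool.rec (motive := fun _ => Nat) (1388) (Bool.rec (motive := fun _ => Nat) (4237) (576) (Nat.ble 769 i)) (Nat.ble 768 i)) (Bool.rec (motive := fun _ => Nat) (1053) (Bool.rec (motive := fun _ => Nat) (4849) (3114) (Nat.ble 772 i)) (Nat.ble 771 i)) (Nat.ble 770 i)) (Bool.rec (motive := fun _ => Nat) (Bool.rec (motive := fun _ => Nat) (1092) (Bool.rec (motive := fun _ => Nat) (2214) (707) (Nat.ble 775 i)) (Nat.ble 774 i)) (Bool.rec (motive := fun _ => Nat) (Bool.rec (motive := fun _ => Nat) (2651) (1377) (Nat.ble 777 i)) (Bool.rec (motive := fun _ => Nat) (3087) (3762) (Nat.ble 779 i)) (Nat.ble 778 i)) (Nat.ble 776 i)) (Nat.ble 773 i)) (Bool.rec (motive := fun _ => Nat) (Bool.rec (motive := fun _ => Nat) (Bool.rec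 (motive := fun _ => Nat) (4112) (Bool.rec (motive := fun _ => Nat) (2606) (2690) (Nat.ble 782 i)) (Nat.ble 781 i)) (Bool.rec (motive := fun _ => Nat) (3578) (Bool.rec (motive := fun _ => Nat) (4240) (4491) (Nat.ble 785 i)) (Nat.ble 784 i)) (Nat.ble 783 i)) (Bool.rec (motive := fun _ => Nat) (Bool.rec (motive := fun _ => Nat) (1296) (Bool.rec (motive := fun _ => Nat) (1224) (4179) (Nat.ble 788 i)) (Nat.ble 787 i)) (Bool.rec (motive := fun _ => Nat) (Bool.rec (motive := fun _ => Nat) (500) (3140) (Nat.ble 790 i)) (Bool.rec (motive := fun _ => Nat) (685) (3184) (Nat.ble 792 i)) (Nat.ble 791 i)) (Nat.ble 789 i)) (Nat.ble 786 i)) (Nat.ble 780 i)) (Bool.rec (motive := fun _ => Nat) (Bool.rec (motive := fun _ => Nat) (Bool.rec (motive := fun _ => Nat) (Bool.rec (motive := fun _ => Nat) (3590) (Bool.rec (motive := fun _ => Nat) (1731) (2653) (Nat.ble 795 i)) (Nat.ble 794 i)) (Bool.rec (motive := fun _ => Nat) (3183) (Bool.rec (motive := fun _ => Nat)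 (3693) (439) (Nat.ble 798 i)) (Nat.ble 797 i)) (Nat.ble 796 i)) (Bool.rec (motive := fun _ => Nat) (Bool.rec (motive := fun _ => Nat) (4782) (Bool.rec (motive := fun _ => Nat) (177) (2729) (Nat.ble 801 i)) (Nat.ble 800 i)) (Bool.rec (motive := fun _ => Nat) (Bool.rec (motive := fun _ => Nat) (4563) (1742) (Nat.ble 803 i)) (Bool.rec (motive := fun _ => Nat) (4646) (353) (Nat.ble 805 i)) (Nat.ble 804 i)) (Nat.ble 802 i)) (Nat.ble 799 i)) (Bool.rec (motive := fun _ => Nat) (Bool.rec (motive := fun _ => Nat) (Bool.rec (motive := fun _ => Nat) (3822) (Bool.rec (motive := fun _ => Nat) (2411) (3094) (Nat.ble 808 i)) (Nat.ble 807 i)) (Bool.rec (motive := fun _ => Nat) (1574) (Bool.rec (motive := fun _ => Nat) (112) (4487) (Nat.ble 811 i)) (Nat.ble 810 i)) (Nat.ble 809 i)) (Bool.rec (motive := fun _ => Nat) (Bool.rec (motive := fun _ => Nat) (2494) (Bool.rec (motive := fun _ => Nat) (4654) (4780) (Nat.ble 814 i)) (Nat.ble 813 i)) (Bool.rec (motive :=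 fun _ => Nat) (Bool.rec (motive := fun _ => Nat) (161) (4571) (Nat.ble 816 i)) (Bool.rec (motive := fun _ => Nat) (3750) (3635) (Nat.ble 818 i)) (Nat.ble 817 i)) (Nat.ble 815 i)) (Nat.ble 812 i)) (Nat.ble 806 i)) (Nat.ble 793 i)) (Nat.ble 767 i)) (Nat.ble 716 i)) (Nat.ble 614 i)) (Nat.ble 409 i))

/-- Stabilising words of node 3. -/
def tGen3 : List (List Nat) := [[4, 8, 6, 4, 2, 0, 6, 4, 2, 8, 6, 4, 6, 8], [8, 6, 4, 2, 0, 6, 4, 2, 8, 6, 4, 6, 8, 12, 5], [6, 8, 6, 4, 6, 4, 2, 0, 8, 6, 4, 2, 6, 12, 5, 7, 1], [6, 8, 6, 4, 2, 0, 6, 4, 2, 0, 8, 6], [0, 11, 8, 6, 4, 2, 11, 8, 6, 4, 10, 8, 6, 10, 9, 10, 3, 5, 7, 9, 10, 13, 1]]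

/-- Roots at node 3. -/
def tRoot3 : List Nat := [0, 1, 4, 15, 16, 22]

/-- Forest of the points at node 4. -/
noncomputable def tPar4 (i : Nat) : Nat := (Bool.rec (motive := fun _ => Nat) (Bool.rec (motive := fun _ => Nat) (Bool.rec (motive := fun _ => Nat) (Bool.rec (motive := fun _ => Nat) (Bool.rec (motive := fun _ => Nat) (Bool.rec (motive := fun _ => Nat) (Bool.rec (motive := fun _ => Nat) (Bool.rec (motive := fun _ => Nat) (Bool.rec (motive := fun _ => Nat) (15360) (Bool.rec (motive := fun _ => Nat) (15361) (5439) (Nat.ble 2 i)) (Nat.ble 1 i)) (Bool.rec (motive := fun _ => Nat) (5331) (Bool.rec (motive := fun _ => Nat) (3073) (15365) (Nat.ble 5 i)) (Nat.ble 4 i)) (Nat.ble 3 i)) (Bool.rec (motive := fun _ => Nat) (Bool.rec (motive := fun _ => Nat) (0) (Bool.rec (motive := fun _ => Nat) (5230) (5148) (Nat.ble 8 i)) (Nat.ble 7 i)) (Bool.rec (motive := fun _ => Nat) (2086) (Bool.rec (motive := fun _ => Nat) (15370) (3091) (Nat.ble 11 i))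 (Nat.ble 10 i)) (Nat.ble 9 i)) (Nat.ble 6 i)) (Bool.rec (motive := fun _ => Nat) (Bool.rec (motive := fun _ => Nat) (Bool.rec (motive := fun _ => Nat) (5158) (Bool.rec (motive := fun _ => Nat) (2058) (5129) (Nat.ble 14 i)) (Nat.ble 13 i)) (Bool.rec (motive := fun _ => Nat) (1134) (Bool.rec (motive := fun _ => Nat) (4101) (3085) (Nat.ble 17 i)) (Nat.ble 16 i)) (Nat.ble 15 i)) (Bool.rec (motive := fun _ => Nat) (Bool.rec (motive := fun _ => Nat) (2072) (Bool.rec (motive := fun _ => Nat) (2053) (3110) (Nat.ble 20 i)) (Nat.ble 19 i)) (Bool.rec (motive := fun _ => Nat) (Bool.rec (motive := fun _ => Nat) (5139) (4103) (Nat.ble 22 i)) (Bool.rec (motive := fun _ => Nat) (3082) (1034) (Nat.ble 24 i)) (Nat.ble 23 i)) (Nat.ble 21 i)) (Nat.ble 18 i)) (Nat.ble 12 i)) (Bool.rec (motive := fun _ => Nat) (Bool.rec (motive := fun _ => Nat) (Bool.rec (motive := fun _ => Nat) (Bool.rec (motive := fun _ => Nat) (5687) (Bool.rec (motive := fun _ => Nat) (5125) (4104)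 (Nat.ble 27 i)) (Nat.ble 26 i)) (Bool.rec (motive := fun _ => Nat) (2158) (Bool.rec (motive := fun _ => Nat) (4105) (4124) (Nat.ble 30 i)) (Nat.ble 29 i)) (Nat.ble 28 i)) (Bool.rec (motive := fun _ => Nat) (Bool.rec (motive := fun _ => Nat) (4111) (Bool.rec (motive := fun _ => Nat) (5193) (15393) (Nat.ble 33 i)) (Nat.ble 32 i)) (Bool.rec (motive := fun _ => Nat) (Bool.rec (motive := fun _ => Nat) (3096) (1107) (Nat.ble 35 i)) (Bool.rec (motive := fun _ => Nat) (4106) (3079) (Nat.ble 37 i)) (Nat.ble 36 i)) (Nat.ble 34 i)) (Nat.ble 31 i)) (Bool.rec (motive := fun _ => Nat) (Bool.rec (motive := fun _ => Nat) (Bool.rec (motive := fun _ => Nat) (1029) (Bool.rec (motive := fun _ => Nat) (6936) (3140) (Nat.ble 40 i)) (Nat.ble 39 i)) (Bool.rec (motive := fun _ => Nat) (4107) (Bool.rec (motive := fun _ => Nat) (3238) (4108) (Nat.ble 43 i)) (Nat.ble 42 i)) (Nat.ble 41 i)) (Bool.rec (motive := fun _ => Nat) (Bool.rec (motive := fun _ => Nat) (99) (Bool.rec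 (motive := fun _ => Nat) (4117) (3090) (Nat.ble 46 i)) (Nat.ble 45 i)) (Bool.rec (motive := fun _ => Nat) (Bool.rec (motive := fun _ => Nat) (6252) (2083) (Nat.ble 48 i)) (Bool.rec (motive := fun _ => Nat) (4109) (6879) (Nat.ble 50 i)) (Nat.ble 49 i)) (Nat.ble 47 i)) (Nat.ble 44 i)) (Nat.ble 38 i)) (Nat.ble 25 i)) (Bool.rec (motive := fun _ => Nat) (Bool.rec (motive := fun _ => Nat) (Bool.rec (motive := fun _ => Nat) (Bool.rec (motive := fun _ => Nat) (Bool.rec (motive := fun _ => Nat) (15411) (Bool.rec (motive := fun _ => Nat) (5286) (5135) (Nat.ble 53 i)) (Nat.ble 52 i)) (Bool.rec (motive := fun _ => Nat) (169) (Bool.rec (motive := fun _ => Nat) (1193) (4122) (Nat.ble 56 i)) (Nat.ble 55 i)) (Nat.ble 54 i)) (Bool.rec (motive := fun _ => Nat) (Bool.rec (motive := fun _ => Nat) (3077) (Bool.rec (motive := fun _ => Nat) (5216) (1031) (Nat.ble 59 i)) (Nat.ble 58 i)) (Bool.rec (motive := fun _ => Nat) (3120) (Bool.rec (motive := fun _ => Nat) (4113)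 (2131) (Nat.ble 62 i)) (Nat.ble 61 i)) (Nat.ble 60 i)) (Nat.ble 57 i)) (Bool.rec (motive := fun _ => Nat) (Bool.rec (motive := fun _ => Nat) (Bool.rec (motive := fun _ => Nat) (4114) (Bool.rec (motive := fun _ => Nat) (4158) (4131) (Nat.ble 65 i)) (Nat.ble 64 i)) (Bool.rec (motive := fun _ => Nat) (26) (Bool.rec (motive := fun _ => Nat) (4380) (2063) (Nat.ble 68 i)) (Nat.ble 67 i)) (Nat.ble 66 i)) (Bool.rec (motive := fun _ => Nat) (Bool.rec (motive := fun _ => Nat) (4115) (Bool.rec (motive := fun _ => Nat) (5570) (1628) (Nat.ble 71 i)) (Nat.ble 70 i)) (Bool.rec (motive := fun _ => Nat) (Bool.rec (motive := fun _ => Nat) (814) (3182) (Nat.ble 73 i)) (Bool.rec (motive := fun _ => Nat) (4116) (4169) (Nat.ble 75 i)) (Nat.ble 74 i)) (Nat.ble 72 i)) (Nat.ble 69 i)) (Nat.ble 63 i)) (Bool.rec (motive := fun _ => Nat) (Bool.rec (motive := fun _ => Nat) (Bool.rec (motive := fun _ => Nat) (Bool.rec (motive := fun _ => Nat) (4136) (Bool.rec (motive :=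 fun _ => Nat) (15437) (3107) (Nat.ble 78 i)) (Nat.ble 77 i)) (Bool.rec (motive := fun _ => Nat) (4119) (Bool.rec (motive := fun _ => Nat) (3242) (6871) (Nat.ble 81 i)) (Nat.ble 80 i)) (Nat.ble 79 i)) (Bool.rec (motive := fun _ => Nat) (Bool.rec (motive := fun _ => Nat) (392) (Bool.rec (motive := fun _ => Nat) (10) (4120) (Nat.ble 84 i)) (Nat.ble 83 i)) (Bool.rec (motive := fun _ => Nat) (Bool.rec (motive := fun _ => Nat) (4179) (4144) (Nat.ble 86 i)) (Bool.rec (motive := fun _ => Nat) (6464) (3487) (Nat.ble 88 i)) (Nat.ble 87 i)) (Nat.ble 85 i)) (Nat.ble 82 i)) (Bool.rec (motive := fun _ => Nat) (Bool.rec (motive := fun _ => Nat) (Bool.rec (motive := fun _ => Nat) (816) (Bool.rec (motive := fun _ => Nat) (2536) (5417) (Nat.ble 91 i)) (Nat.ble 90 i)) (Bool.rec (motive := fun _ => Nat) (1697) (Bool.rec (motive := fun _ => Nat) (5186) (6946) (Nat.ble 94 i)) (Nat.ble 93 i)) (Nat.ble 92 i)) (Bool.rec (motive := fun _ => Nat) (Bool.rec (motive :=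 fun _ => Nat) (5511) (Bool.rec (motive := fun _ => Nat) (5153) (3081) (Nat.ble 97 i)) (Nat.ble 96 i)) (Bool.rec (motive := fun _ => Nat) (Bool.rec (motive := fun _ => Nat) (3098) (5232) (Nat.ble 99 i)) (Bool.rec (motive := fun _ => Nat) (3155) (4130) (Nat.ble 101 i)) (Nat.ble 100 i)) (Nat.ble 98 i)) (Nat.ble 95 i)) (Nat.ble 89 i)) (Nat.ble 76 i)) (Nat.ble 51 i)) (Bool.rec (motive := fun _ => Nat) (Bool.rec (motive := fun _ => Nat) (Bool.rec (motive := fun _ => Nat) (Bool.rec (motive := fun _ => Nat) (Bool.rec (motive := fun _ => Nat) (Bool.rec (motive := fun _ => Nat) (4196) (Bool.rec (motive := fun _ => Nat) (4156) (2178) (Nat.ble 104 i)) (Nat.ble 103 i)) (Bool.rec (motive := fun _ => Nat) (5177) (Bool.rec (motive := fun _ => Nat) (5150) (3202) (Nat.ble 107 i)) (Nat.ble 106 i)) (Nat.ble 105 i)) (Bool.rec (motive := fun _ => Nat) (Bool.rec (motive := fun _ => Nat) (6725) (Bool.rec (motive := fun _ => Nat) (5640) (5) (Nat.ble 110 i)) (Nat.ble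 109 i)) (Bool.rec (motive := fun _ => Nat) (4134) (Bool.rec (motive := fun _ => Nat) (4206) (4164) (Nat.ble 113 i)) (Nat.ble 112 i)) (Nat.ble 111 i)) (Nat.ble 108 i)) (Bool.rec (motive := fun _ => Nat) (Bool.rec (motive := fun _ => Nat) (Bool.rec (motive := fun _ => Nat) (6285) (Bool.rec (motive := fun _ => Nat) (3388) (5173) (Nat.ble 116 i)) (Nat.ble 115 i)) (Bool.rec (motive := fun _ => Nat) (2652) (Bool.rec (motive := fun _ => Nat) (4248) (6245) (Nat.ble 119 i)) (Nat.ble 118 i)) (Nat.ble 117 i)) (Bool.rec (motive := fun _ => Nat) (Bool.rec (motive := fun _ => Nat) (5163) (Bool.rec (motive := fun _ => Nat) (6895) (5704) (Nat.ble 122 i)) (Nat.ble 121 i)) (Bool.rec (motive := fun _ => Nat) (Bool.rec (motive := fun _ => Nat) (4595) (6361) (Nat.ble 124 i)) (Bool.rec (motive := fun _ => Nat) (4261) (3134) (Nat.ble 126 i)) (Nat.ble 125 i)) (Nat.ble 123 i)) (Nat.ble 120 i)) (Nat.ble 114 i)) (Bool.rec (motive := fun _ => Nat) (Bool.rec (motive :=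 fun _ => Nat) (Bool.rec (motive := fun _ => Nat) (Bool.rec (motive := fun _ => Nat) (4142) (Bool.rec (motive := fun _ => Nat) (4222) (4174) (Nat.ble 129 i)) (Nat.ble 128 i)) (Bool.rec (motive := fun _ => Nat) (1101) (Bool.rec (motive := fun _ => Nat) (6355) (6349) (Nat.ble 132 i)) (Nat.ble 131 i)) (Nat.ble 130 i)) (Bool.rec (motive := fun _ => Nat) (Bool.rec (motive := fun _ => Nat) (4268) (Bool.rec (motive := fun _ => Nat) (5401) (5452) (Nat.ble 135 i)) (Nat.ble 134 i)) (Bool.rec (motive := fun _ => Nat) (Bool.rec (motive := fun _ => Nat) (5388) (5497) (Nat.ble 137 i)) (Bool.rec (motive := fun _ => Nat) (5547) (3701) (Nat.ble 139 i)) (Nat.ble 138 i)) (Nat.ble 136 i)) (Nat.ble 133 i)) (Bool.rec (motive := fun _ => Nat) (Bool.rec (motive := fun _ => Nat) (Bool.rec (motive := fun _ => Nat) (3176) (Bool.rec (motive := fun _ => Nat) (6598) (454) (Nat.ble 142 i)) (Nat.ble 141 i)) (Bool.rec (motive := fun _ => Nat) (3676) (Bool.rec (motive := fun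 _ => Nat) (5589) (6207) (Nat.ble 145 i)) (Nat.ble 144 i)) (Nat.ble 143 i)) (Bool.rec (motive := fun _ => Nat) (Bool.rec (motive := fun _ => Nat) (5280) (Bool.rec (motive := fun _ => Nat) (1805) (6384) (Nat.ble 148 i)) (Nat.ble 147 i)) (Bool.rec (motive := fun _ => Nat) (Bool.rec (motive := fun _ => Nat) (6236) (5353) (Nat.ble 150 i)) (Bool.rec (motive := fun _ => Nat) (4121) (5509) (Nat.ble 152 i)) (Nat.ble 151 i)) (Nat.ble 149 i)) (Nat.ble 146 i)) (Nat.ble 140 i)) (Nat.ble 127 i)) (Bool.rec (motive := fun _ => Nat) (Bool.rec (motive := fun _ => Nat) (Bool.rec (motive := fun _ => Nat) (Bool.rec (motive := fun _ => Nat) (Bool.rec (motive := fun _ => Nat) (6154) (Bool.rec (motive := fun _ => Nat) (5349) (6806) (Nat.ble 155 i)) (Nat.ble 154 i)) (Bool.rec (motive := fun _ => Nat) (6448) (Bool.rec (motive := fun _ => Nat) (3087) (4153) (Nat.ble 158 i)) (Nat.ble 157 i)) (Nat.ble 156 i)) (Bool.rec (motive := fun _ => Nat) (Bool.rec (motive := fun _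 => Nat) (7) (Bool.rec (motive := fun _ => Nat) (5231) (4255) (Nat.ble 161 i)) (Nat.ble 160 i)) (Bool.rec (motive := fun _ => Nat) (5189) (Bool.rec (motive := fun _ => Nat) (6436) (4716) (Nat.ble 164 i)) (Nat.ble 163 i)) (Nat.ble 162 i)) (Nat.ble 159 i)) (Bool.rec (motive := fun _ => Nat) (Bool.rec (motive := fun _ => Nat) (Bool.rec (motive := fun _ => Nat) (5182) (Bool.rec (motive := fun _ => Nat) (1050) (4162) (Nat.ble 167 i)) (Nat.ble 166 i)) (Bool.rec (motive := fun _ => Nat) (4262) (Bool.rec (motive := fun _ => Nat) (5136) (2125) (Nat.ble 170 i)) (Nat.ble 169 i)) (Nat.ble 168 i)) (Bool.rec (motive := fun _ => Nat) (Bool.rec (motive := fun _ => Nat) (6501) (Bool.rec (motive := fun _ => Nat) (5203) (5337) (Nat.ble 173 i)) (Nat.ble 172 i)) (Bool.rec (motive := fun _ => Nat) (Bool.rec (motive := fun _ => Nat) (5684) (6562) (Nat.ble 175 i)) (Bool.rec (motive := fun _ => Nat) (5323) (5693) (Nat.ble 177 i)) (Nat.ble 176 i)) (Nat.ble 174 i)) (Nat.ble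 171 i)) (Nat.ble 165 i)) (Bool.rec (motive := fun _ => Nat) (Bool.rec (motive := fun _ => Nat) (Bool.rec (motive := fun _ => Nat) (Bool.rec (motive := fun _ => Nat) (1413) (Bool.rec (motive := fun _ => Nat) (3149) (6826) (Nat.ble 180 i)) (Nat.ble 179 i)) (Bool.rec (motive := fun _ => Nat) (5743) (Bool.rec (motive := fun _ => Nat) (3560) (5259) (Nat.ble 183 i)) (Nat.ble 182 i)) (Nat.ble 181 i)) (Bool.rec (motive := fun _ => Nat) (Bool.rec (motive := fun _ => Nat) (6227) (Bool.rec (motive := fun _ => Nat) (5134) (800) (Nat.ble 186 i)) (Nat.ble 185 i)) (Bool.rec (motive := fun _ => Nat) (Bool.rec (motive := fun _ => Nat) (5479) (6557) (Nat.ble 188 i)) (Bool.rec (motive := fun _ => Nat) (6296) (6930) (Nat.ble 190 i)) (Nat.ble 189 i)) (Nat.ble 187 i)) (Nat.ble 184 i)) (Bool.rec (motive := fun _ => Nat) (Bool.rec (motive := fun _ => Nat) (Bool.rec (motive := fun _ => Nat) (5805) (Bool.rec (motive := fun _ => Nat) (784) (6918) (Nat.ble 193 i)) (Nat.ble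 192 i)) (Bool.rec (motive := fun _ => Nat) (6908) (Bool.rec (motive := fun _ => Nat) (6558) (5733) (Nat.ble 196 i)) (Nat.ble 195 i)) (Nat.ble 194 i)) (Bool.rec (motive := fun _ => Nat) (Bool.rec (motive := fun _ => Nat) (6463) (Bool.rec (motive := fun _ => Nat) (6726) (656) (Nat.ble 199 i)) (Nat.ble 198 i)) (Bool.rec (motive := fun _ => Nat) (Bool.rec (motive := fun _ => Nat) (6489) (1657) (Nat.ble 201 i)) (Bool.rec (motive := fun _ => Nat) (4603) (585) (Nat.ble 203 i)) (Nat.ble 202 i)) (Nat.ble 200 i)) (Nat.ble 197 i)) (Nat.ble 191 i)) (Nat.ble 178 i)) (Nat.ble 153 i)) (Nat.ble 102 i)) (Bool.rec (motive := fun _ => Nat) (Bool.rec (motive := fun _ => Nat) (Bool.rec (motive := fun _ => Nat) (Bool.rec (motive := fun _ => Nat) (Bool.rec (motive := fun _ => Nat) (Bool.rec (motive := fun _ => Nat) (Bool.rec (motive := fun _ => Nat) (6182) (Bool.rec (motive := fun _ => Nat) (6435) (5244) (Nat.ble 206 i)) (Nat.ble 205 i)) (Bool.rec (motive := fun _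 => Nat) (5642) (Bool.rec (motive := fun _ => Nat) (5601) (3244) (Nat.ble 209 i)) (Nat.ble 208 i)) (Nat.ble 207 i)) (Bool.rec (motive := fun _ => Nat) (Bool.rec (motive := fun _ => Nat) (15570) (Bool.rec (motive := fun _ => Nat) (5124) (6523) (Nat.ble 212 i)) (Nat.ble 211 i)) (Bool.rec (motive := fun _ => Nat) (6743) (Bool.rec (motive := fun _ => Nat) (4654) (4375) (Nat.ble 215 i)) (Nat.ble 214 i)) (Nat.ble 213 i)) (Nat.ble 210 i)) (Bool.rec (motive := fun _ => Nat) (Bool.rec (motive := fun _ => Nat) (Bool.rec (motive := fun _ => Nat) (6241) (Bool.rec (motive := fun _ => Nat) (5368) (5627) (Nat.ble 218 i)) (Nat.ble 217 i)) (Bool.rec (motive := fun _ => Nat) (6313) (Bool.rec (motive := fun _ => Nat) (6595) (4270) (Nat.ble 221 i)) (Nat.ble 220 i)) (Nat.ble 219 i)) (Bool.rec (motive := fun _ => Nat) (Bool.rec (motive := fun _ => Nat) (6279) (Bool.rec (motive := fun _ => Nat) (5332) (4234) (Nat.ble 224 i)) (Nat.ble 223 i)) (Bool.rec (motive := fun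 _ => Nat) (Bool.rec (motive := fun _ => Nat) (389) (6745) (Nat.ble 226 i)) (Bool.rec (motive := fun _ => Nat) (5220) (5558) (Nat.ble 228 i)) (Nat.ble 227 i)) (Nat.ble 225 i)) (Nat.ble 222 i)) (Nat.ble 216 i)) (Bool.rec (motive := fun _ => Nat) (Bool.rec (motive := fun _ => Nat) (Bool.rec (motive := fun _ => Nat) (Bool.rec (motive := fun _ => Nat) (5549) (Bool.rec (motive := fun _ => Nat) (1310) (5578) (Nat.ble 231 i)) (Nat.ble 230 i)) (Bool.rec (motive := fun _ => Nat) (370) (Bool.rec (motive := fun _ => Nat) (5250) (4485) (Nat.ble 234 i)) (Nat.ble 233 i)) (Nat.ble 232 i)) (Bool.rec (motive := fun _ => Nat) (Bool.rec (motive := fun _ => Nat) (5769) (Bool.rec (motive := fun _ => Nat) (5745) (5692) (Nat.ble 237 i)) (Nat.ble 236 i)) (Bool.rec (motive := fun _ => Nat) (Bool.rec (motive := fun _ => Nat) (1686) (6859) (Nat.ble 239 i)) (Bool.rec (motive := fun _ => Nat) (5403) (1824) (Nat.ble 241 i)) (Nat.ble 240 i)) (Nat.ble 238 i)) (Nat.ble 235 i))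 (Bool.rec (motive := fun _ => Nat) (Bool.rec (motive := fun _ => Nat) (Bool.rec (motive := fun _ => Nat) (6392) (Bool.rec (motive := fun _ => Nat) (5295) (5157) (Nat.ble 244 i)) (Nat.ble 243 i)) (Bool.rec (motive := fun _ => Nat) (1808) (Bool.rec (motive := fun _ => Nat) (489) (6551) (Nat.ble 247 i)) (Nat.ble 246 i)) (Nat.ble 245 i)) (Bool.rec (motive := fun _ => Nat) (Bool.rec (motive := fun _ => Nat) (6180) (Bool.rec (motive := fun _ => Nat) (4213) (5142) (Nat.ble 250 i)) (Nat.ble 249 i)) (Bool.rec (motive := fun _ => Nat) (Bool.rec (motive := fun _ => Nat) (5620) (4147) (Nat.ble 252 i)) (Bool.rec (motive := fun _ => Nat) (5442) (4186) (Nat.ble 254 i)) (Nat.ble 253 i)) (Nat.ble 251 i)) (Nat.ble 248 i)) (Nat.ble 242 i)) (Nat.ble 229 i)) (Bool.rec (motive := fun _ => Nat) (Bool.rec (motive := fun _ => Nat) (Bool.rec (motive := fun _ => Nat) (Bool.rec (motive := fun _ => Nat) (Bool.rec (motive := fun _ => Nat) (6960) (Bool.rec (motive := fun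 _ => Nat) (6389) (6912) (Nat.ble 257 i)) (Nat.ble 256 i)) (Bool.rec (motive := fun _ => Nat) (5225) (Bool.rec (motive := fun _ => Nat) (673) (3100) (Nat.ble 260 i)) (Nat.ble 259 i)) (Nat.ble 258 i)) (Bool.rec (motive := fun _ => Nat) (Bool.rec (motive := fun _ => Nat) (4193) (Bool.rec (motive := fun _ => Nat) (4356) (4253) (Nat.ble 263 i)) (Nat.ble 262 i)) (Bool.rec (motive := fun _ => Nat) (5731) (Bool.rec (motive := fun _ => Nat) (5686) (5707) (Nat.ble 266 i)) (Nat.ble 265 i)) (Nat.ble 264 i)) (Nat.ble 261 i)) (Bool.rec (motive := fun _ => Nat) (Bool.rec (motive := fun _ => Nat) (Bool.rec (motive := fun _ => Nat) (4607) (Bool.rec (motive := fun _ => Nat) (6424) (5608) (Nat.ble 269 i)) (Nat.ble 268 i)) (Bool.rec (motive := fun _ => Nat) (5138) (Bool.rec (motive := fun _ => Nat) (6302) (4717) (Nat.ble 272 i)) (Nat.ble 271 i)) (Nat.ble 270 i)) (Bool.rec (motive := fun _ => Nat) (Bool.rec (motive := fun _ => Nat) (6479) (Bool.rec (motive := fun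 _ => Nat) (6604) (5184) (Nat.ble 275 i)) (Nat.ble 274 i)) (Bool.rec (motive := fun _ => Nat) (Bool.rec (motive := fun _ => Nat) (4643) (6415) (Nat.ble 277 i)) (Bool.rec (motive := fun _ => Nat) (5210) (5144) (Nat.ble 279 i)) (Nat.ble 278 i)) (Nat.ble 276 i)) (Nat.ble 273 i)) (Nat.ble 267 i)) (Bool.rec (motive := fun _ => Nat) (Bool.rec (motive := fun _ => Nat) (Bool.rec (motive := fun _ => Nat) (Bool.rec (motive := fun _ => Nat) (6213) (Bool.rec (motive := fun _ => Nat) (6650) (4549) (Nat.ble 282 i)) (Nat.ble 281 i)) (Bool.rec (motive := fun _ => Nat) (6156) (Bool.rec (motive := fun _ => Nat) (5886) (6303) (Nat.ble 285 i)) (Nat.ble 284 i)) (Nat.ble 283 i)) (Bool.rec (motive := fun _ => Nat) (Bool.rec (motive := fun _ => Nat) (6711) (Bool.rec (motive := fun _ => Nat) (6324) (467) (Nat.ble 288 i)) (Nat.ble 287 i)) (Bool.rec (motive := fun _ => Nat) (Bool.rec (motive := fun _ => Nat) (5565) (6582) (Nat.ble 290 i)) (Bool.rec (motive := fun _ =>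 Nat) (5205) (4665) (Nat.ble 292 i)) (Nat.ble 291 i)) (Nat.ble 289 i)) (Nat.ble 286 i)) (Bool.rec (motive := fun _ => Nat) (Bool.rec (motive := fun _ => Nat) (Bool.rec (motive := fun _ => Nat) (4479) (Bool.rec (motive := fun _ => Nat) (4487) (5390) (Nat.ble 295 i)) (Nat.ble 294 i)) (Bool.rec (motive := fun _ => Nat) (5522) (Bool.rec (motive := fun _ => Nat) (5290) (6423) (Nat.ble 298 i)) (Nat.ble 297 i)) (Nat.ble 296 i)) (Bool.rec (motive := fun _ => Nat) (Bool.rec (motive := fun _ => Nat) (5298) (Bool.rec (motive := fun _ => Nat) (5857) (1768) (Nat.ble 301 i)) (Nat.ble 300 i)) (Bool.rec (motive := fun _ => Nat) (Bool.rec (motive := fun _ => Nat) (6161) (4329) (Nat.ble 303 i)) (Bool.rec (motive := fun _ => Nat) (5294) (781) (Nat.ble 305 i)) (Nat.ble 304 i)) (Nat.ble 302 i)) (Nat.ble 299 i)) (Nat.ble 293 i)) (Nat.ble 280 i)) (Nat.ble 255 i)) (Bool.rec (motive := fun _ => Nat) (Bool.rec (motive := fun _ => Nat) (Bool.rec (motive := fun _ => Nat)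 (Bool.rec (motive := fun _ => Nat) (Bool.rec (motive := fun _ => Nat) (Bool.rec (motive := fun _ => Nat) (6328) (Bool.rec (motive := fun _ => Nat) (5406) (6178) (Nat.ble 308 i)) (Nat.ble 307 i)) (Bool.rec (motive := fun _ => Nat) (5838) (Bool.rec (motive := fun _ => Nat) (6195) (6399) (Nat.ble 311 i)) (Nat.ble 310 i)) (Nat.ble 309 i)) (Bool.rec (motive := fun _ => Nat) (Bool.rec (motive := fun _ => Nat) (6446) (Bool.rec (motive := fun _ => Nat) (5165) (304) (Nat.ble 314 i)) (Nat.ble 313 i)) (Bool.rec (motive := fun _ => Nat) (6482) (Bool.rec (motive := fun _ => Nat) (2099) (258) (Nat.ble 317 i)) (Nat.ble 316 i)) (Nat.ble 315 i)) (Nat.ble 312 i)) (Bool.rec (motive := fun _ => Nat) (Bool.rec (motive := fun _ => Nat) (Bool.rec (motive := fun _ => Nat) (210) (Bool.rec (motive := fun _ => Nat) (5121) (5499) (Nat.ble 320 i)) (Nat.ble 319 i)) (Bool.rec (motive := fun _ => Nat) (6312) (Bool.rec (motive := fun _ => Nat) (5461) (5399) (Nat.ble 323 i))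 (Nat.ble 322 i)) (Nat.ble 321 i)) (Bool.rec (motive := fun _ => Nat) (Bool.rec (motive := fun _ => Nat) (1764) (Bool.rec (motive := fun _ => Nat) (5299) (1461) (Nat.ble 326 i)) (Nat.ble 325 i)) (Bool.rec (motive := fun _ => Nat) (Bool.rec (motive := fun _ => Nat) (633) (4173) (Nat.ble 328 i)) (Bool.rec (motive := fun _ => Nat) (6590) (3645) (Nat.ble 330 i)) (Nat.ble 329 i)) (Nat.ble 327 i)) (Nat.ble 324 i)) (Nat.ble 318 i)) (Bool.rec (motive := fun _ => Nat) (Bool.rec (motive := fun _ => Nat) (Bool.rec (motive := fun _ => Nat) (Bool.rec (motive := fun _ => Nat) (1564) (Bool.rec (motive := fun _ => Nat) (6255) (6664) (Nat.ble 333 i)) (Nat.ble 332 i)) (Bool.rec (motive := fun _ => Nat) (15694) (Bool.rec (motive := fun _ => Nat) (6903) (759) (Nat.ble 336 i)) (Nat.ble 335 i)) (Nat.ble 334 i)) (Bool.rec (motive := fun _ => Nat) (Bool.rec (motive := fun _ => Nat) (2382) (Bool.rec (motive := fun _ => Nat) (6483) (5651) (Nat.ble 339 i)) (Nat.ble 338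 i)) (Bool.rec (motive := fun _ => Nat) (Bool.rec (motive := fun _ => Nat) (5362) (6522) (Nat.ble 341 i)) (Bool.rec (motive := fun _ => Nat) (1451) (512) (Nat.ble 343 i)) (Nat.ble 342 i)) (Nat.ble 340 i)) (Nat.ble 337 i)) (Bool.rec (motive := fun _ => Nat) (Bool.rec (motive := fun _ => Nat) (Bool.rec (motive := fun _ => Nat) (6185) (Bool.rec (motive := fun _ => Nat) (5603) (5655) (Nat.ble 346 i)) (Nat.ble 345 i)) (Bool.rec (motive := fun _ => Nat) (6150) (Bool.rec (motive := fun _ => Nat) (6491) (6275) (Nat.ble 349 i)) (Nat.ble 348 i)) (Nat.ble 347 i)) (Bool.rec (motive := fun _ => Nat) (Bool.rec (motive := fun _ => Nat) (6581) (Bool.rec (motive := fun _ => Nat) (6314) (6573) (Nat.ble 352 i)) (Nat.ble 351 i)) (Bool.rec (motive := fun _ => Nat) (Bool.rec (motive := fun _ => Nat) (5928) (3708) (Nat.ble 354 i)) (Bool.rec (motive := fun _ => Nat) (5159) (564) (Nat.ble 356 i)) (Nat.ble 355 i)) (Nat.ble 353 i)) (Nat.ble 350 i)) (Nat.ble 344 i)) (Nat.ble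 331 i)) (Bool.rec (motive := fun _ => Nat) (Bool.rec (motive := fun _ => Nat) (Bool.rec (motive := fun _ => Nat) (Bool.rec (motive := fun _ => Nat) (Bool.rec (motive := fun _ => Nat) (4641) (Bool.rec (motive := fun _ => Nat) (1416) (6799) (Nat.ble 359 i)) (Nat.ble 358 i)) (Bool.rec (motive := fun _ => Nat) (6187) (Bool.rec (motive := fun _ => Nat) (6886) (6429) (Nat.ble 362 i)) (Nat.ble 361 i)) (Nat.ble 360 i)) (Bool.rec (motive := fun _ => Nat) (Bool.rec (motive := fun _ => Nat) (5840) (Bool.rec (motive := fun _ => Nat) (4454) (5827) (Nat.ble 365 i)) (Nat.ble 364 i)) (Bool.rec (motive := fun _ => Nat) (Bool.rec (motive := fun _ => Nat) (5833) (5752) (Nat.ble 367 i)) (Bool.rec (motive := fun _ => Nat) (5597) (6796) (Nat.ble 369 i)) (Nat.ble 368 i)) (Nat.ble 366 i)) (Nat.ble 363 i)) (Bool.rec (motive := fun _ => Nat) (Bool.rec (motive := fun _ => Nat) (Bool.rec (motive := fun _ => Nat) (5577) (Bool.rec (motive := fun _ => Nat) (5828) (5695) (Nat.ble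 372 i)) (Nat.ble 371 i)) (Bool.rec (motive := fun _ => Nat) (6606) (Bool.rec (motive := fun _ => Nat) (5901) (6488) (Nat.ble 375 i)) (Nat.ble 374 i)) (Nat.ble 373 i)) (Bool.rec (motive := fun _ => Nat) (Bool.rec (motive := fun _ => Nat) (558) (Bool.rec (motive := fun _ => Nat) (1196) (6160) (Nat.ble 378 i)) (Nat.ble 377 i)) (Bool.rec (motive := fun _ => Nat) (Bool.rec (motive := fun _ => Nat) (6729) (5889) (Nat.ble 380 i)) (Bool.rec (motive := fun _ => Nat) (6203) (6785) (Nat.ble 382 i)) (Nat.ble 381 i)) (Nat.ble 379 i)) (Nat.ble 376 i)) (Nat.ble 370 i)) (Bool.rec (motive := fun _ => Nat) (Bool.rec (motive := fun _ => Nat) (Bool.rec (motive := fun _ => Nat) (Bool.rec (motive := fun _ => Nat) (5324) (Bool.rec (motive := fun _ => Nat) (6594) (5273) (Nat.ble 385 i)) (Nat.ble 384 i)) (Bool.rec (motive := fun _ => Nat) (5460) (Bool.rec (motive := fun _ => Nat) (5777) (5738) (Nat.ble 388 i)) (Nat.ble 387 i)) (Nat.ble 386 i)) (Bool.rec (motive := fun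 _ => Nat) (Bool.rec (motive := fun _ => Nat) (5660) (Bool.rec (motive := fun _ => Nat) (5884) (5449) (Nat.ble 391 i)) (Nat.ble 390 i)) (Bool.rec (motive := fun _ => Nat) (Bool.rec (motive := fun _ => Nat) (5632) (5641) (Nat.ble 393 i)) (Bool.rec (motive := fun _ => Nat) (5521) (1826) (Nat.ble 395 i)) (Nat.ble 394 i)) (Nat.ble 392 i)) (Nat.ble 389 i)) (Bool.rec (motive := fun _ => Nat) (Bool.rec (motive := fun _ => Nat) (Bool.rec (motive := fun _ => Nat) (4278) (Bool.rec (motive := fun _ => Nat) (5128) (6958) (Nat.ble 398 i)) (Nat.ble 397 i)) (Bool.rec (motive := fun _ => Nat) (6259) (Bool.rec (motive := fun _ => Nat) (6542) (6469) (Nat.ble 401 i)) (Nat.ble 400 i)) (Nat.ble 399 i)) (Bool.rec (motive := fun _ => Nat) (Bool.rec (motive := fun _ => Nat) (3499) (Bool.rec (motive := fun _ => Nat) (6720) (5169) (Nat.ble 404 i)) (Nat.ble 403 i)) (Bool.rec (motive := fun _ => Nat) (Bool.rec (motive := fun _ => Nat) (280) (6748) (Nat.ble 406 i)) (Bool.rec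 (motive := fun _ => Nat) (4400) (6297) (Nat.ble 408 i)) (Nat.ble 407 i)) (Nat.ble 405 i)) (Nat.ble 402 i)) (Nat.ble 396 i)) (Nat.ble 383 i)) (Nat.ble 357 i)) (Nat.ble 306 i)) (Nat.ble 204 i)) (Bool.rec (motive := fun _ => Nat) (Bool.rec (motive := fun _ => Nat) (Bool.rec (motive := fun _ => Nat) (Bool.rec (motive := fun _ => Nat) (Bool.rec (motive := fun _ => Nat) (Bool.rec (motive := fun _ => Nat) (Bool.rec (motive := fun _ => Nat) (Bool.rec (motive := fun _ => Nat) (4403) (Bool.rec (motive := fun _ => Nat) (4578) (5219) (Nat.ble 411 i)) (Nat.ble 410 i)) (Bool.rec (motive := fun _ => Nat) (6162) (Bool.rec (motive := fun _ => Nat) (6205) (5846) (Nat.ble 414 i)) (Nat.ble 413 i)) (Nat.ble 412 i)) (Bool.rec (motive := fun _ => Nat) (Bool.rec (motive := fun _ => Nat) (2119) (Bool.rec (motive := fun _ => Nat) (5288) (5580) (Nat.ble 417 i)) (Nat.ble 416 i)) (Bool.rec (motive := fun _ => Nat) (6151) (Bool.rec (motive := fun _ => Nat) (6318) (4419)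 (Nat.ble 420 i)) (Nat.ble 419 i)) (Nat.ble 418 i)) (Nat.ble 415 i)) (Bool.rec (motive := fun _ => Nat) (Bool.rec (motive := fun _ => Nat) (Bool.rec (motive := fun _ => Nat) (5473) (Bool.rec (motive := fun _ => Nat) (629) (6174) (Nat.ble 423 i)) (Nat.ble 422 i)) (Bool.rec (motive := fun _ => Nat) (6567) (Bool.rec (motive := fun _ => Nat) (6572) (1365) (Nat.ble 426 i)) (Nat.ble 425 i)) (Nat.ble 424 i)) (Bool.rec (motive := fun _ => Nat) (Bool.rec (motive := fun _ => Nat) (5724) (Bool.rec (motive := fun _ => Nat) (2588) (6201) (Nat.ble 429 i)) (Nat.ble 428 i)) (Bool.rec (motive := fun _ => Nat) (Bool.rec (motive := fun _ => Nat) (5871) (5453) (Nat.ble 431 i)) (Bool.rec (motive := fun _ => Nat) (5834) (6416) (Nat.ble 433 i)) (Nat.ble 432 i)) (Nat.ble 430 i)) (Nat.ble 427 i)) (Nat.ble 421 i)) (Bool.rec (motive := fun _ => Nat) (Bool.rec (motive := fun _ => Nat) (Bool.rec (motive := fun _ => Nat) (Bool.rec (motive := fun _ => Nat) (1353) (Bool.rec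 (motive := fun _ => Nat) (5908) (4439) (Nat.ble 436 i)) (Nat.ble 435 i)) (Bool.rec (motive := fun _ => Nat) (6153) (Bool.rec (motive := fun _ => Nat) (6277) (5476) (Nat.ble 439 i)) (Nat.ble 438 i)) (Nat.ble 437 i)) (Bool.rec (motive := fun _ => Nat) (Bool.rec (motive := fun _ => Nat) (6591) (Bool.rec (motive := fun _ => Nat) (1671) (6549) (Nat.ble 442 i)) (Nat.ble 441 i)) (Bool.rec (motive := fun _ => Nat) (Bool.rec (motive := fun _ => Nat) (5237) (6732) (Nat.ble 444 i)) (Bool.rec (motive := fun _ => Nat) (3612) (6163) (Nat.ble 446 i)) (Nat.ble 445 i)) (Nat.ble 443 i)) (Nat.ble 440 i)) (Bool.rec (motive := fun _ => Nat) (Bool.rec (motive := fun _ => Nat) (Bool.rec (motive := fun _ => Nat) (1402) (Bool.rec (motive := fun _ => Nat) (6602) (6644) (Nat.ble 449 i)) (Nat.ble 448 i)) (Bool.rec (motive := fun _ => Nat) (6249) (Bool.rec (motive := fun _ => Nat) (6536) (5657) (Nat.ble 452 i)) (Nat.ble 451 i)) (Nat.ble 450 i)) (Bool.rec (motive := fun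 _ => Nat) (Bool.rec (motive := fun _ => Nat) (5389) (Bool.rec (motive := fun _ => Nat) (5626) (6425) (Nat.ble 455 i)) (Nat.ble 454 i)) (Bool.rec (motive := fun _ => Nat) (Bool.rec (motive := fun _ => Nat) (6500) (5372) (Nat.ble 457 i)) (Bool.rec (motive := fun _ => Nat) (5204) (6164) (Nat.ble 459 i)) (Nat.ble 458 i)) (Nat.ble 456 i)) (Nat.ble 453 i)) (Nat.ble 447 i)) (Nat.ble 434 i)) (Bool.rec (motive := fun _ => Nat) (Bool.rec (motive := fun _ => Nat) (Bool.rec (motive := fun _ => Nat) (Bool.rec (motive := fun _ => Nat) (Bool.rec (motive := fun _ => Nat) (4481) (Bool.rec (motive := fun _ => Nat) (6795) (6200) (Nat.ble 462 i)) (Nat.ble 461 i)) (Bool.rec (motive := fun _ => Nat) (5762) (Bool.rec (motive := fun _ => Nat) (5498) (6437) (Nat.ble 465 i)) (Nat.ble 464 i)) (Nat.ble 463 i)) (Bool.rec (motive := fun _ => Nat) (Bool.rec (motive := fun _ => Nat) (6668) (Bool.rec (motive := fun _ => Nat) (5590) (3577) (Nat.ble 468 i)) (Nat.ble 467 i)) (Bool.rec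 (motive := fun _ => Nat) (6377) (Bool.rec (motive := fun _ => Nat) (5722) (6709) (Nat.ble 471 i)) (Nat.ble 470 i)) (Nat.ble 469 i)) (Nat.ble 466 i)) (Bool.rec (motive := fun _ => Nat) (Bool.rec (motive := fun _ => Nat) (Bool.rec (motive := fun _ => Nat) (4747) (Bool.rec (motive := fun _ => Nat) (6218) (744) (Nat.ble 474 i)) (Nat.ble 473 i)) (Bool.rec (motive := fun _ => Nat) (6234) (Bool.rec (motive := fun _ => Nat) (5746) (6719) (Nat.ble 477 i)) (Nat.ble 476 i)) (Nat.ble 475 i)) (Bool.rec (motive := fun _ => Nat) (Bool.rec (motive := fun _ => Nat) (6304) (Bool.rec (motive := fun _ => Nat) (5285) (5322) (Nat.ble 480 i)) (Nat.ble 479 i)) (Bool.rec (motive := fun _ => Nat) (Bool.rec (motive := fun _ => Nat) (6627) (5146) (Nat.ble 482 i)) (Bool.rec (motive := fun _ => Nat) (6229) (3143) (Nat.ble 484 i)) (Nat.ble 483 i)) (Nat.ble 481 i)) (Nat.ble 478 i)) (Nat.ble 472 i)) (Bool.rec (motive := fun _ => Nat) (Bool.rec (motive := fun _ => Nat) (Bool.rec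 (motive := fun _ => Nat) (Bool.rec (motive := fun _ => Nat) (5175) (Bool.rec (motive := fun _ => Nat) (6631) (5643) (Nat.ble 487 i)) (Nat.ble 486 i)) (Bool.rec (motive := fun _ => Nat) (1075) (Bool.rec (motive := fun _ => Nat) (5445) (1177) (Nat.ble 490 i)) (Nat.ble 489 i)) (Nat.ble 488 i)) (Bool.rec (motive := fun _ => Nat) (Bool.rec (motive := fun _ => Nat) (5132) (Bool.rec (motive := fun _ => Nat) (6556) (6183) (Nat.ble 493 i)) (Nat.ble 492 i)) (Bool.rec (motive := fun _ => Nat) (Bool.rec (motive := fun _ => Nat) (5789) (6144) (Nat.ble 495 i)) (Bool.rec (motive := fun _ => Nat) (6639) (6341) (Nat.ble 497 i)) (Nat.ble 496 i)) (Nat.ble 494 i)) (Nat.ble 491 i)) (Bool.rec (motive := fun _ => Nat) (Bool.rec (motive := fun _ => Nat) (Bool.rec (motive := fun _ => Nat) (5662) (Bool.rec (motive := fun _ => Nat) (5740) (6166) (Nat.ble 500 i)) (Nat.ble 499 i)) (Bool.rec (motive := fun _ => Nat) (5656) (Bool.rec (motive := fun _ => Nat) (6317) (5679)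 (Nat.ble 503 i)) (Nat.ble 502 i)) (Nat.ble 501 i)) (Bool.rec (motive := fun _ => Nat) (Bool.rec (motive := fun _ => Nat) (5706) (Bool.rec (motive := fun _ => Nat) (1653) (4608) (Nat.ble 506 i)) (Nat.ble 505 i)) (Bool.rec (motive := fun _ => Nat) (Bool.rec (motive := fun _ => Nat) (5436) (6766) (Nat.ble 508 i)) (Bool.rec (motive := fun _ => Nat) (6767) (3729) (Nat.ble 510 i)) (Nat.ble 509 i)) (Nat.ble 507 i)) (Nat.ble 504 i)) (Nat.ble 498 i)) (Nat.ble 485 i)) (Nat.ble 460 i)) (Bool.rec (motive := fun _ => Nat) (Bool.rec (motive := fun _ => Nat) (Bool.rec (motive := fun _ => Nat) (Bool.rec (motive := fun _ => Nat) (Bool.rec (motive := fun _ => Nat) (Bool.rec (motive := fun _ => Nat) (5528) (Bool.rec (motive := fun _ => Nat) (5130) (6274) (Nat.ble 513 i)) (Nat.ble 512 i)) (Bool.rec (motive := fun _ => Nat) (6695) (Bool.rec (motive := fun _ => Nat) (3457) (6621) (Nat.ble 516 i)) (Nat.ble 515 i)) (Nat.ble 514 i)) (Bool.rec (motive := fun _ => Nat)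 (Bool.rec (motive := fun _ => Nat) (4524) (Bool.rec (motive := fun _ => Nat) (5873) (6487) (Nat.ble 519 i)) (Nat.ble 518 i)) (Bool.rec (motive := fun _ => Nat) (1609) (Bool.rec (motive := fun _ => Nat) (4523) (6848) (Nat.ble 522 i)) (Nat.ble 521 i)) (Nat.ble 520 i)) (Nat.ble 517 i)) (Bool.rec (motive := fun _ => Nat) (Bool.rec (motive := fun _ => Nat) (Bool.rec (motive := fun _ => Nat) (5126) (Bool.rec (motive := fun _ => Nat) (4890) (3246) (Nat.ble 525 i)) (Nat.ble 524 i)) (Bool.rec (motive := fun _ => Nat) (6373) (Bool.rec (motive := fun _ => Nat) (5335) (5754) (Nat.ble 528 i)) (Nat.ble 527 i)) (Nat.ble 526 i)) (Bool.rec (motive := fun _ => Nat) (Bool.rec (motive := fun _ => Nat) (5224) (Bool.rec (motive := fun _ => Nat) (5616) (5120) (Nat.ble 531 i)) (Nat.ble 530 i)) (Bool.rec (motive := fun _ => Nat) (Bool.rec (motive := fun _ => Nat) (6145) (6810) (Nat.ble 533 i)) (Bool.rec (motive := fun _ => Nat) (5812) (5457) (Nat.ble 535 i)) (Nat.ble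 534 i)) (Nat.ble 532 i)) (Nat.ble 529 i)) (Nat.ble 523 i)) (Bool.rec (motive := fun _ => Nat) (Bool.rec (motive := fun _ => Nat) (Bool.rec (motive := fun _ => Nat) (Bool.rec (motive := fun _ => Nat) (6686) (Bool.rec (motive := fun _ => Nat) (6684) (1292) (Nat.ble 538 i)) (Nat.ble 537 i)) (Bool.rec (motive := fun _ => Nat) (5263) (Bool.rec (motive := fun _ => Nat) (77) (6155) (Nat.ble 541 i)) (Nat.ble 540 i)) (Nat.ble 539 i)) (Bool.rec (motive := fun _ => Nat) (Bool.rec (motive := fun _ => Nat) (6256) (Bool.rec (motive := fun _ => Nat) (6347) (6789) (Nat.ble 544 i)) (Nat.ble 543 i)) (Bool.rec (motive := fun _ => Nat) (Bool.rec (motive := fun _ => Nat) (5922) (5191) (Nat.ble 546 i)) (Bool.rec (motive := fun _ => Nat) (5920) (5133) (Nat.ble 548 i)) (Nat.ble 547 i)) (Nat.ble 545 i)) (Nat.ble 542 i)) (Bool.rec (motive := fun _ => Nat) (Bool.rec (motive := fun _ => Nat) (Bool.rec (motive := fun _ => Nat) (6284) (Bool.rec (motive := fun _ => Nat) (1621)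 (5918) (Nat.ble 551 i)) (Nat.ble 550 i)) (Bool.rec (motive := fun _ => Nat) (6383) (Bool.rec (motive := fun _ => Nat) (647) (378) (Nat.ble 554 i)) (Nat.ble 553 i)) (Nat.ble 552 i)) (Bool.rec (motive := fun _ => Nat) (Bool.rec (motive := fun _ => Nat) (6521) (Bool.rec (motive := fun _ => Nat) (291) (4644) (Nat.ble 557 i)) (Nat.ble 556 i)) (Bool.rec (motive := fun _ => Nat) (Bool.rec (motive := fun _ => Nat) (5171) (6702) (Nat.ble 559 i)) (Bool.rec (motive := fun _ => Nat) (1375) (6698) (Nat.ble 561 i)) (Nat.ble 560 i)) (Nat.ble 558 i)) (Nat.ble 555 i)) (Nat.ble 549 i)) (Nat.ble 536 i)) (Bool.rec (motive := fun _ => Nat) (Bool.rec (motive := fun _ => Nat) (Bool.rec (motive := fun _ => Nat) (Bool.rec (motive := fun _ => Nat) (Bool.rec (motive := fun _ => Nat) (6533) (Bool.rec (motive := fun _ => Nat) (3500) (6149) (Nat.ble 564 i)) (Nat.ble 563 i)) (Bool.rec (motive := fun _ => Nat) (1304) (Bool.rec (motive := fun _ => Nat) (6359) (6170) (Nat.ble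 567 i)) (Nat.ble 566 i)) (Nat.ble 565 i)) (Bool.rec (motive := fun _ => Nat) (Bool.rec (motive := fun _ => Nat) (6363) (Bool.rec (motive := fun _ => Nat) (5763) (5667) (Nat.ble 570 i)) (Nat.ble 569 i)) (Bool.rec (motive := fun _ => Nat) (Bool.rec (motive := fun _ => Nat) (6516) (4725) (Nat.ble 572 i)) (Bool.rec (motive := fun _ => Nat) (5430) (6476) (Nat.ble 574 i)) (Nat.ble 573 i)) (Nat.ble 571 i)) (Nat.ble 568 i)) (Bool.rec (motive := fun _ => Nat) (Bool.rec (motive := fun _ => Nat) (Bool.rec (motive := fun _ => Nat) (3584) (Bool.rec (motive := fun _ => Nat) (1470) (5671) (Nat.ble 577 i)) (Nat.ble 576 i)) (Bool.rec (motive := fun _ => Nat) (6938) (Bool.rec (motive := fun _ => Nat) (5496) (6649) (Nat.ble 580 i)) (Nat.ble 579 i)) (Nat.ble 578 i)) (Bool.rec (motive := fun _ => Nat) (Bool.rec (motive := fun _ => Nat) (4488) (Bool.rec (motive := fun _ => Nat) (5411) (6906) (Nat.ble 583 i)) (Nat.ble 582 i)) (Bool.rec (motive := fun _ => Nat) (Bool.rec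 (motive := fun _ => Nat) (6527) (5156) (Nat.ble 585 i)) (Bool.rec (motive := fun _ => Nat) (3630) (4810) (Nat.ble 587 i)) (Nat.ble 586 i)) (Nat.ble 584 i)) (Nat.ble 581 i)) (Nat.ble 575 i)) (Bool.rec (motive := fun _ => Nat) (Bool.rec (motive := fun _ => Nat) (Bool.rec (motive := fun _ => Nat) (Bool.rec (motive := fun _ => Nat) (6173) (Bool.rec (motive := fun _ => Nat) (3403) (4761) (Nat.ble 590 i)) (Nat.ble 589 i)) (Bool.rec (motive := fun _ => Nat) (5826) (Bool.rec (motive := fun _ => Nat) (6757) (5674) (Nat.ble 593 i)) (Nat.ble 592 i)) (Nat.ble 591 i)) (Bool.rec (motive := fun _ => Nat) (Bool.rec (motive := fun _ => Nat) (5329) (Bool.rec (motive := fun _ => Nat) (4836) (6348) (Nat.ble 596 i)) (Nat.ble 595 i)) (Bool.rec (motive := fun _ => Nat) (Bool.rec (motive := fun _ => Nat) (6787) (6605) (Nat.ble 598 i)) (Bool.rec (motive := fun _ => Nat) (446) (6614) (Nat.ble 600 i)) (Nat.ble 599 i)) (Nat.ble 597 i)) (Nat.ble 594 i)) (Bool.rec (motive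 := fun _ => Nat) (Bool.rec (motive := fun _ => Nat) (Bool.rec (motive := fun _ => Nat) (5782) (Bool.rec (motive := fun _ => Nat) (3123) (482) (Nat.ble 603 i)) (Nat.ble 602 i)) (Bool.rec (motive := fun _ => Nat) (51) (Bool.rec (motive := fun _ => Nat) (6888) (5772) (Nat.ble 606 i)) (Nat.ble 605 i)) (Nat.ble 604 i)) (Bool.rec (motive := fun _ => Nat) (Bool.rec (motive := fun _ => Nat) (4587) (Bool.rec (motive := fun _ => Nat) (6336) (6897) (Nat.ble 609 i)) (Nat.ble 608 i)) (Bool.rec (motive := fun _ => Nat) (Bool.rec (motive := fun _ => Nat) (6713) (6310) (Nat.ble 611 i)) (Bool.rec (motive := fun _ => Nat) (6870) (6242) (Nat.ble 613 i)) (Nat.ble 612 i)) (Nat.ble 610 i)) (Nat.ble 607 i)) (Nat.ble 601 i)) (Nat.ble 588 i)) (Nat.ble 562 i)) (Nat.ble 511 i)) (Bool.rec (motive := fun _ => Nat) (Bool.rec (motive := fun _ => Nat) (Bool.rec (motive := fun _ => Nat) (Bool.rec (motive := fun _ => Nat) (Bool.rec (motive := fun _ => Nat) (Bool.rec (motive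 := fun _ => Nat) (Bool.rec (motive := fun _ => Nat) (4782) (Bool.rec (motive := fun _ => Nat) (740) (5764) (Nat.ble 616 i)) (Nat.ble 615 i)) (Bool.rec (motive := fun _ => Nat) (3461) (Bool.rec (motive := fun _ => Nat) (4365) (341) (Nat.ble 619 i)) (Nat.ble 618 i)) (Nat.ble 617 i)) (Bool.rec (motive := fun _ => Nat) (Bool.rec (motive := fun _ => Nat) (5426) (Bool.rec (motive := fun _ => Nat) (5304) (6172) (Nat.ble 622 i)) (Nat.ble 621 i)) (Bool.rec (motive := fun _ => Nat) (5155) (Bool.rec (motive := fun _ => Nat) (5392) (6199) (Nat.ble 625 i)) (Nat.ble 624 i)) (Nat.ble 623 i)) (Nat.ble 620 i)) (Bool.rec (motive := fun _ => Nat) (Bool.rec (motive := fun _ => Nat) (Bool.rec (motive := fun _ => Nat) (4750) (Bool.rec (motive := fun _ => Nat) (5463) (5563) (Nat.ble 628 i)) (Nat.ble 627 i)) (Bool.rec (motive := fun _ => Nat) (5197) (Bool.rec (motive := fun _ => Nat) (191) (329) (Nat.ble 631 i)) (Nat.ble 630 i)) (Nat.ble 629 i)) (Bool.rec (motive :=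 fun _ => Nat) (Bool.rec (motive := fun _ => Nat) (4266) (Bool.rec (motive := fun _ => Nat) (6708) (6571) (Nat.ble 634 i)) (Nat.ble 633 i)) (Bool.rec (motive := fun _ => Nat) (Bool.rec (motive := fun _ => Nat) (6856) (2379) (Nat.ble 636 i)) (Bool.rec (motive := fun _ => Nat) (1228) (6731) (Nat.ble 638 i)) (Nat.ble 637 i)) (Nat.ble 635 i)) (Nat.ble 632 i)) (Nat.ble 626 i)) (Bool.rec (motive := fun _ => Nat) (Bool.rec (motive := fun _ => Nat) (Bool.rec (motive := fun _ => Nat) (Bool.rec (motive := fun _ => Nat) (5637) (Bool.rec (motive := fun _ => Nat) (6881) (5741) (Nat.ble 641 i)) (Nat.ble 640 i)) (Bool.rec (motive := fun _ => Nat) (6689) (Bool.rec (motive := fun _ => Nat) (6656) (457) (Nat.ble 644 i)) (Nat.ble 643 i)) (Nat.ble 642 i)) (Bool.rec (motive := fun _ => Nat) (Bool.rec (motive := fun _ => Nat) (1588) (Bool.rec (motive := fun _ => Nat) (3786) (6221) (Nat.ble 647 i)) (Nat.ble 646 i)) (Bool.rec (motive := fun _ => Nat) (Bool.rec (motive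 := fun _ => Nat) (6685) (1709) (Nat.ble 649 i)) (Bool.rec (motive := fun _ => Nat) (6413) (172) (Nat.ble 651 i)) (Nat.ble 650 i)) (Nat.ble 648 i)) (Nat.ble 645 i)) (Bool.rec (motive := fun _ => Nat) (Bool.rec (motive := fun _ => Nat) (Bool.rec (motive := fun _ => Nat) (6833) (Bool.rec (motive := fun _ => Nat) (6295) (5753) (Nat.ble 654 i)) (Nat.ble 653 i)) (Bool.rec (motive := fun _ => Nat) (6210) (Bool.rec (motive := fun _ => Nat) (5835) (1582) (Nat.ble 657 i)) (Nat.ble 656 i)) (Nat.ble 655 i)) (Bool.rec (motive := fun _ => Nat) (Bool.rec (motive := fun _ => Nat) (351) (Bool.rec (motive := fun _ => Nat) (1356) (3189) (Nat.ble 660 i)) (Nat.ble 659 i)) (Bool.rec (motive := fun _ => Nat) (Bool.rec (motive := fun _ => Nat) (5491) (6228) (Nat.ble 662 i)) (Bool.rec (motive := fun _ => Nat) (5174) (1266) (Nat.ble 664 i)) (Nat.ble 663 i)) (Nat.ble 661 i)) (Nat.ble 658 i)) (Nat.ble 652 i)) (Nat.ble 639 i)) (Bool.rec (motive := fun _ => Nat) (Bool.rec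 (motive := fun _ => Nat) (Bool.rec (motive := fun _ => Nat) (Bool.rec (motive := fun _ => Nat) (Bool.rec (motive := fun _ => Nat) (5895) (Bool.rec (motive := fun _ => Nat) (6148) (6676) (Nat.ble 667 i)) (Nat.ble 666 i)) (Bool.rec (motive := fun _ => Nat) (5822) (Bool.rec (motive := fun _ => Nat) (5454) (5542) (Nat.ble 670 i)) (Nat.ble 669 i)) (Nat.ble 668 i)) (Bool.rec (motive := fun _ => Nat) (Bool.rec (motive := fun _ => Nat) (5582) (Bool.rec (motive := fun _ => Nat) (5737) (6157) (Nat.ble 673 i)) (Nat.ble 672 i)) (Bool.rec (motive := fun _ => Nat) (5538) (Bool.rec (motive := fun _ => Nat) (6289) (6634) (Nat.ble 676 i)) (Nat.ble 675 i)) (Nat.ble 674 i)) (Nat.ble 671 i)) (Bool.rec (motive := fun _ => Nat) (Bool.rec (motive := fun _ => Nat) (Bool.rec (motive := fun _ => Nat) (5732) (Bool.rec (motive := fun _ => Nat) (6198) (5633) (Nat.ble 679 i)) (Nat.ble 678 i)) (Bool.rec (motive := fun _ => Nat) (6755) (Bool.rec (motive := fun _ => Nat) (6226)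 (4785) (Nat.ble 682 i)) (Nat.ble 681 i)) (Nat.ble 680 i)) (Bool.rec (motive := fun _ => Nat) (Bool.rec (motive := fun _ => Nat) (6507) (Bool.rec (motive := fun _ => Nat) (794) (5448) (Nat.ble 685 i)) (Nat.ble 684 i)) (Bool.rec (motive := fun _ => Nat) (Bool.rec (motive := fun _ => Nat) (5631) (5334) (Nat.ble 687 i)) (Bool.rec (motive := fun _ => Nat) (5668) (5292) (Nat.ble 689 i)) (Nat.ble 688 i)) (Nat.ble 686 i)) (Nat.ble 683 i)) (Nat.ble 677 i)) (Bool.rec (motive := fun _ => Nat) (Bool.rec (motive := fun _ => Nat) (Bool.rec (motive := fun _ => Nat) (Bool.rec (motive := fun _ => Nat) (5472) (Bool.rec (motive := fun _ => Nat) (6847) (5438) (Nat.ble 692 i)) (Nat.ble 691 i)) (Bool.rec (motive := fun _ => Nat) (6147) (Bool.rec (motive := fun _ => Nat) (6667) (5849) (Nat.ble 695 i)) (Nat.ble 694 i)) (Nat.ble 693 i)) (Bool.rec (motive := fun _ => Nat) (Bool.rec (motive := fun _ => Nat) (6197) (Bool.rec (motive := fun _ => Nat) (5387) (5666) (Nat.ble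 698 i)) (Nat.ble 697 i)) (Bool.rec (motive := fun _ => Nat) (Bool.rec (motive := fun _ => Nat) (6884) (5548) (Nat.ble 700 i)) (Bool.rec (motive := fun _ => Nat) (5617) (5330) (Nat.ble 702 i)) (Nat.ble 701 i)) (Nat.ble 699 i)) (Nat.ble 696 i)) (Bool.rec (motive := fun _ => Nat) (Bool.rec (motive := fun _ => Nat) (Bool.rec (motive := fun _ => Nat) (6146) (Bool.rec (motive := fun _ => Nat) (6675) (268) (Nat.ble 705 i)) (Nat.ble 704 i)) (Bool.rec (motive := fun _ => Nat) (5905) (Bool.rec (motive := fun _ => Nat) (6765) (4636) (Nat.ble 708 i)) (Nat.ble 707 i)) (Nat.ble 706 i)) (Bool.rec (motive := fun _ => Nat) (Bool.rec (motive := fun _ => Nat) (6857) (Bool.rec (motive := fun _ => Nat) (5926) (6248) (Nat.ble 711 i)) (Nat.ble 710 i)) (Bool.rec (motive := fun _ => Nat) (Bool.rec (motive := fun _ => Nat) (6254) (6858) (Nat.ble 713 i)) (Bool.rec (motive := fun _ => Nat) (1536) (5143) (Nat.ble 715 i)) (Nat.ble 714 i)) (Nat.ble 712 i)) (Nat.ble 709 i))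 (Nat.ble 703 i)) (Nat.ble 690 i)) (Nat.ble 665 i)) (Bool.rec (motive := fun _ => Nat) (Bool.rec (motive := fun _ => Nat) (Bool.rec (motive := fun _ => Nat) (Bool.rec (motive := fun _ => Nat) (Bool.rec (motive := fun _ => Nat) (Bool.rec (motive := fun _ => Nat) (5885) (Bool.rec (motive := fun _ => Nat) (427) (6773) (Nat.ble 718 i)) (Nat.ble 717 i)) (Bool.rec (motive := fun _ => Nat) (6800) (Bool.rec (motive := fun _ => Nat) (6316) (6663) (Nat.ble 721 i)) (Nat.ble 720 i)) (Nat.ble 719 i)) (Bool.rec (motive := fun _ => Nat) (Bool.rec (motive := fun _ => Nat) (6251) (Bool.rec (motive := fun _ => Nat) (4844) (5572) (Nat.ble 724 i)) (Nat.ble 723 i)) (Bool.rec (motive := fun _ => Nat) (4871) (Bool.rec (motive := fun _ => Nat) (5832) (5253) (Nat.ble 727 i)) (Nat.ble 726 i)) (Nat.ble 725 i)) (Nat.ble 722 i)) (Bool.rec (motive := fun _ => Nat) (Bool.rec (motive := fun _ => Nat) (Bool.rec (motive := fun _ => Nat) (5398) (Bool.rec (motive := fun _ => Nat)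 (6864) (4891) (Nat.ble 730 i)) (Nat.ble 729 i)) (Bool.rec (motive := fun _ => Nat) (6334) (Bool.rec (motive := fun _ => Nat) (242) (5571) (Nat.ble 733 i)) (Nat.ble 732 i)) (Nat.ble 731 i)) (Bool.rec (motive := fun _ => Nat) (Bool.rec (motive := fun _ => Nat) (5862) (Bool.rec (motive := fun _ => Nat) (1506) (6916) (Nat.ble 736 i)) (Nat.ble 735 i)) (Bool.rec (motive := fun _ => Nat) (Bool.rec (motive := fun _ => Nat) (4822) (5359) (Nat.ble 738 i)) (Bool.rec (motive := fun _ => Nat) (5418) (5678) (Nat.ble 740 i)) (Nat.ble 739 i)) (Nat.ble 737 i)) (Nat.ble 734 i)) (Nat.ble 728 i)) (Bool.rec (motive := fun _ => Nat) (Bool.rec (motive := fun _ => Nat) (Bool.rec (motive := fun _ => Nat) (Bool.rec (motive := fun _ => Nat) (6642) (Bool.rec (motive := fun _ => Nat) (5451) (3162) (Nat.ble 743 i)) (Nat.ble 742 i)) (Bool.rec (motive := fun _ => Nat) (5749) (Bool.rec (motive := fun _ => Nat) (6206) (5179) (Nat.ble 746 i)) (Nat.ble 745 i)) (Nat.ble 744 i))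 (Bool.rec (motive := fun _ => Nat) (Bool.rec (motive := fun _ => Nat) (408) (Bool.rec (motive := fun _ => Nat) (5774) (6394) (Nat.ble 749 i)) (Nat.ble 748 i)) (Bool.rec (motive := fun _ => Nat) (Bool.rec (motive := fun _ => Nat) (5682) (248) (Nat.ble 751 i)) (Bool.rec (motive := fun _ => Nat) (5423) (6626) (Nat.ble 753 i)) (Nat.ble 752 i)) (Nat.ble 750 i)) (Nat.ble 747 i)) (Bool.rec (motive := fun _ => Nat) (Bool.rec (motive := fun _ => Nat) (Bool.rec (motive := fun _ => Nat) (6403) (Bool.rec (motive := fun _ => Nat) (6959) (5539) (Nat.ble 756 i)) (Nat.ble 755 i)) (Bool.rec (motive := fun _ => Nat) (6365) (Bool.rec (motive := fun _ => Nat) (5462) (5705) (Nat.ble 759 i)) (Nat.ble 758 i)) (Nat.ble 757 i)) (Bool.rec (motive := fun _ => Nat) (Bool.rec (motive := fun _ => Nat) (5649) (Bool.rec (motive := fun _ => Nat) (6883) (6243) (Nat.ble 762 i)) (Nat.ble 761 i)) (Bool.rec (motive := fun _ => Nat) (Bool.rec (motive := fun _ => Nat) (4852) (153)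 (Nat.ble 764 i)) (Bool.rec (motive := fun _ => Nat) (4584) (6529) (Nat.ble 766 i)) (Nat.ble 765 i)) (Nat.ble 763 i)) (Nat.ble 760 i)) (Nat.ble 754 i)) (Nat.ble 741 i)) (Bool.rec (motive := fun _ => Nat) (Bool.rec (motive := fun _ => Nat) (Bool.rec (motive := fun _ => Nat) (Bool.rec (motive := fun _ => Nat) (Bool.rec (motive := fun _ => Nat) (6931) (Bool.rec (motive := fun _ => Nat) (5339) (6608) (Nat.ble 769 i)) (Nat.ble 768 i)) (Bool.rec (motive := fun _ => Nat) (5677) (Bool.rec (motive := fun _ => Nat) (5688) (6208) (Nat.ble 772 i)) (Nat.ble 771 i)) (Nat.ble 770 i)) (Bool.rec (motive := fun _ => Nat) (Bool.rec (motive := fun _ => Nat) (237) (Bool.rec (motive := fun _ => Nat) (5218) (5755) (Nat.ble 775 i)) (Nat.ble 774 i)) (Bool.rec (motive := fun _ => Nat) (Bool.rec (motive := fun _ => Nat) (5841) (6555) (Nat.ble 777 i)) (Bool.rec (motive := fun _ => Nat) (4840) (6402) (Nat.ble 779 i)) (Nat.ble 778 i)) (Nat.ble 776 i)) (Nat.ble 773 i)) (Bool.rec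 (motive := fun _ => Nat) (Bool.rec (motive := fun _ => Nat) (Bool.rec (motive := fun _ => Nat) (1432) (Bool.rec (motive := fun _ => Nat) (6928) (6169) (Nat.ble 782 i)) (Nat.ble 781 i)) (Bool.rec (motive := fun _ => Nat) (5625) (Bool.rec (motive := fun _ => Nat) (6193) (4700) (Nat.ble 785 i)) (Nat.ble 784 i)) (Nat.ble 783 i)) (Bool.rec (motive := fun _ => Nat) (Bool.rec (motive := fun _ => Nat) (4888) (Bool.rec (motive := fun _ => Nat) (5584) (4412) (Nat.ble 788 i)) (Nat.ble 787 i)) (Bool.rec (motive := fun _ => Nat) (Bool.rec (motive := fun _ => Nat) (6554) (6937) (Nat.ble 790 i)) (Bool.rec (motive := fun _ => Nat) (5141) (5127) (Nat.ble 792 i)) (Nat.ble 791 i)) (Nat.ble 789 i)) (Nat.ble 786 i)) (Nat.ble 780 i)) (Bool.rec (motive := fun _ => Nat) (Bool.rec (motive := fun _ => Nat) (Bool.rec (motive := fun _ => Nat) (Bool.rec (motive := fun _ => Nat) (1272) (Bool.rec (motive := fun _ => Nat) (5505) (5717) (Nat.ble 795 i)) (Nat.ble 794 i)) (Bool.rec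 (motive := fun _ => Nat) (6933) (Bool.rec (motive := fun _ => Nat) (6460) (6167) (Nat.ble 798 i)) (Nat.ble 797 i)) (Nat.ble 796 i)) (Bool.rec (motive := fun _ => Nat) (Bool.rec (motive := fun _ => Nat) (4831) (Bool.rec (motive := fun _ => Nat) (6817) (6261) (Nat.ble 801 i)) (Nat.ble 800 i)) (Bool.rec (motive := fun _ => Nat) (Bool.rec (motive := fun _ => Nat) (6168) (6632) (Nat.ble 803 i)) (Bool.rec (motive := fun _ => Nat) (6502) (6747) (Nat.ble 805 i)) (Nat.ble 804 i)) (Nat.ble 802 i)) (Nat.ble 799 i)) (Bool.rec (motive := fun _ => Nat) (Bool.rec (motive := fun _ => Nat) (Bool.rec (motive := fun _ => Nat) (6942) (Bool.rec (motive := fun _ => Nat) (4839) (6746) (Nat.ble 808 i)) (Nat.ble 807 i)) (Bool.rec (motive := fun _ => Nat) (6889) (Bool.rec (motive := fun _ => Nat) (1436) (6818) (Nat.ble 811 i)) (Nat.ble 810 i)) (Nat.ble 809 i)) (Bool.rec (motive := fun _ => Nat) (Bool.rec (motive := fun _ => Nat) (5820) (Bool.rec (motive := fun _ => Nat)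 (6190) (5289) (Nat.ble 814 i)) (Nat.ble 813 i)) (Bool.rec (motive := fun _ => Nat) (Bool.rec (motive := fun _ => Nat) (6223) (5176) (Nat.ble 816 i)) (Bool.rec (motive := fun _ => Nat) (5341) (5480) (Nat.ble 818 i)) (Nat.ble 817 i)) (Nat.ble 815 i)) (Nat.ble 812 i)) (Nat.ble 806 i)) (Nat.ble 793 i)) (Nat.ble 767 i)) (Nat.ble 716 i)) (Nat.ble 614 i)) (Nat.ble 409 i))

/-- Stabilising words of node 4. -/
def tGen4 : List (List Nat) := [[2, 0, 4, 2, 8, 11, 8, 10], [2, 0, 4, 2, 8], [2, 0, 4, 2], [0, 2, 0, 4, 2, 0], [10, 8, 11], [8, 6, 4, 2, 6, 4, 6, 11, 8, 6, 4, 6, 13, 10, 3, 5, 7, 9, 3, 5], [2, 6, 4, 2, 6, 4, 11, 8, 11, 8, 6, 4, 6, 12, 9, 3, 5, 7, 5, 7, 9, 10, 7, 9, 7, 5, 7, 3]]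

/-- Roots at node 4. -/
def tRoot4 : List Nat := [0, 1, 5, 10, 33, 51, 77, 210, 334]

/-- Forest of the points at node 5. -/
noncomputable def tPar5 (i : Nat) : Nat := (Bool.rec (motive := fun _ => Nat) (Bool.rec (motive := fun _ => Nat) (Bool.rec (motive := fun _ => Nat) (Bool.rec (motive := fun _ => Nat) (Bool.rec (motive := fun _ => Nat) (Bool.rec (motive := fun _ => Nat) (Bool.rec (motive := fun _ => Nat) (Bool.rec (motive := fun _ => Nat) (Bool.rec (motive := fun _ => Nat) (15360) (Bool.rec (motive := fun _ => Nat) (15361) (15362) (Nat.ble 2 i)) (Nat.ble 1 i)) (Bool.rec (motive := fun _ => Nat) (1026) (Bool.rec (motive := fun _ => Nat) (15364) (15365) (Nat.ble 5 i)) (Nat.ble 4 i)) (Nat.ble 3 i)) (Bool.rec (motive := fun _ => Nat) (Bool.rec (motive := fun _ => Nat) (1024) (Bool.rec (motive := fun _ => Nat) (15367) (15368) (Nat.ble 8 i)) (Nat.ble 7 i)) (Bool.rec (motive := fun _ => Nat) (15369) (Bool.rec (motive := fun _ => Nat) (2065) (15371)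 (Nat.ble 11 i)) (Nat.ble 10 i)) (Nat.ble 9 i)) (Nat.ble 6 i)) (Bool.rec (motive := fun _ => Nat) (Bool.rec (motive := fun _ => Nat) (Bool.rec (motive := fun _ => Nat) (15372) (Bool.rec (motive := fun _ => Nat) (15373) (1061) (Nat.ble 14 i)) (Nat.ble 13 i)) (Bool.rec (motive := fun _ => Nat) (15375) (Bool.rec (motive := fun _ => Nat) (15376) (2048) (Nat.ble 17 i)) (Nat.ble 16 i)) (Nat.ble 15 i)) (Bool.rec (motive := fun _ => Nat) (Bool.rec (motive := fun _ => Nat) (13) (Bool.rec (motive := fun _ => Nat) (1033) (15380) (Nat.ble 20 i)) (Nat.ble 19 i)) (Bool.rec (motive := fun _ => Nat) (Bool.rec (motive := fun _ => Nat) (15381) (15382) (Nat.ble 22 i)) (Bool.rec (motive := fun _ => Nat) (15383) (1034) (Nat.ble 24 i)) (Nat.ble 23 i)) (Nat.ble 21 i)) (Nat.ble 18 i)) (Nat.ble 12 i)) (Bool.rec (motive := fun _ => Nat) (Bool.rec (motive := fun _ => Nat) (Bool.rec (motive := fun _ => Nat) (Bool.rec (motive := fun _ => Nat) (67) (Bool.rec (motive := fun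 _ => Nat) (15386) (2734) (Nat.ble 27 i)) (Nat.ble 26 i)) (Bool.rec (motive := fun _ => Nat) (15388) (Bool.rec (motive := fun _ => Nat) (2616) (2481) (Nat.ble 30 i)) (Nat.ble 29 i)) (Nat.ble 28 i)) (Bool.rec (motive := fun _ => Nat) (Bool.rec (motive := fun _ => Nat) (2118) (Bool.rec (motive := fun _ => Nat) (12) (0) (Nat.ble 33 i)) (Nat.ble 32 i)) (Bool.rec (motive := fun _ => Nat) (Bool.rec (motive := fun _ => Nat) (23) (2172) (Nat.ble 35 i)) (Bool.rec (motive := fun _ => Nat) (2085) (9) (Nat.ble 37 i)) (Nat.ble 36 i)) (Nat.ble 34 i)) (Nat.ble 31 i)) (Bool.rec (motive := fun _ => Nat) (Bool.rec (motive := fun _ => Nat) (Bool.rec (motive := fun _ => Nat) (1029) (Bool.rec (motive := fun _ => Nat) (107) (253) (Nat.ble 40 i)) (Nat.ble 39 i)) (Bool.rec (motive := fun _ => Nat) (15401) (Bool.rec (motive := fun _ => Nat) (2861) (2358) (Nat.ble 43 i)) (Nat.ble 42 i)) (Nat.ble 41 i)) (Bool.rec (motive := fun _ => Nat) (Bool.rec (motive := fun _ => Nat)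 (2719) (Bool.rec (motive := fun _ => Nat) (2062) (1041) (Nat.ble 46 i)) (Nat.ble 45 i)) (Bool.rec (motive := fun _ => Nat) (Bool.rec (motive := fun _ => Nat) (87) (2769) (Nat.ble 48 i)) (Bool.rec (motive := fun _ => Nat) (2143) (163) (Nat.ble 50 i)) (Nat.ble 49 i)) (Nat.ble 47 i)) (Nat.ble 44 i)) (Nat.ble 38 i)) (Nat.ble 25 i)) (Bool.rec (motive := fun _ => Nat) (Bool.rec (motive := fun _ => Nat) (Bool.rec (motive := fun _ => Nat) (Bool.rec (motive := fun _ => Nat) (Bool.rec (motive := fun _ => Nat) (559) (Bool.rec (motive := fun _ => Nat) (2306) (2107) (Nat.ble 53 i)) (Nat.ble 52 i)) (Bool.rec (motive := fun _ => Nat) (1130) (Bool.rec (motive := fun _ => Nat) (2157) (2416) (Nat.ble 56 i)) (Nat.ble 55 i)) (Nat.ble 54 i)) (Bool.rec (motive := fun _ => Nat) (Bool.rec (motive := fun _ => Nat) (20) (Bool.rec (motive := fun _ => Nat) (10) (1031) (Nat.ble 59 i)) (Nat.ble 58 i)) (Bool.rec (motive := fun _ => Nat) (2129) (Bool.rec (motive := fun _ =>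 Nat) (2067) (2130) (Nat.ble 62 i)) (Nat.ble 61 i)) (Nat.ble 60 i)) (Nat.ble 57 i)) (Bool.rec (motive := fun _ => Nat) (Bool.rec (motive := fun _ => Nat) (Bool.rec (motive := fun _ => Nat) (2250) (Bool.rec (motive := fun _ => Nat) (2095) (2252) (Nat.ble 65 i)) (Nat.ble 64 i)) (Bool.rec (motive := fun _ => Nat) (1032) (Bool.rec (motive := fun _ => Nat) (8) (1052) (Nat.ble 68 i)) (Nat.ble 67 i)) (Nat.ble 66 i)) (Bool.rec (motive := fun _ => Nat) (Bool.rec (motive := fun _ => Nat) (2423) (Bool.rec (motive := fun _ => Nat) (104) (2533) (Nat.ble 71 i)) (Nat.ble 70 i)) (Bool.rec (motive := fun _ => Nat) (Bool.rec (motive := fun _ => Nat) (514) (2115) (Nat.ble 73 i)) (Bool.rec (motive := fun _ => Nat) (2258) (2147) (Nat.ble 75 i)) (Nat.ble 74 i)) (Nat.ble 72 i)) (Nat.ble 69 i)) (Nat.ble 63 i)) (Bool.rec (motive := fun _ => Nat) (Bool.rec (motive := fun _ => Nat) (Bool.rec (motive := fun _ => Nat) (Bool.rec (motive := fun _ => Nat) (1286) (Bool.rec (motive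 := fun _ => Nat) (130) (2799) (Nat.ble 78 i)) (Nat.ble 77 i)) (Bool.rec (motive := fun _ => Nat) (2076) (Bool.rec (motive := fun _ => Nat) (1164) (2080) (Nat.ble 81 i)) (Nat.ble 80 i)) (Nat.ble 79 i)) (Bool.rec (motive := fun _ => Nat) (Bool.rec (motive := fun _ => Nat) (436) (Bool.rec (motive := fun _ => Nat) (2724) (1060) (Nat.ble 84 i)) (Nat.ble 83 i)) (Bool.rec (motive := fun _ => Nat) (Bool.rec (motive := fun _ => Nat) (2283) (1088) (Nat.ble 86 i)) (Bool.rec (motive := fun _ => Nat) (4) (2556) (Nat.ble 88 i)) (Nat.ble 87 i)) (Nat.ble 85 i)) (Nat.ble 82 i)) (Bool.rec (motive := fun _ => Nat) (Bool.rec (motive := fun _ => Nat) (Bool.rec (motive := fun _ => Nat) (366) (Bool.rec (motive := fun _ => Nat) (2133) (2300) (Nat.ble 91 i)) (Nat.ble 90 i)) (Bool.rec (motive := fun _ => Nat) (440) (Bool.rec (motive := fun _ => Nat) (2248) (2068) (Nat.ble 94 i)) (Nat.ble 93 i)) (Nat.ble 92 i)) (Bool.rec (motive := fun _ => Nat) (Bool.rec (motive := fun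 _ => Nat) (2820) (Bool.rec (motive := fun _ => Nat) (17) (1035) (Nat.ble 97 i)) (Nat.ble 96 i)) (Bool.rec (motive := fun _ => Nat) (Bool.rec (motive := fun _ => Nat) (2838) (1067) (Nat.ble 99 i)) (Bool.rec (motive := fun _ => Nat) (2173) (79) (Nat.ble 101 i)) (Nat.ble 100 i)) (Nat.ble 98 i)) (Nat.ble 95 i)) (Nat.ble 89 i)) (Nat.ble 76 i)) (Nat.ble 51 i)) (Bool.rec (motive := fun _ => Nat) (Bool.rec (motive := fun _ => Nat) (Bool.rec (motive := fun _ => Nat) (Bool.rec (motive := fun _ => Nat) (Bool.rec (motive := fun _ => Nat) (Bool.rec (motive := fun _ => Nat) (2125) (Bool.rec (motive := fun _ => Nat) (2186) (5) (Nat.ble 104 i)) (Nat.ble 103 i)) (Bool.rec (motive := fun _ => Nat) (1077) (Bool.rec (motive := fun _ => Nat) (461) (7) (Nat.ble 107 i)) (Nat.ble 106 i)) (Nat.ble 105 i)) (Bool.rec (motive := fun _ => Nat) (Bool.rec (motive := fun _ => Nat) (1252) (Bool.rec (motive := fun _ => Nat) (595) (1039) (Nat.ble 110 i)) (Nat.ble 109 i)) (Bool.rec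 (motive := fun _ => Nat) (1040) (Bool.rec (motive := fun _ => Nat) (1055) (2703) (Nat.ble 113 i)) (Nat.ble 112 i)) (Nat.ble 111 i)) (Nat.ble 108 i)) (Bool.rec (motive := fun _ => Nat) (Bool.rec (motive := fun _ => Nat) (Bool.rec (motive := fun _ => Nat) (1091) (Bool.rec (motive := fun _ => Nat) (1767) (1770) (Nat.ble 116 i)) (Nat.ble 115 i)) (Bool.rec (motive := fun _ => Nat) (502) (Bool.rec (motive := fun _ => Nat) (2648) (283) (Nat.ble 119 i)) (Nat.ble 118 i)) (Nat.ble 117 i)) (Bool.rec (motive := fun _ => Nat) (Bool.rec (motive := fun _ => Nat) (1440) (Bool.rec (motive := fun _ => Nat) (2098) (2747) (Nat.ble 122 i)) (Nat.ble 121 i)) (Bool.rec (motive := fun _ => Nat) (Bool.rec (motive := fun _ => Nat) (140) (2105) (Nat.ble 124 i)) (Bool.rec (motive := fun _ => Nat) (1460) (2623) (Nat.ble 126 i)) (Nat.ble 125 i)) (Nat.ble 123 i)) (Nat.ble 120 i)) (Nat.ble 114 i)) (Bool.rec (motive := fun _ => Nat) (Bool.rec (motive := fun _ => Nat) (Bool.rec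 (motive := fun _ => Nat) (Bool.rec (motive := fun _ => Nat) (1085) (Bool.rec (motive := fun _ => Nat) (2585) (1126) (Nat.ble 129 i)) (Nat.ble 128 i)) (Bool.rec (motive := fun _ => Nat) (1) (Bool.rec (motive := fun _ => Nat) (18) (1479) (Nat.ble 132 i)) (Nat.ble 131 i)) (Nat.ble 130 i)) (Bool.rec (motive := fun _ => Nat) (Bool.rec (motive := fun _ => Nat) (2150) (Bool.rec (motive := fun _ => Nat) (296) (2265) (Nat.ble 135 i)) (Nat.ble 134 i)) (Bool.rec (motive := fun _ => Nat) (Bool.rec (motive := fun _ => Nat) (2372) (2771) (Nat.ble 137 i)) (Bool.rec (motive := fun _ => Nat) (2171) (2369) (Nat.ble 139 i)) (Nat.ble 138 i)) (Nat.ble 136 i)) (Nat.ble 133 i)) (Bool.rec (motive := fun _ => Nat) (Bool.rec (motive := fun _ => Nat) (Bool.rec (motive := fun _ => Nat) (2) (Bool.rec (motive := fun _ => Nat) (307) (2343) (Nat.ble 142 i)) (Nat.ble 141 i)) (Bool.rec (motive := fun _ => Nat) (354) (Bool.rec (motive := fun _ => Nat) (1802) (2213) (Nat.ble 145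 i)) (Nat.ble 144 i)) (Nat.ble 143 i)) (Bool.rec (motive := fun _ => Nat) (Bool.rec (motive := fun _ => Nat) (328) (Bool.rec (motive := fun _ => Nat) (2564) (2145) (Nat.ble 148 i)) (Nat.ble 147 i)) (Bool.rec (motive := fun _ => Nat) (Bool.rec (motive := fun _ => Nat) (2417) (370) (Nat.ble 150 i)) (Bool.rec (motive := fun _ => Nat) (2568) (2474) (Nat.ble 152 i)) (Nat.ble 151 i)) (Nat.ble 149 i)) (Nat.ble 146 i)) (Nat.ble 140 i)) (Nat.ble 127 i)) (Bool.rec (motive := fun _ => Nat) (Bool.rec (motive := fun _ => Nat) (Bool.rec (motive := fun _ => Nat) (Bool.rec (motive := fun _ => Nat) (Bool.rec (motive := fun _ => Nat) (517) (Bool.rec (motive := fun _ => Nat) (2314) (2367) (Nat.ble 155 i)) (Nat.ble 154 i)) (Bool.rec (motive := fun _ => Nat) (2602) (Bool.rec (motive := fun _ => Nat) (1097) (2656) (Nat.ble 158 i)) (Nat.ble 157 i)) (Nat.ble 156 i)) (Bool.rec (motive := fun _ => Nat) (Bool.rec (motive := fun _ => Nat) (1045) (Bool.rec (motive := fun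 _ => Nat) (1046) (1069) (Nat.ble 161 i)) (Nat.ble 160 i)) (Bool.rec (motive := fun _ => Nat) (2355) (Bool.rec (motive := fun _ => Nat) (11) (392) (Nat.ble 164 i)) (Nat.ble 163 i)) (Nat.ble 162 i)) (Nat.ble 159 i)) (Bool.rec (motive := fun _ => Nat) (Bool.rec (motive := fun _ => Nat) (Bool.rec (motive := fun _ => Nat) (1367) (Bool.rec (motive := fun _ => Nat) (1050) (2437) (Nat.ble 167 i)) (Nat.ble 166 i)) (Bool.rec (motive := fun _ => Nat) (2529) (Bool.rec (motive := fun _ => Nat) (2460) (1128) (Nat.ble 170 i)) (Nat.ble 169 i)) (Nat.ble 168 i)) (Bool.rec (motive := fun _ => Nat) (Bool.rec (motive := fun _ => Nat) (1398) (Bool.rec (motive := fun _ => Nat) (1401) (730) (Nat.ble 173 i)) (Nat.ble 172 i)) (Bool.rec (motive := fun _ => Nat) (Bool.rec (motive := fun _ => Nat) (2740) (2448) (Nat.ble 175 i)) (Bool.rec (motive := fun _ => Nat) (2615) (2704) (Nat.ble 177 i)) (Nat.ble 176 i)) (Nat.ble 174 i)) (Nat.ble 171 i)) (Nat.ble 165 i)) (Bool.rec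 (motive := fun _ => Nat) (Bool.rec (motive := fun _ => Nat) (Bool.rec (motive := fun _ => Nat) (Bool.rec (motive := fun _ => Nat) (2522) (Bool.rec (motive := fun _ => Nat) (1131) (768) (Nat.ble 180 i)) (Nat.ble 179 i)) (Bool.rec (motive := fun _ => Nat) (304) (Bool.rec (motive := fun _ => Nat) (1626) (2366) (Nat.ble 183 i)) (Nat.ble 182 i)) (Nat.ble 181 i)) (Bool.rec (motive := fun _ => Nat) (Bool.rec (motive := fun _ => Nat) (1822) (Bool.rec (motive := fun _ => Nat) (2165) (2468) (Nat.ble 186 i)) (Nat.ble 185 i)) (Bool.rec (motive := fun _ => Nat) (Bool.rec (motive := fun _ => Nat) (2152) (2694) (Nat.ble 188 i)) (Bool.rec (motive := fun _ => Nat) (1776) (2806) (Nat.ble 190 i)) (Nat.ble 189 i)) (Nat.ble 187 i)) (Nat.ble 184 i)) (Bool.rec (motive := fun _ => Nat) (Bool.rec (motive := fun _ => Nat) (Bool.rec (motive := fun _ => Nat) (2732) (Bool.rec (motive := fun _ => Nat) (686) (2117) (Nat.ble 193 i)) (Nat.ble 192 i)) (Bool.rec (motive := fun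 _ => Nat) (2127) (Bool.rec (motive := fun _ => Nat) (2558) (59) (Nat.ble 196 i)) (Nat.ble 195 i)) (Nat.ble 194 i)) (Bool.rec (motive := fun _ => Nat) (Bool.rec (motive := fun _ => Nat) (34) (Bool.rec (motive := fun _ => Nat) (455) (2112) (Nat.ble 199 i)) (Nat.ble 198 i)) (Bool.rec (motive := fun _ => Nat) (Bool.rec (motive := fun _ => Nat) (1298) (2373) (Nat.ble 201 i)) (Bool.rec (motive := fun _ => Nat) (2264) (2434) (Nat.ble 203 i)) (Nat.ble 202 i)) (Nat.ble 200 i)) (Nat.ble 197 i)) (Nat.ble 191 i)) (Nat.ble 178 i)) (Nat.ble 153 i)) (Nat.ble 102 i)) (Bool.rec (motive := fun _ => Nat) (Bool.rec (motive := fun _ => Nat) (Bool.rec (motive := fun _ => Nat) (Bool.rec (motive := fun _ => Nat) (Bool.rec (motive := fun _ => Nat) (Bool.rec (motive := fun _ => Nat) (Bool.rec (motive := fun _ => Nat) (2128) (Bool.rec (motive := fun _ => Nat) (2261) (3) (Nat.ble 206 i)) (Nat.ble 205 i)) (Bool.rec (motive := fun _ => Nat) (19) (Bool.rec (motive := fun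 _ => Nat) (2737) (2494) (Nat.ble 209 i)) (Nat.ble 208 i)) (Nat.ble 207 i)) (Bool.rec (motive := fun _ => Nat) (Bool.rec (motive := fun _ => Nat) (2846) (Bool.rec (motive := fun _ => Nat) (61) (2587) (Nat.ble 212 i)) (Nat.ble 211 i)) (Bool.rec (motive := fun _ => Nat) (2054) (Bool.rec (motive := fun _ => Nat) (2084) (2633) (Nat.ble 215 i)) (Nat.ble 214 i)) (Nat.ble 213 i)) (Nat.ble 210 i)) (Bool.rec (motive := fun _ => Nat) (Bool.rec (motive := fun _ => Nat) (Bool.rec (motive := fun _ => Nat) (599) (Bool.rec (motive := fun _ => Nat) (2082) (1320) (Nat.ble 218 i)) (Nat.ble 217 i)) (Bool.rec (motive := fun _ => Nat) (28) (Bool.rec (motive := fun _ => Nat) (2462) (2739) (Nat.ble 221 i)) (Nat.ble 220 i)) (Nat.ble 219 i)) (Bool.rec (motive := fun _ => Nat) (Bool.rec (motive := fun _ => Nat) (2642) (Bool.rec (motive := fun _ => Nat) (2815) (377) (Nat.ble 224 i)) (Nat.ble 223 i)) (Bool.rec (motive := fun _ => Nat) (Bool.rec (motive := fun _ => Nat)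 (2790) (2453) (Nat.ble 226 i)) (Bool.rec (motive := fun _ => Nat) (2202) (2414) (Nat.ble 228 i)) (Nat.ble 227 i)) (Nat.ble 225 i)) (Nat.ble 222 i)) (Nat.ble 216 i)) (Bool.rec (motive := fun _ => Nat) (Bool.rec (motive := fun _ => Nat) (Bool.rec (motive := fun _ => Nat) (Bool.rec (motive := fun _ => Nat) (2750) (Bool.rec (motive := fun _ => Nat) (2103) (2362) (Nat.ble 231 i)) (Nat.ble 230 i)) (Bool.rec (motive := fun _ => Nat) (1306) (Bool.rec (motive := fun _ => Nat) (1313) (2807) (Nat.ble 234 i)) (Nat.ble 233 i)) (Nat.ble 232 i)) (Bool.rec (motive := fun _ => Nat) (Bool.rec (motive := fun _ => Nat) (687) (Bool.rec (motive := fun _ => Nat) (1792) (1685) (Nat.ble 237 i)) (Nat.ble 236 i)) (Bool.rec (motive := fun _ => Nat) (Bool.rec (motive := fun _ => Nat) (2540) (194) (Nat.ble 239 i)) (Bool.rec (motive := fun _ => Nat) (2720) (2521) (Nat.ble 241 i)) (Nat.ble 240 i)) (Nat.ble 238 i)) (Nat.ble 235 i)) (Bool.rec (motive := fun _ => Nat) (Bool.rec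 (motive := fun _ => Nat) (Bool.rec (motive := fun _ => Nat) (2819) (Bool.rec (motive := fun _ => Nat) (2526) (1815) (Nat.ble 244 i)) (Nat.ble 243 i)) (Bool.rec (motive := fun _ => Nat) (262) (Bool.rec (motive := fun _ => Nat) (261) (2562) (Nat.ble 247 i)) (Nat.ble 246 i)) (Nat.ble 245 i)) (Bool.rec (motive := fun _ => Nat) (Bool.rec (motive := fun _ => Nat) (2488) (Bool.rec (motive := fun _ => Nat) (2159) (2491) (Nat.ble 250 i)) (Nat.ble 249 i)) (Bool.rec (motive := fun _ => Nat) (Bool.rec (motive := fun _ => Nat) (2072) (2155) (Nat.ble 252 i)) (Bool.rec (motive := fun _ => Nat) (622) (2466) (Nat.ble 254 i)) (Nat.ble 253 i)) (Nat.ble 251 i)) (Nat.ble 248 i)) (Nat.ble 242 i)) (Nat.ble 229 i)) (Bool.rec (motive := fun _ => Nat) (Bool.rec (motive := fun _ => Nat) (Bool.rec (motive := fun _ => Nat) (Bool.rec (motive := fun _ => Nat) (Bool.rec (motive := fun _ => Nat) (2179) (Bool.rec (motive := fun _ => Nat) (682) (2490) (Nat.ble 257 i)) (Nat.ble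 256 i)) (Bool.rec (motive := fun _ => Nat) (2207) (Bool.rec (motive := fun _ => Nat) (2471) (2442) (Nat.ble 260 i)) (Nat.ble 259 i)) (Nat.ble 258 i)) (Bool.rec (motive := fun _ => Nat) (Bool.rec (motive := fun _ => Nat) (1065) (Bool.rec (motive := fun _ => Nat) (2524) (2635) (Nat.ble 263 i)) (Nat.ble 262 i)) (Bool.rec (motive := fun _ => Nat) (66) (Bool.rec (motive := fun _ => Nat) (1548) (1551) (Nat.ble 266 i)) (Nat.ble 265 i)) (Nat.ble 264 i)) (Nat.ble 261 i)) (Bool.rec (motive := fun _ => Nat) (Bool.rec (motive := fun _ => Nat) (Bool.rec (motive := fun _ => Nat) (2756) (Bool.rec (motive := fun _ => Nat) (1562) (2683) (Nat.ble 269 i)) (Nat.ble 268 i)) (Bool.rec (motive := fun _ => Nat) (2828) (Bool.rec (motive := fun _ => Nat) (2291) (2755) (Nat.ble 272 i)) (Nat.ble 271 i)) (Nat.ble 270 i)) (Bool.rec (motive := fun _ => Nat) (Bool.rec (motive := fun _ => Nat) (1187) (Bool.rec (motive := fun _ => Nat) (2158) (2595) (Nat.ble 275 i)) (Nat.ble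 274 i)) (Bool.rec (motive := fun _ => Nat) (Bool.rec (motive := fun _ => Nat) (2827) (2845) (Nat.ble 277 i)) (Bool.rec (motive := fun _ => Nat) (298) (2695) (Nat.ble 279 i)) (Nat.ble 278 i)) (Nat.ble 276 i)) (Nat.ble 273 i)) (Nat.ble 267 i)) (Bool.rec (motive := fun _ => Nat) (Bool.rec (motive := fun _ => Nat) (Bool.rec (motive := fun _ => Nat) (Bool.rec (motive := fun _ => Nat) (2584) (Bool.rec (motive := fun _ => Nat) (2627) (2162) (Nat.ble 282 i)) (Nat.ble 281 i)) (Bool.rec (motive := fun _ => Nat) (2509) (Bool.rec (motive := fun _ => Nat) (2167) (2427) (Nat.ble 285 i)) (Nat.ble 284 i)) (Nat.ble 283 i)) (Bool.rec (motive := fun _ => Nat) (Bool.rec (motive := fun _ => Nat) (2610) (Bool.rec (motive := fun _ => Nat) (2229) (2744) (Nat.ble 288 i)) (Nat.ble 287 i)) (Bool.rec (motive := fun _ => Nat) (Bool.rec (motive := fun _ => Nat) (2069) (2577) (Nat.ble 290 i)) (Bool.rec (motive := fun _ => Nat) (2351) (1105) (Nat.ble 292 i)) (Nat.ble 291 i))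 (Nat.ble 289 i)) (Nat.ble 286 i)) (Bool.rec (motive := fun _ => Nat) (Bool.rec (motive := fun _ => Nat) (Bool.rec (motive := fun _ => Nat) (817) (Bool.rec (motive := fun _ => Nat) (2794) (2154) (Nat.ble 295 i)) (Nat.ble 294 i)) (Bool.rec (motive := fun _ => Nat) (2821) (Bool.rec (motive := fun _ => Nat) (2303) (2565) (Nat.ble 298 i)) (Nat.ble 297 i)) (Nat.ble 296 i)) (Bool.rec (motive := fun _ => Nat) (Bool.rec (motive := fun _ => Nat) (2779) (Bool.rec (motive := fun _ => Nat) (2532) (2195) (Nat.ble 301 i)) (Nat.ble 300 i)) (Bool.rec (motive := fun _ => Nat) (Bool.rec (motive := fun _ => Nat) (369) (2497) (Nat.ble 303 i)) (Bool.rec (motive := fun _ => Nat) (2765) (2168) (Nat.ble 305 i)) (Nat.ble 304 i)) (Nat.ble 302 i)) (Nat.ble 299 i)) (Nat.ble 293 i)) (Nat.ble 280 i)) (Nat.ble 255 i)) (Bool.rec (motive := fun _ => Nat) (Bool.rec (motive := fun _ => Nat) (Bool.rec (motive := fun _ => Nat) (Bool.rec (motive := fun _ => Nat) (Bool.rec (motive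 := fun _ => Nat) (Bool.rec (motive := fun _ => Nat) (2764) (Bool.rec (motive := fun _ => Nat) (2359) (2409) (Nat.ble 308 i)) (Nat.ble 307 i)) (Bool.rec (motive := fun _ => Nat) (2495) (Bool.rec (motive := fun _ => Nat) (2114) (758) (Nat.ble 311 i)) (Nat.ble 310 i)) (Nat.ble 309 i)) (Bool.rec (motive := fun _ => Nat) (Bool.rec (motive := fun _ => Nat) (2597) (Bool.rec (motive := fun _ => Nat) (2226) (38) (Nat.ble 314 i)) (Nat.ble 313 i)) (Bool.rec (motive := fun _ => Nat) (37) (Bool.rec (motive := fun _ => Nat) (2605) (2663) (Nat.ble 317 i)) (Nat.ble 316 i)) (Nat.ble 315 i)) (Nat.ble 312 i)) (Bool.rec (motive := fun _ => Nat) (Bool.rec (motive := fun _ => Nat) (Bool.rec (motive := fun _ => Nat) (2625) (Bool.rec (motive := fun _ => Nat) (36) (2353) (Nat.ble 320 i)) (Nat.ble 319 i)) (Bool.rec (motive := fun _ => Nat) (2081) (Bool.rec (motive := fun _ => Nat) (2109) (2191) (Nat.ble 323 i)) (Nat.ble 322 i)) (Nat.ble 321 i)) (Bool.rec (motive := fun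 _ => Nat) (Bool.rec (motive := fun _ => Nat) (2149) (Bool.rec (motive := fun _ => Nat) (2066) (274) (Nat.ble 326 i)) (Nat.ble 325 i)) (Bool.rec (motive := fun _ => Nat) (Bool.rec (motive := fun _ => Nat) (53) (2188) (Nat.ble 328 i)) (Bool.rec (motive := fun _ => Nat) (1458) (2230) (Nat.ble 330 i)) (Nat.ble 329 i)) (Nat.ble 327 i)) (Nat.ble 324 i)) (Nat.ble 318 i)) (Bool.rec (motive := fun _ => Nat) (Bool.rec (motive := fun _ => Nat) (Bool.rec (motive := fun _ => Nat) (Bool.rec (motive := fun _ => Nat) (2631) (Bool.rec (motive := fun _ => Nat) (527) (434) (Nat.ble 333 i)) (Nat.ble 332 i)) (Bool.rec (motive := fun _ => Nat) (32) (Bool.rec (motive := fun _ => Nat) (2267) (2271) (Nat.ble 336 i)) (Nat.ble 335 i)) (Nat.ble 334 i)) (Bool.rec (motive := fun _ => Nat) (Bool.rec (motive := fun _ => Nat) (57) (Bool.rec (motive := fun _ => Nat) (204) (2287) (Nat.ble 339 i)) (Nat.ble 338 i)) (Bool.rec (motive := fun _ => Nat) (Bool.rec (motive := fun _ =>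 Nat) (249) (2607) (Nat.ble 341 i)) (Bool.rec (motive := fun _ => Nat) (2398) (2736) (Nat.ble 343 i)) (Nat.ble 342 i)) (Nat.ble 340 i)) (Nat.ble 337 i)) (Bool.rec (motive := fun _ => Nat) (Bool.rec (motive := fun _ => Nat) (Bool.rec (motive := fun _ => Nat) (153) (Bool.rec (motive := fun _ => Nat) (2219) (2523) (Nat.ble 346 i)) (Nat.ble 345 i)) (Bool.rec (motive := fun _ => Nat) (102) (Bool.rec (motive := fun _ => Nat) (2194) (2630) (Nat.ble 349 i)) (Nat.ble 348 i)) (Nat.ble 347 i)) (Bool.rec (motive := fun _ => Nat) (Bool.rec (motive := fun _ => Nat) (73) (Bool.rec (motive := fun _ => Nat) (341) (2446) (Nat.ble 352 i)) (Nat.ble 351 i)) (Bool.rec (motive := fun _ => Nat) (Bool.rec (motive := fun _ => Nat) (2611) (2586) (Nat.ble 354 i)) (Bool.rec (motive := fun _ => Nat) (343) (2613) (Nat.ble 356 i)) (Nat.ble 355 i)) (Nat.ble 353 i)) (Nat.ble 350 i)) (Nat.ble 344 i)) (Nat.ble 331 i)) (Bool.rec (motive := fun _ => Nat) (Bool.rec (motive := fun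 _ => Nat) (Bool.rec (motive := fun _ => Nat) (Bool.rec (motive := fun _ => Nat) (Bool.rec (motive := fun _ => Nat) (2580) (Bool.rec (motive := fun _ => Nat) (1416) (2650) (Nat.ble 359 i)) (Nat.ble 358 i)) (Bool.rec (motive := fun _ => Nat) (2438) (Bool.rec (motive := fun _ => Nat) (2643) (16) (Nat.ble 362 i)) (Nat.ble 361 i)) (Nat.ble 360 i)) (Bool.rec (motive := fun _ => Nat) (Bool.rec (motive := fun _ => Nat) (31) (Bool.rec (motive := fun _ => Nat) (2778) (2340) (Nat.ble 365 i)) (Nat.ble 364 i)) (Bool.rec (motive := fun _ => Nat) (Bool.rec (motive := fun _ => Nat) (2056) (43) (Nat.ble 367 i)) (Bool.rec (motive := fun _ => Nat) (2847) (2073) (Nat.ble 369 i)) (Nat.ble 368 i)) (Nat.ble 366 i)) (Nat.ble 363 i)) (Bool.rec (motive := fun _ => Nat) (Bool.rec (motive := fun _ => Nat) (Bool.rec (motive := fun _ => Nat) (538) (Bool.rec (motive := fun _ => Nat) (2169) (2652) (Nat.ble 372 i)) (Nat.ble 371 i)) (Bool.rec (motive := fun _ => Nat) (2772)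 (Bool.rec (motive := fun _ => Nat) (2659) (1466) (Nat.ble 375 i)) (Nat.ble 374 i)) (Nat.ble 373 i)) (Bool.rec (motive := fun _ => Nat) (Bool.rec (motive := fun _ => Nat) (188) (Bool.rec (motive := fun _ => Nat) (2178) (1471) (Nat.ble 378 i)) (Nat.ble 377 i)) (Bool.rec (motive := fun _ => Nat) (Bool.rec (motive := fun _ => Nat) (2783) (2302) (Nat.ble 380 i)) (Bool.rec (motive := fun _ => Nat) (2557) (416) (Nat.ble 382 i)) (Nat.ble 381 i)) (Nat.ble 379 i)) (Nat.ble 376 i)) (Nat.ble 370 i)) (Bool.rec (motive := fun _ => Nat) (Bool.rec (motive := fun _ => Nat) (Bool.rec (motive := fun _ => Nat) (Bool.rec (motive := fun _ => Nat) (2320) (Bool.rec (motive := fun _ => Nat) (413) (2304) (Nat.ble 385 i)) (Nat.ble 384 i)) (Bool.rec (motive := fun _ => Nat) (602) (Bool.rec (motive := fun _ => Nat) (1477) (2237) (Nat.ble 388 i)) (Nat.ble 387 i)) (Nat.ble 386 i)) (Bool.rec (motive := fun _ => Nat) (Bool.rec (motive := fun _ => Nat) (723) (Bool.rec (motive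 := fun _ => Nat) (2701) (1386) (Nat.ble 391 i)) (Nat.ble 390 i)) (Bool.rec (motive := fun _ => Nat) (Bool.rec (motive := fun _ => Nat) (2410) (1394) (Nat.ble 393 i)) (Bool.rec (motive := fun _ => Nat) (111) (2163) (Nat.ble 395 i)) (Nat.ble 394 i)) (Nat.ble 392 i)) (Nat.ble 389 i)) (Bool.rec (motive := fun _ => Nat) (Bool.rec (motive := fun _ => Nat) (Bool.rec (motive := fun _ => Nat) (2589) (Bool.rec (motive := fun _ => Nat) (2294) (1841) (Nat.ble 398 i)) (Nat.ble 397 i)) (Bool.rec (motive := fun _ => Nat) (2450) (Bool.rec (motive := fun _ => Nat) (645) (2712) (Nat.ble 401 i)) (Nat.ble 400 i)) (Nat.ble 399 i)) (Bool.rec (motive := fun _ => Nat) (Bool.rec (motive := fun _ => Nat) (2259) (Bool.rec (motive := fun _ => Nat) (310) (247) (Nat.ble 404 i)) (Nat.ble 403 i)) (Bool.rec (motive := fun _ => Nat) (Bool.rec (motive := fun _ => Nat) (2598) (2833) (Nat.ble 406 i)) (Bool.rec (motive := fun _ => Nat) (2681) (2536) (Nat.ble 408 i)) (Nat.ble 407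 i)) (Nat.ble 405 i)) (Nat.ble 402 i)) (Nat.ble 396 i)) (Nat.ble 383 i)) (Nat.ble 357 i)) (Nat.ble 306 i)) (Nat.ble 204 i)) (Bool.rec (motive := fun _ => Nat) (Bool.rec (motive := fun _ => Nat) (Bool.rec (motive := fun _ => Nat) (Bool.rec (motive := fun _ => Nat) (Bool.rec (motive := fun _ => Nat) (Bool.rec (motive := fun _ => Nat) (Bool.rec (motive := fun _ => Nat) (Bool.rec (motive := fun _ => Nat) (1747) (Bool.rec (motive := fun _ => Nat) (2053) (2617) (Nat.ble 411 i)) (Nat.ble 410 i)) (Bool.rec (motive := fun _ => Nat) (2218) (Bool.rec (motive := fun _ => Nat) (2074) (97) (Nat.ble 414 i)) (Nat.ble 413 i)) (Nat.ble 412 i)) (Bool.rec (motive := fun _ => Nat) (Bool.rec (motive := fun _ => Nat) (2528) (Bool.rec (motive := fun _ => Nat) (442) (1359) (Nat.ble 417 i)) (Nat.ble 416 i)) (Bool.rec (motive := fun _ => Nat) (1720) (Bool.rec (motive := fun _ => Nat) (2456) (2840) (Nat.ble 420 i)) (Nat.ble 419 i)) (Nat.ble 418 i)) (Nat.ble 415 i)) (Bool.rec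 (motive := fun _ => Nat) (Bool.rec (motive := fun _ => Nat) (Bool.rec (motive := fun _ => Nat) (2531) (Bool.rec (motive := fun _ => Nat) (2830) (2255) (Nat.ble 423 i)) (Nat.ble 422 i)) (Bool.rec (motive := fun _ => Nat) (2678) (Bool.rec (motive := fun _ => Nat) (2092) (1365) (Nat.ble 426 i)) (Nat.ble 425 i)) (Nat.ble 424 i)) (Bool.rec (motive := fun _ => Nat) (Bool.rec (motive := fun _ => Nat) (2711) (Bool.rec (motive := fun _ => Nat) (335) (2458) (Nat.ble 429 i)) (Nat.ble 428 i)) (Bool.rec (motive := fun _ => Nat) (Bool.rec (motive := fun _ => Nat) (2119) (2470) (Nat.ble 431 i)) (Bool.rec (motive := fun _ => Nat) (2500) (1148) (Nat.ble 433 i)) (Nat.ble 432 i)) (Nat.ble 430 i)) (Nat.ble 427 i)) (Nat.ble 421 i)) (Bool.rec (motive := fun _ => Nat) (Bool.rec (motive := fun _ => Nat) (Bool.rec (motive := fun _ => Nat) (Bool.rec (motive := fun _ => Nat) (2061) (Bool.rec (motive := fun _ => Nat) (2380) (2826) (Nat.ble 436 i)) (Nat.ble 435 i)) (Bool.rec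 (motive := fun _ => Nat) (190) (Bool.rec (motive := fun _ => Nat) (1357) (2382) (Nat.ble 439 i)) (Nat.ble 438 i)) (Nat.ble 437 i)) (Bool.rec (motive := fun _ => Nat) (Bool.rec (motive := fun _ => Nat) (2227) (Bool.rec (motive := fun _ => Nat) (2707) (2059) (Nat.ble 442 i)) (Nat.ble 441 i)) (Bool.rec (motive := fun _ => Nat) (Bool.rec (motive := fun _ => Nat) (2582) (2539) (Nat.ble 444 i)) (Bool.rec (motive := fun _ => Nat) (2290) (2698) (Nat.ble 446 i)) (Nat.ble 445 i)) (Nat.ble 443 i)) (Nat.ble 440 i)) (Bool.rec (motive := fun _ => Nat) (Bool.rec (motive := fun _ => Nat) (Bool.rec (motive := fun _ => Nat) (2808) (Bool.rec (motive := fun _ => Nat) (2425) (1592) (Nat.ble 449 i)) (Nat.ble 448 i)) (Bool.rec (motive := fun _ => Nat) (2741) (Bool.rec (motive := fun _ => Nat) (1601) (2813) (Nat.ble 452 i)) (Nat.ble 451 i)) (Nat.ble 450 i)) (Bool.rec (motive := fun _ => Nat) (Bool.rec (motive := fun _ => Nat) (21) (Bool.rec (motive := fun _ => Nat)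 (2445) (2518) (Nat.ble 455 i)) (Nat.ble 454 i)) (Bool.rec (motive := fun _ => Nat) (Bool.rec (motive := fun _ => Nat) (2717) (2620) (Nat.ble 457 i)) (Bool.rec (motive := fun _ => Nat) (2220) (2697) (Nat.ble 459 i)) (Nat.ble 458 i)) (Nat.ble 456 i)) (Nat.ble 453 i)) (Nat.ble 447 i)) (Nat.ble 434 i)) (Bool.rec (motive := fun _ => Nat) (Bool.rec (motive := fun _ => Nat) (Bool.rec (motive := fun _ => Nat) (Bool.rec (motive := fun _ => Nat) (Bool.rec (motive := fun _ => Nat) (2516) (Bool.rec (motive := fun _ => Nat) (2089) (2578) (Nat.ble 462 i)) (Nat.ble 461 i)) (Bool.rec (motive := fun _ => Nat) (2429) (Bool.rec (motive := fun _ => Nat) (2749) (2854) (Nat.ble 465 i)) (Nat.ble 464 i)) (Nat.ble 463 i)) (Bool.rec (motive := fun _ => Nat) (Bool.rec (motive := fun _ => Nat) (2215) (Bool.rec (motive := fun _ => Nat) (1162) (2094) (Nat.ble 468 i)) (Nat.ble 467 i)) (Bool.rec (motive := fun _ => Nat) (2817) (Bool.rec (motive := fun _ => Nat) (1570) (2489)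 (Nat.ble 471 i)) (Nat.ble 470 i)) (Nat.ble 469 i)) (Nat.ble 466 i)) (Bool.rec (motive := fun _ => Nat) (Bool.rec (motive := fun _ => Nat) (Bool.rec (motive := fun _ => Nat) (2735) (Bool.rec (motive := fun _ => Nat) (752) (160) (Nat.ble 474 i)) (Nat.ble 473 i)) (Bool.rec (motive := fun _ => Nat) (68) (Bool.rec (motive := fun _ => Nat) (453) (2392) (Nat.ble 477 i)) (Nat.ble 476 i)) (Nat.ble 475 i)) (Bool.rec (motive := fun _ => Nat) (Bool.rec (motive := fun _ => Nat) (1243) (Bool.rec (motive := fun _ => Nat) (2176) (482) (Nat.ble 480 i)) (Nat.ble 479 i)) (Bool.rec (motive := fun _ => Nat) (Bool.rec (motive := fun _ => Nat) (2679) (2049) (Nat.ble 482 i)) (Bool.rec (motive := fun _ => Nat) (2363) (2375) (Nat.ble 484 i)) (Nat.ble 483 i)) (Nat.ble 481 i)) (Nat.ble 478 i)) (Nat.ble 472 i)) (Bool.rec (motive := fun _ => Nat) (Bool.rec (motive := fun _ => Nat) (Bool.rec (motive := fun _ => Nat) (Bool.rec (motive := fun _ => Nat) (611) (Bool.rec (motive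 := fun _ => Nat) (138) (2669) (Nat.ble 487 i)) (Nat.ble 486 i)) (Bool.rec (motive := fun _ => Nat) (1075) (Bool.rec (motive := fun _ => Nat) (2688) (1177) (Nat.ble 490 i)) (Nat.ble 489 i)) (Nat.ble 488 i)) (Bool.rec (motive := fun _ => Nat) (Bool.rec (motive := fun _ => Nat) (1076) (Bool.rec (motive := fun _ => Nat) (2205) (2313) (Nat.ble 493 i)) (Nat.ble 492 i)) (Bool.rec (motive := fun _ => Nat) (Bool.rec (motive := fun _ => Nat) (2789) (64) (Nat.ble 495 i)) (Bool.rec (motive := fun _ => Nat) (2639) (2829) (Nat.ble 497 i)) (Nat.ble 496 i)) (Nat.ble 494 i)) (Nat.ble 491 i)) (Bool.rec (motive := fun _ => Nat) (Bool.rec (motive := fun _ => Nat) (Bool.rec (motive := fun _ => Nat) (2525) (Bool.rec (motive := fun _ => Nat) (2463) (2686) (Nat.ble 500 i)) (Nat.ble 499 i)) (Bool.rec (motive := fun _ => Nat) (2844) (Bool.rec (motive := fun _ => Nat) (2530) (1619) (Nat.ble 503 i)) (Nat.ble 502 i)) (Nat.ble 501 i)) (Bool.rec (motive := fun _ => Nat) (Bool.rec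 (motive := fun _ => Nat) (2841) (Bool.rec (motive := fun _ => Nat) (2341) (228) (Nat.ble 506 i)) (Nat.ble 505 i)) (Bool.rec (motive := fun _ => Nat) (Bool.rec (motive := fun _ => Nat) (1741) (600) (Nat.ble 508 i)) (Bool.rec (motive := fun _ => Nat) (1744) (2457) (Nat.ble 510 i)) (Nat.ble 509 i)) (Nat.ble 507 i)) (Nat.ble 504 i)) (Nat.ble 498 i)) (Nat.ble 485 i)) (Nat.ble 460 i)) (Bool.rec (motive := fun _ => Nat) (Bool.rec (motive := fun _ => Nat) (Bool.rec (motive := fun _ => Nat) (Bool.rec (motive := fun _ => Nat) (Bool.rec (motive := fun _ => Nat) (Bool.rec (motive := fun _ => Nat) (2699) (Bool.rec (motive := fun _ => Nat) (2454) (2816) (Nat.ble 513 i)) (Nat.ble 512 i)) (Bool.rec (motive := fun _ => Nat) (2052) (Bool.rec (motive := fun _ => Nat) (2424) (720) (Nat.ble 516 i)) (Nat.ble 515 i)) (Nat.ble 514 i)) (Bool.rec (motive := fun _ => Nat) (Bool.rec (motive := fun _ => Nat) (2057) (Bool.rec (motive := fun _ => Nat) (2675) (2093) (Nat.ble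 519 i)) (Nat.ble 518 i)) (Bool.rec (motive := fun _ => Nat) (2644) (Bool.rec (motive := fun _ => Nat) (2279) (2713) (Nat.ble 522 i)) (Nat.ble 521 i)) (Nat.ble 520 i)) (Nat.ble 517 i)) (Bool.rec (motive := fun _ => Nat) (Bool.rec (motive := fun _ => Nat) (Bool.rec (motive := fun _ => Nat) (2201) (Bool.rec (motive := fun _ => Nat) (2297) (1635) (Nat.ble 525 i)) (Nat.ble 524 i)) (Bool.rec (motive := fun _ => Nat) (2406) (Bool.rec (motive := fun _ => Nat) (2501) (2156) (Nat.ble 528 i)) (Nat.ble 527 i)) (Nat.ble 526 i)) (Bool.rec (motive := fun _ => Nat) (Bool.rec (motive := fun _ => Nat) (2153) (Bool.rec (motive := fun _ => Nat) (2214) (322) (Nat.ble 531 i)) (Nat.ble 530 i)) (Bool.rec (motive := fun _ => Nat) (Bool.rec (motive := fun _ => Nat) (2752) (2768) (Nat.ble 533 i)) (Bool.rec (motive := fun _ => Nat) (81) (2649) (Nat.ble 535 i)) (Nat.ble 534 i)) (Nat.ble 532 i)) (Nat.ble 529 i)) (Nat.ble 523 i)) (Bool.rec (motive := fun _ => Nat) (Bool.rec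 (motive := fun _ => Nat) (Bool.rec (motive := fun _ => Nat) (Bool.rec (motive := fun _ => Nat) (2321) (Bool.rec (motive := fun _ => Nat) (1352) (2055) (Nat.ble 538 i)) (Nat.ble 537 i)) (Bool.rec (motive := fun _ => Nat) (2441) (Bool.rec (motive := fun _ => Nat) (2544) (1646) (Nat.ble 541 i)) (Nat.ble 540 i)) (Nat.ble 539 i)) (Bool.rec (motive := fun _ => Nat) (Bool.rec (motive := fun _ => Nat) (2394) (Bool.rec (motive := fun _ => Nat) (2738) (568) (Nat.ble 544 i)) (Nat.ble 543 i)) (Bool.rec (motive := fun _ => Nat) (Bool.rec (motive := fun _ => Nat) (2078) (41) (Nat.ble 546 i)) (Bool.rec (motive := fun _ => Nat) (2435) (2079) (Nat.ble 548 i)) (Nat.ble 547 i)) (Nat.ble 545 i)) (Nat.ble 542 i)) (Bool.rec (motive := fun _ => Nat) (Bool.rec (motive := fun _ => Nat) (Bool.rec (motive := fun _ => Nat) (2705) (Bool.rec (motive := fun _ => Nat) (717) (1485) (Nat.ble 551 i)) (Nat.ble 550 i)) (Bool.rec (motive := fun _ => Nat) (1753) (Bool.rec (motive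 := fun _ => Nat) (2459) (2388) (Nat.ble 554 i)) (Nat.ble 553 i)) (Nat.ble 552 i)) (Bool.rec (motive := fun _ => Nat) (Bool.rec (motive := fun _ => Nat) (2684) (Bool.rec (motive := fun _ => Nat) (2120) (374) (Nat.ble 557 i)) (Nat.ble 556 i)) (Bool.rec (motive := fun _ => Nat) (Bool.rec (motive := fun _ => Nat) (2312) (2063) (Nat.ble 559 i)) (Bool.rec (motive := fun _ => Nat) (2374) (2308) (Nat.ble 561 i)) (Nat.ble 560 i)) (Nat.ble 558 i)) (Nat.ble 555 i)) (Nat.ble 549 i)) (Nat.ble 536 i)) (Bool.rec (motive := fun _ => Nat) (Bool.rec (motive := fun _ => Nat) (Bool.rec (motive := fun _ => Nat) (Bool.rec (motive := fun _ => Nat) (Bool.rec (motive := fun _ => Nat) (118) (Bool.rec (motive := fun _ => Nat) (1378) (1669) (Nat.ble 564 i)) (Nat.ble 563 i)) (Bool.rec (motive := fun _ => Nat) (2430) (Bool.rec (motive := fun _ => Nat) (2520) (1307) (Nat.ble 567 i)) (Nat.ble 566 i)) (Nat.ble 565 i)) (Bool.rec (motive := fun _ => Nat) (Bool.rec (motive :=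 fun _ => Nat) (2211) (Bool.rec (motive := fun _ => Nat) (1390) (2487) (Nat.ble 570 i)) (Nat.ble 569 i)) (Bool.rec (motive := fun _ => Nat) (Bool.rec (motive := fun _ => Nat) (412) (2418) (Nat.ble 572 i)) (Bool.rec (motive := fun _ => Nat) (2759) (1464) (Nat.ble 574 i)) (Nat.ble 573 i)) (Nat.ble 571 i)) (Nat.ble 568 i)) (Bool.rec (motive := fun _ => Nat) (Bool.rec (motive := fun _ => Nat) (Bool.rec (motive := fun _ => Nat) (1670) (Bool.rec (motive := fun _ => Nat) (2238) (94) (Nat.ble 577 i)) (Nat.ble 576 i)) (Bool.rec (motive := fun _ => Nat) (1393) (Bool.rec (motive := fun _ => Nat) (1312) (2137) (Nat.ble 580 i)) (Nat.ble 579 i)) (Nat.ble 578 i)) (Bool.rec (motive := fun _ => Nat) (Bool.rec (motive := fun _ => Nat) (2776) (Bool.rec (motive := fun _ => Nat) (2192) (2573) (Nat.ble 583 i)) (Nat.ble 582 i)) (Bool.rec (motive := fun _ => Nat) (Bool.rec (motive := fun _ => Nat) (52) (257) (Nat.ble 585 i)) (Bool.rec (motive := fun _ => Nat) (2645)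 (2451) (Nat.ble 587 i)) (Nat.ble 586 i)) (Nat.ble 584 i)) (Nat.ble 581 i)) (Nat.ble 575 i)) (Bool.rec (motive := fun _ => Nat) (Bool.rec (motive := fun _ => Nat) (Bool.rec (motive := fun _ => Nat) (Bool.rec (motive := fun _ => Nat) (2452) (Bool.rec (motive := fun _ => Nat) (2325) (2396) (Nat.ble 590 i)) (Nat.ble 589 i)) (Bool.rec (motive := fun _ => Nat) (1711) (Bool.rec (motive := fun _ => Nat) (2141) (2579) (Nat.ble 593 i)) (Nat.ble 592 i)) (Nat.ble 591 i)) (Bool.rec (motive := fun _ => Nat) (Bool.rec (motive := fun _ => Nat) (1712) (Bool.rec (motive := fun _ => Nat) (410) (148) (Nat.ble 596 i)) (Nat.ble 595 i)) (Bool.rec (motive := fun _ => Nat) (Bool.rec (motive := fun _ => Nat) (746) (1571) (Nat.ble 598 i)) (Bool.rec (motive := fun _ => Nat) (2693) (2086) (Nat.ble 600 i)) (Nat.ble 599 i)) (Nat.ble 597 i)) (Nat.ble 594 i)) (Bool.rec (motive := fun _ => Nat) (Bool.rec (motive := fun _ => Nat) (Bool.rec (motive := fun _ => Nat) (701) (Bool.rec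 (motive := fun _ => Nat) (289) (2506) (Nat.ble 603 i)) (Nat.ble 602 i)) (Bool.rec (motive := fun _ => Nat) (288) (Bool.rec (motive := fun _ => Nat) (2483) (447) (Nat.ble 606 i)) (Nat.ble 605 i)) (Nat.ble 604 i)) (Bool.rec (motive := fun _ => Nat) (Bool.rec (motive := fun _ => Nat) (690) (Bool.rec (motive := fun _ => Nat) (1212) (2834) (Nat.ble 609 i)) (Nat.ble 608 i)) (Bool.rec (motive := fun _ => Nat) (Bool.rec (motive := fun _ => Nat) (2285) (2051) (Nat.ble 611 i)) (Bool.rec (motive := fun _ => Nat) (2344) (577) (Nat.ble 613 i)) (Nat.ble 612 i)) (Nat.ble 610 i)) (Nat.ble 607 i)) (Nat.ble 601 i)) (Nat.ble 588 i)) (Nat.ble 562 i)) (Nat.ble 511 i)) (Bool.rec (motive := fun _ => Nat) (Bool.rec (motive := fun _ => Nat) (Bool.rec (motive := fun _ => Nat) (Bool.rec (motive := fun _ => Nat) (Bool.rec (motive := fun _ => Nat) (Bool.rec (motive := fun _ => Nat) (Bool.rec (motive := fun _ => Nat) (1754) (Bool.rec (motive := fun _ => Nat) (2811) (2628)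 (Nat.ble 616 i)) (Nat.ble 615 i)) (Bool.rec (motive := fun _ => Nat) (2831) (Bool.rec (motive := fun _ => Nat) (2621) (1560) (Nat.ble 619 i)) (Nat.ble 618 i)) (Nat.ble 617 i)) (Bool.rec (motive := fun _ => Nat) (Bool.rec (motive := fun _ => Nat) (2632) (Bool.rec (motive := fun _ => Nat) (2612) (2064) (Nat.ble 622 i)) (Nat.ble 621 i)) (Bool.rec (motive := fun _ => Nat) (2634) (Bool.rec (motive := fun _ => Nat) (693) (2106) (Nat.ble 625 i)) (Nat.ble 624 i)) (Nat.ble 623 i)) (Nat.ble 620 i)) (Bool.rec (motive := fun _ => Nat) (Bool.rec (motive := fun _ => Nat) (Bool.rec (motive := fun _ => Nat) (2733) (Bool.rec (motive := fun _ => Nat) (2823) (2727) (Nat.ble 628 i)) (Nat.ble 627 i)) (Bool.rec (motive := fun _ => Nat) (2273) (Bool.rec (motive := fun _ => Nat) (2164) (187) (Nat.ble 631 i)) (Nat.ble 630 i)) (Nat.ble 629 i)) (Bool.rec (motive := fun _ => Nat) (Bool.rec (motive := fun _ => Nat) (2399) (Bool.rec (motive := fun _ => Nat) (2377) (2223)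 (Nat.ble 634 i)) (Nat.ble 633 i)) (Bool.rec (motive := fun _ => Nat) (Bool.rec (motive := fun _ => Nat) (252) (2855) (Nat.ble 636 i)) (Bool.rec (motive := fun _ => Nat) (1228) (2810) (Nat.ble 638 i)) (Nat.ble 637 i)) (Nat.ble 635 i)) (Nat.ble 632 i)) (Nat.ble 626 i)) (Bool.rec (motive := fun _ => Nat) (Bool.rec (motive := fun _ => Nat) (Bool.rec (motive := fun _ => Nat) (Bool.rec (motive := fun _ => Nat) (2444) (Bool.rec (motive := fun _ => Nat) (2099) (2723) (Nat.ble 641 i)) (Nat.ble 640 i)) (Bool.rec (motive := fun _ => Nat) (2503) (Bool.rec (motive := fun _ => Nat) (1322) (1624) (Nat.ble 644 i)) (Nat.ble 643 i)) (Nat.ble 642 i)) (Bool.rec (motive := fun _ => Nat) (Bool.rec (motive := fun _ => Nat) (26) (Bool.rec (motive := fun _ => Nat) (2060) (661) (Nat.ble 647 i)) (Nat.ble 646 i)) (Bool.rec (motive := fun _ => Nat) (Bool.rec (motive := fun _ => Nat) (1237) (791) (Nat.ble 649 i)) (Bool.rec (motive := fun _ => Nat) (1583) (2859) (Nat.ble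 651 i)) (Nat.ble 650 i)) (Nat.ble 648 i)) (Nat.ble 645 i)) (Bool.rec (motive := fun _ => Nat) (Bool.rec (motive := fun _ => Nat) (Bool.rec (motive := fun _ => Nat) (2235) (Bool.rec (motive := fun _ => Nat) (166) (1704) (Nat.ble 654 i)) (Nat.ble 653 i)) (Bool.rec (motive := fun _ => Nat) (2385) (Bool.rec (motive := fun _ => Nat) (2301) (89) (Nat.ble 657 i)) (Nat.ble 656 i)) (Nat.ble 655 i)) (Bool.rec (motive := fun _ => Nat) (Bool.rec (motive := fun _ => Nat) (2330) (Bool.rec (motive := fun _ => Nat) (258) (429) (Nat.ble 660 i)) (Nat.ble 659 i)) (Bool.rec (motive := fun _ => Nat) (Bool.rec (motive := fun _ => Nat) (2337) (2554) (Nat.ble 662 i)) (Bool.rec (motive := fun _ => Nat) (1113) (2212) (Nat.ble 664 i)) (Nat.ble 663 i)) (Nat.ble 661 i)) (Nat.ble 658 i)) (Nat.ble 652 i)) (Nat.ble 639 i)) (Bool.rec (motive := fun _ => Nat) (Bool.rec (motive := fun _ => Nat) (Bool.rec (motive := fun _ => Nat) (Bool.rec (motive := fun _ => Nat) (Bool.rec (motive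 := fun _ => Nat) (2116) (Bool.rec (motive := fun _ => Nat) (2144) (2599) (Nat.ble 667 i)) (Nat.ble 666 i)) (Bool.rec (motive := fun _ => Nat) (124) (Bool.rec (motive := fun _ => Nat) (2381) (546) (Nat.ble 670 i)) (Nat.ble 669 i)) (Nat.ble 668 i)) (Bool.rec (motive := fun _ => Nat) (Bool.rec (motive := fun _ => Nat) (1214) (Bool.rec (motive := fun _ => Nat) (2316) (759) (Nat.ble 673 i)) (Nat.ble 672 i)) (Bool.rec (motive := fun _ => Nat) (2784) (Bool.rec (motive := fun _ => Nat) (2716) (1118) (Nat.ble 676 i)) (Nat.ble 675 i)) (Nat.ble 674 i)) (Nat.ble 671 i)) (Bool.rec (motive := fun _ => Nat) (Bool.rec (motive := fun _ => Nat) (Bool.rec (motive := fun _ => Nat) (2647) (Bool.rec (motive := fun _ => Nat) (2571) (729) (Nat.ble 679 i)) (Nat.ble 678 i)) (Bool.rec (motive := fun _ => Nat) (22) (Bool.rec (motive := fun _ => Nat) (45) (2142) (Nat.ble 682 i)) (Nat.ble 681 i)) (Nat.ble 680 i)) (Bool.rec (motive := fun _ => Nat) (Bool.rec (motive := fun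 _ => Nat) (2798) (Bool.rec (motive := fun _ => Nat) (2281) (2464) (Nat.ble 685 i)) (Nat.ble 684 i)) (Bool.rec (motive := fun _ => Nat) (Bool.rec (motive := fun _ => Nat) (2702) (696) (Nat.ble 687 i)) (Bool.rec (motive := fun _ => Nat) (2070) (524) (Nat.ble 689 i)) (Nat.ble 688 i)) (Nat.ble 686 i)) (Nat.ble 683 i)) (Nat.ble 677 i)) (Bool.rec (motive := fun _ => Nat) (Bool.rec (motive := fun _ => Nat) (Bool.rec (motive := fun _ => Nat) (Bool.rec (motive := fun _ => Nat) (2135) (Bool.rec (motive := fun _ => Nat) (325) (2655) (Nat.ble 692 i)) (Nat.ble 691 i)) (Bool.rec (motive := fun _ => Nat) (2718) (Bool.rec (motive := fun _ => Nat) (213) (2745) (Nat.ble 695 i)) (Nat.ble 694 i)) (Nat.ble 693 i)) (Bool.rec (motive := fun _ => Nat) (Bool.rec (motive := fun _ => Nat) (2050) (Bool.rec (motive := fun _ => Nat) (1526) (1782) (Nat.ble 698 i)) (Nat.ble 697 i)) (Bool.rec (motive := fun _ => Nat) (Bool.rec (motive := fun _ => Nat) (2132) (2268) (Nat.ble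 700 i)) (Bool.rec (motive := fun _ => Nat) (2071) (2272) (Nat.ble 702 i)) (Nat.ble 701 i)) (Nat.ble 699 i)) (Nat.ble 696 i)) (Bool.rec (motive := fun _ => Nat) (Bool.rec (motive := fun _ => Nat) (Bool.rec (motive := fun _ => Nat) (1717) (Bool.rec (motive := fun _ => Nat) (321) (2403) (Nat.ble 705 i)) (Nat.ble 704 i)) (Bool.rec (motive := fun _ => Nat) (2203) (Bool.rec (motive := fun _ => Nat) (1538) (2088) (Nat.ble 708 i)) (Nat.ble 707 i)) (Nat.ble 706 i)) (Bool.rec (motive := fun _ => Nat) (Bool.rec (motive := fun _ => Nat) (2708) (Bool.rec (motive := fun _ => Nat) (2251) (1541) (Nat.ble 711 i)) (Nat.ble 710 i)) (Bool.rec (motive := fun _ => Nat) (Bool.rec (motive := fun _ => Nat) (1453) (2413) (Nat.ble 713 i)) (Bool.rec (motive := fun _ => Nat) (2475) (2270) (Nat.ble 715 i)) (Nat.ble 714 i)) (Nat.ble 712 i)) (Nat.ble 709 i)) (Nat.ble 703 i)) (Nat.ble 690 i)) (Nat.ble 665 i)) (Bool.rec (motive := fun _ => Nat) (Bool.rec (motive := fun _ =>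 Nat) (Bool.rec (motive := fun _ => Nat) (Bool.rec (motive := fun _ => Nat) (Bool.rec (motive := fun _ => Nat) (Bool.rec (motive := fun _ => Nat) (2692) (Bool.rec (motive := fun _ => Nat) (2208) (2629) (Nat.ble 718 i)) (Nat.ble 717 i)) (Bool.rec (motive := fun _ => Nat) (536) (Bool.rec (motive := fun _ => Nat) (2594) (2822) (Nat.ble 721 i)) (Nat.ble 720 i)) (Nat.ble 719 i)) (Bool.rec (motive := fun _ => Nat) (Bool.rec (motive := fun _ => Nat) (2390) (Bool.rec (motive := fun _ => Nat) (688) (2254) (Nat.ble 724 i)) (Nat.ble 723 i)) (Bool.rec (motive := fun _ => Nat) (1346) (Bool.rec (motive := fun _ => Nat) (798) (1783) (Nat.ble 727 i)) (Nat.ble 726 i)) (Nat.ble 725 i)) (Nat.ble 722 i)) (Bool.rec (motive := fun _ => Nat) (Bool.rec (motive := fun _ => Nat) (Bool.rec (motive := fun _ => Nat) (51) (Bool.rec (motive := fun _ => Nat) (2101) (2746) (Nat.ble 730 i)) (Nat.ble 729 i)) (Bool.rec (motive := fun _ => Nat) (1271) (Bool.rec (motive := fun _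 => Nat) (2551) (2185) (Nat.ble 733 i)) (Nat.ble 732 i)) (Nat.ble 731 i)) (Bool.rec (motive := fun _ => Nat) (Bool.rec (motive := fun _ => Nat) (2604) (Bool.rec (motive := fun _ => Nat) (1506) (2592) (Nat.ble 736 i)) (Nat.ble 735 i)) (Bool.rec (motive := fun _ => Nat) (Bool.rec (motive := fun _ => Nat) (2691) (2575) (Nat.ble 738 i)) (Bool.rec (motive := fun _ => Nat) (483) (2383) (Nat.ble 740 i)) (Nat.ble 739 i)) (Nat.ble 737 i)) (Nat.ble 734 i)) (Nat.ble 728 i)) (Bool.rec (motive := fun _ => Nat) (Bool.rec (motive := fun _ => Nat) (Bool.rec (motive := fun _ => Nat) (Bool.rec (motive := fun _ => Nat) (2432) (Bool.rec (motive := fun _ => Nat) (1349) (2322) (Nat.ble 743 i)) (Nat.ble 742 i)) (Bool.rec (motive := fun _ => Nat) (2715) (Bool.rec (motive := fun _ => Nat) (282) (2728) (Nat.ble 746 i)) (Nat.ble 745 i)) (Nat.ble 744 i)) (Bool.rec (motive := fun _ => Nat) (Bool.rec (motive := fun _ => Nat) (2780) (Bool.rec (motive := fun _ => Nat) (1331)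 (2292) (Nat.ble 749 i)) (Nat.ble 748 i)) (Bool.rec (motive := fun _ => Nat) (Bool.rec (motive := fun _ => Nat) (1142) (2814) (Nat.ble 751 i)) (Bool.rec (motive := fun _ => Nat) (2670) (2310) (Nat.ble 753 i)) (Nat.ble 752 i)) (Nat.ble 750 i)) (Nat.ble 747 i)) (Bool.rec (motive := fun _ => Nat) (Bool.rec (motive := fun _ => Nat) (Bool.rec (motive := fun _ => Nat) (2415) (Bool.rec (motive := fun _ => Nat) (1145) (2326) (Nat.ble 756 i)) (Nat.ble 755 i)) (Bool.rec (motive := fun _ => Nat) (2461) (Bool.rec (motive := fun _ => Nat) (15) (2087) (Nat.ble 759 i)) (Nat.ble 758 i)) (Nat.ble 757 i)) (Bool.rec (motive := fun _ => Nat) (Bool.rec (motive := fun _ => Nat) (680) (Bool.rec (motive := fun _ => Nat) (2407) (1345) (Nat.ble 762 i)) (Nat.ble 761 i)) (Bool.rec (motive := fun _ => Nat) (Bool.rec (motive := fun _ => Nat) (110) (2760) (Nat.ble 764 i)) (Bool.rec (motive := fun _ => Nat) (1276) (778) (Nat.ble 766 i)) (Nat.ble 765 i)) (Nat.ble 763 i)) (Nat.ble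 760 i)) (Nat.ble 754 i)) (Nat.ble 741 i)) (Bool.rec (motive := fun _ => Nat) (Bool.rec (motive := fun _ => Nat) (Bool.rec (motive := fun _ => Nat) (Bool.rec (motive := fun _ => Nat) (Bool.rec (motive := fun _ => Nat) (159) (Bool.rec (motive := fun _ => Nat) (2439) (743) (Nat.ble 769 i)) (Nat.ble 768 i)) (Bool.rec (motive := fun _ => Nat) (1706) (Bool.rec (motive := fun _ => Nat) (1277) (1437) (Nat.ble 772 i)) (Nat.ble 771 i)) (Nat.ble 770 i)) (Bool.rec (motive := fun _ => Nat) (Bool.rec (motive := fun _ => Nat) (362) (Bool.rec (motive := fun _ => Nat) (106) (1714) (Nat.ble 775 i)) (Nat.ble 774 i)) (Bool.rec (motive := fun _ => Nat) (Bool.rec (motive := fun _ => Nat) (2136) (2600) (Nat.ble 777 i)) (Bool.rec (motive := fun _ => Nat) (2309) (1328) (Nat.ble 779 i)) (Nat.ble 778 i)) (Nat.ble 776 i)) (Nat.ble 773 i)) (Bool.rec (motive := fun _ => Nat) (Bool.rec (motive := fun _ => Nat) (Bool.rec (motive := fun _ => Nat) (2485) (Bool.rec (motive :=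 fun _ => Nat) (2102) (1172) (Nat.ble 782 i)) (Nat.ble 781 i)) (Bool.rec (motive := fun _ => Nat) (2244) (Bool.rec (motive := fun _ => Nat) (547) (1334) (Nat.ble 785 i)) (Nat.ble 784 i)) (Nat.ble 783 i)) (Bool.rec (motive := fun _ => Nat) (Bool.rec (motive := fun _ => Nat) (2555) (Bool.rec (motive := fun _ => Nat) (333) (2376) (Nat.ble 788 i)) (Nat.ble 787 i)) (Bool.rec (motive := fun _ => Nat) (Bool.rec (motive := fun _ => Nat) (2714) (2538) (Nat.ble 790 i)) (Bool.rec (motive := fun _ => Nat) (2196) (1282) (Nat.ble 792 i)) (Nat.ble 791 i)) (Nat.ble 789 i)) (Nat.ble 786 i)) (Nat.ble 780 i)) (Bool.rec (motive := fun _ => Nat) (Bool.rec (motive := fun _ => Nat) (Bool.rec (motive := fun _ => Nat) (Bool.rec (motive := fun _ => Nat) (2198) (Bool.rec (motive := fun _ => Nat) (121) (1710) (Nat.ble 795 i)) (Nat.ble 794 i)) (Bool.rec (motive := fun _ => Nat) (1281) (Bool.rec (motive := fun _ => Nat) (1273) (646) (Nat.ble 798 i)) (Nat.ble 797 i)) (Nat.ble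 796 i)) (Bool.rec (motive := fun _ => Nat) (Bool.rec (motive := fun _ => Nat) (1434) (Bool.rec (motive := fun _ => Nat) (2574) (2773) (Nat.ble 801 i)) (Nat.ble 800 i)) (Bool.rec (motive := fun _ => Nat) (Bool.rec (motive := fun _ => Nat) (2608) (2440) (Nat.ble 803 i)) (Bool.rec (motive := fun _ => Nat) (2131) (2317) (Nat.ble 805 i)) (Nat.ble 804 i)) (Nat.ble 802 i)) (Nat.ble 799 i)) (Bool.rec (motive := fun _ => Nat) (Bool.rec (motive := fun _ => Nat) (Bool.rec (motive := fun _ => Nat) (1218) (Bool.rec (motive := fun _ => Nat) (219) (2606) (Nat.ble 808 i)) (Nat.ble 807 i)) (Bool.rec (motive := fun _ => Nat) (2378) (Bool.rec (motive := fun _ => Nat) (1436) (1211) (Nat.ble 811 i)) (Nat.ble 810 i)) (Nat.ble 809 i)) (Bool.rec (motive := fun _ => Nat) (Bool.rec (motive := fun _ => Nat) (2818) (Bool.rec (motive := fun _ => Nat) (2175) (2174) (Nat.ble 814 i)) (Nat.ble 813 i)) (Bool.rec (motive := fun _ => Nat) (Bool.rec (motive := fun _ => Nat) (1507)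 (2121) (Nat.ble 816 i)) (Bool.rec (motive := fun _ => Nat) (2482) (2269) (Nat.ble 818 i)) (Nat.ble 817 i)) (Nat.ble 815 i)) (Nat.ble 812 i)) (Nat.ble 806 i)) (Nat.ble 793 i)) (Nat.ble 767 i)) (Nat.ble 716 i)) (Nat.ble 614 i)) (Nat.ble 409 i))

/-- Stabilising words of node 5. -/
def tGen5 : List (List Nat) := [[6, 8, 6, 4, 6, 4, 2, 0, 8, 6, 4, 2, 6, 4, 7, 1], [2, 0, 4, 2, 8], [4, 6, 8, 6, 4, 2, 0, 6, 4, 11, 11, 8, 6, 11, 3, 5, 7, 9, 10, 12, 7, 1]]

/-- Roots at node 5. -/
def tRoot5 : List Nat := [0, 1, 2, 4, 5, 7, 8, 9, 11, 12, 13, 15, 16, 20, 21, 22, 23, 26, 28, 41]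

/-- Forest of the points at node 6. -/
noncomputable def tPar6 (i : Nat) : Nat := (Bool.rec (motive := fun _ => Nat) (Bool.rec (motive := fun _ => Nat) (Bool.rec (motive := fun _ => Nat) (Bool.rec (motive := fun _ => Nat) (Bool.rec (motive := fun _ => Nat) (Bool.rec (motive := fun _ => Nat) (Bool.rec (motive := fun _ => Nat) (Bool.rec (motive := fun _ => Nat) (Bool.rec (motive := fun _ => Nat) (15360) (Bool.rec (motive := fun _ => Nat) (15361) (15362) (Nat.ble 2 i)) (Nat.ble 1 i)) (Bool.rec (motive := fun _ => Nat) (1026) (Bool.rec (motive := fun _ => Nat) (15364) (15365) (Nat.ble 5 i)) (Nat.ble 4 i)) (Nat.ble 3 i)) (Bool.rec (motive := fun _ => Nat) (Bool.rec (motive := fun _ => Nat) (0) (Bool.rec (motive := fun _ => Nat) (15367) (15368) (Nat.ble 8 i)) (Nat.ble 7 i)) (Bool.rec (motive := fun _ => Nat) (15369) (Bool.rec (motive := fun _ => Nat) (15370) (15371) (Nat.ble 11 i)) (Nat.ble 10 i)) (Nat.ble 9 i)) (Nat.ble 6 i)) (Bool.rec (motive :=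 fun _ => Nat) (Bool.rec (motive := fun _ => Nat) (Bool.rec (motive := fun _ => Nat) (15372) (Bool.rec (motive := fun _ => Nat) (15373) (19) (Nat.ble 14 i)) (Nat.ble 13 i)) (Bool.rec (motive := fun _ => Nat) (15375) (Bool.rec (motive := fun _ => Nat) (15376) (15377) (Nat.ble 17 i)) (Nat.ble 16 i)) (Nat.ble 15 i)) (Bool.rec (motive := fun _ => Nat) (Bool.rec (motive := fun _ => Nat) (1037) (Bool.rec (motive := fun _ => Nat) (1033) (15380) (Nat.ble 20 i)) (Nat.ble 19 i)) (Bool.rec (motive := fun _ => Nat) (Bool.rec (motive := fun _ => Nat) (15381) (15382) (Nat.ble 22 i)) (Bool.rec (motive := fun _ => Nat) (15383) (10) (Nat.ble 24 i)) (Nat.ble 23 i)) (Nat.ble 21 i)) (Nat.ble 18 i)) (Nat.ble 12 i)) (Bool.rec (motive := fun _ => Nat) (Bool.rec (motive := fun _ => Nat) (Bool.rec (motive := fun _ => Nat) (Bool.rec (motive := fun _ => Nat) (8) (Bool.rec (motive := fun _ => Nat) (15386) (15387) (Nat.ble 27 i)) (Nat.ble 26 i)) (Bool.rec (motive := fun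 _ => Nat) (15388) (Bool.rec (motive := fun _ => Nat) (15389) (15390) (Nat.ble 30 i)) (Nat.ble 29 i)) (Nat.ble 28 i)) (Bool.rec (motive := fun _ => Nat) (Bool.rec (motive := fun _ => Nat) (15391) (Bool.rec (motive := fun _ => Nat) (1036) (6) (Nat.ble 33 i)) (Nat.ble 32 i)) (Bool.rec (motive := fun _ => Nat) (Bool.rec (motive := fun _ => Nat) (1047) (15395) (Nat.ble 35 i)) (Bool.rec (motive := fun _ => Nat) (15396) (315) (Nat.ble 37 i)) (Nat.ble 36 i)) (Nat.ble 34 i)) (Nat.ble 31 i)) (Bool.rec (motive := fun _ => Nat) (Bool.rec (motive := fun _ => Nat) (Bool.rec (motive := fun _ => Nat) (1029) (Bool.rec (motive := fun _ => Nat) (7) (15400) (Nat.ble 40 i)) (Nat.ble 39 i)) (Bool.rec (motive := fun _ => Nat) (15401) (Bool.rec (motive := fun _ => Nat) (15402) (15403) (Nat.ble 43 i)) (Nat.ble 42 i)) (Nat.ble 41 i)) (Bool.rec (motive := fun _ => Nat) (Bool.rec (motive := fun _ => Nat) (15404) (Bool.rec (motive := fun _ => Nat) (15405) (17) (Nat.ble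 46 i)) (Nat.ble 45 i)) (Bool.rec (motive := fun _ => Nat) (Bool.rec (motive := fun _ => Nat) (4) (15408) (Nat.ble 48 i)) (Bool.rec (motive := fun _ => Nat) (15409) (11) (Nat.ble 50 i)) (Nat.ble 49 i)) (Nat.ble 47 i)) (Nat.ble 44 i)) (Nat.ble 38 i)) (Nat.ble 25 i)) (Bool.rec (motive := fun _ => Nat) (Bool.rec (motive := fun _ => Nat) (Bool.rec (motive := fun _ => Nat) (Bool.rec (motive := fun _ => Nat) (Bool.rec (motive := fun _ => Nat) (15411) (Bool.rec (motive := fun _ => Nat) (15412) (15413) (Nat.ble 53 i)) (Nat.ble 52 i)) (Bool.rec (motive := fun _ => Nat) (15414) (Bool.rec (motive := fun _ => Nat) (15415) (15416) (Nat.ble 56 i)) (Nat.ble 55 i)) (Nat.ble 54 i)) (Bool.rec (motive := fun _ => Nat) (Bool.rec (motive := fun _ => Nat) (1044) (Bool.rec (motive := fun _ => Nat) (24) (1031) (Nat.ble 59 i)) (Nat.ble 58 i)) (Bool.rec (motive := fun _ => Nat) (15420) (Bool.rec (motive := fun _ => Nat) (1151) (1072) (Nat.ble 62 i)) (Nat.ble 61 i)) (Nat.ble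 60 i)) (Nat.ble 57 i)) (Bool.rec (motive := fun _ => Nat) (Bool.rec (motive := fun _ => Nat) (Bool.rec (motive := fun _ => Nat) (1073) (Bool.rec (motive := fun _ => Nat) (15424) (15425) (Nat.ble 65 i)) (Nat.ble 64 i)) (Bool.rec (motive := fun _ => Nat) (1032) (Bool.rec (motive := fun _ => Nat) (25) (1052) (Nat.ble 68 i)) (Nat.ble 67 i)) (Nat.ble 66 i)) (Bool.rec (motive := fun _ => Nat) (Bool.rec (motive := fun _ => Nat) (1053) (Bool.rec (motive := fun _ => Nat) (5) (15431) (Nat.ble 71 i)) (Nat.ble 70 i)) (Bool.rec (motive := fun _ => Nat) (Bool.rec (motive := fun _ => Nat) (15432) (15433) (Nat.ble 73 i)) (Bool.rec (motive := fun _ => Nat) (15434) (15435) (Nat.ble 75 i)) (Nat.ble 74 i)) (Nat.ble 72 i)) (Nat.ble 69 i)) (Nat.ble 63 i)) (Bool.rec (motive := fun _ => Nat) (Bool.rec (motive := fun _ => Nat) (Bool.rec (motive := fun _ => Nat) (Bool.rec (motive := fun _ => Nat) (15436) (Bool.rec (motive := fun _ => Nat) (1) (62) (Nat.ble 78 i)) (Nat.ble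 77 i)) (Bool.rec (motive := fun _ => Nat) (15439) (Bool.rec (motive := fun _ => Nat) (3) (15441) (Nat.ble 81 i)) (Nat.ble 80 i)) (Nat.ble 79 i)) (Bool.rec (motive := fun _ => Nat) (Bool.rec (motive := fun _ => Nat) (15442) (Bool.rec (motive := fun _ => Nat) (35) (1060) (Nat.ble 84 i)) (Nat.ble 83 i)) (Bool.rec (motive := fun _ => Nat) (Bool.rec (motive := fun _ => Nat) (1089) (64) (Nat.ble 86 i)) (Bool.rec (motive := fun _ => Nat) (47) (15448) (Nat.ble 88 i)) (Nat.ble 87 i)) (Nat.ble 85 i)) (Nat.ble 82 i)) (Bool.rec (motive := fun _ => Nat) (Bool.rec (motive := fun _ => Nat) (Bool.rec (motive := fun _ => Nat) (15449) (Bool.rec (motive := fun _ => Nat) (15450) (15451) (Nat.ble 91 i)) (Nat.ble 90 i)) (Bool.rec (motive := fun _ => Nat) (15452) (Bool.rec (motive := fun _ => Nat) (15453) (15454) (Nat.ble 94 i)) (Nat.ble 93 i)) (Nat.ble 92 i)) (Bool.rec (motive := fun _ => Nat) (Bool.rec (motive := fun _ => Nat) (15455) (Bool.rec (motive := fun _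 => Nat) (46) (1035) (Nat.ble 97 i)) (Nat.ble 96 i)) (Bool.rec (motive := fun _ => Nat) (Bool.rec (motive := fun _ => Nat) (1066) (1067) (Nat.ble 99 i)) (Bool.rec (motive := fun _ => Nat) (349) (1103) (Nat.ble 101 i)) (Nat.ble 100 i)) (Nat.ble 98 i)) (Nat.ble 95 i)) (Nat.ble 89 i)) (Nat.ble 76 i)) (Nat.ble 51 i)) (Bool.rec (motive := fun _ => Nat) (Bool.rec (motive := fun _ => Nat) (Bool.rec (motive := fun _ => Nat) (Bool.rec (motive := fun _ => Nat) (Bool.rec (motive := fun _ => Nat) (Bool.rec (motive := fun _ => Nat) (15462) (Bool.rec (motive := fun _ => Nat) (1152) (70) (Nat.ble 104 i)) (Nat.ble 103 i)) (Bool.rec (motive := fun _ => Nat) (1077) (Bool.rec (motive := fun _ => Nat) (1078) (39) (Nat.ble 107 i)) (Nat.ble 106 i)) (Nat.ble 105 i)) (Bool.rec (motive := fun _ => Nat) (Bool.rec (motive := fun _ => Nat) (15468) (Bool.rec (motive := fun _ => Nat) (15469) (1039) (Nat.ble 110 i)) (Nat.ble 109 i)) (Bool.rec (motive := fun _ => Nat) (1040)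 (Bool.rec (motive := fun _ => Nat) (1055) (1054) (Nat.ble 113 i)) (Nat.ble 112 i)) (Nat.ble 111 i)) (Nat.ble 108 i)) (Bool.rec (motive := fun _ => Nat) (Bool.rec (motive := fun _ => Nat) (Bool.rec (motive := fun _ => Nat) (66) (Bool.rec (motive := fun _ => Nat) (15475) (15476) (Nat.ble 116 i)) (Nat.ble 115 i)) (Bool.rec (motive := fun _ => Nat) (15477) (Bool.rec (motive := fun _ => Nat) (15478) (15479) (Nat.ble 119 i)) (Nat.ble 118 i)) (Nat.ble 117 i)) (Bool.rec (motive := fun _ => Nat) (Bool.rec (motive := fun _ => Nat) (15480) (Bool.rec (motive := fun _ => Nat) (15481) (15482) (Nat.ble 122 i)) (Nat.ble 121 i)) (Bool.rec (motive := fun _ => Nat) (Bool.rec (motive := fun _ => Nat) (2) (15484) (Nat.ble 124 i)) (Bool.rec (motive := fun _ => Nat) (1460) (60) (Nat.ble 126 i)) (Nat.ble 125 i)) (Nat.ble 123 i)) (Nat.ble 120 i)) (Nat.ble 114 i)) (Bool.rec (motive := fun _ => Nat) (Bool.rec (motive := fun _ => Nat) (Bool.rec (motive := fun _ => Nat)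 (Bool.rec (motive := fun _ => Nat) (36) (Bool.rec (motive := fun _ => Nat) (65) (102) (Nat.ble 129 i)) (Nat.ble 128 i)) (Bool.rec (motive := fun _ => Nat) (77) (Bool.rec (motive := fun _ => Nat) (13) (15492) (Nat.ble 132 i)) (Nat.ble 131 i)) (Nat.ble 130 i)) (Bool.rec (motive := fun _ => Nat) (Bool.rec (motive := fun _ => Nat) (15493) (Bool.rec (motive := fun _ => Nat) (15494) (15495) (Nat.ble 135 i)) (Nat.ble 134 i)) (Bool.rec (motive := fun _ => Nat) (Bool.rec (motive := fun _ => Nat) (15496) (15497) (Nat.ble 137 i)) (Bool.rec (motive := fun _ => Nat) (15498) (15499) (Nat.ble 139 i)) (Nat.ble 138 i)) (Nat.ble 136 i)) (Nat.ble 133 i)) (Bool.rec (motive := fun _ => Nat) (Bool.rec (motive := fun _ => Nat) (Bool.rec (motive := fun _ => Nat) (123) (Bool.rec (motive := fun _ => Nat) (15501) (15502) (Nat.ble 142 i)) (Nat.ble 141 i)) (Bool.rec (motive := fun _ => Nat) (15503) (Bool.rec (motive := fun _ => Nat) (15504) (15505) (Nat.ble 145 i)) (Nat.ble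 144 i)) (Nat.ble 143 i)) (Bool.rec (motive := fun _ => Nat) (Bool.rec (motive := fun _ => Nat) (15506) (Bool.rec (motive := fun _ => Nat) (15507) (15508) (Nat.ble 148 i)) (Nat.ble 147 i)) (Bool.rec (motive := fun _ => Nat) (Bool.rec (motive := fun _ => Nat) (15509) (15510) (Nat.ble 150 i)) (Bool.rec (motive := fun _ => Nat) (15511) (15512) (Nat.ble 152 i)) (Nat.ble 151 i)) (Nat.ble 149 i)) (Nat.ble 146 i)) (Nat.ble 140 i)) (Nat.ble 127 i)) (Bool.rec (motive := fun _ => Nat) (Bool.rec (motive := fun _ => Nat) (Bool.rec (motive := fun _ => Nat) (Bool.rec (motive := fun _ => Nat) (Bool.rec (motive := fun _ => Nat) (15513) (Bool.rec (motive := fun _ => Nat) (15514) (15515) (Nat.ble 155 i)) (Nat.ble 154 i)) (Bool.rec (motive := fun _ => Nat) (15516) (Bool.rec (motive := fun _ => Nat) (1097) (1098) (Nat.ble 158 i)) (Nat.ble 157 i)) (Nat.ble 156 i)) (Bool.rec (motive := fun _ => Nat) (Bool.rec (motive := fun _ => Nat) (1045) (Bool.rec (motive := fun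 _ => Nat) (1046) (1069) (Nat.ble 161 i)) (Nat.ble 160 i)) (Bool.rec (motive := fun _ => Nat) (1068) (Bool.rec (motive := fun _ => Nat) (50) (15524) (Nat.ble 164 i)) (Nat.ble 163 i)) (Nat.ble 162 i)) (Nat.ble 159 i)) (Bool.rec (motive := fun _ => Nat) (Bool.rec (motive := fun _ => Nat) (Bool.rec (motive := fun _ => Nat) (15525) (Bool.rec (motive := fun _ => Nat) (1050) (1051) (Nat.ble 167 i)) (Nat.ble 166 i)) (Bool.rec (motive := fun _ => Nat) (1080) (Bool.rec (motive := fun _ => Nat) (1079) (38) (Nat.ble 170 i)) (Nat.ble 169 i)) (Nat.ble 168 i)) (Bool.rec (motive := fun _ => Nat) (Bool.rec (motive := fun _ => Nat) (15531) (Bool.rec (motive := fun _ => Nat) (15532) (1165) (Nat.ble 173 i)) (Nat.ble 172 i)) (Bool.rec (motive := fun _ => Nat) (Bool.rec (motive := fun _ => Nat) (15534) (15535) (Nat.ble 175 i)) (Bool.rec (motive := fun _ => Nat) (1166) (15537) (Nat.ble 177 i)) (Nat.ble 176 i)) (Nat.ble 174 i)) (Nat.ble 171 i)) (Nat.ble 165 i)) (Bool.rec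 (motive := fun _ => Nat) (Bool.rec (motive := fun _ => Nat) (Bool.rec (motive := fun _ => Nat) (Bool.rec (motive := fun _ => Nat) (15538) (Bool.rec (motive := fun _ => Nat) (59) (1158) (Nat.ble 180 i)) (Nat.ble 179 i)) (Bool.rec (motive := fun _ => Nat) (1161) (Bool.rec (motive := fun _ => Nat) (15542) (15543) (Nat.ble 183 i)) (Nat.ble 182 i)) (Nat.ble 181 i)) (Bool.rec (motive := fun _ => Nat) (Bool.rec (motive := fun _ => Nat) (15544) (Bool.rec (motive := fun _ => Nat) (15545) (15546) (Nat.ble 186 i)) (Nat.ble 185 i)) (Bool.rec (motive := fun _ => Nat) (Bool.rec (motive := fun _ => Nat) (15547) (15548) (Nat.ble 188 i)) (Bool.rec (motive := fun _ => Nat) (15549) (15550) (Nat.ble 190 i)) (Nat.ble 189 i)) (Nat.ble 187 i)) (Nat.ble 184 i)) (Bool.rec (motive := fun _ => Nat) (Bool.rec (motive := fun _ => Nat) (Bool.rec (motive := fun _ => Nat) (15551) (Bool.rec (motive := fun _ => Nat) (15552) (15553) (Nat.ble 193 i)) (Nat.ble 192 i)) (Bool.rec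 (motive := fun _ => Nat) (15554) (Bool.rec (motive := fun _ => Nat) (15555) (1063) (Nat.ble 196 i)) (Nat.ble 195 i)) (Nat.ble 194 i)) (Bool.rec (motive := fun _ => Nat) (Bool.rec (motive := fun _ => Nat) (23) (Bool.rec (motive := fun _ => Nat) (1648) (15559) (Nat.ble 199 i)) (Nat.ble 198 i)) (Bool.rec (motive := fun _ => Nat) (Bool.rec (motive := fun _ => Nat) (190) (15561) (Nat.ble 201 i)) (Bool.rec (motive := fun _ => Nat) (15562) (753) (Nat.ble 203 i)) (Nat.ble 202 i)) (Nat.ble 200 i)) (Nat.ble 197 i)) (Nat.ble 191 i)) (Nat.ble 178 i)) (Nat.ble 153 i)) (Nat.ble 102 i)) (Bool.rec (motive := fun _ => Nat) (Bool.rec (motive := fun _ => Nat) (Bool.rec (motive := fun _ => Nat) (Bool.rec (motive := fun _ => Nat) (Bool.rec (motive := fun _ => Nat) (Bool.rec (motive := fun _ => Nat) (Bool.rec (motive := fun _ => Nat) (1661) (Bool.rec (motive := fun _ => Nat) (1662) (1147) (Nat.ble 206 i)) (Nat.ble 205 i)) (Bool.rec (motive := fun _ => Nat) (1339)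 (Bool.rec (motive := fun _ => Nat) (445) (425) (Nat.ble 209 i)) (Nat.ble 208 i)) (Nat.ble 207 i)) (Bool.rec (motive := fun _ => Nat) (Bool.rec (motive := fun _ => Nat) (126) (Bool.rec (motive := fun _ => Nat) (84) (15572) (Nat.ble 212 i)) (Nat.ble 211 i)) (Bool.rec (motive := fun _ => Nat) (15573) (Bool.rec (motive := fun _ => Nat) (15574) (674) (Nat.ble 215 i)) (Nat.ble 214 i)) (Nat.ble 213 i)) (Nat.ble 210 i)) (Bool.rec (motive := fun _ => Nat) (Bool.rec (motive := fun _ => Nat) (Bool.rec (motive := fun _ => Nat) (15576) (Bool.rec (motive := fun _ => Nat) (15577) (1320) (Nat.ble 218 i)) (Nat.ble 217 i)) (Bool.rec (motive := fun _ => Nat) (807) (Bool.rec (motive := fun _ => Nat) (120) (15581) (Nat.ble 221 i)) (Nat.ble 220 i)) (Nat.ble 219 i)) (Bool.rec (motive := fun _ => Nat) (Bool.rec (motive := fun _ => Nat) (1318) (Bool.rec (motive := fun _ => Nat) (182) (1504) (Nat.ble 224 i)) (Nat.ble 223 i)) (Bool.rec (motive := fun _ => Nat) (Bool.rec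 (motive := fun _ => Nat) (1321) (287) (Nat.ble 226 i)) (Bool.rec (motive := fun _ => Nat) (610) (1132) (Nat.ble 228 i)) (Nat.ble 227 i)) (Nat.ble 225 i)) (Nat.ble 222 i)) (Nat.ble 216 i)) (Bool.rec (motive := fun _ => Nat) (Bool.rec (motive := fun _ => Nat) (Bool.rec (motive := fun _ => Nat) (Bool.rec (motive := fun _ => Nat) (499) (Bool.rec (motive := fun _ => Nat) (15590) (1133) (Nat.ble 231 i)) (Nat.ble 230 i)) (Bool.rec (motive := fun _ => Nat) (15592) (Bool.rec (motive := fun _ => Nat) (223) (15594) (Nat.ble 234 i)) (Nat.ble 233 i)) (Nat.ble 232 i)) (Bool.rec (motive := fun _ => Nat) (Bool.rec (motive := fun _ => Nat) (15595) (Bool.rec (motive := fun _ => Nat) (296) (15597) (Nat.ble 237 i)) (Nat.ble 236 i)) (Bool.rec (motive := fun _ => Nat) (Bool.rec (motive := fun _ => Nat) (15598) (271) (Nat.ble 239 i)) (Bool.rec (motive := fun _ => Nat) (15600) (401) (Nat.ble 241 i)) (Nat.ble 240 i)) (Nat.ble 238 i)) (Nat.ble 235 i)) (Bool.rec (motive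 := fun _ => Nat) (Bool.rec (motive := fun _ => Nat) (Bool.rec (motive := fun _ => Nat) (15602) (Bool.rec (motive := fun _ => Nat) (15603) (29) (Nat.ble 244 i)) (Nat.ble 243 i)) (Bool.rec (motive := fun _ => Nat) (1808) (Bool.rec (motive := fun _ => Nat) (1694) (15607) (Nat.ble 247 i)) (Nat.ble 246 i)) (Nat.ble 245 i)) (Bool.rec (motive := fun _ => Nat) (Bool.rec (motive := fun _ => Nat) (1817) (Bool.rec (motive := fun _ => Nat) (340) (74) (Nat.ble 250 i)) (Nat.ble 249 i)) (Bool.rec (motive := fun _ => Nat) (Bool.rec (motive := fun _ => Nat) (15611) (1789) (Nat.ble 252 i)) (Bool.rec (motive := fun _ => Nat) (40) (374) (Nat.ble 254 i)) (Nat.ble 253 i)) (Nat.ble 251 i)) (Nat.ble 248 i)) (Nat.ble 242 i)) (Nat.ble 229 i)) (Bool.rec (motive := fun _ => Nat) (Bool.rec (motive := fun _ => Nat) (Bool.rec (motive := fun _ => Nat) (Bool.rec (motive := fun _ => Nat) (Bool.rec (motive := fun _ => Nat) (15615) (Bool.rec (motive := fun _ => Nat) (30) (15617)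 (Nat.ble 257 i)) (Nat.ble 256 i)) (Bool.rec (motive := fun _ => Nat) (15618) (Bool.rec (motive := fun _ => Nat) (15619) (1064) (Nat.ble 260 i)) (Nat.ble 259 i)) (Nat.ble 258 i)) (Bool.rec (motive := fun _ => Nat) (Bool.rec (motive := fun _ => Nat) (1065) (Bool.rec (motive := fun _ => Nat) (1100) (1099) (Nat.ble 263 i)) (Nat.ble 262 i)) (Bool.rec (motive := fun _ => Nat) (1049) (Bool.rec (motive := fun _ => Nat) (15625) (258) (Nat.ble 266 i)) (Nat.ble 265 i)) (Nat.ble 264 i)) (Nat.ble 261 i)) (Bool.rec (motive := fun _ => Nat) (Bool.rec (motive := fun _ => Nat) (Bool.rec (motive := fun _ => Nat) (493) (Bool.rec (motive := fun _ => Nat) (783) (793) (Nat.ble 269 i)) (Nat.ble 268 i)) (Bool.rec (motive := fun _ => Nat) (489) (Bool.rec (motive := fun _ => Nat) (194) (247) (Nat.ble 272 i)) (Nat.ble 271 i)) (Nat.ble 270 i)) (Bool.rec (motive := fun _ => Nat) (Bool.rec (motive := fun _ => Nat) (97) (Bool.rec (motive := fun _ => Nat) (1224) (330) (Nat.ble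 275 i)) (Nat.ble 274 i)) (Bool.rec (motive := fun _ => Nat) (Bool.rec (motive := fun _ => Nat) (609) (752) (Nat.ble 277 i)) (Bool.rec (motive := fun _ => Nat) (813) (605) (Nat.ble 279 i)) (Nat.ble 278 i)) (Nat.ble 276 i)) (Nat.ble 273 i)) (Nat.ble 267 i)) (Bool.rec (motive := fun _ => Nat) (Bool.rec (motive := fun _ => Nat) (Bool.rec (motive := fun _ => Nat) (Bool.rec (motive := fun _ => Nat) (15640) (Bool.rec (motive := fun _ => Nat) (15641) (1256) (Nat.ble 282 i)) (Nat.ble 281 i)) (Bool.rec (motive := fun _ => Nat) (119) (Bool.rec (motive := fun _ => Nat) (301) (603) (Nat.ble 285 i)) (Nat.ble 284 i)) (Nat.ble 283 i)) (Bool.rec (motive := fun _ => Nat) (Bool.rec (motive := fun _ => Nat) (1254) (Bool.rec (motive := fun _ => Nat) (195) (604) (Nat.ble 288 i)) (Nat.ble 287 i)) (Bool.rec (motive := fun _ => Nat) (Bool.rec (motive := fun _ => Nat) (602) (1236) (Nat.ble 290 i)) (Bool.rec (motive := fun _ => Nat) (501) (81) (Nat.ble 292 i)) (Nat.ble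 291 i)) (Nat.ble 289 i)) (Nat.ble 286 i)) (Bool.rec (motive := fun _ => Nat) (Bool.rec (motive := fun _ => Nat) (Bool.rec (motive := fun _ => Nat) (1245) (Bool.rec (motive := fun _ => Nat) (137) (1106) (Nat.ble 295 i)) (Nat.ble 294 i)) (Bool.rec (motive := fun _ => Nat) (134) (Bool.rec (motive := fun _ => Nat) (221) (1667) (Nat.ble 298 i)) (Nat.ble 297 i)) (Nat.ble 296 i)) (Bool.rec (motive := fun _ => Nat) (Bool.rec (motive := fun _ => Nat) (383) (Bool.rec (motive := fun _ => Nat) (628) (142) (Nat.ble 301 i)) (Nat.ble 300 i)) (Bool.rec (motive := fun _ => Nat) (Bool.rec (motive := fun _ => Nat) (232) (280) (Nat.ble 303 i)) (Bool.rec (motive := fun _ => Nat) (181) (303) (Nat.ble 305 i)) (Nat.ble 304 i)) (Nat.ble 302 i)) (Nat.ble 299 i)) (Nat.ble 293 i)) (Nat.ble 280 i)) (Nat.ble 255 i)) (Bool.rec (motive := fun _ => Nat) (Bool.rec (motive := fun _ => Nat) (Bool.rec (motive := fun _ => Nat) (Bool.rec (motive := fun _ => Nat) (Bool.rec (motive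 := fun _ => Nat) (Bool.rec (motive := fun _ => Nat) (230) (Bool.rec (motive := fun _ => Nat) (141) (1788) (Nat.ble 308 i)) (Nat.ble 307 i)) (Bool.rec (motive := fun _ => Nat) (1654) (Bool.rec (motive := fun _ => Nat) (1809) (15) (Nat.ble 311 i)) (Nat.ble 310 i)) (Nat.ble 309 i)) (Bool.rec (motive := fun _ => Nat) (Bool.rec (motive := fun _ => Nat) (75) (Bool.rec (motive := fun _ => Nat) (405) (1094) (Nat.ble 314 i)) (Nat.ble 313 i)) (Bool.rec (motive := fun _ => Nat) (9) (Bool.rec (motive := fun _ => Nat) (1114) (1117) (Nat.ble 317 i)) (Nat.ble 316 i)) (Nat.ble 315 i)) (Nat.ble 312 i)) (Bool.rec (motive := fun _ => Nat) (Bool.rec (motive := fun _ => Nat) (Bool.rec (motive := fun _ => Nat) (83) (Bool.rec (motive := fun _ => Nat) (127) (151) (Nat.ble 320 i)) (Nat.ble 319 i)) (Bool.rec (motive := fun _ => Nat) (1786) (Bool.rec (motive := fun _ => Nat) (1749) (805) (Nat.ble 323 i)) (Nat.ble 322 i)) (Nat.ble 321 i)) (Bool.rec (motive := fun _ =>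 Nat) (Bool.rec (motive := fun _ => Nat) (15684) (Bool.rec (motive := fun _ => Nat) (15685) (671) (Nat.ble 326 i)) (Nat.ble 325 i)) (Bool.rec (motive := fun _ => Nat) (Bool.rec (motive := fun _ => Nat) (765) (146) (Nat.ble 328 i)) (Bool.rec (motive := fun _ => Nat) (255) (154) (Nat.ble 330 i)) (Nat.ble 329 i)) (Nat.ble 327 i)) (Nat.ble 324 i)) (Nat.ble 318 i)) (Bool.rec (motive := fun _ => Nat) (Bool.rec (motive := fun _ => Nat) (Bool.rec (motive := fun _ => Nat) (Bool.rec (motive := fun _ => Nat) (90) (Bool.rec (motive := fun _ => Nat) (792) (787) (Nat.ble 333 i)) (Nat.ble 332 i)) (Bool.rec (motive := fun _ => Nat) (12) (Bool.rec (motive := fun _ => Nat) (428) (441) (Nat.ble 336 i)) (Nat.ble 335 i)) (Nat.ble 334 i)) (Bool.rec (motive := fun _ => Nat) (Bool.rec (motive := fun _ => Nat) (20) (Bool.rec (motive := fun _ => Nat) (467) (465) (Nat.ble 339 i)) (Nat.ble 338 i)) (Bool.rec (motive := fun _ => Nat) (Bool.rec (motive := fun _ => Nat) (1188)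 (351) (Nat.ble 341 i)) (Bool.rec (motive := fun _ => Nat) (549) (1189) (Nat.ble 343 i)) (Nat.ble 342 i)) (Nat.ble 340 i)) (Nat.ble 337 i)) (Bool.rec (motive := fun _ => Nat) (Bool.rec (motive := fun _ => Nat) (Bool.rec (motive := fun _ => Nat) (517) (Bool.rec (motive := fun _ => Nat) (331) (79) (Nat.ble 346 i)) (Nat.ble 345 i)) (Bool.rec (motive := fun _ => Nat) (129) (Bool.rec (motive := fun _ => Nat) (85) (48) (Nat.ble 349 i)) (Nat.ble 348 i)) (Nat.ble 347 i)) (Bool.rec (motive := fun _ => Nat) (Bool.rec (motive := fun _ => Nat) (785) (Bool.rec (motive := fun _ => Nat) (93) (15712) (Nat.ble 352 i)) (Nat.ble 351 i)) (Bool.rec (motive := fun _ => Nat) (Bool.rec (motive := fun _ => Nat) (240) (143) (Nat.ble 354 i)) (Bool.rec (motive := fun _ => Nat) (1429) (749) (Nat.ble 356 i)) (Nat.ble 355 i)) (Nat.ble 353 i)) (Nat.ble 350 i)) (Nat.ble 344 i)) (Nat.ble 331 i)) (Bool.rec (motive := fun _ => Nat) (Bool.rec (motive := fun _ => Nat) (Bool.rec (motive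 := fun _ => Nat) (Bool.rec (motive := fun _ => Nat) (Bool.rec (motive := fun _ => Nat) (789) (Bool.rec (motive := fun _ => Nat) (1416) (491) (Nat.ble 359 i)) (Nat.ble 358 i)) (Bool.rec (motive := fun _ => Nat) (677) (Bool.rec (motive := fun _ => Nat) (750) (773) (Nat.ble 362 i)) (Nat.ble 361 i)) (Nat.ble 360 i)) (Bool.rec (motive := fun _ => Nat) (Bool.rec (motive := fun _ => Nat) (810) (Bool.rec (motive := fun _ => Nat) (408) (188) (Nat.ble 365 i)) (Nat.ble 364 i)) (Bool.rec (motive := fun _ => Nat) (Bool.rec (motive := fun _ => Nat) (89) (411) (Nat.ble 367 i)) (Bool.rec (motive := fun _ => Nat) (118) (302) (Nat.ble 369 i)) (Nat.ble 368 i)) (Nat.ble 366 i)) (Nat.ble 363 i)) (Bool.rec (motive := fun _ => Nat) (Bool.rec (motive := fun _ => Nat) (Bool.rec (motive := fun _ => Nat) (150) (Bool.rec (motive := fun _ => Nat) (1327) (1503) (Nat.ble 372 i)) (Nat.ble 371 i)) (Bool.rec (motive := fun _ => Nat) (71) (Bool.rec (motive := fun _ => Nat) (1195)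 (220) (Nat.ble 375 i)) (Nat.ble 374 i)) (Nat.ble 373 i)) (Bool.rec (motive := fun _ => Nat) (Bool.rec (motive := fun _ => Nat) (365) (Bool.rec (motive := fun _ => Nat) (1196) (686) (Nat.ble 378 i)) (Nat.ble 377 i)) (Bool.rec (motive := fun _ => Nat) (Bool.rec (motive := fun _ => Nat) (502) (479) (Nat.ble 380 i)) (Bool.rec (motive := fun _ => Nat) (1474) (1244) (Nat.ble 382 i)) (Nat.ble 381 i)) (Nat.ble 379 i)) (Nat.ble 376 i)) (Nat.ble 370 i)) (Bool.rec (motive := fun _ => Nat) (Bool.rec (motive := fun _ => Nat) (Bool.rec (motive := fun _ => Nat) (Bool.rec (motive := fun _ => Nat) (1198) (Bool.rec (motive := fun _ => Nat) (1199) (641) (Nat.ble 385 i)) (Nat.ble 384 i)) (Bool.rec (motive := fun _ => Nat) (1247) (Bool.rec (motive := fun _ => Nat) (159) (1201) (Nat.ble 388 i)) (Nat.ble 387 i)) (Nat.ble 386 i)) (Bool.rec (motive := fun _ => Nat) (Bool.rec (motive := fun _ => Nat) (1202) (Bool.rec (motive := fun _ => Nat) (175) (111) (Nat.ble 391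 i)) (Nat.ble 390 i)) (Bool.rec (motive := fun _ => Nat) (Bool.rec (motive := fun _ => Nat) (164) (1394) (Nat.ble 393 i)) (Bool.rec (motive := fun _ => Nat) (1797) (15755) (Nat.ble 395 i)) (Nat.ble 394 i)) (Nat.ble 392 i)) (Nat.ble 389 i)) (Bool.rec (motive := fun _ => Nat) (Bool.rec (motive := fun _ => Nat) (Bool.rec (motive := fun _ => Nat) (524) (Bool.rec (motive := fun _ => Nat) (54) (297) (Nat.ble 398 i)) (Nat.ble 397 i)) (Bool.rec (motive := fun _ => Nat) (1825) (Bool.rec (motive := fun _ => Nat) (26) (177) (Nat.ble 401 i)) (Nat.ble 400 i)) (Nat.ble 399 i)) (Bool.rec (motive := fun _ => Nat) (Bool.rec (motive := fun _ => Nat) (643) (Bool.rec (motive := fun _ => Nat) (157) (272) (Nat.ble 404 i)) (Nat.ble 403 i)) (Bool.rec (motive := fun _ => Nat) (Bool.rec (motive := fun _ => Nat) (165) (228) (Nat.ble 406 i)) (Bool.rec (motive := fun _ => Nat) (629) (44) (Nat.ble 408 i)) (Nat.ble 407 i)) (Nat.ble 405 i)) (Nat.ble 402 i)) (Nat.ble 396 i))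 (Nat.ble 383 i)) (Nat.ble 357 i)) (Nat.ble 306 i)) (Nat.ble 204 i)) (Bool.rec (motive := fun _ => Nat) (Bool.rec (motive := fun _ => Nat) (Bool.rec (motive := fun _ => Nat) (Bool.rec (motive := fun _ => Nat) (Bool.rec (motive := fun _ => Nat) (Bool.rec (motive := fun _ => Nat) (Bool.rec (motive := fun _ => Nat) (Bool.rec (motive := fun _ => Nat) (594) (Bool.rec (motive := fun _ => Nat) (595) (43) (Nat.ble 411 i)) (Nat.ble 410 i)) (Bool.rec (motive := fun _ => Nat) (1834) (Bool.rec (motive := fun _ => Nat) (384) (1074) (Nat.ble 414 i)) (Nat.ble 413 i)) (Nat.ble 412 i)) (Bool.rec (motive := fun _ => Nat) (Bool.rec (motive := fun _ => Nat) (1141) (Bool.rec (motive := fun _ => Nat) (1144) (665) (Nat.ble 417 i)) (Nat.ble 416 i)) (Bool.rec (motive := fun _ => Nat) (724) (Bool.rec (motive := fun _ => Nat) (802) (661) (Nat.ble 420 i)) (Nat.ble 419 i)) (Nat.ble 418 i)) (Nat.ble 415 i)) (Bool.rec (motive := fun _ => Nat) (Bool.rec (motive := fun _ =>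 Nat) (Bool.rec (motive := fun _ => Nat) (155) (Bool.rec (motive := fun _ => Nat) (257) (490) (Nat.ble 423 i)) (Nat.ble 422 i)) (Bool.rec (motive := fun _ => Nat) (145) (Bool.rec (motive := fun _ => Nat) (152) (317) (Nat.ble 426 i)) (Nat.ble 425 i)) (Nat.ble 424 i)) (Bool.rec (motive := fun _ => Nat) (Bool.rec (motive := fun _ => Nat) (492) (Bool.rec (motive := fun _ => Nat) (243) (660) (Nat.ble 429 i)) (Nat.ble 428 i)) (Bool.rec (motive := fun _ => Nat) (Bool.rec (motive := fun _ => Nat) (316) (1344) (Nat.ble 431 i)) (Bool.rec (motive := fun _ => Nat) (353) (124) (Nat.ble 433 i)) (Nat.ble 432 i)) (Nat.ble 430 i)) (Nat.ble 427 i)) (Nat.ble 421 i)) (Bool.rec (motive := fun _ => Nat) (Bool.rec (motive := fun _ => Nat) (Bool.rec (motive := fun _ => Nat) (Bool.rec (motive := fun _ => Nat) (1353) (Bool.rec (motive := fun _ => Nat) (1354) (82) (Nat.ble 436 i)) (Nat.ble 435 i)) (Bool.rec (motive := fun _ => Nat) (200) (Bool.rec (motive := fun _ => Nat)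 (329) (184) (Nat.ble 439 i)) (Nat.ble 438 i)) (Nat.ble 437 i)) (Bool.rec (motive := fun _ => Nat) (Bool.rec (motive := fun _ => Nat) (92) (Bool.rec (motive := fun _ => Nat) (237) (416) (Nat.ble 442 i)) (Nat.ble 441 i)) (Bool.rec (motive := fun _ => Nat) (Bool.rec (motive := fun _ => Nat) (608) (186) (Nat.ble 444 i)) (Bool.rec (motive := fun _ => Nat) (156) (743) (Nat.ble 446 i)) (Nat.ble 445 i)) (Nat.ble 443 i)) (Nat.ble 440 i)) (Bool.rec (motive := fun _ => Nat) (Bool.rec (motive := fun _ => Nat) (Bool.rec (motive := fun _ => Nat) (606) (Bool.rec (motive := fun _ => Nat) (415) (148) (Nat.ble 449 i)) (Nat.ble 448 i)) (Bool.rec (motive := fun _ => Nat) (147) (Bool.rec (motive := fun _ => Nat) (676) (1258) (Nat.ble 452 i)) (Nat.ble 451 i)) (Nat.ble 450 i)) (Bool.rec (motive := fun _ => Nat) (Bool.rec (motive := fun _ => Nat) (476) (Bool.rec (motive := fun _ => Nat) (751) (1156) (Nat.ble 455 i)) (Nat.ble 454 i)) (Bool.rec (motive := fun _ => Nat)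 (Bool.rec (motive := fun _ => Nat) (1376) (1377) (Nat.ble 457 i)) (Bool.rec (motive := fun _ => Nat) (133) (320) (Nat.ble 459 i)) (Nat.ble 458 i)) (Nat.ble 456 i)) (Nat.ble 453 i)) (Nat.ble 447 i)) (Nat.ble 434 i)) (Bool.rec (motive := fun _ => Nat) (Bool.rec (motive := fun _ => Nat) (Bool.rec (motive := fun _ => Nat) (Bool.rec (motive := fun _ => Nat) (Bool.rec (motive := fun _ => Nat) (500) (Bool.rec (motive := fun _ => Nat) (106) (757) (Nat.ble 462 i)) (Nat.ble 461 i)) (Bool.rec (motive := fun _ => Nat) (176) (Bool.rec (motive := fun _ => Nat) (135) (136) (Nat.ble 465 i)) (Nat.ble 464 i)) (Nat.ble 463 i)) (Bool.rec (motive := fun _ => Nat) (Bool.rec (motive := fun _ => Nat) (1311) (Bool.rec (motive := fun _ => Nat) (1162) (1163) (Nat.ble 468 i)) (Nat.ble 467 i)) (Bool.rec (motive := fun _ => Nat) (1742) (Bool.rec (motive := fun _ => Nat) (261) (1468) (Nat.ble 471 i)) (Nat.ble 470 i)) (Nat.ble 469 i)) (Nat.ble 466 i)) (Bool.rec (motive :=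 fun _ => Nat) (Bool.rec (motive := fun _ => Nat) (Bool.rec (motive := fun _ => Nat) (171) (Bool.rec (motive := fun _ => Nat) (1578) (1784) (Nat.ble 474 i)) (Nat.ble 473 i)) (Bool.rec (motive := fun _ => Nat) (1831) (Bool.rec (motive := fun _ => Nat) (21) (421) (Nat.ble 477 i)) (Nat.ble 476 i)) (Nat.ble 475 i)) (Bool.rec (motive := fun _ => Nat) (Bool.rec (motive := fun _ => Nat) (68) (Bool.rec (motive := fun _ => Nat) (281) (172) (Nat.ble 480 i)) (Nat.ble 479 i)) (Bool.rec (motive := fun _ => Nat) (Bool.rec (motive := fun _ => Nat) (55) (480) (Nat.ble 482 i)) (Bool.rec (motive := fun _ => Nat) (1839) (1167) (Nat.ble 484 i)) (Nat.ble 483 i)) (Nat.ble 481 i)) (Nat.ble 478 i)) (Nat.ble 472 i)) (Bool.rec (motive := fun _ => Nat) (Bool.rec (motive := fun _ => Nat) (Bool.rec (motive := fun _ => Nat) (Bool.rec (motive := fun _ => Nat) (1170) (Bool.rec (motive := fun _ => Nat) (637) (634) (Nat.ble 487 i)) (Nat.ble 486 i)) (Bool.rec (motive := fun _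 => Nat) (1075) (Bool.rec (motive := fun _ => Nat) (1176) (1177) (Nat.ble 490 i)) (Nat.ble 489 i)) (Nat.ble 488 i)) (Bool.rec (motive := fun _ => Nat) (Bool.rec (motive := fun _ => Nat) (1076) (Bool.rec (motive := fun _ => Nat) (1173) (1180) (Nat.ble 493 i)) (Nat.ble 492 i)) (Bool.rec (motive := fun _ => Nat) (Bool.rec (motive := fun _ => Nat) (49) (86) (Nat.ble 495 i)) (Bool.rec (motive := fun _ => Nat) (128) (1373) (Nat.ble 497 i)) (Nat.ble 496 i)) (Nat.ble 494 i)) (Nat.ble 491 i)) (Bool.rec (motive := fun _ => Nat) (Bool.rec (motive := fun _ => Nat) (Bool.rec (motive := fun _ => Nat) (801) (Bool.rec (motive := fun _ => Nat) (185) (251) (Nat.ble 500 i)) (Nat.ble 499 i)) (Bool.rec (motive := fun _ => Nat) (193) (Bool.rec (motive := fun _ => Nat) (117) (1619) (Nat.ble 503 i)) (Nat.ble 502 i)) (Nat.ble 501 i)) (Bool.rec (motive := fun _ => Nat) (Bool.rec (motive := fun _ => Nat) (1652) (Bool.rec (motive := fun _ => Nat) (1653) (1611) (Nat.ble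 506 i)) (Nat.ble 505 i)) (Bool.rec (motive := fun _ => Nat) (Bool.rec (motive := fun _ => Nat) (746) (811) (Nat.ble 508 i)) (Bool.rec (motive := fun _ => Nat) (778) (630) (Nat.ble 510 i)) (Nat.ble 509 i)) (Nat.ble 507 i)) (Nat.ble 504 i)) (Nat.ble 498 i)) (Nat.ble 485 i)) (Nat.ble 460 i)) (Bool.rec (motive := fun _ => Nat) (Bool.rec (motive := fun _ => Nat) (Bool.rec (motive := fun _ => Nat) (Bool.rec (motive := fun _ => Nat) (Bool.rec (motive := fun _ => Nat) (Bool.rec (motive := fun _ => Nat) (764) (Bool.rec (motive := fun _ => Nat) (312) (242) (Nat.ble 513 i)) (Nat.ble 512 i)) (Bool.rec (motive := fun _ => Nat) (72) (Bool.rec (motive := fun _ => Nat) (250) (144) (Nat.ble 516 i)) (Nat.ble 515 i)) (Nat.ble 514 i)) (Bool.rec (motive := fun _ => Nat) (Bool.rec (motive := fun _ => Nat) (153) (Bool.rec (motive := fun _ => Nat) (1612) (790) (Nat.ble 519 i)) (Nat.ble 518 i)) (Bool.rec (motive := fun _ => Nat) (796) (Bool.rec (motive := fun _ => Nat)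 (88) (740) (Nat.ble 522 i)) (Nat.ble 521 i)) (Nat.ble 520 i)) (Nat.ble 517 i)) (Bool.rec (motive := fun _ => Nat) (Bool.rec (motive := fun _ => Nat) (Bool.rec (motive := fun _ => Nat) (725) (Bool.rec (motive := fun _ => Nat) (1289) (328) (Nat.ble 525 i)) (Nat.ble 524 i)) (Bool.rec (motive := fun _ => Nat) (513) (Bool.rec (motive := fun _ => Nat) (1290) (553) (Nat.ble 528 i)) (Nat.ble 527 i)) (Nat.ble 526 i)) (Bool.rec (motive := fun _ => Nat) (Bool.rec (motive := fun _ => Nat) (354) (Bool.rec (motive := fun _ => Nat) (599) (573) (Nat.ble 531 i)) (Nat.ble 530 i)) (Bool.rec (motive := fun _ => Nat) (Bool.rec (motive := fun _ => Nat) (468) (295) (Nat.ble 533 i)) (Bool.rec (motive := fun _ => Nat) (292) (464) (Nat.ble 535 i)) (Nat.ble 534 i)) (Nat.ble 532 i)) (Nat.ble 529 i)) (Nat.ble 523 i)) (Bool.rec (motive := fun _ => Nat) (Bool.rec (motive := fun _ => Nat) (Bool.rec (motive := fun _ => Nat) (Bool.rec (motive := fun _ => Nat) (1643) (Bool.rec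 (motive := fun _ => Nat) (1352) (370) (Nat.ble 538 i)) (Nat.ble 537 i)) (Bool.rec (motive := fun _ => Nat) (452) (Bool.rec (motive := fun _ => Nat) (1355) (260) (Nat.ble 541 i)) (Nat.ble 540 i)) (Nat.ble 539 i)) (Bool.rec (motive := fun _ => Nat) (Bool.rec (motive := fun _ => Nat) (1295) (Bool.rec (motive := fun _ => Nat) (1296) (782) (Nat.ble 544 i)) (Nat.ble 543 i)) (Bool.rec (motive := fun _ => Nat) (Bool.rec (motive := fun _ => Nat) (812) (670) (Nat.ble 546 i)) (Bool.rec (motive := fun _ => Nat) (784) (481) (Nat.ble 548 i)) (Nat.ble 547 i)) (Nat.ble 545 i)) (Nat.ble 542 i)) (Bool.rec (motive := fun _ => Nat) (Bool.rec (motive := fun _ => Nat) (Bool.rec (motive := fun _ => Nat) (149) (Bool.rec (motive := fun _ => Nat) (116) (397) (Nat.ble 551 i)) (Nat.ble 550 i)) (Bool.rec (motive := fun _ => Nat) (91) (Bool.rec (motive := fun _ => Nat) (238) (189) (Nat.ble 554 i)) (Nat.ble 553 i)) (Nat.ble 552 i)) (Bool.rec (motive := fun _ => Nat) (Bool.rec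 (motive := fun _ => Nat) (806) (Bool.rec (motive := fun _ => Nat) (731) (1496) (Nat.ble 557 i)) (Nat.ble 556 i)) (Bool.rec (motive := fun _ => Nat) (Bool.rec (motive := fun _ => Nat) (663) (51) (Nat.ble 559 i)) (Bool.rec (motive := fun _ => Nat) (1375) (554) (Nat.ble 561 i)) (Nat.ble 560 i)) (Nat.ble 558 i)) (Nat.ble 555 i)) (Nat.ble 549 i)) (Nat.ble 536 i)) (Bool.rec (motive := fun _ => Nat) (Bool.rec (motive := fun _ => Nat) (Bool.rec (motive := fun _ => Nat) (Bool.rec (motive := fun _ => Nat) (Bool.rec (motive := fun _ => Nat) (368) (Bool.rec (motive := fun _ => Nat) (1378) (166) (Nat.ble 564 i)) (Nat.ble 563 i)) (Bool.rec (motive := fun _ => Nat) (1304) (Bool.rec (motive := fun _ => Nat) (1305) (1307) (Nat.ble 567 i)) (Nat.ble 566 i)) (Nat.ble 565 i)) (Bool.rec (motive := fun _ => Nat) (Bool.rec (motive := fun _ => Nat) (1473) (Bool.rec (motive := fun _ => Nat) (1390) (1389) (Nat.ble 570 i)) (Nat.ble 569 i)) (Bool.rec (motive := fun _ =>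 Nat) (Bool.rec (motive := fun _ => Nat) (112) (552) (Nat.ble 572 i)) (Bool.rec (motive := fun _ => Nat) (1238) (1464) (Nat.ble 574 i)) (Nat.ble 573 i)) (Nat.ble 571 i)) (Nat.ble 568 i)) (Bool.rec (motive := fun _ => Nat) (Bool.rec (motive := fun _ => Nat) (Bool.rec (motive := fun _ => Nat) (439) (Bool.rec (motive := fun _ => Nat) (640) (613) (Nat.ble 577 i)) (Nat.ble 576 i)) (Bool.rec (motive := fun _ => Nat) (282) (Bool.rec (motive := fun _ => Nat) (373) (99) (Nat.ble 580 i)) (Nat.ble 579 i)) (Nat.ble 578 i)) (Bool.rec (motive := fun _ => Nat) (Bool.rec (motive := fun _ => Nat) (162) (Bool.rec (motive := fun _ => Nat) (283) (1397) (Nat.ble 583 i)) (Nat.ble 582 i)) (Bool.rec (motive := fun _ => Nat) (Bool.rec (motive := fun _ => Nat) (684) (422) (Nat.ble 585 i)) (Bool.rec (motive := fun _ => Nat) (167) (108) (Nat.ble 587 i)) (Nat.ble 586 i)) (Nat.ble 584 i)) (Nat.ble 581 i)) (Nat.ble 575 i)) (Bool.rec (motive := fun _ => Nat) (Bool.rec (motive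 := fun _ => Nat) (Bool.rec (motive := fun _ => Nat) (Bool.rec (motive := fun _ => Nat) (174) (Bool.rec (motive := fun _ => Nat) (1469) (566) (Nat.ble 590 i)) (Nat.ble 589 i)) (Bool.rec (motive := fun _ => Nat) (1711) (Bool.rec (motive := fun _ => Nat) (718) (98) (Nat.ble 593 i)) (Nat.ble 592 i)) (Nat.ble 591 i)) (Bool.rec (motive := fun _ => Nat) (Bool.rec (motive := fun _ => Nat) (178) (Bool.rec (motive := fun _ => Nat) (109) (449) (Nat.ble 596 i)) (Nat.ble 595 i)) (Bool.rec (motive := fun _ => Nat) (Bool.rec (motive := fun _ => Nat) (1574) (262) (Nat.ble 598 i)) (Bool.rec (motive := fun _ => Nat) (216) (1668) (Nat.ble 600 i)) (Nat.ble 599 i)) (Nat.ble 597 i)) (Nat.ble 594 i)) (Bool.rec (motive := fun _ => Nat) (Bool.rec (motive := fun _ => Nat) (Bool.rec (motive := fun _ => Nat) (217) (Bool.rec (motive := fun _ => Nat) (1206) (1209) (Nat.ble 603 i)) (Nat.ble 602 i)) (Bool.rec (motive := fun _ => Nat) (1095) (Bool.rec (motive := fun _ => Nat)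 (1215) (1216) (Nat.ble 606 i)) (Nat.ble 605 i)) (Nat.ble 604 i)) (Bool.rec (motive := fun _ => Nat) (Bool.rec (motive := fun _ => Nat) (1096) (Bool.rec (motive := fun _ => Nat) (1212) (1219) (Nat.ble 609 i)) (Nat.ble 608 i)) (Bool.rec (motive := fun _ => Nat) (Bool.rec (motive := fun _ => Nat) (191) (485) (Nat.ble 611 i)) (Bool.rec (motive := fun _ => Nat) (664) (94) (Nat.ble 613 i)) (Nat.ble 612 i)) (Nat.ble 610 i)) (Nat.ble 607 i)) (Nat.ble 601 i)) (Nat.ble 588 i)) (Nat.ble 562 i)) (Nat.ble 511 i)) (Bool.rec (motive := fun _ => Nat) (Bool.rec (motive := fun _ => Nat) (Bool.rec (motive := fun _ => Nat) (Bool.rec (motive := fun _ => Nat) (Bool.rec (motive := fun _ => Nat) (Bool.rec (motive := fun _ => Nat) (Bool.rec (motive := fun _ => Nat) (307) (Bool.rec (motive := fun _ => Nat) (488) (662) (Nat.ble 616 i)) (Nat.ble 615 i)) (Bool.rec (motive := fun _ => Nat) (484) (Bool.rec (motive := fun _ => Nat) (122) (121) (Nat.ble 619 i)) (Nat.ble 618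 i)) (Nat.ble 617 i)) (Bool.rec (motive := fun _ => Nat) (Bool.rec (motive := fun _ => Nat) (809) (Bool.rec (motive := fun _ => Nat) (1414) (253) (Nat.ble 622 i)) (Nat.ble 621 i)) (Bool.rec (motive := fun _ => Nat) (733) (Bool.rec (motive := fun _ => Nat) (132) (1524) (Nat.ble 625 i)) (Nat.ble 624 i)) (Nat.ble 623 i)) (Nat.ble 620 i)) (Bool.rec (motive := fun _ => Nat) (Bool.rec (motive := fun _ => Nat) (Bool.rec (motive := fun _ => Nat) (1525) (Bool.rec (motive := fun _ => Nat) (199) (212) (Nat.ble 628 i)) (Nat.ble 627 i)) (Bool.rec (motive := fun _ => Nat) (352) (Bool.rec (motive := fun _ => Nat) (27) (644) (Nat.ble 631 i)) (Nat.ble 630 i)) (Nat.ble 629 i)) (Bool.rec (motive := fun _ => Nat) (Bool.rec (motive := fun _ => Nat) (1449) (Bool.rec (motive := fun _ => Nat) (201) (202) (Nat.ble 634 i)) (Nat.ble 633 i)) (Bool.rec (motive := fun _ => Nat) (Bool.rec (motive := fun _ => Nat) (105) (1452) (Nat.ble 636 i)) (Bool.rec (motive := fun _ =>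 Nat) (138) (139) (Nat.ble 638 i)) (Nat.ble 637 i)) (Nat.ble 635 i)) (Nat.ble 632 i)) (Nat.ble 626 i)) (Bool.rec (motive := fun _ => Nat) (Bool.rec (motive := fun _ => Nat) (Bool.rec (motive := fun _ => Nat) (Bool.rec (motive := fun _ => Nat) (1425) (Bool.rec (motive := fun _ => Nat) (115) (183) (Nat.ble 641 i)) (Nat.ble 640 i)) (Bool.rec (motive := fun _ => Nat) (781) (Bool.rec (motive := fun _ => Nat) (259) (187) (Nat.ble 644 i)) (Nat.ble 643 i)) (Nat.ble 642 i)) (Bool.rec (motive := fun _ => Nat) (Bool.rec (motive := fun _ => Nat) (400) (Bool.rec (motive := fun _ => Nat) (798) (1465) (Nat.ble 647 i)) (Nat.ble 646 i)) (Bool.rec (motive := fun _ => Nat) (Bool.rec (motive := fun _ => Nat) (1237) (69) (Nat.ble 649 i)) (Bool.rec (motive := fun _ => Nat) (1583) (169) (Nat.ble 651 i)) (Nat.ble 650 i)) (Nat.ble 648 i)) (Nat.ble 645 i)) (Bool.rec (motive := fun _ => Nat) (Bool.rec (motive := fun _ => Nat) (Bool.rec (motive := fun _ => Nat) (1392) (Bool.rec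 (motive := fun _ => Nat) (1424) (160) (Nat.ble 654 i)) (Nat.ble 653 i)) (Bool.rec (motive := fun _ => Nat) (1637) (Bool.rec (motive := fun _ => Nat) (265) (366) (Nat.ble 657 i)) (Nat.ble 656 i)) (Nat.ble 655 i)) (Bool.rec (motive := fun _ => Nat) (Bool.rec (motive := fun _ => Nat) (1573) (Bool.rec (motive := fun _ => Nat) (266) (1112) (Nat.ble 660 i)) (Nat.ble 659 i)) (Bool.rec (motive := fun _ => Nat) (Bool.rec (motive := fun _ => Nat) (1261) (1262) (Nat.ble 662 i)) (Bool.rec (motive := fun _ => Nat) (1113) (1266) (Nat.ble 664 i)) (Nat.ble 663 i)) (Nat.ble 661 i)) (Nat.ble 658 i)) (Nat.ble 652 i)) (Nat.ble 639 i)) (Bool.rec (motive := fun _ => Nat) (Bool.rec (motive := fun _ => Nat) (Bool.rec (motive := fun _ => Nat) (Bool.rec (motive := fun _ => Nat) (Bool.rec (motive := fun _ => Nat) (1267) (Bool.rec (motive := fun _ => Nat) (638) (436) (Nat.ble 667 i)) (Nat.ble 666 i)) (Bool.rec (motive := fun _ => Nat) (433) (Bool.rec (motive := fun _ =>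 Nat) (633) (41) (Nat.ble 670 i)) (Nat.ble 669 i)) (Nat.ble 668 i)) (Bool.rec (motive := fun _ => Nat) (Bool.rec (motive := fun _ => Nat) (1214) (Bool.rec (motive := fun _ => Nat) (1115) (1116) (Nat.ble 673 i)) (Nat.ble 672 i)) (Bool.rec (motive := fun _ => Nat) (1217) (Bool.rec (motive := fun _ => Nat) (1280) (1118) (Nat.ble 676 i)) (Nat.ble 675 i)) (Nat.ble 674 i)) (Nat.ble 671 i)) (Bool.rec (motive := fun _ => Nat) (Bool.rec (motive := fun _ => Nat) (Bool.rec (motive := fun _ => Nat) (1119) (Bool.rec (motive := fun _ => Nat) (756) (672) (Nat.ble 679 i)) (Nat.ble 678 i)) (Bool.rec (motive := fun _ => Nat) (760) (Bool.rec (motive := fun _ => Nat) (815) (256) (Nat.ble 682 i)) (Nat.ble 681 i)) (Nat.ble 680 i)) (Bool.rec (motive := fun _ => Nat) (Bool.rec (motive := fun _ => Nat) (306) (Bool.rec (motive := fun _ => Nat) (52) (244) (Nat.ble 685 i)) (Nat.ble 684 i)) (Bool.rec (motive := fun _ => Nat) (Bool.rec (motive := fun _ => Nat) (192) (235)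 (Nat.ble 687 i)) (Bool.rec (motive := fun _ => Nat) (1618) (1680) (Nat.ble 689 i)) (Nat.ble 688 i)) (Nat.ble 686 i)) (Nat.ble 683 i)) (Nat.ble 677 i)) (Bool.rec (motive := fun _ => Nat) (Bool.rec (motive := fun _ => Nat) (Bool.rec (motive := fun _ => Nat) (Bool.rec (motive := fun _ => Nat) (607) (Bool.rec (motive := fun _ => Nat) (742) (627) (Nat.ble 692 i)) (Nat.ble 691 i)) (Bool.rec (motive := fun _ => Nat) (624) (Bool.rec (motive := fun _ => Nat) (762) (1523) (Nat.ble 695 i)) (Nat.ble 694 i)) (Nat.ble 693 i)) (Bool.rec (motive := fun _ => Nat) (Bool.rec (motive := fun _ => Nat) (687) (Bool.rec (motive := fun _ => Nat) (1526) (110) (Nat.ble 698 i)) (Nat.ble 697 i)) (Bool.rec (motive := fun _ => Nat) (Bool.rec (motive := fun _ => Nat) (1445) (1446) (Nat.ble 700 i)) (Bool.rec (motive := fun _ => Nat) (601) (458) (Nat.ble 702 i)) (Nat.ble 701 i)) (Nat.ble 699 i)) (Nat.ble 696 i)) (Bool.rec (motive := fun _ => Nat) (Bool.rec (motive := fun _ =>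 Nat) (Bool.rec (motive := fun _ => Nat) (455) (Bool.rec (motive := fun _ => Nat) (648) (1448) (Nat.ble 705 i)) (Nat.ble 704 i)) (Bool.rec (motive := fun _ => Nat) (1642) (Bool.rec (motive := fun _ => Nat) (1538) (1537) (Nat.ble 708 i)) (Nat.ble 707 i)) (Nat.ble 706 i)) (Bool.rec (motive := fun _ => Nat) (Bool.rec (motive := fun _ => Nat) (168) (Bool.rec (motive := fun _ => Nat) (444) (1541) (Nat.ble 711 i)) (Nat.ble 710 i)) (Bool.rec (motive := fun _ => Nat) (Bool.rec (motive := fun _ => Nat) (521) (158) (Nat.ble 713 i)) (Bool.rec (motive := fun _ => Nat) (263) (424) (Nat.ble 715 i)) (Nat.ble 714 i)) (Nat.ble 712 i)) (Nat.ble 709 i)) (Nat.ble 703 i)) (Nat.ble 690 i)) (Nat.ble 665 i)) (Bool.rec (motive := fun _ => Nat) (Bool.rec (motive := fun _ => Nat) (Bool.rec (motive := fun _ => Nat) (Bool.rec (motive := fun _ => Nat) (Bool.rec (motive := fun _ => Nat) (Bool.rec (motive := fun _ => Nat) (1545) (Bool.rec (motive := fun _ => Nat) (550) (395)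 (Nat.ble 718 i)) (Nat.ble 717 i)) (Bool.rec (motive := fun _ => Nat) (755) (Bool.rec (motive := fun _ => Nat) (516) (450) (Nat.ble 721 i)) (Nat.ble 720 i)) (Nat.ble 719 i)) (Bool.rec (motive := fun _ => Nat) (Bool.rec (motive := fun _ => Nat) (1577) (Bool.rec (motive := fun _ => Nat) (389) (1259) (Nat.ble 724 i)) (Nat.ble 723 i)) (Bool.rec (motive := fun _ => Nat) (214) (Bool.rec (motive := fun _ => Nat) (1463) (440) (Nat.ble 727 i)) (Nat.ble 726 i)) (Nat.ble 725 i)) (Nat.ble 722 i)) (Bool.rec (motive := fun _ => Nat) (Bool.rec (motive := fun _ => Nat) (Bool.rec (motive := fun _ => Nat) (559) (Bool.rec (motive := fun _ => Nat) (1576) (173) (Nat.ble 730 i)) (Nat.ble 729 i)) (Bool.rec (motive := fun _ => Nat) (1271) (Bool.rec (motive := fun _ => Nat) (1505) (1169) (Nat.ble 733 i)) (Nat.ble 732 i)) (Nat.ble 731 i)) (Bool.rec (motive := fun _ => Nat) (Bool.rec (motive := fun _ => Nat) (588) (Bool.rec (motive := fun _ => Nat) (377) (565) (Nat.ble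 736 i)) (Nat.ble 735 i)) (Bool.rec (motive := fun _ => Nat) (Bool.rec (motive := fun _ => Nat) (618) (1708) (Nat.ble 738 i)) (Bool.rec (motive := fun _ => Nat) (161) (324) (Nat.ble 740 i)) (Nat.ble 739 i)) (Nat.ble 737 i)) (Nat.ble 734 i)) (Nat.ble 728 i)) (Bool.rec (motive := fun _ => Nat) (Bool.rec (motive := fun _ => Nat) (Bool.rec (motive := fun _ => Nat) (Bool.rec (motive := fun _ => Nat) (1781) (Bool.rec (motive := fun _ => Nat) (325) (1139) (Nat.ble 743 i)) (Nat.ble 742 i)) (Bool.rec (motive := fun _ => Nat) (1325) (Bool.rec (motive := fun _ => Nat) (1326) (1140) (Nat.ble 746 i)) (Nat.ble 745 i)) (Nat.ble 744 i)) (Bool.rec (motive := fun _ => Nat) (Bool.rec (motive := fun _ => Nat) (1330) (Bool.rec (motive := fun _ => Nat) (1331) (1175) (Nat.ble 749 i)) (Nat.ble 748 i)) (Bool.rec (motive := fun _ => Nat) (Bool.rec (motive := fun _ => Nat) (1142) (1143) (Nat.ble 751 i)) (Bool.rec (motive := fun _ => Nat) (1213) (1178) (Nat.ble 753 i))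 (Nat.ble 752 i)) (Nat.ble 750 i)) (Nat.ble 747 i)) (Bool.rec (motive := fun _ => Nat) (Bool.rec (motive := fun _ => Nat) (Bool.rec (motive := fun _ => Nat) (1336) (Bool.rec (motive := fun _ => Nat) (1145) (1146) (Nat.ble 756 i)) (Nat.ble 755 i)) (Bool.rec (motive := fun _ => Nat) (95) (Bool.rec (motive := fun _ => Nat) (311) (673) (Nat.ble 759 i)) (Nat.ble 758 i)) (Nat.ble 757 i)) (Bool.rec (motive := fun _ => Nat) (Bool.rec (motive := fun _ => Nat) (22) (Bool.rec (motive := fun _ => Nat) (1634) (213) (Nat.ble 762 i)) (Nat.ble 761 i)) (Bool.rec (motive := fun _ => Nat) (Bool.rec (motive := fun _ => Nat) (1335) (56) (Nat.ble 764 i)) (Bool.rec (motive := fun _ => Nat) (53) (1540) (Nat.ble 766 i)) (Nat.ble 765 i)) (Nat.ble 763 i)) (Nat.ble 760 i)) (Nat.ble 754 i)) (Nat.ble 741 i)) (Bool.rec (motive := fun _ => Nat) (Bool.rec (motive := fun _ => Nat) (Bool.rec (motive := fun _ => Nat) (Bool.rec (motive := fun _ => Nat) (Bool.rec (motive := fun _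 => Nat) (1500) (Bool.rec (motive := fun _ => Nat) (180) (1664) (Nat.ble 769 i)) (Nat.ble 768 i)) (Bool.rec (motive := fun _ => Nat) (113) (Bool.rec (motive := fun _ => Nat) (1277) (390) (Nat.ble 772 i)) (Nat.ble 771 i)) (Nat.ble 770 i)) (Bool.rec (motive := fun _ => Nat) (Bool.rec (motive := fun _ => Nat) (16) (Bool.rec (motive := fun _ => Nat) (1421) (514) (Nat.ble 775 i)) (Nat.ble 774 i)) (Bool.rec (motive := fun _ => Nat) (Bool.rec (motive := fun _ => Nat) (286) (290) (Nat.ble 777 i)) (Bool.rec (motive := fun _ => Nat) (1168) (294) (Nat.ble 779 i)) (Nat.ble 778 i)) (Nat.ble 776 i)) (Nat.ble 773 i)) (Bool.rec (motive := fun _ => Nat) (Bool.rec (motive := fun _ => Nat) (Bool.rec (motive := fun _ => Nat) (1432) (Bool.rec (motive := fun _ => Nat) (1171) (1172) (Nat.ble 782 i)) (Nat.ble 781 i)) (Bool.rec (motive := fun _ => Nat) (1174) (Bool.rec (motive := fun _ => Nat) (76) (73) (Nat.ble 785 i)) (Nat.ble 784 i)) (Nat.ble 783 i)) (Bool.rec (motive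 := fun _ => Nat) (Bool.rec (motive := fun _ => Nat) (343) (Bool.rec (motive := fun _ => Nat) (1279) (472) (Nat.ble 788 i)) (Nat.ble 787 i)) (Bool.rec (motive := fun _ => Nat) (Bool.rec (motive := fun _ => Nat) (1275) (1179) (Nat.ble 790 i)) (Bool.rec (motive := fun _ => Nat) (1268) (1282) (Nat.ble 792 i)) (Nat.ble 791 i)) (Nat.ble 789 i)) (Nat.ble 786 i)) (Nat.ble 780 i)) (Bool.rec (motive := fun _ => Nat) (Bool.rec (motive := fun _ => Nat) (Bool.rec (motive := fun _ => Nat) (Bool.rec (motive := fun _ => Nat) (234) (Bool.rec (motive := fun _ => Nat) (619) (1710) (Nat.ble 795 i)) (Nat.ble 794 i)) (Bool.rec (motive := fun _ => Nat) (1281) (Bool.rec (motive := fun _ => Nat) (392) (1208) (Nat.ble 798 i)) (Nat.ble 797 i)) (Nat.ble 796 i)) (Bool.rec (motive := fun _ => Nat) (Bool.rec (motive := fun _ => Nat) (231) (Bool.rec (motive := fun _ => Nat) (388) (42) (Nat.ble 801 i)) (Nat.ble 800 i)) (Bool.rec (motive := fun _ => Nat) (Bool.rec (motive :=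 fun _ => Nat) (1419) (656) (Nat.ble 803 i)) (Bool.rec (motive := fun _ => Nat) (1665) (1264) (Nat.ble 805 i)) (Nat.ble 804 i)) (Nat.ble 802 i)) (Nat.ble 799 i)) (Bool.rec (motive := fun _ => Nat) (Bool.rec (motive := fun _ => Nat) (Bool.rec (motive := fun _ => Nat) (1218) (Bool.rec (motive := fun _ => Nat) (28) (587) (Nat.ble 808 i)) (Nat.ble 807 i)) (Bool.rec (motive := fun _ => Nat) (1210) (Bool.rec (motive := fun _ => Nat) (31) (1211) (Nat.ble 811 i)) (Nat.ble 810 i)) (Nat.ble 809 i)) (Bool.rec (motive := fun _ => Nat) (Bool.rec (motive := fun _ => Nat) (1207) (Bool.rec (motive := fun _ => Nat) (1283) (1274) (Nat.ble 814 i)) (Nat.ble 813 i)) (Bool.rec (motive := fun _ => Nat) (Bool.rec (motive := fun _ => Nat) (45) (1435) (Nat.ble 816 i)) (Bool.rec (motive := fun _ => Nat) (293) (456) (Nat.ble 818 i)) (Nat.ble 817 i)) (Nat.ble 815 i)) (Nat.ble 812 i)) (Nat.ble 806 i)) (Nat.ble 793 i)) (Nat.ble 767 i)) (Nat.ble 716 i)) (Nat.ble 614 i)) (Nat.ble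 409 i))

/-- Stabilising words of node 6. -/
def tGen6 : List (List Nat) := [[6, 4, 2, 0, 6, 4, 2, 6, 4, 8, 6, 4, 6, 8, 7, 5], [2, 0, 4, 2, 8]]

/-- Roots at node 6. -/
def tRoot6 : List Nat := [0, 1, 2, 4, 5, 7, 8, 9, 10, 11, 12, 13, 15, 16, 17, 20, 21, 22, 23, 26, 27, 28, 29, 30, 31, 35, 36, 40, 41, 42, 43, 44, 45, 48, 49, 51, 52, 53, 54, 55, 56, 60, 64, 65, 71, 72, 73, 74, 75, 76, 79, 81, 82, 88, 89, 90, 91, 92, 93, 94, 95, 102, 108, 109, 115, 116, 117, 118, 119, 120, 121, 122, 124, 132, 133, 134, 135, 136, 137, 138, 139, 141, 142, 143, 144, 145, 146, 147, 148, 149, 150, 151, 152, 153, 154, 155, 156, 164, 165, 171, 172, 174, 175, 177, 178, 182, 183, 184, 185, 186, 187, 188, 189, 190, 191, 192, 193, 194, 195, 199, 201, 202, 212, 213, 214, 216, 217, 221, 230, 232, 234, 235, 237, 238, 240, 242, 243, 247, 251, 255, 257, 258, 259, 265, 280, 281, 324, 325, 352, 395]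

/-- Forest of the points at node 7. -/
noncomputable def tPar7 (i : Nat) : Nat := (Bool.rec (motive := fun _ => Nat) (Bool.rec (motive := fun _ => Nat) (Bool.rec (motive := fun _ => Nat) (Bool.rec (motive := fun _ => Nat) (Bool.rec (motive := fun _ => Nat) (Bool.rec (motive := fun _ => Nat) (Bool.rec (motive := fun _ => Nat) (Bool.rec (motive := fun _ => Nat) (Bool.rec (motive := fun _ => Nat) (15360) (Bool.rec (motive := fun _ => Nat) (15361) (15362) (Nat.ble 2 i)) (Nat.ble 1 i)) (Bool.rec (motive := fun _ => Nat) (3176) (Bool.rec (motive := fun _ => Nat) (2218) (2152) (Nat.ble 5 i)) (Nat.ble 4 i)) (Nat.ble 3 i)) (Bool.rec (motive := fun _ => Nat) (Bool.rec (motive := fun _ => Nat) (3091) (Bool.rec (motive := fun _ => Nat) (2145) (1288) (Nat.ble 8 i)) (Nat.ble 7 i)) (Bool.rec (motive := fun _ => Nat) (3072) (Bool.rec (motive := fun _ => Nat) (2065) (2321) (Nat.ble 11 i)) (Nat.ble 10 i)) (Nat.ble 9 i)) (Nat.ble 6 i)) (Bool.rec (motive := fun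 _ => Nat) (Bool.rec (motive := fun _ => Nat) (Bool.rec (motive := fun _ => Nat) (2049) (Bool.rec (motive := fun _ => Nat) (2188) (3089) (Nat.ble 14 i)) (Nat.ble 13 i)) (Bool.rec (motive := fun _ => Nat) (15375) (Bool.rec (motive := fun _ => Nat) (15376) (2048) (Nat.ble 17 i)) (Nat.ble 16 i)) (Nat.ble 15 i)) (Bool.rec (motive := fun _ => Nat) (Bool.rec (motive := fun _ => Nat) (3242) (Bool.rec (motive := fun _ => Nat) (3097) (3212) (Nat.ble 20 i)) (Nat.ble 19 i)) (Bool.rec (motive := fun _ => Nat) (Bool.rec (motive := fun _ => Nat) (15381) (15382) (Nat.ble 22 i)) (Bool.rec (motive := fun _ => Nat) (1221) (3082) (Nat.ble 24 i)) (Nat.ble 23 i)) (Nat.ble 21 i)) (Nat.ble 18 i)) (Nat.ble 12 i)) (Bool.rec (motive := fun _ => Nat) (Bool.rec (motive := fun _ => Nat) (Bool.rec (motive := fun _ => Nat) (Bool.rec (motive := fun _ => Nat) (2050) (Bool.rec (motive := fun _ => Nat) (3882) (2502) (Nat.ble 27 i)) (Nat.ble 26 i)) (Bool.rec (motive := fun _ =>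 Nat) (16) (Bool.rec (motive := fun _ => Nat) (30) (15) (Nat.ble 30 i)) (Nat.ble 29 i)) (Nat.ble 28 i)) (Bool.rec (motive := fun _ => Nat) (Bool.rec (motive := fun _ => Nat) (28) (Bool.rec (motive := fun _ => Nat) (2082) (2067) (Nat.ble 33 i)) (Nat.ble 32 i)) (Bool.rec (motive := fun _ => Nat) (Bool.rec (motive := fun _ => Nat) (3131) (15395) (Nat.ble 35 i)) (Bool.rec (motive := fun _ => Nat) (15396) (1043) (Nat.ble 37 i)) (Nat.ble 36 i)) (Nat.ble 34 i)) (Nat.ble 31 i)) (Bool.rec (motive := fun _ => Nat) (Bool.rec (motive := fun _ => Nat) (Bool.rec (motive := fun _ => Nat) (2255) (Bool.rec (motive := fun _ => Nat) (3268) (3809) (Nat.ble 40 i)) (Nat.ble 39 i)) (Bool.rec (motive := fun _ => Nat) (15401) (Bool.rec (motive := fun _ => Nat) (22) (44) (Nat.ble 43 i)) (Nat.ble 42 i)) (Nat.ble 41 i)) (Bool.rec (motive := fun _ => Nat) (Bool.rec (motive := fun _ => Nat) (21) (Bool.rec (motive := fun _ => Nat) (42) (2052) (Nat.ble 46 i)) (Nat.ble 45 i))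 (Bool.rec (motive := fun _ => Nat) (Bool.rec (motive := fun _ => Nat) (3105) (3304) (Nat.ble 48 i)) (Bool.rec (motive := fun _ => Nat) (3678) (1297) (Nat.ble 50 i)) (Nat.ble 49 i)) (Nat.ble 47 i)) (Nat.ble 44 i)) (Nat.ble 38 i)) (Nat.ble 25 i)) (Bool.rec (motive := fun _ => Nat) (Bool.rec (motive := fun _ => Nat) (Bool.rec (motive := fun _ => Nat) (Bool.rec (motive := fun _ => Nat) (Bool.rec (motive := fun _ => Nat) (1753) (Bool.rec (motive := fun _ => Nat) (2748) (2409) (Nat.ble 53 i)) (Nat.ble 52 i)) (Bool.rec (motive := fun _ => Nat) (3879) (Bool.rec (motive := fun _ => Nat) (3845) (2336) (Nat.ble 56 i)) (Nat.ble 55 i)) (Nat.ble 54 i)) (Bool.rec (motive := fun _ => Nat) (Bool.rec (motive := fun _ => Nat) (2066) (Bool.rec (motive := fun _ => Nat) (2312) (2060) (Nat.ble 59 i)) (Nat.ble 58 i)) (Bool.rec (motive := fun _ => Nat) (2129) (Bool.rec (motive := fun _ => Nat) (1089) (36) (Nat.ble 62 i)) (Nat.ble 61 i)) (Nat.ble 60 i)) (Nat.ble 57 i))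 (Bool.rec (motive := fun _ => Nat) (Bool.rec (motive := fun _ => Nat) (Bool.rec (motive := fun _ => Nat) (64) (Bool.rec (motive := fun _ => Nat) (35) (62) (Nat.ble 65 i)) (Nat.ble 64 i)) (Bool.rec (motive := fun _ => Nat) (2162) (Bool.rec (motive := fun _ => Nat) (2073) (3481) (Nat.ble 68 i)) (Nat.ble 67 i)) (Nat.ble 66 i)) (Bool.rec (motive := fun _ => Nat) (Bool.rec (motive := fun _ => Nat) (3634) (Bool.rec (motive := fun _ => Nat) (1194) (2823) (Nat.ble 71 i)) (Nat.ble 70 i)) (Bool.rec (motive := fun _ => Nat) (Bool.rec (motive := fun _ => Nat) (2856) (41) (Nat.ble 73 i)) (Bool.rec (motive := fun _ => Nat) (3847) (3866) (Nat.ble 75 i)) (Nat.ble 74 i)) (Nat.ble 72 i)) (Nat.ble 69 i)) (Nat.ble 63 i)) (Bool.rec (motive := fun _ => Nat) (Bool.rec (motive := fun _ => Nat) (Bool.rec (motive := fun _ => Nat) (Bool.rec (motive := fun _ => Nat) (73) (Bool.rec (motive := fun _ => Nat) (3269) (3680) (Nat.ble 78 i)) (Nat.ble 77 i)) (Bool.rec (motive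 := fun _ => Nat) (3302) (Bool.rec (motive := fun _ => Nat) (1147) (3470) (Nat.ble 81 i)) (Nat.ble 80 i)) (Nat.ble 79 i)) (Bool.rec (motive := fun _ => Nat) (Bool.rec (motive := fun _ => Nat) (2262) (Bool.rec (motive := fun _ => Nat) (3677) (3305) (Nat.ble 84 i)) (Nat.ble 83 i)) (Bool.rec (motive := fun _ => Nat) (Bool.rec (motive := fun _ => Nat) (3214) (3487) (Nat.ble 86 i)) (Bool.rec (motive := fun _ => Nat) (2118) (2690) (Nat.ble 88 i)) (Nat.ble 87 i)) (Nat.ble 85 i)) (Nat.ble 82 i)) (Bool.rec (motive := fun _ => Nat) (Bool.rec (motive := fun _ => Nat) (Bool.rec (motive := fun _ => Nat) (2671) (Bool.rec (motive := fun _ => Nat) (3777) (1598) (Nat.ble 91 i)) (Nat.ble 90 i)) (Bool.rec (motive := fun _ => Nat) (1674) (Bool.rec (motive := fun _ => Nat) (3453) (2575) (Nat.ble 94 i)) (Nat.ble 93 i)) (Nat.ble 92 i)) (Bool.rec (motive := fun _ => Nat) (Bool.rec (motive := fun _ => Nat) (2747) (Bool.rec (motive := fun _ => Nat) (3139) (1187) (Nat.ble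 97 i)) (Nat.ble 96 i)) (Bool.rec (motive := fun _ => Nat) (Bool.rec (motive := fun _ => Nat) (3864) (3468) (Nat.ble 99 i)) (Bool.rec (motive := fun _ => Nat) (1060) (2183) (Nat.ble 101 i)) (Nat.ble 100 i)) (Nat.ble 98 i)) (Nat.ble 95 i)) (Nat.ble 89 i)) (Nat.ble 76 i)) (Nat.ble 51 i)) (Bool.rec (motive := fun _ => Nat) (Bool.rec (motive := fun _ => Nat) (Bool.rec (motive := fun _ => Nat) (Bool.rec (motive := fun _ => Nat) (Bool.rec (motive := fun _ => Nat) (Bool.rec (motive := fun _ => Nat) (2184) (Bool.rec (motive := fun _ => Nat) (1086) (2057) (Nat.ble 104 i)) (Nat.ble 103 i)) (Bool.rec (motive := fun _ => Nat) (2848) (Bool.rec (motive := fun _ => Nat) (3328) (3084) (Nat.ble 107 i)) (Nat.ble 106 i)) (Nat.ble 105 i)) (Bool.rec (motive := fun _ => Nat) (Bool.rec (motive := fun _ => Nat) (2458) (Bool.rec (motive := fun _ => Nat) (2627) (3651) (Nat.ble 110 i)) (Nat.ble 109 i)) (Bool.rec (motive := fun _ => Nat) (3482) (Bool.rec (motive := fun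 _ => Nat) (3313) (3654) (Nat.ble 113 i)) (Nat.ble 112 i)) (Nat.ble 111 i)) (Nat.ble 108 i)) (Bool.rec (motive := fun _ => Nat) (Bool.rec (motive := fun _ => Nat) (Bool.rec (motive := fun _ => Nat) (2254) (Bool.rec (motive := fun _ => Nat) (1828) (3688) (Nat.ble 116 i)) (Nat.ble 115 i)) (Bool.rec (motive := fun _ => Nat) (3136) (Bool.rec (motive := fun _ => Nat) (2842) (2785) (Nat.ble 119 i)) (Nat.ble 118 i)) (Nat.ble 117 i)) (Bool.rec (motive := fun _ => Nat) (Bool.rec (motive := fun _ => Nat) (3175) (Bool.rec (motive := fun _ => Nat) (2782) (2820) (Nat.ble 122 i)) (Nat.ble 121 i)) (Bool.rec (motive := fun _ => Nat) (Bool.rec (motive := fun _ => Nat) (3278) (2264) (Nat.ble 124 i)) (Bool.rec (motive := fun _ => Nat) (2370) (3301) (Nat.ble 126 i)) (Nat.ble 125 i)) (Nat.ble 123 i)) (Nat.ble 120 i)) (Nat.ble 114 i)) (Bool.rec (motive := fun _ => Nat) (Bool.rec (motive := fun _ => Nat) (Bool.rec (motive := fun _ => Nat) (Bool.rec (motive := fun _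 => Nat) (3681) (Bool.rec (motive := fun _ => Nat) (3488) (3213) (Nat.ble 129 i)) (Nat.ble 128 i)) (Bool.rec (motive := fun _ => Nat) (1025) (Bool.rec (motive := fun _ => Nat) (3096) (2151) (Nat.ble 132 i)) (Nat.ble 131 i)) (Nat.ble 130 i)) (Bool.rec (motive := fun _ => Nat) (Bool.rec (motive := fun _ => Nat) (2112) (Bool.rec (motive := fun _ => Nat) (1249) (3376) (Nat.ble 135 i)) (Nat.ble 134 i)) (Bool.rec (motive := fun _ => Nat) (Bool.rec (motive := fun _ => Nat) (3308) (3872) (Nat.ble 137 i)) (Bool.rec (motive := fun _ => Nat) (2180) (2261) (Nat.ble 139 i)) (Nat.ble 138 i)) (Nat.ble 136 i)) (Nat.ble 133 i)) (Bool.rec (motive := fun _ => Nat) (Bool.rec (motive := fun _ => Nat) (Bool.rec (motive := fun _ => Nat) (2062) (Bool.rec (motive := fun _ => Nat) (3716) (2292) (Nat.ble 142 i)) (Nat.ble 141 i)) (Bool.rec (motive := fun _ => Nat) (3435) (Bool.rec (motive := fun _ => Nat) (2592) (2606) (Nat.ble 145 i)) (Nat.ble 144 i)) (Nat.ble 143 i))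 (Bool.rec (motive := fun _ => Nat) (Bool.rec (motive := fun _ => Nat) (3754) (Bool.rec (motive := fun _ => Nat) (2477) (2557) (Nat.ble 148 i)) (Nat.ble 147 i)) (Bool.rec (motive := fun _ => Nat) (Bool.rec (motive := fun _ => Nat) (3640) (2418) (Nat.ble 150 i)) (Bool.rec (motive := fun _ => Nat) (3888) (3788) (Nat.ble 152 i)) (Nat.ble 151 i)) (Nat.ble 149 i)) (Nat.ble 146 i)) (Nat.ble 140 i)) (Nat.ble 127 i)) (Bool.rec (motive := fun _ => Nat) (Bool.rec (motive := fun _ => Nat) (Bool.rec (motive := fun _ => Nat) (Bool.rec (motive := fun _ => Nat) (Bool.rec (motive := fun _ => Nat) (3838) (Bool.rec (motive := fun _ => Nat) (3539) (3094) (Nat.ble 155 i)) (Nat.ble 154 i)) (Bool.rec (motive := fun _ => Nat) (3641) (Bool.rec (motive := fun _ => Nat) (2530) (2624) (Nat.ble 158 i)) (Nat.ble 157 i)) (Nat.ble 156 i)) (Bool.rec (motive := fun _ => Nat) (Bool.rec (motive := fun _ => Nat) (3467) (Bool.rec (motive := fun _ => Nat) (3862) (3868) (Nat.ble 161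 i)) (Nat.ble 160 i)) (Bool.rec (motive := fun _ => Nat) (3307) (Bool.rec (motive := fun _ => Nat) (3073) (2744) (Nat.ble 164 i)) (Nat.ble 163 i)) (Nat.ble 162 i)) (Nat.ble 159 i)) (Bool.rec (motive := fun _ => Nat) (Bool.rec (motive := fun _ => Nat) (Bool.rec (motive := fun _ => Nat) (1579) (Bool.rec (motive := fun _ => Nat) (3316) (2771) (Nat.ble 167 i)) (Nat.ble 166 i)) (Bool.rec (motive := fun _ => Nat) (2847) (Bool.rec (motive := fun _ => Nat) (3383) (3074) (Nat.ble 170 i)) (Nat.ble 169 i)) (Nat.ble 168 i)) (Bool.rec (motive := fun _ => Nat) (Bool.rec (motive := fun _ => Nat) (1578) (Bool.rec (motive := fun _ => Nat) (1395) (3174) (Nat.ble 173 i)) (Nat.ble 172 i)) (Bool.rec (motive := fun _ => Nat) (Bool.rec (motive := fun _ => Nat) (2289) (2457) (Nat.ble 175 i)) (Bool.rec (motive := fun _ => Nat) (3137) (2610) (Nat.ble 177 i)) (Nat.ble 176 i)) (Nat.ble 174 i)) (Nat.ble 171 i)) (Nat.ble 165 i)) (Bool.rec (motive := fun _ => Nat) (Bool.rec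 (motive := fun _ => Nat) (Bool.rec (motive := fun _ => Nat) (Bool.rec (motive := fun _ => Nat) (2630) (Bool.rec (motive := fun _ => Nat) (2244) (3148) (Nat.ble 180 i)) (Nat.ble 179 i)) (Bool.rec (motive := fun _ => Nat) (2802) (Bool.rec (motive := fun _ => Nat) (3394) (1750) (Nat.ble 183 i)) (Nat.ble 182 i)) (Nat.ble 181 i)) (Bool.rec (motive := fun _ => Nat) (Bool.rec (motive := fun _ => Nat) (1793) (Bool.rec (motive := fun _ => Nat) (3288) (3689) (Nat.ble 186 i)) (Nat.ble 185 i)) (Bool.rec (motive := fun _ => Nat) (Bool.rec (motive := fun _ => Nat) (3492) (3172) (Nat.ble 188 i)) (Bool.rec (motive := fun _ => Nat) (3773) (3540) (Nat.ble 190 i)) (Nat.ble 189 i)) (Nat.ble 187 i)) (Nat.ble 184 i)) (Bool.rec (motive := fun _ => Nat) (Bool.rec (motive := fun _ => Nat) (Bool.rec (motive := fun _ => Nat) (3107) (Bool.rec (motive := fun _ => Nat) (3135) (3839) (Nat.ble 193 i)) (Nat.ble 192 i)) (Bool.rec (motive := fun _ => Nat) (2493) (Bool.rec (motive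 := fun _ => Nat) (3133) (2211) (Nat.ble 196 i)) (Nat.ble 195 i)) (Nat.ble 194 i)) (Bool.rec (motive := fun _ => Nat) (Bool.rec (motive := fun _ => Nat) (3202) (Bool.rec (motive := fun _ => Nat) (2113) (2150) (Nat.ble 199 i)) (Nat.ble 198 i)) (Bool.rec (motive := fun _ => Nat) (Bool.rec (motive := fun _ => Nat) (3526) (2265) (Nat.ble 201 i)) (Bool.rec (motive := fun _ => Nat) (2181) (1224) (Nat.ble 203 i)) (Nat.ble 202 i)) (Nat.ble 200 i)) (Nat.ble 197 i)) (Nat.ble 191 i)) (Nat.ble 178 i)) (Nat.ble 153 i)) (Nat.ble 102 i)) (Bool.rec (motive := fun _ => Nat) (Bool.rec (motive := fun _ => Nat) (Bool.rec (motive := fun _ => Nat) (Bool.rec (motive := fun _ => Nat) (Bool.rec (motive := fun _ => Nat) (Bool.rec (motive := fun _ => Nat) (Bool.rec (motive := fun _ => Nat) (2246) (Bool.rec (motive := fun _ => Nat) (2369) (1026) (Nat.ble 206 i)) (Nat.ble 205 i)) (Bool.rec (motive := fun _ => Nat) (1033) (Bool.rec (motive := fun _ => Nat) (2371) (2368) (Nat.ble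 209 i)) (Nat.ble 208 i)) (Nat.ble 207 i)) (Bool.rec (motive := fun _ => Nat) (Bool.rec (motive := fun _ => Nat) (2281) (Bool.rec (motive := fun _ => Nat) (2653) (2628) (Nat.ble 212 i)) (Nat.ble 211 i)) (Bool.rec (motive := fun _ => Nat) (2148) (Bool.rec (motive := fun _ => Nat) (2109) (2641) (Nat.ble 215 i)) (Nat.ble 214 i)) (Nat.ble 213 i)) (Nat.ble 210 i)) (Bool.rec (motive := fun _ => Nat) (Bool.rec (motive := fun _ => Nat) (Bool.rec (motive := fun _ => Nat) (2083) (Bool.rec (motive := fun _ => Nat) (2111) (3795) (Nat.ble 218 i)) (Nat.ble 217 i)) (Bool.rec (motive := fun _ => Nat) (2350) (Bool.rec (motive := fun _ => Nat) (1467) (1161) (Nat.ble 221 i)) (Nat.ble 220 i)) (Nat.ble 219 i)) (Bool.rec (motive := fun _ => Nat) (Bool.rec (motive := fun _ => Nat) (1242) (Bool.rec (motive := fun _ => Nat) (1200) (3263) (Nat.ble 224 i)) (Nat.ble 223 i)) (Bool.rec (motive := fun _ => Nat) (Bool.rec (motive := fun _ => Nat) (3871) (1440) (Nat.ble 226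 i)) (Bool.rec (motive := fun _ => Nat) (2439) (1758) (Nat.ble 228 i)) (Nat.ble 227 i)) (Nat.ble 225 i)) (Nat.ble 222 i)) (Nat.ble 216 i)) (Bool.rec (motive := fun _ => Nat) (Bool.rec (motive := fun _ => Nat) (Bool.rec (motive := fun _ => Nat) (Bool.rec (motive := fun _ => Nat) (3622) (Bool.rec (motive := fun _ => Nat) (3516) (2514) (Nat.ble 231 i)) (Nat.ble 230 i)) (Bool.rec (motive := fun _ => Nat) (2304) (Bool.rec (motive := fun _ => Nat) (2359) (3628) (Nat.ble 234 i)) (Nat.ble 233 i)) (Nat.ble 232 i)) (Bool.rec (motive := fun _ => Nat) (Bool.rec (motive := fun _ => Nat) (2299) (Bool.rec (motive := fun _ => Nat) (2124) (3291) (Nat.ble 237 i)) (Nat.ble 236 i)) (Bool.rec (motive := fun _ => Nat) (Bool.rec (motive := fun _ => Nat) (3434) (3442) (Nat.ble 239 i)) (Bool.rec (motive := fun _ => Nat) (3570) (2168) (Nat.ble 241 i)) (Nat.ble 240 i)) (Nat.ble 238 i)) (Nat.ble 235 i)) (Bool.rec (motive := fun _ => Nat) (Bool.rec (motive := fun _ => Nat)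 (Bool.rec (motive := fun _ => Nat) (3830) (Bool.rec (motive := fun _ => Nat) (3757) (3484) (Nat.ble 244 i)) (Nat.ble 243 i)) (Bool.rec (motive := fun _ => Nat) (1097) (Bool.rec (motive := fun _ => Nat) (1100) (2399) (Nat.ble 247 i)) (Nat.ble 246 i)) (Nat.ble 245 i)) (Bool.rec (motive := fun _ => Nat) (Bool.rec (motive := fun _ => Nat) (2500) (Bool.rec (motive := fun _ => Nat) (2406) (3598) (Nat.ble 250 i)) (Nat.ble 249 i)) (Bool.rec (motive := fun _ => Nat) (Bool.rec (motive := fun _ => Nat) (3852) (2416) (Nat.ble 252 i)) (Bool.rec (motive := fun _ => Nat) (3597) (3602) (Nat.ble 254 i)) (Nat.ble 253 i)) (Nat.ble 251 i)) (Nat.ble 248 i)) (Nat.ble 242 i)) (Nat.ble 229 i)) (Bool.rec (motive := fun _ => Nat) (Bool.rec (motive := fun _ => Nat) (Bool.rec (motive := fun _ => Nat) (Bool.rec (motive := fun _ => Nat) (Bool.rec (motive := fun _ => Nat) (3367) (Bool.rec (motive := fun _ => Nat) (3547) (3117) (Nat.ble 257 i)) (Nat.ble 256 i)) (Bool.rec (motive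 := fun _ => Nat) (3114) (Bool.rec (motive := fun _ => Nat) (3774) (2623) (Nat.ble 260 i)) (Nat.ble 259 i)) (Nat.ble 258 i)) (Bool.rec (motive := fun _ => Nat) (Bool.rec (motive := fun _ => Nat) (2353) (Bool.rec (motive := fun _ => Nat) (2428) (2433) (Nat.ble 263 i)) (Nat.ble 262 i)) (Bool.rec (motive := fun _ => Nat) (3081) (Bool.rec (motive := fun _ => Nat) (2838) (2443) (Nat.ble 266 i)) (Nat.ble 265 i)) (Nat.ble 264 i)) (Nat.ble 261 i)) (Bool.rec (motive := fun _ => Nat) (Bool.rec (motive := fun _ => Nat) (Bool.rec (motive := fun _ => Nat) (2090) (Bool.rec (motive := fun _ => Nat) (2640) (2572) (Nat.ble 269 i)) (Nat.ble 268 i)) (Bool.rec (motive := fun _ => Nat) (2091) (Bool.rec (motive := fun _ => Nat) (1580) (1379) (Nat.ble 272 i)) (Nat.ble 271 i)) (Nat.ble 270 i)) (Bool.rec (motive := fun _ => Nat) (Bool.rec (motive := fun _ => Nat) (3235) (Bool.rec (motive := fun _ => Nat) (2730) (2411) (Nat.ble 275 i)) (Nat.ble 274 i)) (Bool.rec (motive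 := fun _ => Nat) (Bool.rec (motive := fun _ => Nat) (3286) (1667) (Nat.ble 277 i)) (Bool.rec (motive := fun _ => Nat) (1581) (2341) (Nat.ble 279 i)) (Nat.ble 278 i)) (Nat.ble 276 i)) (Nat.ble 273 i)) (Nat.ble 267 i)) (Bool.rec (motive := fun _ => Nat) (Bool.rec (motive := fun _ => Nat) (Bool.rec (motive := fun _ => Nat) (Bool.rec (motive := fun _ => Nat) (1396) (Bool.rec (motive := fun _ => Nat) (1248) (3134) (Nat.ble 282 i)) (Nat.ble 281 i)) (Bool.rec (motive := fun _ => Nat) (1312) (Bool.rec (motive := fun _ => Nat) (1306) (3132) (Nat.ble 285 i)) (Nat.ble 284 i)) (Nat.ble 283 i)) (Bool.rec (motive := fun _ => Nat) (Bool.rec (motive := fun _ => Nat) (3173) (Bool.rec (motive := fun _ => Nat) (1466) (3087) (Nat.ble 288 i)) (Nat.ble 287 i)) (Bool.rec (motive := fun _ => Nat) (Bool.rec (motive := fun _ => Nat) (3108) (2429) (Nat.ble 290 i)) (Bool.rec (motive := fun _ => Nat) (2753) (3197) (Nat.ble 292 i)) (Nat.ble 291 i)) (Nat.ble 289 i)) (Nat.ble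 286 i)) (Bool.rec (motive := fun _ => Nat) (Bool.rec (motive := fun _ => Nat) (Bool.rec (motive := fun _ => Nat) (3145) (Bool.rec (motive := fun _ => Nat) (3113) (3196) (Nat.ble 295 i)) (Nat.ble 294 i)) (Bool.rec (motive := fun _ => Nat) (2819) (Bool.rec (motive := fun _ => Nat) (2862) (2310) (Nat.ble 298 i)) (Nat.ble 297 i)) (Nat.ble 296 i)) (Bool.rec (motive := fun _ => Nat) (Bool.rec (motive := fun _ => Nat) (3333) (Bool.rec (motive := fun _ => Nat) (3752) (3270) (Nat.ble 301 i)) (Nat.ble 300 i)) (Bool.rec (motive := fun _ => Nat) (Bool.rec (motive := fun _ => Nat) (3393) (2311) (Nat.ble 303 i)) (Bool.rec (motive := fun _ => Nat) (2089) (3692) (Nat.ble 305 i)) (Nat.ble 304 i)) (Nat.ble 302 i)) (Nat.ble 299 i)) (Nat.ble 293 i)) (Nat.ble 280 i)) (Nat.ble 255 i)) (Bool.rec (motive := fun _ => Nat) (Bool.rec (motive := fun _ => Nat) (Bool.rec (motive := fun _ => Nat) (Bool.rec (motive := fun _ => Nat) (Bool.rec (motive := fun _ => Nat) (Bool.rec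 (motive := fun _ => Nat) (3289) (Bool.rec (motive := fun _ => Nat) (3205) (2421) (Nat.ble 308 i)) (Nat.ble 307 i)) (Bool.rec (motive := fun _ => Nat) (2331) (Bool.rec (motive := fun _ => Nat) (1065) (3466) (Nat.ble 311 i)) (Nat.ble 310 i)) (Nat.ble 309 i)) (Bool.rec (motive := fun _ => Nat) (Bool.rec (motive := fun _ => Nat) (3407) (Bool.rec (motive := fun _ => Nat) (2597) (3086) (Nat.ble 314 i)) (Nat.ble 313 i)) (Bool.rec (motive := fun _ => Nat) (1038) (Bool.rec (motive := fun _ => Nat) (3751) (3803) (Nat.ble 317 i)) (Nat.ble 316 i)) (Nat.ble 315 i)) (Nat.ble 312 i)) (Bool.rec (motive := fun _ => Nat) (Bool.rec (motive := fun _ => Nat) (Bool.rec (motive := fun _ => Nat) (2657) (Bool.rec (motive := fun _ => Nat) (2277) (3615) (Nat.ble 320 i)) (Nat.ble 319 i)) (Bool.rec (motive := fun _ => Nat) (2110) (Bool.rec (motive := fun _ => Nat) (2084) (3744) (Nat.ble 323 i)) (Nat.ble 322 i)) (Nat.ble 321 i)) (Bool.rec (motive := fun _ => Nat) (Bool.rec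 (motive := fun _ => Nat) (2108) (Bool.rec (motive := fun _ => Nat) (2149) (1353) (Nat.ble 326 i)) (Nat.ble 325 i)) (Bool.rec (motive := fun _ => Nat) (Bool.rec (motive := fun _ => Nat) (2449) (2513) (Nat.ble 328 i)) (Bool.rec (motive := fun _ => Nat) (3360) (3433) (Nat.ble 330 i)) (Nat.ble 329 i)) (Nat.ble 327 i)) (Nat.ble 324 i)) (Nat.ble 318 i)) (Bool.rec (motive := fun _ => Nat) (Bool.rec (motive := fun _ => Nat) (Bool.rec (motive := fun _ => Nat) (Bool.rec (motive := fun _ => Nat) (2815) (Bool.rec (motive := fun _ => Nat) (3649) (1354) (Nat.ble 333 i)) (Nat.ble 332 i)) (Bool.rec (motive := fun _ => Nat) (2178) (Bool.rec (motive := fun _ => Nat) (3633) (3883) (Nat.ble 336 i)) (Nat.ble 335 i)) (Nat.ble 334 i)) (Bool.rec (motive := fun _ => Nat) (Bool.rec (motive := fun _ => Nat) (2072) (Bool.rec (motive := fun _ => Nat) (3758) (2774) (Nat.ble 339 i)) (Nat.ble 338 i)) (Bool.rec (motive := fun _ => Nat) (Bool.rec (motive := fun _ => Nat) (1807)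 (2552) (Nat.ble 341 i)) (Bool.rec (motive := fun _ => Nat) (2553) (2475) (Nat.ble 343 i)) (Nat.ble 342 i)) (Nat.ble 340 i)) (Nat.ble 337 i)) (Bool.rec (motive := fun _ => Nat) (Bool.rec (motive := fun _ => Nat) (Bool.rec (motive := fun _ => Nat) (2548) (Bool.rec (motive := fun _ => Nat) (2549) (2190) (Nat.ble 346 i)) (Nat.ble 345 i)) (Bool.rec (motive := fun _ => Nat) (2280) (Bool.rec (motive := fun _ => Nat) (2654) (2463) (Nat.ble 349 i)) (Nat.ble 348 i)) (Nat.ble 347 i)) (Bool.rec (motive := fun _ => Nat) (Bool.rec (motive := fun _ => Nat) (3240) (Bool.rec (motive := fun _ => Nat) (2522) (2629) (Nat.ble 352 i)) (Nat.ble 351 i)) (Bool.rec (motive := fun _ => Nat) (Bool.rec (motive := fun _ => Nat) (2435) (1444) (Nat.ble 354 i)) (Bool.rec (motive := fun _ => Nat) (3589) (2702) (Nat.ble 356 i)) (Nat.ble 355 i)) (Nat.ble 353 i)) (Nat.ble 350 i)) (Nat.ble 344 i)) (Nat.ble 331 i)) (Bool.rec (motive := fun _ => Nat) (Bool.rec (motive := fun _ =>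 Nat) (Bool.rec (motive := fun _ => Nat) (Bool.rec (motive := fun _ => Nat) (Bool.rec (motive := fun _ => Nat) (2787) (Bool.rec (motive := fun _ => Nat) (2772) (2786) (Nat.ble 359 i)) (Nat.ble 358 i)) (Bool.rec (motive := fun _ => Nat) (2789) (Bool.rec (motive := fun _ => Nat) (3101) (2230) (Nat.ble 362 i)) (Nat.ble 361 i)) (Nat.ble 360 i)) (Bool.rec (motive := fun _ => Nat) (Bool.rec (motive := fun _ => Nat) (2349) (Bool.rec (motive := fun _ => Nat) (2632) (1300) (Nat.ble 365 i)) (Nat.ble 364 i)) (Bool.rec (motive := fun _ => Nat) (Bool.rec (motive := fun _ => Nat) (1666) (2510) (Nat.ble 367 i)) (Bool.rec (motive := fun _ => Nat) (1478) (1313) (Nat.ble 369 i)) (Nat.ble 368 i)) (Nat.ble 366 i)) (Nat.ble 363 i)) (Bool.rec (motive := fun _ => Nat) (Bool.rec (motive := fun _ => Nat) (Bool.rec (motive := fun _ => Nat) (2850) (Bool.rec (motive := fun _ => Nat) (3264) (3189) (Nat.ble 372 i)) (Nat.ble 371 i)) (Bool.rec (motive := fun _ => Nat) (1385)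 (Bool.rec (motive := fun _ => Nat) (2555) (1632) (Nat.ble 375 i)) (Nat.ble 374 i)) (Nat.ble 373 i)) (Bool.rec (motive := fun _ => Nat) (Bool.rec (motive := fun _ => Nat) (1633) (Bool.rec (motive := fun _ => Nat) (1329) (2619) (Nat.ble 378 i)) (Nat.ble 377 i)) (Bool.rec (motive := fun _ => Nat) (Bool.rec (motive := fun _ => Nat) (2526) (3580) (Nat.ble 380 i)) (Bool.rec (motive := fun _ => Nat) (3319) (1212) (Nat.ble 382 i)) (Nat.ble 381 i)) (Nat.ble 379 i)) (Nat.ble 376 i)) (Nat.ble 370 i)) (Bool.rec (motive := fun _ => Nat) (Bool.rec (motive := fun _ => Nat) (Bool.rec (motive := fun _ => Nat) (Bool.rec (motive := fun _ => Nat) (1796) (Bool.rec (motive := fun _ => Nat) (1832) (3617) (Nat.ble 385 i)) (Nat.ble 384 i)) (Bool.rec (motive := fun _ => Nat) (1325) (Bool.rec (motive := fun _ => Nat) (3265) (2430) (Nat.ble 388 i)) (Nat.ble 387 i)) (Nat.ble 386 i)) (Bool.rec (motive := fun _ => Nat) (Bool.rec (motive := fun _ => Nat) (2618) (Bool.rec (motive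 := fun _ => Nat) (2750) (1834) (Nat.ble 391 i)) (Nat.ble 390 i)) (Bool.rec (motive := fun _ => Nat) (Bool.rec (motive := fun _ => Nat) (3427) (3627) (Nat.ble 393 i)) (Bool.rec (motive := fun _ => Nat) (1055) (2241) (Nat.ble 395 i)) (Nat.ble 394 i)) (Nat.ble 392 i)) (Nat.ble 389 i)) (Bool.rec (motive := fun _ => Nat) (Bool.rec (motive := fun _ => Nat) (Bool.rec (motive := fun _ => Nat) (2199) (Bool.rec (motive := fun _ => Nat) (3567) (2121) (Nat.ble 398 i)) (Nat.ble 397 i)) (Bool.rec (motive := fun _ => Nat) (1046) (Bool.rec (motive := fun _ => Nat) (3566) (1747) (Nat.ble 401 i)) (Nat.ble 400 i)) (Nat.ble 399 i)) (Bool.rec (motive := fun _ => Nat) (Bool.rec (motive := fun _ => Nat) (2556) (Bool.rec (motive := fun _ => Nat) (2366) (3524) (Nat.ble 404 i)) (Nat.ble 403 i)) (Bool.rec (motive := fun _ => Nat) (Bool.rec (motive := fun _ => Nat) (3430) (3229) (Nat.ble 406 i)) (Bool.rec (motive := fun _ => Nat) (3753) (1411) (Nat.ble 408 i)) (Nat.ble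 407 i)) (Nat.ble 405 i)) (Nat.ble 402 i)) (Nat.ble 396 i)) (Nat.ble 383 i)) (Nat.ble 357 i)) (Nat.ble 306 i)) (Nat.ble 204 i)) (Bool.rec (motive := fun _ => Nat) (Bool.rec (motive := fun _ => Nat) (Bool.rec (motive := fun _ => Nat) (Bool.rec (motive := fun _ => Nat) (Bool.rec (motive := fun _ => Nat) (Bool.rec (motive := fun _ => Nat) (Bool.rec (motive := fun _ => Nat) (Bool.rec (motive := fun _ => Nat) (2236) (Bool.rec (motive := fun _ => Nat) (2243) (1605) (Nat.ble 411 i)) (Nat.ble 410 i)) (Bool.rec (motive := fun _ => Nat) (1052) (Bool.rec (motive := fun _ => Nat) (3334) (3179) (Nat.ble 414 i)) (Nat.ble 413 i)) (Nat.ble 412 i)) (Bool.rec (motive := fun _ => Nat) (Bool.rec (motive := fun _ => Nat) (2855) (Bool.rec (motive := fun _ => Nat) (3713) (3826) (Nat.ble 417 i)) (Nat.ble 416 i)) (Bool.rec (motive := fun _ => Nat) (2844) (Bool.rec (motive := fun _ => Nat) (2840) (3317) (Nat.ble 420 i)) (Nat.ble 419 i)) (Nat.ble 418 i)) (Nat.ble 415 i))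 (Bool.rec (motive := fun _ => Nat) (Bool.rec (motive := fun _ => Nat) (Bool.rec (motive := fun _ => Nat) (2444) (Bool.rec (motive := fun _ => Nat) (2283) (2092) (Nat.ble 423 i)) (Nat.ble 422 i)) (Bool.rec (motive := fun _ => Nat) (1453) (Bool.rec (motive := fun _ => Nat) (2864) (2070) (Nat.ble 426 i)) (Nat.ble 425 i)) (Nat.ble 424 i)) (Bool.rec (motive := fun _ => Nat) (Bool.rec (motive := fun _ => Nat) (2093) (Bool.rec (motive := fun _ => Nat) (2512) (3227) (Nat.ble 429 i)) (Nat.ble 428 i)) (Bool.rec (motive := fun _ => Nat) (Bool.rec (motive := fun _ => Nat) (2069) (1275) (Nat.ble 431 i)) (Bool.rec (motive := fun _ => Nat) (1801) (3154) (Nat.ble 433 i)) (Nat.ble 432 i)) (Nat.ble 430 i)) (Nat.ble 427 i)) (Nat.ble 421 i)) (Bool.rec (motive := fun _ => Nat) (Bool.rec (motive := fun _ => Nat) (Bool.rec (motive := fun _ => Nat) (Bool.rec (motive := fun _ => Nat) (2806) (Bool.rec (motive := fun _ => Nat) (2733) (3153) (Nat.ble 436 i)) (Nat.ble 435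 i)) (Bool.rec (motive := fun _ => Nat) (2267) (Bool.rec (motive := fun _ => Nat) (2410) (2078) (Nat.ble 439 i)) (Nat.ble 438 i)) (Nat.ble 437 i)) (Bool.rec (motive := fun _ => Nat) (Bool.rec (motive := fun _ => Nat) (3813) (Bool.rec (motive := fun _ => Nat) (1640) (3204) (Nat.ble 442 i)) (Nat.ble 441 i)) (Bool.rec (motive := fun _ => Nat) (Bool.rec (motive := fun _ => Nat) (3285) (2079) (Nat.ble 444 i)) (Bool.rec (motive := fun _ => Nat) (2447) (2811) (Nat.ble 446 i)) (Nat.ble 445 i)) (Nat.ble 443 i)) (Nat.ble 440 i)) (Bool.rec (motive := fun _ => Nat) (Bool.rec (motive := fun _ => Nat) (Bool.rec (motive := fun _ => Nat) (2342) (Bool.rec (motive := fun _ => Nat) (2228) (1582) (Nat.ble 449 i)) (Nat.ble 448 i)) (Bool.rec (motive := fun _ => Nat) (1568) (Bool.rec (motive := fun _ => Nat) (2703) (2851) (Nat.ble 452 i)) (Nat.ble 451 i)) (Nat.ble 450 i)) (Bool.rec (motive := fun _ => Nat) (Bool.rec (motive := fun _ => Nat) (2625) (Bool.rec (motive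 := fun _ => Nat) (3102) (2074) (Nat.ble 455 i)) (Nat.ble 454 i)) (Bool.rec (motive := fun _ => Nat) (Bool.rec (motive := fun _ => Nat) (2616) (2617) (Nat.ble 457 i)) (Bool.rec (motive := fun _ => Nat) (2154) (2764) (Nat.ble 459 i)) (Nat.ble 458 i)) (Nat.ble 456 i)) (Nat.ble 453 i)) (Nat.ble 447 i)) (Nat.ble 434 i)) (Bool.rec (motive := fun _ => Nat) (Bool.rec (motive := fun _ => Nat) (Bool.rec (motive := fun _ => Nat) (Bool.rec (motive := fun _ => Nat) (Bool.rec (motive := fun _ => Nat) (2814) (Bool.rec (motive := fun _ => Nat) (2384) (3342) (Nat.ble 462 i)) (Nat.ble 461 i)) (Bool.rec (motive := fun _ => Nat) (1326) (Bool.rec (motive := fun _ => Nat) (3276) (3277) (Nat.ble 465 i)) (Nat.ble 464 i)) (Nat.ble 463 i)) (Bool.rec (motive := fun _ => Nat) (Bool.rec (motive := fun _ => Nat) (1144) (Bool.rec (motive := fun _ => Nat) (3273) (3274) (Nat.ble 468 i)) (Nat.ble 467 i)) (Bool.rec (motive := fun _ => Nat) (2674) (Bool.rec (motive := fun _ =>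 Nat) (2542) (2665) (Nat.ble 471 i)) (Nat.ble 470 i)) (Nat.ble 469 i)) (Nat.ble 466 i)) (Bool.rec (motive := fun _ => Nat) (Bool.rec (motive := fun _ => Nat) (Bool.rec (motive := fun _ => Nat) (2205) (Bool.rec (motive := fun _ => Nat) (2309) (1069) (Nat.ble 474 i)) (Nat.ble 473 i)) (Bool.rec (motive := fun _ => Nat) (1040) (Bool.rec (motive := fun _ => Nat) (1604) (2676) (Nat.ble 477 i)) (Nat.ble 476 i)) (Nat.ble 475 i)) (Bool.rec (motive := fun _ => Nat) (Bool.rec (motive := fun _ => Nat) (1797) (Bool.rec (motive := fun _ => Nat) (2308) (2206) (Nat.ble 480 i)) (Nat.ble 479 i)) (Bool.rec (motive := fun _ => Nat) (Bool.rec (motive := fun _ => Nat) (3390) (3579) (Nat.ble 482 i)) (Bool.rec (motive := fun _ => Nat) (1066) (2378) (Nat.ble 484 i)) (Nat.ble 483 i)) (Nat.ble 481 i)) (Nat.ble 478 i)) (Nat.ble 472 i)) (Bool.rec (motive := fun _ => Nat) (Bool.rec (motive := fun _ => Nat) (Bool.rec (motive := fun _ => Nat) (Bool.rec (motive := fun _ => Nat)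 (2266) (Bool.rec (motive := fun _ => Nat) (2419) (2691) (Nat.ble 487 i)) (Nat.ble 486 i)) (Bool.rec (motive := fun _ => Nat) (2471) (Bool.rec (motive := fun _ => Nat) (3831) (3687) (Nat.ble 490 i)) (Nat.ble 489 i)) (Nat.ble 488 i)) (Bool.rec (motive := fun _ => Nat) (Bool.rec (motive := fun _ => Nat) (1601) (Bool.rec (motive := fun _ => Nat) (3858) (3878) (Nat.ble 493 i)) (Nat.ble 492 i)) (Bool.rec (motive := fun _ => Nat) (Bool.rec (motive := fun _ => Nat) (2464) (2656) (Nat.ble 495 i)) (Bool.rec (motive := fun _ => Nat) (2278) (2189) (Nat.ble 497 i)) (Nat.ble 496 i)) (Nat.ble 494 i)) (Nat.ble 491 i)) (Bool.rec (motive := fun _ => Nat) (Bool.rec (motive := fun _ => Nat) (Bool.rec (motive := fun _ => Nat) (2831) (Bool.rec (motive := fun _ => Nat) (3605) (3415) (Nat.ble 500 i)) (Nat.ble 499 i)) (Bool.rec (motive := fun _ => Nat) (3614) (Bool.rec (motive := fun _ => Nat) (2284) (3257) (Nat.ble 503 i)) (Nat.ble 502 i)) (Nat.ble 501 i)) (Bool.rec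 (motive := fun _ => Nat) (Bool.rec (motive := fun _ => Nat) (3745) (Bool.rec (motive := fun _ => Nat) (3560) (3254) (Nat.ble 506 i)) (Nat.ble 505 i)) (Bool.rec (motive := fun _ => Nat) (Bool.rec (motive := fun _ => Nat) (2442) (2523) (Nat.ble 508 i)) (Bool.rec (motive := fun _ => Nat) (3329) (2642) (Nat.ble 510 i)) (Nat.ble 509 i)) (Nat.ble 507 i)) (Nat.ble 504 i)) (Nat.ble 498 i)) (Nat.ble 485 i)) (Nat.ble 460 i)) (Bool.rec (motive := fun _ => Nat) (Bool.rec (motive := fun _ => Nat) (Bool.rec (motive := fun _ => Nat) (Bool.rec (motive := fun _ => Nat) (Bool.rec (motive := fun _ => Nat) (Bool.rec (motive := fun _ => Nat) (2643) (Bool.rec (motive := fun _ => Nat) (3125) (2340) (Nat.ble 513 i)) (Nat.ble 512 i)) (Bool.rec (motive := fun _ => Nat) (2571) (Bool.rec (motive := fun _ => Nat) (3128) (1647) (Nat.ble 516 i)) (Nat.ble 515 i)) (Nat.ble 514 i)) (Bool.rec (motive := fun _ => Nat) (Bool.rec (motive := fun _ => Nat) (2828) (Bool.rec (motive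 := fun _ => Nat) (3373) (3534) (Nat.ble 519 i)) (Nat.ble 518 i)) (Bool.rec (motive := fun _ => Nat) (3656) (Bool.rec (motive := fun _ => Nat) (1533) (3648) (Nat.ble 522 i)) (Nat.ble 521 i)) (Nat.ble 520 i)) (Nat.ble 517 i)) (Bool.rec (motive := fun _ => Nat) (Bool.rec (motive := fun _ => Nat) (Bool.rec (motive := fun _ => Nat) (3789) (Bool.rec (motive := fun _ => Nat) (1748) (3474) (Nat.ble 525 i)) (Nat.ble 524 i)) (Bool.rec (motive := fun _ => Nat) (3446) (Bool.rec (motive := fun _ => Nat) (1179) (3818) (Nat.ble 528 i)) (Nat.ble 527 i)) (Nat.ble 526 i)) (Bool.rec (motive := fun _ => Nat) (Bool.rec (motive := fun _ => Nat) (3881) (Bool.rec (motive := fun _ => Nat) (3860) (3554) (Nat.ble 531 i)) (Nat.ble 530 i)) (Bool.rec (motive := fun _ => Nat) (Bool.rec (motive := fun _ => Nat) (3574) (3682) (Nat.ble 533 i)) (Bool.rec (motive := fun _ => Nat) (2817) (2852) (Nat.ble 535 i)) (Nat.ble 534 i)) (Nat.ble 532 i)) (Nat.ble 529 i)) (Nat.ble 523 i))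 (Bool.rec (motive := fun _ => Nat) (Bool.rec (motive := fun _ => Nat) (Bool.rec (motive := fun _ => Nat) (Bool.rec (motive := fun _ => Nat) (3519) (Bool.rec (motive := fun _ => Nat) (2516) (1817) (Nat.ble 538 i)) (Nat.ble 537 i)) (Bool.rec (motive := fun _ => Nat) (1821) (Bool.rec (motive := fun _ => Nat) (2501) (2545) (Nat.ble 541 i)) (Nat.ble 540 i)) (Nat.ble 539 i)) (Bool.rec (motive := fun _ => Nat) (Bool.rec (motive := fun _ => Nat) (2315) (Bool.rec (motive := fun _ => Nat) (2474) (3796) (Nat.ble 544 i)) (Nat.ble 543 i)) (Bool.rec (motive := fun _ => Nat) (Bool.rec (motive := fun _ => Nat) (2839) (3177) (Nat.ble 546 i)) (Bool.rec (motive := fun _ => Nat) (3239) (1190) (Nat.ble 548 i)) (Nat.ble 547 i)) (Nat.ble 545 i)) (Nat.ble 542 i)) (Bool.rec (motive := fun _ => Nat) (Bool.rec (motive := fun _ => Nat) (Bool.rec (motive := fun _ => Nat) (2531) (Bool.rec (motive := fun _ => Nat) (2064) (1193) (Nat.ble 551 i)) (Nat.ble 550 i)) (Bool.rec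 (motive := fun _ => Nat) (3727) (Bool.rec (motive := fun _ => Nat) (1641) (3248) (Nat.ble 554 i)) (Nat.ble 553 i)) (Nat.ble 552 i)) (Bool.rec (motive := fun _ => Nat) (Bool.rec (motive := fun _ => Nat) (3403) (Bool.rec (motive := fun _ => Nat) (3497) (3361) (Nat.ble 557 i)) (Nat.ble 556 i)) (Bool.rec (motive := fun _ => Nat) (Bool.rec (motive := fun _ => Nat) (3874) (3810) (Nat.ble 559 i)) (Bool.rec (motive := fun _ => Nat) (2728) (2668) (Nat.ble 561 i)) (Nat.ble 560 i)) (Nat.ble 558 i)) (Nat.ble 555 i)) (Nat.ble 549 i)) (Nat.ble 536 i)) (Bool.rec (motive := fun _ => Nat) (Bool.rec (motive := fun _ => Nat) (Bool.rec (motive := fun _ => Nat) (Bool.rec (motive := fun _ => Nat) (Bool.rec (motive := fun _ => Nat) (2240) (Bool.rec (motive := fun _ => Nat) (2681) (2577) (Nat.ble 564 i)) (Nat.ble 563 i)) (Bool.rec (motive := fun _ => Nat) (1404) (Bool.rec (motive := fun _ => Nat) (1506) (3515) (Nat.ble 567 i)) (Nat.ble 566 i)) (Nat.ble 565 i)) (Bool.rec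 (motive := fun _ => Nat) (Bool.rec (motive := fun _ => Nat) (3385) (Bool.rec (motive := fun _ => Nat) (3266) (1219) (Nat.ble 570 i)) (Nat.ble 569 i)) (Bool.rec (motive := fun _ => Nat) (Bool.rec (motive := fun _ => Nat) (1831) (2379) (Nat.ble 572 i)) (Bool.rec (motive := fun _ => Nat) (2103) (3423) (Nat.ble 574 i)) (Nat.ble 573 i)) (Nat.ble 571 i)) (Nat.ble 568 i)) (Bool.rec (motive := fun _ => Nat) (Bool.rec (motive := fun _ => Nat) (Bool.rec (motive := fun _ => Nat) (3718) (Bool.rec (motive := fun _ => Nat) (3518) (3502) (Nat.ble 577 i)) (Nat.ble 576 i)) (Bool.rec (motive := fun _ => Nat) (1206) (Bool.rec (motive := fun _ => Nat) (2239) (3223) (Nat.ble 580 i)) (Nat.ble 579 i)) (Nat.ble 578 i)) (Bool.rec (motive := fun _ => Nat) (Bool.rec (motive := fun _ => Nat) (3323) (Bool.rec (motive := fun _ => Nat) (2165) (3348) (Nat.ble 583 i)) (Nat.ble 582 i)) (Bool.rec (motive := fun _ => Nat) (Bool.rec (motive := fun _ => Nat) (3495) (2677) (Nat.ble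 585 i)) (Bool.rec (motive := fun _ => Nat) (2573) (2578) (Nat.ble 587 i)) (Nat.ble 586 i)) (Nat.ble 584 i)) (Nat.ble 581 i)) (Nat.ble 575 i)) (Bool.rec (motive := fun _ => Nat) (Bool.rec (motive := fun _ => Nat) (Bool.rec (motive := fun _ => Nat) (Bool.rec (motive := fun _ => Nat) (2749) (Bool.rec (motive := fun _ => Nat) (2546) (3766) (Nat.ble 590 i)) (Nat.ble 589 i)) (Bool.rec (motive := fun _ => Nat) (2673) (Bool.rec (motive := fun _ => Nat) (1827) (3877) (Nat.ble 593 i)) (Nat.ble 592 i)) (Nat.ble 591 i)) (Bool.rec (motive := fun _ => Nat) (Bool.rec (motive := fun _ => Nat) (1823) (Bool.rec (motive := fun _ => Nat) (1824) (2834) (Nat.ble 596 i)) (Nat.ble 595 i)) (Bool.rec (motive := fun _ => Nat) (Bool.rec (motive := fun _ => Nat) (2664) (2543) (Nat.ble 598 i)) (Bool.rec (motive := fun _ => Nat) (2217) (2468) (Nat.ble 600 i)) (Nat.ble 599 i)) (Nat.ble 597 i)) (Nat.ble 594 i)) (Bool.rec (motive := fun _ => Nat) (Bool.rec (motive := fun _ =>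 Nat) (Bool.rec (motive := fun _ => Nat) (2214) (Bool.rec (motive := fun _ => Nat) (2746) (1254) (Nat.ble 603 i)) (Nat.ble 602 i)) (Bool.rec (motive := fun _ => Nat) (2809) (Bool.rec (motive := fun _ => Nat) (2821) (2858) (Nat.ble 606 i)) (Nat.ble 605 i)) (Nat.ble 604 i)) (Bool.rec (motive := fun _ => Nat) (Bool.rec (motive := fun _ => Nat) (2271) (Bool.rec (motive := fun _ => Nat) (3511) (3712) (Nat.ble 609 i)) (Nat.ble 608 i)) (Bool.rec (motive := fun _ => Nat) (Bool.rec (motive := fun _ => Nat) (2446) (3843) (Nat.ble 611 i)) (Bool.rec (motive := fun _ => Nat) (3886) (3801) (Nat.ble 613 i)) (Nat.ble 612 i)) (Nat.ble 610 i)) (Nat.ble 607 i)) (Nat.ble 601 i)) (Nat.ble 588 i)) (Nat.ble 562 i)) (Nat.ble 511 i)) (Bool.rec (motive := fun _ => Nat) (Bool.rec (motive := fun _ => Nat) (Bool.rec (motive := fun _ => Nat) (Bool.rec (motive := fun _ => Nat) (Bool.rec (motive := fun _ => Nat) (Bool.rec (motive := fun _ => Nat) (Bool.rec (motive := fun _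 => Nat) (3604) (Bool.rec (motive := fun _ => Nat) (2698) (3382) (Nat.ble 616 i)) (Nat.ble 615 i)) (Bool.rec (motive := fun _ => Nat) (3318) (Bool.rec (motive := fun _ => Nat) (2742) (2741) (Nat.ble 619 i)) (Nat.ble 618 i)) (Nat.ble 617 i)) (Bool.rec (motive := fun _ => Nat) (Bool.rec (motive := fun _ => Nat) (2460) (Bool.rec (motive := fun _ => Nat) (3374) (3099) (Nat.ble 622 i)) (Nat.ble 621 i)) (Bool.rec (motive := fun _ => Nat) (3330) (Bool.rec (motive := fun _ => Nat) (2153) (1217) (Nat.ble 625 i)) (Nat.ble 624 i)) (Nat.ble 623 i)) (Nat.ble 620 i)) (Bool.rec (motive := fun _ => Nat) (Bool.rec (motive := fun _ => Nat) (Bool.rec (motive := fun _ => Nat) (1175) (Bool.rec (motive := fun _ => Nat) (2075) (1842) (Nat.ble 628 i)) (Nat.ble 627 i)) (Bool.rec (motive := fun _ => Nat) (1829) (Bool.rec (motive := fun _ => Nat) (3569) (2487) (Nat.ble 631 i)) (Nat.ble 630 i)) (Nat.ble 629 i)) (Bool.rec (motive := fun _ => Nat) (Bool.rec (motive := fun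 _ => Nat) (2415) (Bool.rec (motive := fun _ => Nat) (3210) (3211) (Nat.ble 634 i)) (Nat.ble 633 i)) (Bool.rec (motive := fun _ => Nat) (Bool.rec (motive := fun _ => Nat) (2383) (2515) (Nat.ble 636 i)) (Bool.rec (motive := fun _ => Nat) (3207) (3208) (Nat.ble 638 i)) (Nat.ble 637 i)) (Nat.ble 635 i)) (Nat.ble 632 i)) (Nat.ble 626 i)) (Bool.rec (motive := fun _ => Nat) (Bool.rec (motive := fun _ => Nat) (Bool.rec (motive := fun _ => Nat) (Bool.rec (motive := fun _ => Nat) (3378) (Bool.rec (motive := fun _ => Nat) (2063) (2077) (Nat.ble 641 i)) (Nat.ble 640 i)) (Bool.rec (motive := fun _ => Nat) (3875) (Bool.rec (motive := fun _ => Nat) (3354) (2076) (Nat.ble 644 i)) (Nat.ble 643 i)) (Nat.ble 642 i)) (Bool.rec (motive := fun _ => Nat) (Bool.rec (motive := fun _ => Nat) (1130) (Bool.rec (motive := fun _ => Nat) (2723) (2682) (Nat.ble 647 i)) (Nat.ble 646 i)) (Bool.rec (motive := fun _ => Nat) (Bool.rec (motive := fun _ => Nat) (2102) (1280) (Nat.ble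 649 i)) (Bool.rec (motive := fun _ => Nat) (3621) (2576) (Nat.ble 651 i)) (Nat.ble 650 i)) (Nat.ble 648 i)) (Nat.ble 645 i)) (Bool.rec (motive := fun _ => Nat) (Bool.rec (motive := fun _ => Nat) (Bool.rec (motive := fun _ => Nat) (3514) (Bool.rec (motive := fun _ => Nat) (1078) (3849) (Nat.ble 654 i)) (Nat.ble 653 i)) (Bool.rec (motive := fun _ => Nat) (2306) (Bool.rec (motive := fun _ => Nat) (2479) (2854) (Nat.ble 657 i)) (Nat.ble 656 i)) (Nat.ble 655 i)) (Bool.rec (motive := fun _ => Nat) (Bool.rec (motive := fun _ => Nat) (2729) (Bool.rec (motive := fun _ => Nat) (2480) (3392) (Nat.ble 660 i)) (Nat.ble 659 i)) (Bool.rec (motive := fun _ => Nat) (Bool.rec (motive := fun _ => Nat) (2248) (2377) (Nat.ble 662 i)) (Bool.rec (motive := fun _ => Nat) (3395) (2273) (Nat.ble 664 i)) (Nat.ble 663 i)) (Nat.ble 661 i)) (Nat.ble 658 i)) (Nat.ble 652 i)) (Nat.ble 639 i)) (Bool.rec (motive := fun _ => Nat) (Bool.rec (motive := fun _ => Nat) (Bool.rec (motive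 := fun _ => Nat) (Bool.rec (motive := fun _ => Nat) (Bool.rec (motive := fun _ => Nat) (2185) (Bool.rec (motive := fun _ => Nat) (2420) (2272) (Nat.ble 667 i)) (Nat.ble 666 i)) (Bool.rec (motive := fun _ => Nat) (2605) (Bool.rec (motive := fun _ => Nat) (2602) (3601) (Nat.ble 670 i)) (Nat.ble 669 i)) (Nat.ble 668 i)) (Bool.rec (motive := fun _ => Nat) (Bool.rec (motive := fun _ => Nat) (3706) (Bool.rec (motive := fun _ => Nat) (2478) (2318) (Nat.ble 673 i)) (Nat.ble 672 i)) (Bool.rec (motive := fun _ => Nat) (3525) (Bool.rec (motive := fun _ => Nat) (1039) (1486) (Nat.ble 676 i)) (Nat.ble 675 i)) (Nat.ble 674 i)) (Nat.ble 671 i)) (Bool.rec (motive := fun _ => Nat) (Bool.rec (motive := fun _ => Nat) (Bool.rec (motive := fun _ => Nat) (1608) (Bool.rec (motive := fun _ => Nat) (3332) (2777) (Nat.ble 679 i)) (Nat.ble 678 i)) (Bool.rec (motive := fun _ => Nat) (2841) (Bool.rec (motive := fun _ => Nat) (2845) (2355) (Nat.ble 682 i)) (Nat.ble 681 i))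 (Nat.ble 680 i)) (Bool.rec (motive := fun _ => Nat) (Bool.rec (motive := fun _ => Nat) (3410) (Bool.rec (motive := fun _ => Nat) (3722) (2354) (Nat.ble 685 i)) (Nat.ble 684 i)) (Bool.rec (motive := fun _ => Nat) (Bool.rec (motive := fun _ => Nat) (2352) (3869) (Nat.ble 687 i)) (Bool.rec (motive := fun _ => Nat) (3379) (3865) (Nat.ble 689 i)) (Nat.ble 688 i)) (Nat.ble 686 i)) (Nat.ble 683 i)) (Nat.ble 677 i)) (Bool.rec (motive := fun _ => Nat) (Bool.rec (motive := fun _ => Nat) (Bool.rec (motive := fun _ => Nat) (Bool.rec (motive := fun _ => Nat) (3230) (Bool.rec (motive := fun _ => Nat) (3457) (3647) (Nat.ble 692 i)) (Nat.ble 691 i)) (Bool.rec (motive := fun _ => Nat) (3782) (Bool.rec (motive := fun _ => Nat) (3703) (1330) (Nat.ble 695 i)) (Nat.ble 694 i)) (Nat.ble 693 i)) (Bool.rec (motive := fun _ => Nat) (Bool.rec (motive := fun _ => Nat) (1826) (Bool.rec (motive := fun _ => Nat) (1215) (1268) (Nat.ble 698 i)) (Nat.ble 697 i)) (Bool.rec (motive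 := fun _ => Nat) (Bool.rec (motive := fun _ => Nat) (1281) (1282) (Nat.ble 700 i)) (Bool.rec (motive := fun _ => Nat) (3824) (3885) (Nat.ble 702 i)) (Nat.ble 701 i)) (Nat.ble 699 i)) (Nat.ble 696 i)) (Bool.rec (motive := fun _ => Nat) (Bool.rec (motive := fun _ => Nat) (Bool.rec (motive := fun _ => Nat) (3377) (Bool.rec (motive := fun _ => Nat) (3452) (3644) (Nat.ble 705 i)) (Nat.ble 704 i)) (Bool.rec (motive := fun _ => Nat) (3520) (Bool.rec (motive := fun _ => Nat) (3351) (2343) (Nat.ble 708 i)) (Nat.ble 707 i)) (Nat.ble 706 i)) (Bool.rec (motive := fun _ => Nat) (Bool.rec (motive := fun _ => Nat) (2574) (Bool.rec (motive := fun _ => Nat) (2689) (2412) (Nat.ble 711 i)) (Nat.ble 710 i)) (Bool.rec (motive := fun _ => Nat) (Bool.rec (motive := fun _ => Nat) (2807) (2367) (Nat.ble 713 i)) (Bool.rec (motive := fun _ => Nat) (2544) (2727) (Nat.ble 715 i)) (Nat.ble 714 i)) (Nat.ble 712 i)) (Nat.ble 709 i)) (Nat.ble 703 i)) (Nat.ble 690 i)) (Nat.ble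 665 i)) (Bool.rec (motive := fun _ => Nat) (Bool.rec (motive := fun _ => Nat) (Bool.rec (motive := fun _ => Nat) (Bool.rec (motive := fun _ => Nat) (Bool.rec (motive := fun _ => Nat) (Bool.rec (motive := fun _ => Nat) (3799) (Bool.rec (motive := fun _ => Nat) (2688) (3855) (Nat.ble 718 i)) (Nat.ble 717 i)) (Bool.rec (motive := fun _ => Nat) (3335) (Bool.rec (motive := fun _ => Nat) (2663) (2779) (Nat.ble 721 i)) (Nat.ble 720 i)) (Nat.ble 719 i)) (Bool.rec (motive := fun _ => Nat) (Bool.rec (motive := fun _ => Nat) (2481) (Bool.rec (motive := fun _ => Nat) (3100) (3116) (Nat.ble 724 i)) (Nat.ble 723 i)) (Bool.rec (motive := fun _ => Nat) (2216) (Bool.rec (motive := fun _ => Nat) (3260) (2473) (Nat.ble 727 i)) (Nat.ble 726 i)) (Nat.ble 725 i)) (Nat.ble 722 i)) (Bool.rec (motive := fun _ => Nat) (Bool.rec (motive := fun _ => Nat) (Bool.rec (motive := fun _ => Nat) (2565) (Bool.rec (motive := fun _ => Nat) (3517) (1209) (Nat.ble 730 i)) (Nat.ble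 729 i)) (Bool.rec (motive := fun _ => Nat) (2604) (Bool.rec (motive := fun _ => Nat) (1050) (3573) (Nat.ble 733 i)) (Nat.ble 732 i)) (Nat.ble 731 i)) (Bool.rec (motive := fun _ => Nat) (Bool.rec (motive := fun _ => Nat) (3366) (Bool.rec (motive := fun _ => Nat) (3595) (3765) (Nat.ble 736 i)) (Nat.ble 735 i)) (Bool.rec (motive := fun _ => Nat) (Bool.rec (motive := fun _ => Nat) (2330) (2305) (Nat.ble 738 i)) (Bool.rec (motive := fun _ => Nat) (3890) (2104) (Nat.ble 740 i)) (Nat.ble 739 i)) (Nat.ble 737 i)) (Nat.ble 734 i)) (Nat.ble 728 i)) (Bool.rec (motive := fun _ => Nat) (Bool.rec (motive := fun _ => Nat) (Bool.rec (motive := fun _ => Nat) (Bool.rec (motive := fun _ => Nat) (2203) (Bool.rec (motive := fun _ => Nat) (2101) (1409) (Nat.ble 743 i)) (Nat.ble 742 i)) (Bool.rec (motive := fun _ => Nat) (2697) (Bool.rec (motive := fun _ => Nat) (2818) (2494) (Nat.ble 746 i)) (Nat.ble 745 i)) (Nat.ble 744 i)) (Bool.rec (motive := fun _ => Nat) (Bool.rec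 (motive := fun _ => Nat) (1165) (Bool.rec (motive := fun _ => Nat) (1253) (3439) (Nat.ble 749 i)) (Nat.ble 748 i)) (Bool.rec (motive := fun _ => Nat) (Bool.rec (motive := fun _ => Nat) (2843) (2745) (Nat.ble 751 i)) (Bool.rec (motive := fun _ => Nat) (2492) (3705) (Nat.ble 753 i)) (Nat.ble 752 i)) (Nat.ble 750 i)) (Nat.ble 747 i)) (Bool.rec (motive := fun _ => Nat) (Bool.rec (motive := fun _ => Nat) (Bool.rec (motive := fun _ => Nat) (2490) (Bool.rec (motive := fun _ => Nat) (2332) (2417) (Nat.ble 756 i)) (Nat.ble 755 i)) (Bool.rec (motive := fun _ => Nat) (3646) (Bool.rec (motive := fun _ => Nat) (2233) (2622) (Nat.ble 759 i)) (Nat.ble 758 i)) (Nat.ble 757 i)) (Bool.rec (motive := fun _ => Nat) (Bool.rec (motive := fun _ => Nat) (1763) (Bool.rec (motive := fun _ => Nat) (1216) (2215) (Nat.ble 762 i)) (Nat.ble 761 i)) (Bool.rec (motive := fun _ => Nat) (Bool.rec (motive := fun _ => Nat) (1053) (3391) (Nat.ble 764 i)) (Bool.rec (motive := fun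 _ => Nat) (3568) (3800) (Nat.ble 766 i)) (Nat.ble 765 i)) (Nat.ble 763 i)) (Nat.ble 760 i)) (Nat.ble 754 i)) (Nat.ble 741 i)) (Bool.rec (motive := fun _ => Nat) (Bool.rec (motive := fun _ => Nat) (Bool.rec (motive := fun _ => Nat) (Bool.rec (motive := fun _ => Nat) (Bool.rec (motive := fun _ => Nat) (1067) (Bool.rec (motive := fun _ => Nat) (3537) (3267) (Nat.ble 769 i)) (Nat.ble 768 i)) (Bool.rec (motive := fun _ => Nat) (1335) (Bool.rec (motive := fun _ => Nat) (2491) (3252) (Nat.ble 772 i)) (Nat.ble 771 i)) (Nat.ble 770 i)) (Bool.rec (motive := fun _ => Nat) (Bool.rec (motive := fun _ => Nat) (3835) (Bool.rec (motive := fun _ => Nat) (1079) (2337) (Nat.ble 775 i)) (Nat.ble 774 i)) (Bool.rec (motive := fun _ => Nat) (Bool.rec (motive := fun _ => Nat) (1331) (3546) (Nat.ble 777 i)) (Bool.rec (motive := fun _ => Nat) (3572) (3536) (Nat.ble 779 i)) (Nat.ble 778 i)) (Nat.ble 776 i)) (Nat.ble 773 i)) (Bool.rec (motive := fun _ => Nat) (Bool.rec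 (motive := fun _ => Nat) (Bool.rec (motive := fun _ => Nat) (1045) (Bool.rec (motive := fun _ => Nat) (3576) (3577) (Nat.ble 782 i)) (Nat.ble 781 i)) (Bool.rec (motive := fun _ => Nat) (3339) (Bool.rec (motive := fun _ => Nat) (3408) (3600) (Nat.ble 785 i)) (Nat.ble 784 i)) (Nat.ble 783 i)) (Bool.rec (motive := fun _ => Nat) (Bool.rec (motive := fun _ => Nat) (2403) (Bool.rec (motive := fun _ => Nat) (3505) (2598) (Nat.ble 788 i)) (Nat.ble 787 i)) (Bool.rec (motive := fun _ => Nat) (Bool.rec (motive := fun _ => Nat) (3436) (2825) (Nat.ble 790 i)) (Bool.rec (motive := fun _ => Nat) (1054) (2853) (Nat.ble 792 i)) (Nat.ble 791 i)) (Nat.ble 789 i)) (Nat.ble 786 i)) (Nat.ble 780 i)) (Bool.rec (motive := fun _ => Nat) (Bool.rec (motive := fun _ => Nat) (Bool.rec (motive := fun _ => Nat) (Bool.rec (motive := fun _ => Nat) (3498) (Bool.rec (motive := fun _ => Nat) (2224) (1141) (Nat.ble 795 i)) (Nat.ble 794 i)) (Bool.rec (motive := fun _ => Nat) (2866)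 (Bool.rec (motive := fun _ => Nat) (3499) (1600) (Nat.ble 798 i)) (Nat.ble 797 i)) (Nat.ble 796 i)) (Bool.rec (motive := fun _ => Nat) (Bool.rec (motive := fun _ => Nat) (3088) (Bool.rec (motive := fun _ => Nat) (3103) (1678) (Nat.ble 801 i)) (Nat.ble 800 i)) (Bool.rec (motive := fun _ => Nat) (Bool.rec (motive := fun _ => Nat) (3093) (3115) (Nat.ble 803 i)) (Bool.rec (motive := fun _ => Nat) (3192) (3471) (Nat.ble 805 i)) (Nat.ble 804 i)) (Nat.ble 802 i)) (Nat.ble 799 i)) (Bool.rec (motive := fun _ => Nat) (Bool.rec (motive := fun _ => Nat) (Bool.rec (motive := fun _ => Nat) (2603) (Bool.rec (motive := fun _ => Nat) (3747) (3365) (Nat.ble 808 i)) (Nat.ble 807 i)) (Bool.rec (motive := fun _ => Nat) (2593) (Bool.rec (motive := fun _ => Nat) (3863) (2694) (Nat.ble 811 i)) (Nat.ble 810 i)) (Nat.ble 809 i)) (Bool.rec (motive := fun _ => Nat) (Bool.rec (motive := fun _ => Nat) (1599) (Bool.rec (motive := fun _ => Nat) (2692) (2324) (Nat.ble 814 i))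 (Nat.ble 813 i)) (Bool.rec (motive := fun _ => Nat) (Bool.rec (motive := fun _ => Nat) (1617) (1068) (Nat.ble 816 i)) (Bool.rec (motive := fun _ => Nat) (3364) (3555) (Nat.ble 818 i)) (Nat.ble 817 i)) (Nat.ble 815 i)) (Nat.ble 812 i)) (Nat.ble 806 i)) (Nat.ble 793 i)) (Nat.ble 767 i)) (Nat.ble 716 i)) (Nat.ble 614 i)) (Nat.ble 409 i))

/-- Stabilising words of node 7. -/
def tGen7 : List (List Nat) := [[13], [0, 2, 0, 4, 2, 6, 4, 6, 8, 6, 4, 2, 6, 4, 13, 7, 1, 3, 5, 7], [2, 0, 6, 4, 2, 0, 6, 8, 6, 4, 6, 8], [0, 4, 6, 4, 2, 0, 8, 6, 4, 2, 6, 4, 8, 6, 5, 3, 1]]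

/-- Roots at node 7. -/
def tRoot7 : List Nat := [0, 1, 2, 15, 16, 21, 22, 35, 36, 41]

/-- Forest of the points at node 8. -/
noncomputable def tPar8 (i : Nat) : Nat := (Bool.rec (motive := fun _ => Nat) (Bool.rec (motive := fun _ => Nat) (Bool.rec (motive := fun _ => Nat) (Bool.rec (motive := fun _ => Nat) (Bool.rec (motive := fun _ => Nat) (Bool.rec (motive := fun _ => Nat) (Bool.rec (motive := fun _ => Nat) (Bool.rec (motive := fun _ => Nat) (Bool.rec (motive := fun _ => Nat) (15360) (Bool.rec (motive := fun _ => Nat) (15361) (15362) (Nat.ble 2 i)) (Nat.ble 1 i)) (Bool.rec (motive := fun _ => Nat) (15363) (Bool.rec (motive := fun _ => Nat) (15364) (1580) (Nat.ble 5 i)) (Nat.ble 4 i)) (Nat.ble 3 i)) (Bool.rec (motive := fun _ => Nat) (Bool.rec (motive := fun _ => Nat) (15366) (Bool.rec (motive := fun _ => Nat) (15367) (15368) (Nat.ble 8 i)) (Nat.ble 7 i)) (Bool.rec (motive := fun _ => Nat) (15369) (Bool.rec (motive := fun _ => Nat) (1612)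 (1431) (Nat.ble 11 i)) (Nat.ble 10 i)) (Nat.ble 9 i)) (Nat.ble 6 i)) (Bool.rec (motive := fun _ => Nat) (Bool.rec (motive := fun _ => Nat) (Bool.rec (motive := fun _ => Nat) (334) (Bool.rec (motive := fun _ => Nat) (15373) (2405) (Nat.ble 14 i)) (Nat.ble 13 i)) (Bool.rec (motive := fun _ => Nat) (2069) (Bool.rec (motive := fun _ => Nat) (394) (2158) (Nat.ble 17 i)) (Nat.ble 16 i)) (Nat.ble 15 i)) (Bool.rec (motive := fun _ => Nat) (Bool.rec (motive := fun _ => Nat) (15378) (Bool.rec (motive := fun _ => Nat) (2238) (337) (Nat.ble 20 i)) (Nat.ble 19 i)) (Bool.rec (motive := fun _ => Nat) (Bool.rec (motive := fun _ => Nat) (767) (2692) (Nat.ble 22 i)) (Bool.rec (motive := fun _ => Nat) (1577) (15384) (Nat.ble 24 i)) (Nat.ble 23 i)) (Nat.ble 21 i)) (Nat.ble 18 i)) (Nat.ble 12 i)) (Bool.rec (motive := fun _ => Nat) (Bool.rec (motive := fun _ => Nat) (Bool.rec (motive := fun _ => Nat) (Bool.rec (motive := fun _ => Nat) (1435) (Bool.rec (motive :=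 fun _ => Nat) (15386) (2792) (Nat.ble 27 i)) (Nat.ble 26 i)) (Bool.rec (motive := fun _ => Nat) (2459) (Bool.rec (motive := fun _ => Nat) (2662) (2487) (Nat.ble 30 i)) (Nat.ble 29 i)) (Nat.ble 28 i)) (Bool.rec (motive := fun _ => Nat) (Bool.rec (motive := fun _ => Nat) (2461) (Bool.rec (motive := fun _ => Nat) (15392) (6) (Nat.ble 33 i)) (Nat.ble 32 i)) (Bool.rec (motive := fun _ => Nat) (Bool.rec (motive := fun _ => Nat) (2635) (1450) (Nat.ble 35 i)) (Bool.rec (motive := fun _ => Nat) (61) (2491) (Nat.ble 37 i)) (Nat.ble 36 i)) (Nat.ble 34 i)) (Nat.ble 31 i)) (Bool.rec (motive := fun _ => Nat) (Bool.rec (motive := fun _ => Nat) (Bool.rec (motive := fun _ => Nat) (1709) (Bool.rec (motive := fun _ => Nat) (1611) (771) (Nat.ble 40 i)) (Nat.ble 39 i)) (Bool.rec (motive := fun _ => Nat) (2764) (Bool.rec (motive := fun _ => Nat) (399) (816) (Nat.ble 43 i)) (Nat.ble 42 i)) (Nat.ble 41 i)) (Bool.rec (motive := fun _ => Nat) (Bool.rec (motive := fun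 _ => Nat) (2843) (Bool.rec (motive := fun _ => Nat) (2412) (96) (Nat.ble 46 i)) (Nat.ble 45 i)) (Bool.rec (motive := fun _ => Nat) (Bool.rec (motive := fun _ => Nat) (15407) (2202) (Nat.ble 48 i)) (Bool.rec (motive := fun _ => Nat) (2682) (1245) (Nat.ble 50 i)) (Nat.ble 49 i)) (Nat.ble 47 i)) (Nat.ble 44 i)) (Nat.ble 38 i)) (Nat.ble 25 i)) (Bool.rec (motive := fun _ => Nat) (Bool.rec (motive := fun _ => Nat) (Bool.rec (motive := fun _ => Nat) (Bool.rec (motive := fun _ => Nat) (Bool.rec (motive := fun _ => Nat) (2243) (Bool.rec (motive := fun _ => Nat) (2109) (252) (Nat.ble 53 i)) (Nat.ble 52 i)) (Bool.rec (motive := fun _ => Nat) (2504) (Bool.rec (motive := fun _ => Nat) (732) (1031) (Nat.ble 56 i)) (Nat.ble 55 i)) (Nat.ble 54 i)) (Bool.rec (motive := fun _ => Nat) (Bool.rec (motive := fun _ => Nat) (2051) (Bool.rec (motive := fun _ => Nat) (24) (107) (Nat.ble 59 i)) (Nat.ble 58 i)) (Bool.rec (motive := fun _ => Nat) (1603) (Bool.rec (motive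 := fun _ => Nat) (2494) (100) (Nat.ble 62 i)) (Nat.ble 61 i)) (Nat.ble 60 i)) (Nat.ble 57 i)) (Bool.rec (motive := fun _ => Nat) (Bool.rec (motive := fun _ => Nat) (Bool.rec (motive := fun _ => Nat) (2338) (Bool.rec (motive := fun _ => Nat) (2261) (2259) (Nat.ble 65 i)) (Nat.ble 64 i)) (Bool.rec (motive := fun _ => Nat) (1760) (Bool.rec (motive := fun _ => Nat) (1555) (219) (Nat.ble 68 i)) (Nat.ble 67 i)) (Nat.ble 66 i)) (Bool.rec (motive := fun _ => Nat) (Bool.rec (motive := fun _ => Nat) (2701) (Bool.rec (motive := fun _ => Nat) (170) (1220) (Nat.ble 71 i)) (Nat.ble 70 i)) (Bool.rec (motive := fun _ => Nat) (Bool.rec (motive := fun _ => Nat) (2228) (310) (Nat.ble 73 i)) (Bool.rec (motive := fun _ => Nat) (2534) (1027) (Nat.ble 75 i)) (Nat.ble 74 i)) (Nat.ble 72 i)) (Nat.ble 69 i)) (Nat.ble 63 i)) (Bool.rec (motive := fun _ => Nat) (Bool.rec (motive := fun _ => Nat) (Bool.rec (motive := fun _ => Nat) (Bool.rec (motive := fun _ => Nat) (245)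 (Bool.rec (motive := fun _ => Nat) (1094) (1510) (Nat.ble 78 i)) (Nat.ble 77 i)) (Bool.rec (motive := fun _ => Nat) (2740) (Bool.rec (motive := fun _ => Nat) (2528) (2381) (Nat.ble 81 i)) (Nat.ble 80 i)) (Nat.ble 79 i)) (Bool.rec (motive := fun _ => Nat) (Bool.rec (motive := fun _ => Nat) (1778) (Bool.rec (motive := fun _ => Nat) (2104) (2301) (Nat.ble 84 i)) (Nat.ble 83 i)) (Bool.rec (motive := fun _ => Nat) (Bool.rec (motive := fun _ => Nat) (496) (1292) (Nat.ble 86 i)) (Bool.rec (motive := fun _ => Nat) (4) (716) (Nat.ble 88 i)) (Nat.ble 87 i)) (Nat.ble 85 i)) (Nat.ble 82 i)) (Bool.rec (motive := fun _ => Nat) (Bool.rec (motive := fun _ => Nat) (Bool.rec (motive := fun _ => Nat) (2374) (Bool.rec (motive := fun _ => Nat) (540) (2438) (Nat.ble 91 i)) (Nat.ble 90 i)) (Bool.rec (motive := fun _ => Nat) (574) (Bool.rec (motive := fun _ => Nat) (2856) (2218) (Nat.ble 94 i)) (Nat.ble 93 i)) (Nat.ble 92 i)) (Bool.rec (motive := fun _ => Nat) (Bool.rec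 (motive := fun _ => Nat) (2702) (Bool.rec (motive := fun _ => Nat) (2163) (1626) (Nat.ble 97 i)) (Nat.ble 96 i)) (Bool.rec (motive := fun _ => Nat) (Bool.rec (motive := fun _ => Nat) (498) (2075) (Nat.ble 99 i)) (Bool.rec (motive := fun _ => Nat) (2188) (2333) (Nat.ble 101 i)) (Nat.ble 100 i)) (Nat.ble 98 i)) (Nat.ble 95 i)) (Nat.ble 89 i)) (Nat.ble 76 i)) (Nat.ble 51 i)) (Bool.rec (motive := fun _ => Nat) (Bool.rec (motive := fun _ => Nat) (Bool.rec (motive := fun _ => Nat) (Bool.rec (motive := fun _ => Nat) (Bool.rec (motive := fun _ => Nat) (Bool.rec (motive := fun _ => Nat) (2852) (Bool.rec (motive := fun _ => Nat) (2864) (1581) (Nat.ble 104 i)) (Nat.ble 103 i)) (Bool.rec (motive := fun _ => Nat) (327) (Bool.rec (motive := fun _ => Nat) (551) (1784) (Nat.ble 107 i)) (Nat.ble 106 i)) (Nat.ble 105 i)) (Bool.rec (motive := fun _ => Nat) (Bool.rec (motive := fun _ => Nat) (1765) (Bool.rec (motive := fun _ => Nat) (2364) (758) (Nat.ble 110 i))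 (Nat.ble 109 i)) (Bool.rec (motive := fun _ => Nat) (2479) (Bool.rec (motive := fun _ => Nat) (363) (2306) (Nat.ble 113 i)) (Nat.ble 112 i)) (Nat.ble 111 i)) (Nat.ble 108 i)) (Bool.rec (motive := fun _ => Nat) (Bool.rec (motive := fun _ => Nat) (Bool.rec (motive := fun _ => Nat) (25) (Bool.rec (motive := fun _ => Nat) (1332) (597) (Nat.ble 116 i)) (Nat.ble 115 i)) (Bool.rec (motive := fun _ => Nat) (2710) (Bool.rec (motive := fun _ => Nat) (2083) (2725) (Nat.ble 119 i)) (Nat.ble 118 i)) (Nat.ble 117 i)) (Bool.rec (motive := fun _ => Nat) (Bool.rec (motive := fun _ => Nat) (2695) (Bool.rec (motive := fun _ => Nat) (1487) (706) (Nat.ble 122 i)) (Nat.ble 121 i)) (Bool.rec (motive := fun _ => Nat) (Bool.rec (motive := fun _ => Nat) (80) (2712) (Nat.ble 124 i)) (Bool.rec (motive := fun _ => Nat) (82) (1335) (Nat.ble 126 i)) (Nat.ble 125 i)) (Nat.ble 123 i)) (Nat.ble 120 i)) (Nat.ble 114 i)) (Bool.rec (motive := fun _ => Nat) (Bool.rec (motive :=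 fun _ => Nat) (Bool.rec (motive := fun _ => Nat) (Bool.rec (motive := fun _ => Nat) (2189) (Bool.rec (motive := fun _ => Nat) (348) (347) (Nat.ble 129 i)) (Nat.ble 128 i)) (Bool.rec (motive := fun _ => Nat) (1) (Bool.rec (motive := fun _ => Nat) (13) (2110) (Nat.ble 132 i)) (Nat.ble 131 i)) (Nat.ble 130 i)) (Bool.rec (motive := fun _ => Nat) (Bool.rec (motive := fun _ => Nat) (2439) (Bool.rec (motive := fun _ => Nat) (2483) (1246) (Nat.ble 135 i)) (Nat.ble 134 i)) (Bool.rec (motive := fun _ => Nat) (Bool.rec (motive := fun _ => Nat) (1677) (2685) (Nat.ble 137 i)) (Bool.rec (motive := fun _ => Nat) (2502) (205) (Nat.ble 139 i)) (Nat.ble 138 i)) (Nat.ble 136 i)) (Nat.ble 133 i)) (Bool.rec (motive := fun _ => Nat) (Bool.rec (motive := fun _ => Nat) (Bool.rec (motive := fun _ => Nat) (3) (Bool.rec (motive := fun _ => Nat) (2179) (744) (Nat.ble 142 i)) (Nat.ble 141 i)) (Bool.rec (motive := fun _ => Nat) (2633) (Bool.rec (motive := fun _ => Nat) (766)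 (1565) (Nat.ble 145 i)) (Nat.ble 144 i)) (Nat.ble 143 i)) (Bool.rec (motive := fun _ => Nat) (Bool.rec (motive := fun _ => Nat) (2215) (Bool.rec (motive := fun _ => Nat) (2829) (2788) (Nat.ble 148 i)) (Nat.ble 147 i)) (Bool.rec (motive := fun _ => Nat) (Bool.rec (motive := fun _ => Nat) (1341) (2796) (Nat.ble 150 i)) (Bool.rec (motive := fun _ => Nat) (2148) (632) (Nat.ble 152 i)) (Nat.ble 151 i)) (Nat.ble 149 i)) (Nat.ble 146 i)) (Nat.ble 140 i)) (Nat.ble 127 i)) (Bool.rec (motive := fun _ => Nat) (Bool.rec (motive := fun _ => Nat) (Bool.rec (motive := fun _ => Nat) (Bool.rec (motive := fun _ => Nat) (Bool.rec (motive := fun _ => Nat) (2221) (Bool.rec (motive := fun _ => Nat) (2416) (1037) (Nat.ble 155 i)) (Nat.ble 154 i)) (Bool.rec (motive := fun _ => Nat) (589) (Bool.rec (motive := fun _ => Nat) (2126) (1511) (Nat.ble 158 i)) (Nat.ble 157 i)) (Nat.ble 156 i)) (Bool.rec (motive := fun _ => Nat) (Bool.rec (motive := fun _ => Nat) (1230) (Bool.rec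 (motive := fun _ => Nat) (680) (681) (Nat.ble 161 i)) (Nat.ble 160 i)) (Bool.rec (motive := fun _ => Nat) (2178) (Bool.rec (motive := fun _ => Nat) (1462) (2769) (Nat.ble 164 i)) (Nat.ble 163 i)) (Nat.ble 162 i)) (Nat.ble 159 i)) (Bool.rec (motive := fun _ => Nat) (Bool.rec (motive := fun _ => Nat) (Bool.rec (motive := fun _ => Nat) (355) (Bool.rec (motive := fun _ => Nat) (2652) (510) (Nat.ble 167 i)) (Nat.ble 166 i)) (Bool.rec (motive := fun _ => Nat) (2369) (Bool.rec (motive := fun _ => Nat) (548) (2582) (Nat.ble 170 i)) (Nat.ble 169 i)) (Nat.ble 168 i)) (Bool.rec (motive := fun _ => Nat) (Bool.rec (motive := fun _ => Nat) (2184) (Bool.rec (motive := fun _ => Nat) (224) (2757) (Nat.ble 173 i)) (Nat.ble 172 i)) (Bool.rec (motive := fun _ => Nat) (Bool.rec (motive := fun _ => Nat) (2153) (621) (Nat.ble 175 i)) (Bool.rec (motive := fun _ => Nat) (2357) (1216) (Nat.ble 177 i)) (Nat.ble 176 i)) (Nat.ble 174 i)) (Nat.ble 171 i)) (Nat.ble 165 i))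 (Bool.rec (motive := fun _ => Nat) (Bool.rec (motive := fun _ => Nat) (Bool.rec (motive := fun _ => Nat) (Bool.rec (motive := fun _ => Nat) (688) (Bool.rec (motive := fun _ => Nat) (1619) (236) (Nat.ble 180 i)) (Nat.ble 179 i)) (Bool.rec (motive := fun _ => Nat) (2636) (Bool.rec (motive := fun _ => Nat) (386) (1385) (Nat.ble 183 i)) (Nat.ble 182 i)) (Nat.ble 181 i)) (Bool.rec (motive := fun _ => Nat) (Bool.rec (motive := fun _ => Nat) (2575) (Bool.rec (motive := fun _ => Nat) (2787) (2409) (Nat.ble 186 i)) (Nat.ble 185 i)) (Bool.rec (motive := fun _ => Nat) (Bool.rec (motive := fun _ => Nat) (600) (2865) (Nat.ble 188 i)) (Bool.rec (motive := fun _ => Nat) (2380) (2699) (Nat.ble 190 i)) (Nat.ble 189 i)) (Nat.ble 187 i)) (Nat.ble 184 i)) (Bool.rec (motive := fun _ => Nat) (Bool.rec (motive := fun _ => Nat) (Bool.rec (motive := fun _ => Nat) (2790) (Bool.rec (motive := fun _ => Nat) (795) (2307) (Nat.ble 193 i)) (Nat.ble 192 i)) (Bool.rec (motive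 := fun _ => Nat) (2639) (Bool.rec (motive := fun _ => Nat) (2297) (7) (Nat.ble 196 i)) (Nat.ble 195 i)) (Nat.ble 194 i)) (Bool.rec (motive := fun _ => Nat) (Bool.rec (motive := fun _ => Nat) (1112) (Bool.rec (motive := fun _ => Nat) (2214) (1627) (Nat.ble 199 i)) (Nat.ble 198 i)) (Bool.rec (motive := fun _ => Nat) (Bool.rec (motive := fun _ => Nat) (1503) (1168) (Nat.ble 201 i)) (Bool.rec (motive := fun _ => Nat) (2325) (330) (Nat.ble 203 i)) (Nat.ble 202 i)) (Nat.ble 200 i)) (Nat.ble 197 i)) (Nat.ble 191 i)) (Nat.ble 178 i)) (Nat.ble 153 i)) (Nat.ble 102 i)) (Bool.rec (motive := fun _ => Nat) (Bool.rec (motive := fun _ => Nat) (Bool.rec (motive := fun _ => Nat) (Bool.rec (motive := fun _ => Nat) (Bool.rec (motive := fun _ => Nat) (Bool.rec (motive := fun _ => Nat) (Bool.rec (motive := fun _ => Nat) (138) (Bool.rec (motive := fun _ => Nat) (2863) (2) (Nat.ble 206 i)) (Nat.ble 205 i)) (Bool.rec (motive := fun _ => Nat) (9) (Bool.rec (motive :=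 fun _ => Nat) (1820) (489) (Nat.ble 209 i)) (Nat.ble 208 i)) (Nat.ble 207 i)) (Bool.rec (motive := fun _ => Nat) (Bool.rec (motive := fun _ => Nat) (2658) (Bool.rec (motive := fun _ => Nat) (127) (504) (Nat.ble 212 i)) (Nat.ble 211 i)) (Bool.rec (motive := fun _ => Nat) (321) (Bool.rec (motive := fun _ => Nat) (322) (2709) (Nat.ble 215 i)) (Nat.ble 214 i)) (Nat.ble 213 i)) (Nat.ble 210 i)) (Bool.rec (motive := fun _ => Nat) (Bool.rec (motive := fun _ => Nat) (Bool.rec (motive := fun _ => Nat) (2514) (Bool.rec (motive := fun _ => Nat) (2541) (134) (Nat.ble 218 i)) (Nat.ble 217 i)) (Bool.rec (motive := fun _ => Nat) (2680) (Bool.rec (motive := fun _ => Nat) (2493) (225) (Nat.ble 221 i)) (Nat.ble 220 i)) (Nat.ble 219 i)) (Bool.rec (motive := fun _ => Nat) (Bool.rec (motive := fun _ => Nat) (137) (Bool.rec (motive := fun _ => Nat) (2681) (2472) (Nat.ble 224 i)) (Nat.ble 223 i)) (Bool.rec (motive := fun _ => Nat) (Bool.rec (motive := fun _ => Nat)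 (2049) (609) (Nat.ble 226 i)) (Bool.rec (motive := fun _ => Nat) (605) (1270) (Nat.ble 228 i)) (Nat.ble 227 i)) (Nat.ble 225 i)) (Nat.ble 222 i)) (Nat.ble 216 i)) (Bool.rec (motive := fun _ => Nat) (Bool.rec (motive := fun _ => Nat) (Bool.rec (motive := fun _ => Nat) (Bool.rec (motive := fun _ => Nat) (2623) (Bool.rec (motive := fun _ => Nat) (747) (2688) (Nat.ble 231 i)) (Nat.ble 230 i)) (Bool.rec (motive := fun _ => Nat) (1399) (Bool.rec (motive := fun _ => Nat) (2592) (248) (Nat.ble 234 i)) (Nat.ble 233 i)) (Nat.ble 232 i)) (Bool.rec (motive := fun _ => Nat) (Bool.rec (motive := fun _ => Nat) (591) (Bool.rec (motive := fun _ => Nat) (2273) (2668) (Nat.ble 237 i)) (Nat.ble 236 i)) (Bool.rec (motive := fun _ => Nat) (Bool.rec (motive := fun _ => Nat) (2643) (2848) (Nat.ble 239 i)) (Bool.rec (motive := fun _ => Nat) (457) (1764) (Nat.ble 241 i)) (Nat.ble 240 i)) (Nat.ble 238 i)) (Nat.ble 235 i)) (Bool.rec (motive := fun _ => Nat) (Bool.rec (motive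 := fun _ => Nat) (Bool.rec (motive := fun _ => Nat) (708) (Bool.rec (motive := fun _ => Nat) (636) (2810) (Nat.ble 244 i)) (Nat.ble 243 i)) (Bool.rec (motive := fun _ => Nat) (2573) (Bool.rec (motive := fun _ => Nat) (41) (1370) (Nat.ble 247 i)) (Nat.ble 246 i)) (Nat.ble 245 i)) (Bool.rec (motive := fun _ => Nat) (Bool.rec (motive := fun _ => Nat) (2119) (Bool.rec (motive := fun _ => Nat) (2255) (1463) (Nat.ble 250 i)) (Nat.ble 249 i)) (Bool.rec (motive := fun _ => Nat) (Bool.rec (motive := fun _ => Nat) (2388) (2824) (Nat.ble 252 i)) (Bool.rec (motive := fun _ => Nat) (2073) (472) (Nat.ble 254 i)) (Nat.ble 253 i)) (Nat.ble 251 i)) (Nat.ble 248 i)) (Nat.ble 242 i)) (Nat.ble 229 i)) (Bool.rec (motive := fun _ => Nat) (Bool.rec (motive := fun _ => Nat) (Bool.rec (motive := fun _ => Nat) (Bool.rec (motive := fun _ => Nat) (Bool.rec (motive := fun _ => Nat) (2607) (Bool.rec (motive := fun _ => Nat) (1758) (1326) (Nat.ble 257 i)) (Nat.ble 256 i))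 (Bool.rec (motive := fun _ => Nat) (2850) (Bool.rec (motive := fun _ => Nat) (2645) (622) (Nat.ble 260 i)) (Nat.ble 259 i)) (Nat.ble 258 i)) (Bool.rec (motive := fun _ => Nat) (Bool.rec (motive := fun _ => Nat) (546) (Bool.rec (motive := fun _ => Nat) (2283) (2728) (Nat.ble 263 i)) (Nat.ble 262 i)) (Bool.rec (motive := fun _ => Nat) (8) (Bool.rec (motive := fun _ => Nat) (2845) (2741) (Nat.ble 266 i)) (Nat.ble 265 i)) (Nat.ble 264 i)) (Nat.ble 261 i)) (Bool.rec (motive := fun _ => Nat) (Bool.rec (motive := fun _ => Nat) (Bool.rec (motive := fun _ => Nat) (1557) (Bool.rec (motive := fun _ => Nat) (370) (1028) (Nat.ble 269 i)) (Nat.ble 268 i)) (Bool.rec (motive := fun _ => Nat) (2468) (Bool.rec (motive := fun _ => Nat) (2847) (2715) (Nat.ble 272 i)) (Nat.ble 271 i)) (Nat.ble 270 i)) (Bool.rec (motive := fun _ => Nat) (Bool.rec (motive := fun _ => Nat) (1340) (Bool.rec (motive := fun _ => Nat) (190) (2097) (Nat.ble 275 i)) (Nat.ble 274 i)) (Bool.rec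 (motive := fun _ => Nat) (Bool.rec (motive := fun _ => Nat) (2294) (1693) (Nat.ble 277 i)) (Bool.rec (motive := fun _ => Nat) (2329) (610) (Nat.ble 279 i)) (Nat.ble 278 i)) (Nat.ble 276 i)) (Nat.ble 273 i)) (Nat.ble 267 i)) (Bool.rec (motive := fun _ => Nat) (Bool.rec (motive := fun _ => Nat) (Bool.rec (motive := fun _ => Nat) (Bool.rec (motive := fun _ => Nat) (2520) (Bool.rec (motive := fun _ => Nat) (2254) (369) (Nat.ble 282 i)) (Nat.ble 281 i)) (Bool.rec (motive := fun _ => Nat) (454) (Bool.rec (motive := fun _ => Nat) (2295) (2717) (Nat.ble 285 i)) (Nat.ble 284 i)) (Nat.ble 283 i)) (Bool.rec (motive := fun _ => Nat) (Bool.rec (motive := fun _ => Nat) (2100) (Bool.rec (motive := fun _ => Nat) (2558) (1798) (Nat.ble 288 i)) (Nat.ble 287 i)) (Bool.rec (motive := fun _ => Nat) (Bool.rec (motive := fun _ => Nat) (223) (300) (Nat.ble 290 i)) (Bool.rec (motive := fun _ => Nat) (1788) (1030) (Nat.ble 292 i)) (Nat.ble 291 i)) (Nat.ble 289 i)) (Nat.ble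 286 i)) (Bool.rec (motive := fun _ => Nat) (Bool.rec (motive := fun _ => Nat) (Bool.rec (motive := fun _ => Nat) (398) (Bool.rec (motive := fun _ => Nat) (304) (1154) (Nat.ble 295 i)) (Nat.ble 294 i)) (Bool.rec (motive := fun _ => Nat) (768) (Bool.rec (motive := fun _ => Nat) (1745) (259) (Nat.ble 298 i)) (Nat.ble 297 i)) (Nat.ble 296 i)) (Bool.rec (motive := fun _ => Nat) (Bool.rec (motive := fun _ => Nat) (2515) (Bool.rec (motive := fun _ => Nat) (1050) (2631) (Nat.ble 301 i)) (Nat.ble 300 i)) (Bool.rec (motive := fun _ => Nat) (Bool.rec (motive := fun _ => Nat) (578) (2315) (Nat.ble 303 i)) (Bool.rec (motive := fun _ => Nat) (2611) (2542) (Nat.ble 305 i)) (Nat.ble 304 i)) (Nat.ble 302 i)) (Nat.ble 299 i)) (Nat.ble 293 i)) (Nat.ble 280 i)) (Nat.ble 255 i)) (Bool.rec (motive := fun _ => Nat) (Bool.rec (motive := fun _ => Nat) (Bool.rec (motive := fun _ => Nat) (Bool.rec (motive := fun _ => Nat) (Bool.rec (motive := fun _ => Nat) (Bool.rec (motive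 := fun _ => Nat) (2074) (Bool.rec (motive := fun _ => Nat) (2686) (56) (Nat.ble 308 i)) (Nat.ble 307 i)) (Bool.rec (motive := fun _ => Nat) (2298) (Bool.rec (motive := fun _ => Nat) (2486) (698) (Nat.ble 311 i)) (Nat.ble 310 i)) (Nat.ble 309 i)) (Bool.rec (motive := fun _ => Nat) (Bool.rec (motive := fun _ => Nat) (2846) (Bool.rec (motive := fun _ => Nat) (2320) (1284) (Nat.ble 314 i)) (Nat.ble 313 i)) (Bool.rec (motive := fun _ => Nat) (2384) (Bool.rec (motive := fun _ => Nat) (345) (341) (Nat.ble 317 i)) (Nat.ble 316 i)) (Nat.ble 315 i)) (Nat.ble 312 i)) (Bool.rec (motive := fun _ => Nat) (Bool.rec (motive := fun _ => Nat) (Bool.rec (motive := fun _ => Nat) (83) (Bool.rec (motive := fun _ => Nat) (2825) (356) (Nat.ble 320 i)) (Nat.ble 319 i)) (Bool.rec (motive := fun _ => Nat) (2340) (Bool.rec (motive := fun _ => Nat) (2800) (2767) (Nat.ble 323 i)) (Nat.ble 322 i)) (Nat.ble 321 i)) (Bool.rec (motive := fun _ => Nat) (Bool.rec (motive := fun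 _ => Nat) (2722) (Bool.rec (motive := fun _ => Nat) (2345) (1211) (Nat.ble 326 i)) (Nat.ble 325 i)) (Bool.rec (motive := fun _ => Nat) (Bool.rec (motive := fun _ => Nat) (2191) (2720) (Nat.ble 328 i)) (Bool.rec (motive := fun _ => Nat) (1473) (2844) (Nat.ble 330 i)) (Nat.ble 329 i)) (Nat.ble 327 i)) (Nat.ble 324 i)) (Nat.ble 318 i)) (Bool.rec (motive := fun _ => Nat) (Bool.rec (motive := fun _ => Nat) (Bool.rec (motive := fun _ => Nat) (Bool.rec (motive := fun _ => Nat) (1060) (Bool.rec (motive := fun _ => Nat) (2098) (329) (Nat.ble 333 i)) (Nat.ble 332 i)) (Bool.rec (motive := fun _ => Nat) (2756) (Bool.rec (motive := fun _ => Nat) (2117) (2144) (Nat.ble 336 i)) (Nat.ble 335 i)) (Nat.ble 334 i)) (Bool.rec (motive := fun _ => Nat) (Bool.rec (motive := fun _ => Nat) (2418) (Bool.rec (motive := fun _ => Nat) (637) (2751) (Nat.ble 339 i)) (Nat.ble 338 i)) (Bool.rec (motive := fun _ => Nat) (Bool.rec (motive := fun _ => Nat) (797) (2735) (Nat.ble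 341 i)) (Bool.rec (motive := fun _ => Nat) (2235) (313) (Nat.ble 343 i)) (Nat.ble 342 i)) (Nat.ble 340 i)) (Nat.ble 337 i)) (Bool.rec (motive := fun _ => Nat) (Bool.rec (motive := fun _ => Nat) (Bool.rec (motive := fun _ => Nat) (2174) (Bool.rec (motive := fun _ => Nat) (2442) (79) (Nat.ble 346 i)) (Nat.ble 345 i)) (Bool.rec (motive := fun _ => Nat) (2175) (Bool.rec (motive := fun _ => Nat) (2347) (1721) (Nat.ble 349 i)) (Nat.ble 348 i)) (Nat.ble 347 i)) (Bool.rec (motive := fun _ => Nat) (Bool.rec (motive := fun _ => Nat) (2726) (Bool.rec (motive := fun _ => Nat) (2835) (2440) (Nat.ble 352 i)) (Nat.ble 351 i)) (Bool.rec (motive := fun _ => Nat) (Bool.rec (motive := fun _ => Nat) (323) (1467) (Nat.ble 354 i)) (Bool.rec (motive := fun _ => Nat) (2574) (2269) (Nat.ble 356 i)) (Nat.ble 355 i)) (Nat.ble 353 i)) (Nat.ble 350 i)) (Nat.ble 344 i)) (Nat.ble 331 i)) (Bool.rec (motive := fun _ => Nat) (Bool.rec (motive := fun _ => Nat) (Bool.rec (motive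 := fun _ => Nat) (Bool.rec (motive := fun _ => Nat) (Bool.rec (motive := fun _ => Nat) (500) (Bool.rec (motive := fun _ => Nat) (2319) (684) (Nat.ble 359 i)) (Nat.ble 358 i)) (Bool.rec (motive := fun _ => Nat) (2296) (Bool.rec (motive := fun _ => Nat) (368) (2172) (Nat.ble 362 i)) (Nat.ble 361 i)) (Nat.ble 360 i)) (Bool.rec (motive := fun _ => Nat) (Bool.rec (motive := fun _ => Nat) (2745) (Bool.rec (motive := fun _ => Nat) (162) (2533) (Nat.ble 365 i)) (Nat.ble 364 i)) (Bool.rec (motive := fun _ => Nat) (Bool.rec (motive := fun _ => Nat) (2173) (2346) (Nat.ble 367 i)) (Bool.rec (motive := fun _ => Nat) (1071) (2102) (Nat.ble 369 i)) (Nat.ble 368 i)) (Nat.ble 366 i)) (Nat.ble 363 i)) (Bool.rec (motive := fun _ => Nat) (Bool.rec (motive := fun _ => Nat) (Bool.rec (motive := fun _ => Nat) (2500) (Bool.rec (motive := fun _ => Nat) (280) (281) (Nat.ble 372 i)) (Nat.ble 371 i)) (Bool.rec (motive := fun _ => Nat) (1036) (Bool.rec (motive := fun _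 => Nat) (2336) (416) (Nat.ble 375 i)) (Nat.ble 374 i)) (Nat.ble 373 i)) (Bool.rec (motive := fun _ => Nat) (Bool.rec (motive := fun _ => Nat) (2627) (Bool.rec (motive := fun _ => Nat) (2866) (2617) (Nat.ble 378 i)) (Nat.ble 377 i)) (Bool.rec (motive := fun _ => Nat) (Bool.rec (motive := fun _ => Nat) (415) (566) (Nat.ble 380 i)) (Bool.rec (motive := fun _ => Nat) (147) (2545) (Nat.ble 382 i)) (Nat.ble 381 i)) (Nat.ble 379 i)) (Nat.ble 376 i)) (Nat.ble 370 i)) (Bool.rec (motive := fun _ => Nat) (Bool.rec (motive := fun _ => Nat) (Bool.rec (motive := fun _ => Nat) (Bool.rec (motive := fun _ => Nat) (2226) (Bool.rec (motive := fun _ => Nat) (772) (1647) (Nat.ble 385 i)) (Nat.ble 384 i)) (Bool.rec (motive := fun _ => Nat) (2455) (Bool.rec (motive := fun _ => Nat) (2436) (1364) (Nat.ble 388 i)) (Nat.ble 387 i)) (Nat.ble 386 i)) (Bool.rec (motive := fun _ => Nat) (Bool.rec (motive := fun _ => Nat) (2466) (Bool.rec (motive := fun _ => Nat) (413) (773)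 (Nat.ble 391 i)) (Nat.ble 390 i)) (Bool.rec (motive := fun _ => Nat) (Bool.rec (motive := fun _ => Nat) (249) (150) (Nat.ble 393 i)) (Bool.rec (motive := fun _ => Nat) (1025) (2786) (Nat.ble 395 i)) (Nat.ble 394 i)) (Nat.ble 392 i)) (Nat.ble 389 i)) (Bool.rec (motive := fun _ => Nat) (Bool.rec (motive := fun _ => Nat) (Bool.rec (motive := fun _ => Nat) (656) (Bool.rec (motive := fun _ => Nat) (461) (1691) (Nat.ble 398 i)) (Nat.ble 397 i)) (Bool.rec (motive := fun _ => Nat) (2808) (Bool.rec (motive := fun _ => Nat) (1587) (800) (Nat.ble 401 i)) (Nat.ble 400 i)) (Nat.ble 399 i)) (Bool.rec (motive := fun _ => Nat) (Bool.rec (motive := fun _ => Nat) (813) (Bool.rec (motive := fun _ => Nat) (785) (2567) (Nat.ble 404 i)) (Nat.ble 403 i)) (Bool.rec (motive := fun _ => Nat) (Bool.rec (motive := fun _ => Nat) (2399) (2106) (Nat.ble 406 i)) (Bool.rec (motive := fun _ => Nat) (456) (1642) (Nat.ble 408 i)) (Nat.ble 407 i)) (Nat.ble 405 i)) (Nat.ble 402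 i)) (Nat.ble 396 i)) (Nat.ble 383 i)) (Nat.ble 357 i)) (Nat.ble 306 i)) (Nat.ble 204 i)) (Bool.rec (motive := fun _ => Nat) (Bool.rec (motive := fun _ => Nat) (Bool.rec (motive := fun _ => Nat) (Bool.rec (motive := fun _ => Nat) (Bool.rec (motive := fun _ => Nat) (Bool.rec (motive := fun _ => Nat) (Bool.rec (motive := fun _ => Nat) (Bool.rec (motive := fun _ => Nat) (389) (Bool.rec (motive := fun _ => Nat) (2510) (580) (Nat.ble 411 i)) (Nat.ble 410 i)) (Bool.rec (motive := fun _ => Nat) (2737) (Bool.rec (motive := fun _ => Nat) (2664) (1342) (Nat.ble 414 i)) (Nat.ble 413 i)) (Nat.ble 412 i)) (Bool.rec (motive := fun _ => Nat) (Bool.rec (motive := fun _ => Nat) (2284) (Bool.rec (motive := fun _ => Nat) (2064) (2733) (Nat.ble 417 i)) (Nat.ble 416 i)) (Bool.rec (motive := fun _ => Nat) (687) (Bool.rec (motive := fun _ => Nat) (718) (2624) (Nat.ble 420 i)) (Nat.ble 419 i)) (Nat.ble 418 i)) (Nat.ble 415 i)) (Bool.rec (motive := fun _ => Nat) (Bool.rec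 (motive := fun _ => Nat) (Bool.rec (motive := fun _ => Nat) (519) (Bool.rec (motive := fun _ => Nat) (520) (517) (Nat.ble 423 i)) (Nat.ble 422 i)) (Bool.rec (motive := fun _ => Nat) (2432) (Bool.rec (motive := fun _ => Nat) (2805) (351) (Nat.ble 426 i)) (Nat.ble 425 i)) (Nat.ble 424 i)) (Bool.rec (motive := fun _ => Nat) (Bool.rec (motive := fun _ => Nat) (2164) (Bool.rec (motive := fun _ => Nat) (2111) (1204) (Nat.ble 429 i)) (Nat.ble 428 i)) (Bool.rec (motive := fun _ => Nat) (Bool.rec (motive := fun _ => Nat) (1585) (151) (Nat.ble 431 i)) (Bool.rec (motive := fun _ => Nat) (2183) (1070) (Nat.ble 433 i)) (Nat.ble 432 i)) (Nat.ble 430 i)) (Nat.ble 427 i)) (Nat.ble 421 i)) (Bool.rec (motive := fun _ => Nat) (Bool.rec (motive := fun _ => Nat) (Bool.rec (motive := fun _ => Nat) (Bool.rec (motive := fun _ => Nat) (255) (Bool.rec (motive := fun _ => Nat) (154) (1111) (Nat.ble 436 i)) (Nat.ble 435 i)) (Bool.rec (motive := fun _ => Nat) (2815) (Bool.rec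 (motive := fun _ => Nat) (787) (646) (Nat.ble 439 i)) (Nat.ble 438 i)) (Nat.ble 437 i)) (Bool.rec (motive := fun _ => Nat) (Bool.rec (motive := fun _ => Nat) (1523) (Bool.rec (motive := fun _ => Nat) (2763) (2302) (Nat.ble 442 i)) (Nat.ble 441 i)) (Bool.rec (motive := fun _ => Nat) (Bool.rec (motive := fun _ => Nat) (365) (1459) (Nat.ble 444 i)) (Bool.rec (motive := fun _ => Nat) (267) (1477) (Nat.ble 446 i)) (Nat.ble 445 i)) (Nat.ble 443 i)) (Nat.ble 440 i)) (Bool.rec (motive := fun _ => Nat) (Bool.rec (motive := fun _ => Nat) (Bool.rec (motive := fun _ => Nat) (686) (Bool.rec (motive := fun _ => Nat) (2752) (544) (Nat.ble 449 i)) (Nat.ble 448 i)) (Bool.rec (motive := fun _ => Nat) (2367) (Bool.rec (motive := fun _ => Nat) (613) (269) (Nat.ble 452 i)) (Nat.ble 451 i)) (Nat.ble 450 i)) (Bool.rec (motive := fun _ => Nat) (Bool.rec (motive := fun _ => Nat) (159) (Bool.rec (motive := fun _ => Nat) (2747) (693) (Nat.ble 455 i)) (Nat.ble 454 i))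 (Bool.rec (motive := fun _ => Nat) (Bool.rec (motive := fun _ => Nat) (2055) (2231) (Nat.ble 457 i)) (Bool.rec (motive := fun _ => Nat) (702) (2736) (Nat.ble 459 i)) (Nat.ble 458 i)) (Nat.ble 456 i)) (Nat.ble 453 i)) (Nat.ble 447 i)) (Nat.ble 434 i)) (Bool.rec (motive := fun _ => Nat) (Bool.rec (motive := fun _ => Nat) (Bool.rec (motive := fun _ => Nat) (Bool.rec (motive := fun _ => Nat) (Bool.rec (motive := fun _ => Nat) (2276) (Bool.rec (motive := fun _ => Nat) (2694) (677) (Nat.ble 462 i)) (Nat.ble 461 i)) (Bool.rec (motive := fun _ => Nat) (301) (Bool.rec (motive := fun _ => Nat) (2548) (2211) (Nat.ble 465 i)) (Nat.ble 464 i)) (Nat.ble 463 i)) (Bool.rec (motive := fun _ => Nat) (Bool.rec (motive := fun _ => Nat) (2271) (Bool.rec (motive := fun _ => Nat) (2048) (2107) (Nat.ble 468 i)) (Nat.ble 467 i)) (Bool.rec (motive := fun _ => Nat) (2402) (Bool.rec (motive := fun _ => Nat) (2326) (186) (Nat.ble 471 i)) (Nat.ble 470 i)) (Nat.ble 469 i))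 (Nat.ble 466 i)) (Bool.rec (motive := fun _ => Nat) (Bool.rec (motive := fun _ => Nat) (Bool.rec (motive := fun _ => Nat) (1476) (Bool.rec (motive := fun _ => Nat) (2569) (2167) (Nat.ble 474 i)) (Nat.ble 473 i)) (Bool.rec (motive := fun _ => Nat) (28) (Bool.rec (motive := fun _ => Nat) (2351) (2137) (Nat.ble 477 i)) (Nat.ble 476 i)) (Nat.ble 475 i)) (Bool.rec (motive := fun _ => Nat) (Bool.rec (motive := fun _ => Nat) (2598) (Bool.rec (motive := fun _ => Nat) (590) (1723) (Nat.ble 480 i)) (Nat.ble 479 i)) (Bool.rec (motive := fun _ => Nat) (Bool.rec (motive := fun _ => Nat) (651) (2817) (Nat.ble 482 i)) (Bool.rec (motive := fun _ => Nat) (45) (2089) (Nat.ble 484 i)) (Nat.ble 483 i)) (Nat.ble 481 i)) (Nat.ble 478 i)) (Nat.ble 472 i)) (Bool.rec (motive := fun _ => Nat) (Bool.rec (motive := fun _ => Nat) (Bool.rec (motive := fun _ => Nat) (Bool.rec (motive := fun _ => Nat) (2050) (Bool.rec (motive := fun _ => Nat) (467) (634) (Nat.ble 487 i)) (Nat.ble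 486 i)) (Bool.rec (motive := fun _ => Nat) (728) (Bool.rec (motive := fun _ => Nat) (2529) (344) (Nat.ble 490 i)) (Nat.ble 489 i)) (Nat.ble 488 i)) (Bool.rec (motive := fun _ => Nat) (Bool.rec (motive := fun _ => Nat) (2797) (Bool.rec (motive := fun _ => Nat) (342) (208) (Nat.ble 493 i)) (Nat.ble 492 i)) (Bool.rec (motive := fun _ => Nat) (Bool.rec (motive := fun _ => Nat) (2554) (1395) (Nat.ble 495 i)) (Bool.rec (motive := fun _ => Nat) (2253) (48) (Nat.ble 497 i)) (Nat.ble 496 i)) (Nat.ble 494 i)) (Nat.ble 491 i)) (Bool.rec (motive := fun _ => Nat) (Bool.rec (motive := fun _ => Nat) (Bool.rec (motive := fun _ => Nat) (2199) (Bool.rec (motive := fun _ => Nat) (285) (2131) (Nat.ble 500 i)) (Nat.ble 499 i)) (Bool.rec (motive := fun _ => Nat) (2421) (Bool.rec (motive := fun _ => Nat) (2314) (109) (Nat.ble 503 i)) (Nat.ble 502 i)) (Nat.ble 501 i)) (Bool.rec (motive := fun _ => Nat) (Bool.rec (motive := fun _ => Nat) (2136) (Bool.rec (motive :=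 fun _ => Nat) (352) (1772) (Nat.ble 506 i)) (Nat.ble 505 i)) (Bool.rec (motive := fun _ => Nat) (Bool.rec (motive := fun _ => Nat) (550) (1773) (Nat.ble 508 i)) (Bool.rec (motive := fun _ => Nat) (1396) (2570) (Nat.ble 510 i)) (Nat.ble 509 i)) (Nat.ble 507 i)) (Nat.ble 504 i)) (Nat.ble 498 i)) (Nat.ble 485 i)) (Nat.ble 460 i)) (Bool.rec (motive := fun _ => Nat) (Bool.rec (motive := fun _ => Nat) (Bool.rec (motive := fun _ => Nat) (Bool.rec (motive := fun _ => Nat) (Bool.rec (motive := fun _ => Nat) (Bool.rec (motive := fun _ => Nat) (168) (Bool.rec (motive := fun _ => Nat) (2445) (2464) (Nat.ble 513 i)) (Nat.ble 512 i)) (Bool.rec (motive := fun _ => Nat) (2290) (Bool.rec (motive := fun _ => Nat) (1066) (1505) (Nat.ble 516 i)) (Nat.ble 515 i)) (Nat.ble 514 i)) (Bool.rec (motive := fun _ => Nat) (Bool.rec (motive := fun _ => Nat) (2192) (Bool.rec (motive := fun _ => Nat) (2721) (1057) (Nat.ble 519 i)) (Nat.ble 518 i)) (Bool.rec (motive := fun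 _ => Nat) (2349) (Bool.rec (motive := fun _ => Nat) (1176) (2484) (Nat.ble 522 i)) (Nat.ble 521 i)) (Nat.ble 520 i)) (Nat.ble 517 i)) (Bool.rec (motive := fun _ => Nat) (Bool.rec (motive := fun _ => Nat) (Bool.rec (motive := fun _ => Nat) (573) (Bool.rec (motive := fun _ => Nat) (2389) (485) (Nat.ble 525 i)) (Nat.ble 524 i)) (Bool.rec (motive := fun _ => Nat) (664) (Bool.rec (motive := fun _ => Nat) (2670) (662) (Nat.ble 528 i)) (Nat.ble 527 i)) (Nat.ble 526 i)) (Bool.rec (motive := fun _ => Nat) (Bool.rec (motive := fun _ => Nat) (484) (Bool.rec (motive := fun _ => Nat) (2408) (725) (Nat.ble 531 i)) (Nat.ble 530 i)) (Bool.rec (motive := fun _ => Nat) (Bool.rec (motive := fun _ => Nat) (2281) (436) (Nat.ble 533 i)) (Bool.rec (motive := fun _ => Nat) (292) (2060) (Nat.ble 535 i)) (Nat.ble 534 i)) (Nat.ble 532 i)) (Nat.ble 529 i)) (Nat.ble 523 i)) (Bool.rec (motive := fun _ => Nat) (Bool.rec (motive := fun _ => Nat) (Bool.rec (motive := fun _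 => Nat) (Bool.rec (motive := fun _ => Nat) (1767) (Bool.rec (motive := fun _ => Nat) (2524) (2444) (Nat.ble 538 i)) (Nat.ble 537 i)) (Bool.rec (motive := fun _ => Nat) (1264) (Bool.rec (motive := fun _ => Nat) (2601) (253) (Nat.ble 541 i)) (Nat.ble 540 i)) (Nat.ble 539 i)) (Bool.rec (motive := fun _ => Nat) (Bool.rec (motive := fun _ => Nat) (194) (Bool.rec (motive := fun _ => Nat) (1421) (1056) (Nat.ble 544 i)) (Nat.ble 543 i)) (Bool.rec (motive := fun _ => Nat) (Bool.rec (motive := fun _ => Nat) (641) (2234) (Nat.ble 546 i)) (Bool.rec (motive := fun _ => Nat) (2732) (2282) (Nat.ble 548 i)) (Nat.ble 547 i)) (Nat.ble 545 i)) (Nat.ble 542 i)) (Bool.rec (motive := fun _ => Nat) (Bool.rec (motive := fun _ => Nat) (Bool.rec (motive := fun _ => Nat) (427) (Bool.rec (motive := fun _ => Nat) (2343) (2277) (Nat.ble 551 i)) (Nat.ble 550 i)) (Bool.rec (motive := fun _ => Nat) (2580) (Bool.rec (motive := fun _ => Nat) (616) (277) (Nat.ble 554 i)) (Nat.ble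 553 i)) (Nat.ble 552 i)) (Bool.rec (motive := fun _ => Nat) (Bool.rec (motive := fun _ => Nat) (2249) (Bool.rec (motive := fun _ => Nat) (272) (171) (Nat.ble 557 i)) (Nat.ble 556 i)) (Bool.rec (motive := fun _ => Nat) (Bool.rec (motive := fun _ => Nat) (2108) (2356) (Nat.ble 559 i)) (Bool.rec (motive := fun _ => Nat) (2794) (752) (Nat.ble 561 i)) (Nat.ble 560 i)) (Nat.ble 558 i)) (Nat.ble 555 i)) (Nat.ble 549 i)) (Nat.ble 536 i)) (Bool.rec (motive := fun _ => Nat) (Bool.rec (motive := fun _ => Nat) (Bool.rec (motive := fun _ => Nat) (Bool.rec (motive := fun _ => Nat) (Bool.rec (motive := fun _ => Nat) (2247) (Bool.rec (motive := fun _ => Nat) (143) (1362) (Nat.ble 564 i)) (Nat.ble 563 i)) (Bool.rec (motive := fun _ => Nat) (2696) (Bool.rec (motive := fun _ => Nat) (2693) (119) (Nat.ble 567 i)) (Nat.ble 566 i)) (Nat.ble 565 i)) (Bool.rec (motive := fun _ => Nat) (Bool.rec (motive := fun _ => Nat) (148) (Bool.rec (motive := fun _ => Nat) (2128)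 (2603) (Nat.ble 570 i)) (Nat.ble 569 i)) (Bool.rec (motive := fun _ => Nat) (Bool.rec (motive := fun _ => Nat) (2375) (1408) (Nat.ble 572 i)) (Bool.rec (motive := fun _ => Nat) (2773) (2366) (Nat.ble 574 i)) (Nat.ble 573 i)) (Nat.ble 571 i)) (Nat.ble 568 i)) (Bool.rec (motive := fun _ => Nat) (Bool.rec (motive := fun _ => Nat) (Bool.rec (motive := fun _ => Nat) (2095) (Bool.rec (motive := fun _ => Nat) (2677) (2205) (Nat.ble 577 i)) (Nat.ble 576 i)) (Bool.rec (motive := fun _ => Nat) (2105) (Bool.rec (motive := fun _ => Nat) (604) (1032) (Nat.ble 580 i)) (Nat.ble 579 i)) (Nat.ble 578 i)) (Bool.rec (motive := fun _ => Nat) (Bool.rec (motive := fun _ => Nat) (1425) (Bool.rec (motive := fun _ => Nat) (751) (71) (Nat.ble 583 i)) (Nat.ble 582 i)) (Bool.rec (motive := fun _ => Nat) (Bool.rec (motive := fun _ => Nat) (491) (1042) (Nat.ble 585 i)) (Bool.rec (motive := fun _ => Nat) (2313) (406) (Nat.ble 587 i)) (Nat.ble 586 i)) (Nat.ble 584 i)) (Nat.ble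 581 i)) (Nat.ble 575 i)) (Bool.rec (motive := fun _ => Nat) (Bool.rec (motive := fun _ => Nat) (Bool.rec (motive := fun _ => Nat) (Bool.rec (motive := fun _ => Nat) (299) (Bool.rec (motive := fun _ => Nat) (2130) (2203) (Nat.ble 590 i)) (Nat.ble 589 i)) (Bool.rec (motive := fun _ => Nat) (2648) (Bool.rec (motive := fun _ => Nat) (1531) (1147) (Nat.ble 593 i)) (Nat.ble 592 i)) (Nat.ble 591 i)) (Bool.rec (motive := fun _ => Nat) (Bool.rec (motive := fun _ => Nat) (1763) (Bool.rec (motive := fun _ => Nat) (799) (2165) (Nat.ble 596 i)) (Nat.ble 595 i)) (Bool.rec (motive := fun _ => Nat) (Bool.rec (motive := fun _ => Nat) (2820) (2208) (Nat.ble 598 i)) (Bool.rec (motive := fun _ => Nat) (2822) (2061) (Nat.ble 600 i)) (Nat.ble 599 i)) (Nat.ble 597 i)) (Nat.ble 594 i)) (Bool.rec (motive := fun _ => Nat) (Bool.rec (motive := fun _ => Nat) (Bool.rec (motive := fun _ => Nat) (2359) (Bool.rec (motive := fun _ => Nat) (233) (229) (Nat.ble 603 i)) (Nat.ble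 602 i)) (Bool.rec (motive := fun _ => Nat) (1164) (Bool.rec (motive := fun _ => Nat) (1314) (2091) (Nat.ble 606 i)) (Nat.ble 605 i)) (Nat.ble 604 i)) (Bool.rec (motive := fun _ => Nat) (Bool.rec (motive := fun _ => Nat) (2651) (Bool.rec (motive := fun _ => Nat) (376) (1231) (Nat.ble 609 i)) (Nat.ble 608 i)) (Bool.rec (motive := fun _ => Nat) (Bool.rec (motive := fun _ => Nat) (2454) (2162) (Nat.ble 611 i)) (Bool.rec (motive := fun _ => Nat) (513) (2378) (Nat.ble 613 i)) (Nat.ble 612 i)) (Nat.ble 610 i)) (Nat.ble 607 i)) (Nat.ble 601 i)) (Nat.ble 588 i)) (Nat.ble 562 i)) (Nat.ble 511 i)) (Bool.rec (motive := fun _ => Nat) (Bool.rec (motive := fun _ => Nat) (Bool.rec (motive := fun _ => Nat) (Bool.rec (motive := fun _ => Nat) (Bool.rec (motive := fun _ => Nat) (Bool.rec (motive := fun _ => Nat) (Bool.rec (motive := fun _ => Nat) (173) (Bool.rec (motive := fun _ => Nat) (559) (2317) (Nat.ble 616 i)) (Nat.ble 615 i)) (Bool.rec (motive := fun _ =>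 Nat) (1667) (Bool.rec (motive := fun _ => Nat) (678) (2081) (Nat.ble 619 i)) (Nat.ble 618 i)) (Nat.ble 617 i)) (Bool.rec (motive := fun _ => Nat) (Bool.rec (motive := fun _ => Nat) (1822) (Bool.rec (motive := fun _ => Nat) (2527) (2446) (Nat.ble 622 i)) (Nat.ble 621 i)) (Bool.rec (motive := fun _ => Nat) (424) (Bool.rec (motive := fun _ => Nat) (703) (251) (Nat.ble 625 i)) (Nat.ble 624 i)) (Nat.ble 623 i)) (Nat.ble 620 i)) (Bool.rec (motive := fun _ => Nat) (Bool.rec (motive := fun _ => Nat) (Bool.rec (motive := fun _ => Nat) (2394) (Bool.rec (motive := fun _ => Nat) (692) (1146) (Nat.ble 628 i)) (Nat.ble 627 i)) (Bool.rec (motive := fun _ => Nat) (1607) (Bool.rec (motive := fun _ => Nat) (586) (811) (Nat.ble 631 i)) (Nat.ble 630 i)) (Nat.ble 629 i)) (Bool.rec (motive := fun _ => Nat) (Bool.rec (motive := fun _ => Nat) (2210) (Bool.rec (motive := fun _ => Nat) (1033) (2155) (Nat.ble 634 i)) (Nat.ble 633 i)) (Bool.rec (motive := fun _ => Nat)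 (Bool.rec (motive := fun _ => Nat) (2447) (2076) (Nat.ble 636 i)) (Bool.rec (motive := fun _ => Nat) (2066) (532) (Nat.ble 638 i)) (Nat.ble 637 i)) (Nat.ble 635 i)) (Nat.ble 632 i)) (Nat.ble 626 i)) (Bool.rec (motive := fun _ => Nat) (Bool.rec (motive := fun _ => Nat) (Bool.rec (motive := fun _ => Nat) (Bool.rec (motive := fun _ => Nat) (1648) (Bool.rec (motive := fun _ => Nat) (446) (2431) (Nat.ble 641 i)) (Nat.ble 640 i)) (Bool.rec (motive := fun _ => Nat) (2591) (Bool.rec (motive := fun _ => Nat) (278) (1549) (Nat.ble 644 i)) (Nat.ble 643 i)) (Nat.ble 642 i)) (Bool.rec (motive := fun _ => Nat) (Bool.rec (motive := fun _ => Nat) (2802) (Bool.rec (motive := fun _ => Nat) (2312) (2505) (Nat.ble 647 i)) (Nat.ble 646 i)) (Bool.rec (motive := fun _ => Nat) (Bool.rec (motive := fun _ => Nat) (1259) (2200) (Nat.ble 649 i)) (Bool.rec (motive := fun _ => Nat) (51) (2207) (Nat.ble 651 i)) (Nat.ble 650 i)) (Nat.ble 648 i)) (Nat.ble 645 i)) (Bool.rec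 (motive := fun _ => Nat) (Bool.rec (motive := fun _ => Nat) (Bool.rec (motive := fun _ => Nat) (2513) (Bool.rec (motive := fun _ => Nat) (26) (1155) (Nat.ble 654 i)) (Nat.ble 653 i)) (Bool.rec (motive := fun _ => Nat) (2642) (Bool.rec (motive := fun _ => Nat) (1040) (2256) (Nat.ble 657 i)) (Nat.ble 656 i)) (Nat.ble 655 i)) (Bool.rec (motive := fun _ => Nat) (Bool.rec (motive := fun _ => Nat) (2337) (Bool.rec (motive := fun _ => Nat) (2070) (2413) (Nat.ble 660 i)) (Nat.ble 659 i)) (Bool.rec (motive := fun _ => Nat) (Bool.rec (motive := fun _ => Nat) (2059) (1024) (Nat.ble 662 i)) (Bool.rec (motive := fun _ => Nat) (657) (2123) (Nat.ble 664 i)) (Nat.ble 663 i)) (Nat.ble 661 i)) (Nat.ble 658 i)) (Nat.ble 652 i)) (Nat.ble 639 i)) (Bool.rec (motive := fun _ => Nat) (Bool.rec (motive := fun _ => Nat) (Bool.rec (motive := fun _ => Nat) (Bool.rec (motive := fun _ => Nat) (Bool.rec (motive := fun _ => Nat) (335) (Bool.rec (motive := fun _ => Nat) (2783)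 (295) (Nat.ble 667 i)) (Nat.ble 666 i)) (Bool.rec (motive := fun _ => Nat) (1639) (Bool.rec (motive := fun _ => Nat) (633) (470) (Nat.ble 670 i)) (Nat.ble 669 i)) (Nat.ble 668 i)) (Bool.rec (motive := fun _ => Nat) (Bool.rec (motive := fun _ => Nat) (2691) (Bool.rec (motive := fun _ => Nat) (572) (2705) (Nat.ble 673 i)) (Nat.ble 672 i)) (Bool.rec (motive := fun _ => Nat) (1800) (Bool.rec (motive := fun _ => Nat) (30) (2058) (Nat.ble 676 i)) (Nat.ble 675 i)) (Nat.ble 674 i)) (Nat.ble 671 i)) (Bool.rec (motive := fun _ => Nat) (Bool.rec (motive := fun _ => Nat) (Bool.rec (motive := fun _ => Nat) (1202) (Bool.rec (motive := fun _ => Nat) (2806) (2474) (Nat.ble 679 i)) (Nat.ble 678 i)) (Bool.rec (motive := fun _ => Nat) (2754) (Bool.rec (motive := fun _ => Nat) (2386) (2477) (Nat.ble 682 i)) (Nat.ble 681 i)) (Nat.ble 680 i)) (Bool.rec (motive := fun _ => Nat) (Bool.rec (motive := fun _ => Nat) (2322) (Bool.rec (motive := fun _ => Nat) (2143) (69)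 (Nat.ble 685 i)) (Nat.ble 684 i)) (Bool.rec (motive := fun _ => Nat) (Bool.rec (motive := fun _ => Nat) (2127) (2057) (Nat.ble 687 i)) (Bool.rec (motive := fun _ => Nat) (1026) (265) (Nat.ble 689 i)) (Nat.ble 688 i)) (Nat.ble 686 i)) (Nat.ble 683 i)) (Nat.ble 677 i)) (Bool.rec (motive := fun _ => Nat) (Bool.rec (motive := fun _ => Nat) (Bool.rec (motive := fun _ => Nat) (Bool.rec (motive := fun _ => Nat) (514) (Bool.rec (motive := fun _ => Nat) (1313) (2056) (Nat.ble 692 i)) (Nat.ble 691 i)) (Bool.rec (motive := fun _ => Nat) (2704) (Bool.rec (motive := fun _ => Nat) (1235) (2667) (Nat.ble 695 i)) (Nat.ble 694 i)) (Nat.ble 693 i)) (Bool.rec (motive := fun _ => Nat) (Bool.rec (motive := fun _ => Nat) (2555) (Bool.rec (motive := fun _ => Nat) (117) (1082) (Nat.ble 698 i)) (Nat.ble 697 i)) (Bool.rec (motive := fun _ => Nat) (Bool.rec (motive := fun _ => Nat) (155) (1455) (Nat.ble 700 i)) (Bool.rec (motive := fun _ => Nat) (601) (2219) (Nat.ble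 702 i)) (Nat.ble 701 i)) (Nat.ble 699 i)) (Nat.ble 696 i)) (Bool.rec (motive := fun _ => Nat) (Bool.rec (motive := fun _ => Nat) (Bool.rec (motive := fun _ => Nat) (2377) (Bool.rec (motive := fun _ => Nat) (762) (1499) (Nat.ble 705 i)) (Nat.ble 704 i)) (Bool.rec (motive := fun _ => Nat) (2628) (Bool.rec (motive := fun _ => Nat) (2526) (2244) (Nat.ble 708 i)) (Nat.ble 707 i)) (Nat.ble 706 i)) (Bool.rec (motive := fun _ => Nat) (Bool.rec (motive := fun _ => Nat) (2348) (Bool.rec (motive := fun _ => Nat) (2821) (2713) (Nat.ble 711 i)) (Nat.ble 710 i)) (Bool.rec (motive := fun _ => Nat) (Bool.rec (motive := fun _ => Nat) (660) (1140) (Nat.ble 713 i)) (Bool.rec (motive := fun _ => Nat) (312) (1266) (Nat.ble 715 i)) (Nat.ble 714 i)) (Nat.ble 712 i)) (Nat.ble 709 i)) (Nat.ble 703 i)) (Nat.ble 690 i)) (Nat.ble 665 i)) (Bool.rec (motive := fun _ => Nat) (Bool.rec (motive := fun _ => Nat) (Bool.rec (motive := fun _ => Nat) (Bool.rec (motive := fun _ =>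 Nat) (Bool.rec (motive := fun _ => Nat) (Bool.rec (motive := fun _ => Nat) (2052) (Bool.rec (motive := fun _ => Nat) (2328) (2354) (Nat.ble 718 i)) (Nat.ble 717 i)) (Bool.rec (motive := fun _ => Nat) (619) (Bool.rec (motive := fun _ => Nat) (1687) (781) (Nat.ble 721 i)) (Nat.ble 720 i)) (Nat.ble 719 i)) (Bool.rec (motive := fun _ => Nat) (Bool.rec (motive := fun _ => Nat) (2649) (Bool.rec (motive := fun _ => Nat) (1237) (696) (Nat.ble 724 i)) (Nat.ble 723 i)) (Bool.rec (motive := fun _ => Nat) (2581) (Bool.rec (motive := fun _ => Nat) (2855) (2612) (Nat.ble 727 i)) (Nat.ble 726 i)) (Nat.ble 725 i)) (Nat.ble 722 i)) (Bool.rec (motive := fun _ => Nat) (Bool.rec (motive := fun _ => Nat) (Bool.rec (motive := fun _ => Nat) (1445) (Bool.rec (motive := fun _ => Nat) (2765) (2387) (Nat.ble 730 i)) (Nat.ble 729 i)) (Bool.rec (motive := fun _ => Nat) (404) (Bool.rec (motive := fun _ => Nat) (2789) (1258) (Nat.ble 733 i)) (Nat.ble 732 i)) (Nat.ble 731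 i)) (Bool.rec (motive := fun _ => Nat) (Bool.rec (motive := fun _ => Nat) (383) (Bool.rec (motive := fun _ => Nat) (480) (303) (Nat.ble 736 i)) (Nat.ble 735 i)) (Bool.rec (motive := fun _ => Nat) (Bool.rec (motive := fun _ => Nat) (2398) (2557) (Nat.ble 738 i)) (Bool.rec (motive := fun _ => Nat) (815) (522) (Nat.ble 740 i)) (Nat.ble 739 i)) (Nat.ble 737 i)) (Nat.ble 734 i)) (Nat.ble 728 i)) (Bool.rec (motive := fun _ => Nat) (Bool.rec (motive := fun _ => Nat) (Bool.rec (motive := fun _ => Nat) (Bool.rec (motive := fun _ => Nat) (95) (Bool.rec (motive := fun _ => Nat) (1442) (576) (Nat.ble 743 i)) (Nat.ble 742 i)) (Bool.rec (motive := fun _ => Nat) (2620) (Bool.rec (motive := fun _ => Nat) (1479) (2245) (Nat.ble 746 i)) (Nat.ble 745 i)) (Nat.ble 744 i)) (Bool.rec (motive := fun _ => Nat) (Bool.rec (motive := fun _ => Nat) (2170) (Bool.rec (motive := fun _ => Nat) (141) (459) (Nat.ble 749 i)) (Nat.ble 748 i)) (Bool.rec (motive := fun _ => Nat)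 (Bool.rec (motive := fun _ => Nat) (2285) (2382) (Nat.ble 751 i)) (Bool.rec (motive := fun _ => Nat) (2501) (2407) (Nat.ble 753 i)) (Nat.ble 752 i)) (Nat.ble 750 i)) (Nat.ble 747 i)) (Bool.rec (motive := fun _ => Nat) (Bool.rec (motive := fun _ => Nat) (Bool.rec (motive := fun _ => Nat) (75) (Bool.rec (motive := fun _ => Nat) (2185) (2830) (Nat.ble 756 i)) (Nat.ble 755 i)) (Bool.rec (motive := fun _ => Nat) (360) (Bool.rec (motive := fun _ => Nat) (1552) (2602) (Nat.ble 759 i)) (Nat.ble 758 i)) (Nat.ble 757 i)) (Bool.rec (motive := fun _ => Nat) (Bool.rec (motive := fun _ => Nat) (654) (Bool.rec (motive := fun _ => Nat) (2250) (2393) (Nat.ble 762 i)) (Nat.ble 761 i)) (Bool.rec (motive := fun _ => Nat) (Bool.rec (motive := fun _ => Nat) (2522) (709) (Nat.ble 764 i)) (Bool.rec (motive := fun _ => Nat) (635) (2072) (Nat.ble 766 i)) (Nat.ble 765 i)) (Nat.ble 763 i)) (Nat.ble 760 i)) (Nat.ble 754 i)) (Nat.ble 741 i)) (Bool.rec (motive := fun _ =>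 Nat) (Bool.rec (motive := fun _ => Nat) (Bool.rec (motive := fun _ => Nat) (Bool.rec (motive := fun _ => Nat) (Bool.rec (motive := fun _ => Nat) (2507) (Bool.rec (motive := fun _ => Nat) (2675) (115) (Nat.ble 769 i)) (Nat.ble 768 i)) (Bool.rec (motive := fun _ => Nat) (1591) (Bool.rec (motive := fun _ => Nat) (2420) (1288) (Nat.ble 772 i)) (Nat.ble 771 i)) (Nat.ble 770 i)) (Bool.rec (motive := fun _ => Nat) (Bool.rec (motive := fun _ => Nat) (2452) (Bool.rec (motive := fun _ => Nat) (54) (2096) (Nat.ble 775 i)) (Nat.ble 774 i)) (Bool.rec (motive := fun _ => Nat) (Bool.rec (motive := fun _ => Nat) (306) (1651) (Nat.ble 777 i)) (Bool.rec (motive := fun _ => Nat) (1227) (2644) (Nat.ble 779 i)) (Nat.ble 778 i)) (Nat.ble 776 i)) (Nat.ble 773 i)) (Bool.rec (motive := fun _ => Nat) (Bool.rec (motive := fun _ => Nat) (Bool.rec (motive := fun _ => Nat) (44) (Bool.rec (motive := fun _ => Nat) (2814) (596) (Nat.ble 782 i)) (Nat.ble 781 i)) (Bool.rec (motive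 := fun _ => Nat) (2341) (Bool.rec (motive := fun _ => Nat) (2132) (2650) (Nat.ble 785 i)) (Nat.ble 784 i)) (Nat.ble 783 i)) (Bool.rec (motive := fun _ => Nat) (Bool.rec (motive := fun _ => Nat) (405) (Bool.rec (motive := fun _ => Nat) (2080) (2489) (Nat.ble 788 i)) (Nat.ble 787 i)) (Bool.rec (motive := fun _ => Nat) (Bool.rec (motive := fun _ => Nat) (2435) (2742) (Nat.ble 790 i)) (Bool.rec (motive := fun _ => Nat) (2372) (2665) (Nat.ble 792 i)) (Nat.ble 791 i)) (Nat.ble 789 i)) (Nat.ble 786 i)) (Nat.ble 780 i)) (Bool.rec (motive := fun _ => Nat) (Bool.rec (motive := fun _ => Nat) (Bool.rec (motive := fun _ => Nat) (Bool.rec (motive := fun _ => Nat) (1495) (Bool.rec (motive := fun _ => Nat) (755) (2497) (Nat.ble 795 i)) (Nat.ble 794 i)) (Bool.rec (motive := fun _ => Nat) (585) (Bool.rec (motive := fun _ => Nat) (2135) (575) (Nat.ble 798 i)) (Nat.ble 797 i)) (Nat.ble 796 i)) (Bool.rec (motive := fun _ => Nat) (Bool.rec (motive := fun _ => Nat)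 (2746) (Bool.rec (motive := fun _ => Nat) (2576) (1307) (Nat.ble 801 i)) (Nat.ble 800 i)) (Bool.rec (motive := fun _ => Nat) (Bool.rec (motive := fun _ => Nat) (1388) (524) (Nat.ble 803 i)) (Bool.rec (motive := fun _ => Nat) (183) (2775) (Nat.ble 805 i)) (Nat.ble 804 i)) (Nat.ble 802 i)) (Nat.ble 799 i)) (Bool.rec (motive := fun _ => Nat) (Bool.rec (motive := fun _ => Nat) (Bool.rec (motive := fun _ => Nat) (239) (Bool.rec (motive := fun _ => Nat) (478) (1713) (Nat.ble 808 i)) (Nat.ble 807 i)) (Bool.rec (motive := fun _ => Nat) (2187) (Bool.rec (motive := fun _ => Nat) (2270) (2383) (Nat.ble 811 i)) (Nat.ble 810 i)) (Nat.ble 809 i)) (Bool.rec (motive := fun _ => Nat) (Bool.rec (motive := fun _ => Nat) (1166) (Bool.rec (motive := fun _ => Nat) (2509) (74) (Nat.ble 814 i)) (Nat.ble 813 i)) (Bool.rec (motive := fun _ => Nat) (Bool.rec (motive := fun _ => Nat) (2054) (2638) (Nat.ble 816 i)) (Bool.rec (motive := fun _ => Nat) (1303) (629) (Nat.ble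 818 i)) (Nat.ble 817 i)) (Nat.ble 815 i)) (Nat.ble 812 i)) (Nat.ble 806 i)) (Nat.ble 793 i)) (Nat.ble 767 i)) (Nat.ble 716 i)) (Nat.ble 614 i)) (Nat.ble 409 i))

/-- Stabilising words of node 8. -/
def tGen8 : List (List Nat) := [[0, 2, 0, 4, 2, 6, 4, 6, 8, 6, 4, 2, 6, 4, 6, 1, 3, 5, 7], [2, 4, 6, 8, 6, 4, 2, 10, 8, 6, 4, 6, 11, 8, 11, 5, 7, 9, 11, 3, 5, 7, 9, 3, 5, 3], [4, 2, 8, 6, 4, 12, 10, 8, 6, 4, 11, 8, 10, 10, 7, 9, 3, 5, 7, 1, 3, 5, 1, 3, 1]]

/-- Roots at node 8. -/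
def tRoot8 : List Nat := [0, 1, 2, 3, 4, 6, 7, 8, 9, 13, 18, 24, 26, 32, 47]

/-- Forest of the points at node 9. -/
noncomputable def tPar9 (i : Nat) : Nat := (Bool.rec (motive := fun _ => Nat) (Bool.rec (motive := fun _ => Nat) (Bool.rec (motive := fun _ => Nat) (Bool.rec (motive := fun _ => Nat) (Bool.rec (motive := fun _ => Nat) (Bool.rec (motive := fun _ => Nat) (Bool.rec (motive := fun _ => Nat) (Bool.rec (motive := fun _ => Nat) (Bool.rec (motive := fun _ => Nat) (15360) (Bool.rec (motive := fun _ => Nat) (15361) (15362) (Nat.ble 2 i)) (Nat.ble 1 i)) (Bool.rec (motive := fun _ => Nat) (2785) (Bool.rec (motive := fun _ => Nat) (15364) (15365) (Nat.ble 5 i)) (Nat.ble 4 i)) (Nat.ble 3 i)) (Bool.rec (motive := fun _ => Nat) (Bool.rec (motive := fun _ => Nat) (15366) (Bool.rec (motive := fun _ => Nat) (15367) (15368) (Nat.ble 8 i)) (Nat.ble 7 i)) (Bool.rec (motive := fun _ => Nat) (804) (Bool.rec (motive := fun _ => Nat) (15370) (2329) (Nat.ble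 11 i)) (Nat.ble 10 i)) (Nat.ble 9 i)) (Nat.ble 6 i)) (Bool.rec (motive := fun _ => Nat) (Bool.rec (motive := fun _ => Nat) (Bool.rec (motive := fun _ => Nat) (1164) (Bool.rec (motive := fun _ => Nat) (2379) (15374) (Nat.ble 14 i)) (Nat.ble 13 i)) (Bool.rec (motive := fun _ => Nat) (1484) (Bool.rec (motive := fun _ => Nat) (15376) (15377) (Nat.ble 17 i)) (Nat.ble 16 i)) (Nat.ble 15 i)) (Bool.rec (motive := fun _ => Nat) (Bool.rec (motive := fun _ => Nat) (1266) (Bool.rec (motive := fun _ => Nat) (15379) (2546) (Nat.ble 20 i)) (Nat.ble 19 i)) (Bool.rec (motive := fun _ => Nat) (Bool.rec (motive := fun _ => Nat) (15381) (188) (Nat.ble 22 i)) (Bool.rec (motive := fun _ => Nat) (2852) (2552) (Nat.ble 24 i)) (Nat.ble 23 i)) (Nat.ble 21 i)) (Nat.ble 18 i)) (Nat.ble 12 i)) (Bool.rec (motive := fun _ => Nat) (Bool.rec (motive := fun _ => Nat) (Bool.rec (motive := fun _ => Nat) (Bool.rec (motive := fun _ => Nat) (15385) (Bool.rec (motive := fun _ => Nat)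 (1524) (2060) (Nat.ble 27 i)) (Nat.ble 26 i)) (Bool.rec (motive := fun _ => Nat) (19) (Bool.rec (motive := fun _ => Nat) (1410) (1326) (Nat.ble 30 i)) (Nat.ble 29 i)) (Nat.ble 28 i)) (Bool.rec (motive := fun _ => Nat) (Bool.rec (motive := fun _ => Nat) (2603) (Bool.rec (motive := fun _ => Nat) (2400) (1716) (Nat.ble 33 i)) (Nat.ble 32 i)) (Bool.rec (motive := fun _ => Nat) (Bool.rec (motive := fun _ => Nat) (462) (8) (Nat.ble 35 i)) (Bool.rec (motive := fun _ => Nat) (2625) (2337) (Nat.ble 37 i)) (Nat.ble 36 i)) (Nat.ble 34 i)) (Nat.ble 31 i)) (Bool.rec (motive := fun _ => Nat) (Bool.rec (motive := fun _ => Nat) (Bool.rec (motive := fun _ => Nat) (2580) (Bool.rec (motive := fun _ => Nat) (1795) (2286) (Nat.ble 40 i)) (Nat.ble 39 i)) (Bool.rec (motive := fun _ => Nat) (2656) (Bool.rec (motive := fun _ => Nat) (14) (2469) (Nat.ble 43 i)) (Nat.ble 42 i)) (Nat.ble 41 i)) (Bool.rec (motive := fun _ => Nat) (Bool.rec (motive := fun _ => Nat) (15404)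 (Bool.rec (motive := fun _ => Nat) (2) (1230) (Nat.ble 46 i)) (Nat.ble 45 i)) (Bool.rec (motive := fun _ => Nat) (Bool.rec (motive := fun _ => Nat) (269) (2560) (Nat.ble 48 i)) (Bool.rec (motive := fun _ => Nat) (2197) (1197) (Nat.ble 50 i)) (Nat.ble 49 i)) (Nat.ble 47 i)) (Nat.ble 44 i)) (Nat.ble 38 i)) (Nat.ble 25 i)) (Bool.rec (motive := fun _ => Nat) (Bool.rec (motive := fun _ => Nat) (Bool.rec (motive := fun _ => Nat) (Bool.rec (motive := fun _ => Nat) (Bool.rec (motive := fun _ => Nat) (1631) (Bool.rec (motive := fun _ => Nat) (1807) (2850) (Nat.ble 53 i)) (Nat.ble 52 i)) (Bool.rec (motive := fun _ => Nat) (1579) (Bool.rec (motive := fun _ => Nat) (2190) (1132) (Nat.ble 56 i)) (Nat.ble 55 i)) (Nat.ble 54 i)) (Bool.rec (motive := fun _ => Nat) (Bool.rec (motive := fun _ => Nat) (1327) (Bool.rec (motive := fun _ => Nat) (2458) (1270) (Nat.ble 59 i)) (Nat.ble 58 i)) (Bool.rec (motive := fun _ => Nat) (1802) (Bool.rec (motive := fun _ => Nat)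 (783) (2357) (Nat.ble 62 i)) (Nat.ble 61 i)) (Nat.ble 60 i)) (Nat.ble 57 i)) (Bool.rec (motive := fun _ => Nat) (Bool.rec (motive := fun _ => Nat) (Bool.rec (motive := fun _ => Nat) (1841) (Bool.rec (motive := fun _ => Nat) (1122) (163) (Nat.ble 65 i)) (Nat.ble 64 i)) (Bool.rec (motive := fun _ => Nat) (1640) (Bool.rec (motive := fun _ => Nat) (2290) (2566) (Nat.ble 68 i)) (Nat.ble 67 i)) (Nat.ble 66 i)) (Bool.rec (motive := fun _ => Nat) (Bool.rec (motive := fun _ => Nat) (2606) (Bool.rec (motive := fun _ => Nat) (656) (635) (Nat.ble 71 i)) (Nat.ble 70 i)) (Bool.rec (motive := fun _ => Nat) (Bool.rec (motive := fun _ => Nat) (460) (2536) (Nat.ble 73 i)) (Bool.rec (motive := fun _ => Nat) (2808) (2233) (Nat.ble 75 i)) (Nat.ble 74 i)) (Nat.ble 72 i)) (Nat.ble 69 i)) (Nat.ble 63 i)) (Bool.rec (motive := fun _ => Nat) (Bool.rec (motive := fun _ => Nat) (Bool.rec (motive := fun _ => Nat) (Bool.rec (motive := fun _ => Nat) (15436) (Bool.rec (motive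 := fun _ => Nat) (1243) (1166) (Nat.ble 78 i)) (Nat.ble 77 i)) (Bool.rec (motive := fun _ => Nat) (44) (Bool.rec (motive := fun _ => Nat) (2679) (1248) (Nat.ble 81 i)) (Nat.ble 80 i)) (Nat.ble 79 i)) (Bool.rec (motive := fun _ => Nat) (Bool.rec (motive := fun _ => Nat) (2772) (Bool.rec (motive := fun _ => Nat) (2256) (2222) (Nat.ble 84 i)) (Nat.ble 83 i)) (Bool.rec (motive := fun _ => Nat) (Bool.rec (motive := fun _ => Nat) (1425) (15446) (Nat.ble 86 i)) (Bool.rec (motive := fun _ => Nat) (76) (2056) (Nat.ble 88 i)) (Nat.ble 87 i)) (Nat.ble 85 i)) (Nat.ble 82 i)) (Bool.rec (motive := fun _ => Nat) (Bool.rec (motive := fun _ => Nat) (Bool.rec (motive := fun _ => Nat) (1771) (Bool.rec (motive := fun _ => Nat) (416) (1747) (Nat.ble 91 i)) (Nat.ble 90 i)) (Bool.rec (motive := fun _ => Nat) (15452) (Bool.rec (motive := fun _ => Nat) (1334) (1103) (Nat.ble 94 i)) (Nat.ble 93 i)) (Nat.ble 92 i)) (Bool.rec (motive := fun _ => Nat) (Bool.rec (motive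 := fun _ => Nat) (2647) (Bool.rec (motive := fun _ => Nat) (1451) (1055) (Nat.ble 97 i)) (Nat.ble 96 i)) (Bool.rec (motive := fun _ => Nat) (Bool.rec (motive := fun _ => Nat) (25) (282) (Nat.ble 99 i)) (Bool.rec (motive := fun _ => Nat) (2093) (2441) (Nat.ble 101 i)) (Nat.ble 100 i)) (Nat.ble 98 i)) (Nat.ble 95 i)) (Nat.ble 89 i)) (Nat.ble 76 i)) (Nat.ble 51 i)) (Bool.rec (motive := fun _ => Nat) (Bool.rec (motive := fun _ => Nat) (Bool.rec (motive := fun _ => Nat) (Bool.rec (motive := fun _ => Nat) (Bool.rec (motive := fun _ => Nat) (Bool.rec (motive := fun _ => Nat) (1788) (Bool.rec (motive := fun _ => Nat) (1506) (497) (Nat.ble 104 i)) (Nat.ble 103 i)) (Bool.rec (motive := fun _ => Nat) (2824) (Bool.rec (motive := fun _ => Nat) (2204) (2048) (Nat.ble 107 i)) (Nat.ble 106 i)) (Nat.ble 105 i)) (Bool.rec (motive := fun _ => Nat) (Bool.rec (motive := fun _ => Nat) (1041) (Bool.rec (motive := fun _ => Nat) (1337) (425) (Nat.ble 110 i)) (Nat.ble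 109 i)) (Bool.rec (motive := fun _ => Nat) (1294) (Bool.rec (motive := fun _ => Nat) (1025) (2126) (Nat.ble 113 i)) (Nat.ble 112 i)) (Nat.ble 111 i)) (Nat.ble 108 i)) (Bool.rec (motive := fun _ => Nat) (Bool.rec (motive := fun _ => Nat) (Bool.rec (motive := fun _ => Nat) (702) (Bool.rec (motive := fun _ => Nat) (1800) (1306) (Nat.ble 116 i)) (Nat.ble 115 i)) (Bool.rec (motive := fun _ => Nat) (2224) (Bool.rec (motive := fun _ => Nat) (2425) (1554) (Nat.ble 119 i)) (Nat.ble 118 i)) (Nat.ble 117 i)) (Bool.rec (motive := fun _ => Nat) (Bool.rec (motive := fun _ => Nat) (1424) (Bool.rec (motive := fun _ => Nat) (2287) (2202) (Nat.ble 122 i)) (Nat.ble 121 i)) (Bool.rec (motive := fun _ => Nat) (Bool.rec (motive := fun _ => Nat) (2398) (400) (Nat.ble 124 i)) (Bool.rec (motive := fun _ => Nat) (2217) (448) (Nat.ble 126 i)) (Nat.ble 125 i)) (Nat.ble 123 i)) (Nat.ble 120 i)) (Nat.ble 114 i)) (Bool.rec (motive := fun _ => Nat) (Bool.rec (motive := fun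 _ => Nat) (Bool.rec (motive := fun _ => Nat) (Bool.rec (motive := fun _ => Nat) (1320) (Bool.rec (motive := fun _ => Nat) (2062) (28) (Nat.ble 129 i)) (Nat.ble 128 i)) (Bool.rec (motive := fun _ => Nat) (2082) (Bool.rec (motive := fun _ => Nat) (1226) (440) (Nat.ble 132 i)) (Nat.ble 131 i)) (Nat.ble 130 i)) (Bool.rec (motive := fun _ => Nat) (Bool.rec (motive := fun _ => Nat) (2474) (Bool.rec (motive := fun _ => Nat) (142) (1225) (Nat.ble 135 i)) (Nat.ble 134 i)) (Bool.rec (motive := fun _ => Nat) (Bool.rec (motive := fun _ => Nat) (1038) (519) (Nat.ble 137 i)) (Bool.rec (motive := fun _ => Nat) (2724) (2120) (Nat.ble 139 i)) (Nat.ble 138 i)) (Nat.ble 136 i)) (Nat.ble 133 i)) (Bool.rec (motive := fun _ => Nat) (Bool.rec (motive := fun _ => Nat) (Bool.rec (motive := fun _ => Nat) (2530) (Bool.rec (motive := fun _ => Nat) (2825) (1052) (Nat.ble 142 i)) (Nat.ble 141 i)) (Bool.rec (motive := fun _ => Nat) (1766) (Bool.rec (motive := fun _ => Nat)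 (2575) (109) (Nat.ble 145 i)) (Nat.ble 144 i)) (Nat.ble 143 i)) (Bool.rec (motive := fun _ => Nat) (Bool.rec (motive := fun _ => Nat) (2178) (Bool.rec (motive := fun _ => Nat) (1422) (2436) (Nat.ble 148 i)) (Nat.ble 147 i)) (Bool.rec (motive := fun _ => Nat) (Bool.rec (motive := fun _ => Nat) (1387) (1525) (Nat.ble 150 i)) (Bool.rec (motive := fun _ => Nat) (1777) (2743) (Nat.ble 152 i)) (Nat.ble 151 i)) (Nat.ble 149 i)) (Nat.ble 146 i)) (Nat.ble 140 i)) (Nat.ble 127 i)) (Bool.rec (motive := fun _ => Nat) (Bool.rec (motive := fun _ => Nat) (Bool.rec (motive := fun _ => Nat) (Bool.rec (motive := fun _ => Nat) (Bool.rec (motive := fun _ => Nat) (299) (Bool.rec (motive := fun _ => Nat) (10) (583) (Nat.ble 155 i)) (Nat.ble 154 i)) (Bool.rec (motive := fun _ => Nat) (1706) (Bool.rec (motive := fun _ => Nat) (2250) (600) (Nat.ble 158 i)) (Nat.ble 157 i)) (Nat.ble 156 i)) (Bool.rec (motive := fun _ => Nat) (Bool.rec (motive := fun _ => Nat) (2177)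 (Bool.rec (motive := fun _ => Nat) (2582) (1834) (Nat.ble 161 i)) (Nat.ble 160 i)) (Bool.rec (motive := fun _ => Nat) (1099) (Bool.rec (motive := fun _ => Nat) (2148) (1240) (Nat.ble 164 i)) (Nat.ble 163 i)) (Nat.ble 162 i)) (Nat.ble 159 i)) (Bool.rec (motive := fun _ => Nat) (Bool.rec (motive := fun _ => Nat) (Bool.rec (motive := fun _ => Nat) (1131) (Bool.rec (motive := fun _ => Nat) (1594) (1415) (Nat.ble 167 i)) (Nat.ble 166 i)) (Bool.rec (motive := fun _ => Nat) (1045) (Bool.rec (motive := fun _ => Nat) (1029) (1381) (Nat.ble 170 i)) (Nat.ble 169 i)) (Nat.ble 168 i)) (Bool.rec (motive := fun _ => Nat) (Bool.rec (motive := fun _ => Nat) (1542) (Bool.rec (motive := fun _ => Nat) (1561) (331) (Nat.ble 173 i)) (Nat.ble 172 i)) (Bool.rec (motive := fun _ => Nat) (Bool.rec (motive := fun _ => Nat) (534) (2255) (Nat.ble 175 i)) (Bool.rec (motive := fun _ => Nat) (2659) (1776) (Nat.ble 177 i)) (Nat.ble 176 i)) (Nat.ble 174 i)) (Nat.ble 171 i))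 (Nat.ble 165 i)) (Bool.rec (motive := fun _ => Nat) (Bool.rec (motive := fun _ => Nat) (Bool.rec (motive := fun _ => Nat) (Bool.rec (motive := fun _ => Nat) (2076) (Bool.rec (motive := fun _ => Nat) (2251) (2090) (Nat.ble 180 i)) (Nat.ble 179 i)) (Bool.rec (motive := fun _ => Nat) (2279) (Bool.rec (motive := fun _ => Nat) (2340) (1289) (Nat.ble 183 i)) (Nat.ble 182 i)) (Nat.ble 181 i)) (Bool.rec (motive := fun _ => Nat) (Bool.rec (motive := fun _ => Nat) (2156) (Bool.rec (motive := fun _ => Nat) (1349) (15546) (Nat.ble 186 i)) (Nat.ble 185 i)) (Bool.rec (motive := fun _ => Nat) (Bool.rec (motive := fun _ => Nat) (2406) (2228) (Nat.ble 188 i)) (Bool.rec (motive := fun _ => Nat) (2835) (1548) (Nat.ble 190 i)) (Nat.ble 189 i)) (Nat.ble 187 i)) (Nat.ble 184 i)) (Bool.rec (motive := fun _ => Nat) (Bool.rec (motive := fun _ => Nat) (Bool.rec (motive := fun _ => Nat) (1489) (Bool.rec (motive := fun _ => Nat) (2413) (1047) (Nat.ble 193 i)) (Nat.ble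 192 i)) (Bool.rec (motive := fun _ => Nat) (2112) (Bool.rec (motive := fun _ => Nat) (764) (2548) (Nat.ble 196 i)) (Nat.ble 195 i)) (Nat.ble 194 i)) (Bool.rec (motive := fun _ => Nat) (Bool.rec (motive := fun _ => Nat) (1481) (Bool.rec (motive := fun _ => Nat) (1207) (1088) (Nat.ble 199 i)) (Nat.ble 198 i)) (Bool.rec (motive := fun _ => Nat) (Bool.rec (motive := fun _ => Nat) (2779) (2359) (Nat.ble 201 i)) (Bool.rec (motive := fun _ => Nat) (2140) (1079) (Nat.ble 203 i)) (Nat.ble 202 i)) (Nat.ble 200 i)) (Nat.ble 197 i)) (Nat.ble 191 i)) (Nat.ble 178 i)) (Nat.ble 153 i)) (Nat.ble 102 i)) (Bool.rec (motive := fun _ => Nat) (Bool.rec (motive := fun _ => Nat) (Bool.rec (motive := fun _ => Nat) (Bool.rec (motive := fun _ => Nat) (Bool.rec (motive := fun _ => Nat) (Bool.rec (motive := fun _ => Nat) (Bool.rec (motive := fun _ => Nat) (157) (Bool.rec (motive := fun _ => Nat) (276) (2736) (Nat.ble 206 i)) (Nat.ble 205 i)) (Bool.rec (motive := fun _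 => Nat) (376) (Bool.rec (motive := fun _ => Nat) (669) (2345) (Nat.ble 209 i)) (Nat.ble 208 i)) (Nat.ble 207 i)) (Bool.rec (motive := fun _ => Nat) (Bool.rec (motive := fun _ => Nat) (1668) (Bool.rec (motive := fun _ => Nat) (1624) (1341) (Nat.ble 212 i)) (Nat.ble 211 i)) (Bool.rec (motive := fun _ => Nat) (1220) (Bool.rec (motive := fun _ => Nat) (2492) (2501) (Nat.ble 215 i)) (Nat.ble 214 i)) (Nat.ble 213 i)) (Nat.ble 210 i)) (Bool.rec (motive := fun _ => Nat) (Bool.rec (motive := fun _ => Nat) (Bool.rec (motive := fun _ => Nat) (1736) (Bool.rec (motive := fun _ => Nat) (1335) (1462) (Nat.ble 218 i)) (Nat.ble 217 i)) (Bool.rec (motive := fun _ => Nat) (1100) (Bool.rec (motive := fun _ => Nat) (1092) (2163) (Nat.ble 221 i)) (Nat.ble 220 i)) (Nat.ble 219 i)) (Bool.rec (motive := fun _ => Nat) (Bool.rec (motive := fun _ => Nat) (361) (Bool.rec (motive := fun _ => Nat) (2635) (506) (Nat.ble 224 i)) (Nat.ble 223 i)) (Bool.rec (motive := fun _ =>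 Nat) (Bool.rec (motive := fun _ => Nat) (1212) (2717) (Nat.ble 226 i)) (Bool.rec (motive := fun _ => Nat) (2854) (2661) (Nat.ble 228 i)) (Nat.ble 227 i)) (Nat.ble 225 i)) (Nat.ble 222 i)) (Nat.ble 216 i)) (Bool.rec (motive := fun _ => Nat) (Bool.rec (motive := fun _ => Nat) (Bool.rec (motive := fun _ => Nat) (Bool.rec (motive := fun _ => Nat) (2503) (Bool.rec (motive := fun _ => Nat) (795) (2714) (Nat.ble 231 i)) (Nat.ble 230 i)) (Bool.rec (motive := fun _ => Nat) (2208) (Bool.rec (motive := fun _ => Nat) (86) (1754) (Nat.ble 234 i)) (Nat.ble 233 i)) (Nat.ble 232 i)) (Bool.rec (motive := fun _ => Nat) (Bool.rec (motive := fun _ => Nat) (2157) (Bool.rec (motive := fun _ => Nat) (2745) (178) (Nat.ble 237 i)) (Nat.ble 236 i)) (Bool.rec (motive := fun _ => Nat) (Bool.rec (motive := fun _ => Nat) (776) (1615) (Nat.ble 239 i)) (Bool.rec (motive := fun _ => Nat) (2395) (148) (Nat.ble 241 i)) (Nat.ble 240 i)) (Nat.ble 238 i)) (Nat.ble 235 i)) (Bool.rec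 (motive := fun _ => Nat) (Bool.rec (motive := fun _ => Nat) (Bool.rec (motive := fun _ => Nat) (2781) (Bool.rec (motive := fun _ => Nat) (98) (2439) (Nat.ble 244 i)) (Nat.ble 243 i)) (Bool.rec (motive := fun _ => Nat) (2586) (Bool.rec (motive := fun _ => Nat) (2306) (2151) (Nat.ble 247 i)) (Nat.ble 246 i)) (Nat.ble 245 i)) (Bool.rec (motive := fun _ => Nat) (Bool.rec (motive := fun _ => Nat) (2195) (Bool.rec (motive := fun _ => Nat) (2571) (1397) (Nat.ble 250 i)) (Nat.ble 249 i)) (Bool.rec (motive := fun _ => Nat) (Bool.rec (motive := fun _ => Nat) (1394) (1445) (Nat.ble 252 i)) (Bool.rec (motive := fun _ => Nat) (2510) (1549) (Nat.ble 254 i)) (Nat.ble 253 i)) (Nat.ble 251 i)) (Nat.ble 248 i)) (Nat.ble 242 i)) (Nat.ble 229 i)) (Bool.rec (motive := fun _ => Nat) (Bool.rec (motive := fun _ => Nat) (Bool.rec (motive := fun _ => Nat) (Bool.rec (motive := fun _ => Nat) (Bool.rec (motive := fun _ => Nat) (1160) (Bool.rec (motive := fun _ => Nat) (1075)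 (2207) (Nat.ble 257 i)) (Nat.ble 256 i)) (Bool.rec (motive := fun _ => Nat) (1396) (Bool.rec (motive := fun _ => Nat) (1293) (2124) (Nat.ble 260 i)) (Nat.ble 259 i)) (Nat.ble 258 i)) (Bool.rec (motive := fun _ => Nat) (Bool.rec (motive := fun _ => Nat) (2272) (Bool.rec (motive := fun _ => Nat) (2545) (1712) (Nat.ble 263 i)) (Nat.ble 262 i)) (Bool.rec (motive := fun _ => Nat) (45) (Bool.rec (motive := fun _ => Nat) (1318) (2626) (Nat.ble 266 i)) (Nat.ble 265 i)) (Nat.ble 264 i)) (Nat.ble 261 i)) (Bool.rec (motive := fun _ => Nat) (Bool.rec (motive := fun _ => Nat) (Bool.rec (motive := fun _ => Nat) (2542) (Bool.rec (motive := fun _ => Nat) (758) (21) (Nat.ble 269 i)) (Nat.ble 268 i)) (Bool.rec (motive := fun _ => Nat) (2760) (Bool.rec (motive := fun _ => Nat) (2601) (1530) (Nat.ble 272 i)) (Nat.ble 271 i)) (Nat.ble 270 i)) (Bool.rec (motive := fun _ => Nat) (Bool.rec (motive := fun _ => Nat) (2283) (Bool.rec (motive := fun _ => Nat) (2241) (2710)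 (Nat.ble 275 i)) (Nat.ble 274 i)) (Bool.rec (motive := fun _ => Nat) (Bool.rec (motive := fun _ => Nat) (1116) (1035) (Nat.ble 277 i)) (Bool.rec (motive := fun _ => Nat) (1391) (1213) (Nat.ble 279 i)) (Nat.ble 278 i)) (Nat.ble 276 i)) (Nat.ble 273 i)) (Nat.ble 267 i)) (Bool.rec (motive := fun _ => Nat) (Bool.rec (motive := fun _ => Nat) (Bool.rec (motive := fun _ => Nat) (Bool.rec (motive := fun _ => Nat) (2267) (Bool.rec (motive := fun _ => Nat) (2554) (2061) (Nat.ble 282 i)) (Nat.ble 281 i)) (Bool.rec (motive := fun _ => Nat) (688) (Bool.rec (motive := fun _ => Nat) (1811) (79) (Nat.ble 285 i)) (Nat.ble 284 i)) (Nat.ble 283 i)) (Bool.rec (motive := fun _ => Nat) (Bool.rec (motive := fun _ => Nat) (2456) (Bool.rec (motive := fun _ => Nat) (2599) (1278) (Nat.ble 288 i)) (Nat.ble 287 i)) (Bool.rec (motive := fun _ => Nat) (Bool.rec (motive := fun _ => Nat) (281) (2311) (Nat.ble 290 i)) (Bool.rec (motive := fun _ => Nat) (374) (773) (Nat.ble 292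 i)) (Nat.ble 291 i)) (Nat.ble 289 i)) (Nat.ble 286 i)) (Bool.rec (motive := fun _ => Nat) (Bool.rec (motive := fun _ => Nat) (Bool.rec (motive := fun _ => Nat) (108) (Bool.rec (motive := fun _ => Nat) (1028) (2788) (Nat.ble 295 i)) (Nat.ble 294 i)) (Bool.rec (motive := fun _ => Nat) (169) (Bool.rec (motive := fun _ => Nat) (1328) (2722) (Nat.ble 298 i)) (Nat.ble 297 i)) (Nat.ble 296 i)) (Bool.rec (motive := fun _ => Nat) (Bool.rec (motive := fun _ => Nat) (1058) (Bool.rec (motive := fun _ => Nat) (428) (180) (Nat.ble 301 i)) (Nat.ble 300 i)) (Bool.rec (motive := fun _ => Nat) (Bool.rec (motive := fun _ => Nat) (2719) (2840) (Nat.ble 303 i)) (Bool.rec (motive := fun _ => Nat) (2639) (1826) (Nat.ble 305 i)) (Nat.ble 304 i)) (Nat.ble 302 i)) (Nat.ble 299 i)) (Nat.ble 293 i)) (Nat.ble 280 i)) (Nat.ble 255 i)) (Bool.rec (motive := fun _ => Nat) (Bool.rec (motive := fun _ => Nat) (Bool.rec (motive := fun _ => Nat) (Bool.rec (motive := fun _ => Nat)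 (Bool.rec (motive := fun _ => Nat) (Bool.rec (motive := fun _ => Nat) (2390) (Bool.rec (motive := fun _ => Nat) (2809) (302) (Nat.ble 308 i)) (Nat.ble 307 i)) (Bool.rec (motive := fun _ => Nat) (1277) (Bool.rec (motive := fun _ => Nat) (2673) (2281) (Nat.ble 311 i)) (Nat.ble 310 i)) (Nat.ble 309 i)) (Bool.rec (motive := fun _ => Nat) (Bool.rec (motive := fun _ => Nat) (2795) (Bool.rec (motive := fun _ => Nat) (609) (1823) (Nat.ble 314 i)) (Nat.ble 313 i)) (Bool.rec (motive := fun _ => Nat) (2103) (Bool.rec (motive := fun _ => Nat) (2360) (2303) (Nat.ble 317 i)) (Nat.ble 316 i)) (Nat.ble 315 i)) (Nat.ble 312 i)) (Bool.rec (motive := fun _ => Nat) (Bool.rec (motive := fun _ => Nat) (Bool.rec (motive := fun _ => Nat) (2220) (Bool.rec (motive := fun _ => Nat) (1545) (1745) (Nat.ble 320 i)) (Nat.ble 319 i)) (Bool.rec (motive := fun _ => Nat) (2519) (Bool.rec (motive := fun _ => Nat) (2753) (631) (Nat.ble 323 i)) (Nat.ble 322 i)) (Nat.ble 321 i))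 (Bool.rec (motive := fun _ => Nat) (Bool.rec (motive := fun _ => Nat) (1435) (Bool.rec (motive := fun _ => Nat) (1040) (2294) (Nat.ble 326 i)) (Nat.ble 325 i)) (Bool.rec (motive := fun _ => Nat) (Bool.rec (motive := fun _ => Nat) (186) (1808) (Nat.ble 328 i)) (Bool.rec (motive := fun _ => Nat) (1149) (1359) (Nat.ble 330 i)) (Nat.ble 329 i)) (Nat.ble 327 i)) (Nat.ble 324 i)) (Nat.ble 318 i)) (Bool.rec (motive := fun _ => Nat) (Bool.rec (motive := fun _ => Nat) (Bool.rec (motive := fun _ => Nat) (Bool.rec (motive := fun _ => Nat) (4) (Bool.rec (motive := fun _ => Nat) (2411) (651) (Nat.ble 333 i)) (Nat.ble 332 i)) (Bool.rec (motive := fun _ => Nat) (2066) (Bool.rec (motive := fun _ => Nat) (2373) (1093) (Nat.ble 336 i)) (Nat.ble 335 i)) (Nat.ble 334 i)) (Bool.rec (motive := fun _ => Nat) (Bool.rec (motive := fun _ => Nat) (1794) (Bool.rec (motive := fun _ => Nat) (42) (2172) (Nat.ble 339 i)) (Nat.ble 338 i)) (Bool.rec (motive := fun _ => Nat)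 (Bool.rec (motive := fun _ => Nat) (2711) (2834) (Nat.ble 341 i)) (Bool.rec (motive := fun _ => Nat) (1693) (1370) (Nat.ble 343 i)) (Nat.ble 342 i)) (Nat.ble 340 i)) (Nat.ble 337 i)) (Bool.rec (motive := fun _ => Nat) (Bool.rec (motive := fun _ => Nat) (Bool.rec (motive := fun _ => Nat) (2819) (Bool.rec (motive := fun _ => Nat) (2285) (1658) (Nat.ble 346 i)) (Nat.ble 345 i)) (Bool.rec (motive := fun _ => Nat) (1726) (Bool.rec (motive := fun _ => Nat) (2191) (2657) (Nat.ble 349 i)) (Nat.ble 348 i)) (Nat.ble 347 i)) (Bool.rec (motive := fun _ => Nat) (Bool.rec (motive := fun _ => Nat) (1720) (Bool.rec (motive := fun _ => Nat) (1078) (272) (Nat.ble 352 i)) (Nat.ble 351 i)) (Bool.rec (motive := fun _ => Nat) (Bool.rec (motive := fun _ => Nat) (2320) (1774) (Nat.ble 354 i)) (Bool.rec (motive := fun _ => Nat) (1731) (219) (Nat.ble 356 i)) (Nat.ble 355 i)) (Nat.ble 353 i)) (Nat.ble 350 i)) (Nat.ble 344 i)) (Nat.ble 331 i)) (Bool.rec (motive := fun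 _ => Nat) (Bool.rec (motive := fun _ => Nat) (Bool.rec (motive := fun _ => Nat) (Bool.rec (motive := fun _ => Nat) (Bool.rec (motive := fun _ => Nat) (2420) (Bool.rec (motive := fun _ => Nat) (13) (2853) (Nat.ble 359 i)) (Nat.ble 358 i)) (Bool.rec (motive := fun _ => Nat) (1517) (Bool.rec (motive := fun _ => Nat) (1529) (1229) (Nat.ble 362 i)) (Nat.ble 361 i)) (Nat.ble 360 i)) (Bool.rec (motive := fun _ => Nat) (Bool.rec (motive := fun _ => Nat) (2694) (Bool.rec (motive := fun _ => Nat) (206) (1655) (Nat.ble 365 i)) (Nat.ble 364 i)) (Bool.rec (motive := fun _ => Nat) (Bool.rec (motive := fun _ => Nat) (723) (2155) (Nat.ble 367 i)) (Bool.rec (motive := fun _ => Nat) (1453) (1816) (Nat.ble 369 i)) (Nat.ble 368 i)) (Nat.ble 366 i)) (Nat.ble 363 i)) (Bool.rec (motive := fun _ => Nat) (Bool.rec (motive := fun _ => Nat) (Bool.rec (motive := fun _ => Nat) (2424) (Bool.rec (motive := fun _ => Nat) (257) (517) (Nat.ble 372 i)) (Nat.ble 371 i)) (Bool.rec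 (motive := fun _ => Nat) (2313) (Bool.rec (motive := fun _ => Nat) (2831) (2841) (Nat.ble 375 i)) (Nat.ble 374 i)) (Nat.ble 373 i)) (Bool.rec (motive := fun _ => Nat) (Bool.rec (motive := fun _ => Nat) (2057) (Bool.rec (motive := fun _ => Nat) (1558) (2756) (Nat.ble 378 i)) (Nat.ble 377 i)) (Bool.rec (motive := fun _ => Nat) (Bool.rec (motive := fun _ => Nat) (813) (1209) (Nat.ble 380 i)) (Bool.rec (motive := fun _ => Nat) (1669) (1250) (Nat.ble 382 i)) (Nat.ble 381 i)) (Nat.ble 379 i)) (Nat.ble 376 i)) (Nat.ble 370 i)) (Bool.rec (motive := fun _ => Nat) (Bool.rec (motive := fun _ => Nat) (Bool.rec (motive := fun _ => Nat) (Bool.rec (motive := fun _ => Nat) (2466) (Bool.rec (motive := fun _ => Nat) (2331) (202) (Nat.ble 385 i)) (Nat.ble 384 i)) (Bool.rec (motive := fun _ => Nat) (2448) (Bool.rec (motive := fun _ => Nat) (2460) (17) (Nat.ble 388 i)) (Nat.ble 387 i)) (Nat.ble 386 i)) (Bool.rec (motive := fun _ => Nat) (Bool.rec (motive := fun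 _ => Nat) (2431) (Bool.rec (motive := fun _ => Nat) (2663) (484) (Nat.ble 391 i)) (Nat.ble 390 i)) (Bool.rec (motive := fun _ => Nat) (Bool.rec (motive := fun _ => Nat) (1184) (1373) (Nat.ble 393 i)) (Bool.rec (motive := fun _ => Nat) (2509) (1400) (Nat.ble 395 i)) (Nat.ble 394 i)) (Nat.ble 392 i)) (Nat.ble 389 i)) (Bool.rec (motive := fun _ => Nat) (Bool.rec (motive := fun _ => Nat) (Bool.rec (motive := fun _ => Nat) (1700) (Bool.rec (motive := fun _ => Nat) (1839) (1034) (Nat.ble 398 i)) (Nat.ble 397 i)) (Bool.rec (motive := fun _ => Nat) (2405) (Bool.rec (motive := fun _ => Nat) (2067) (1573) (Nat.ble 401 i)) (Nat.ble 400 i)) (Nat.ble 399 i)) (Bool.rec (motive := fun _ => Nat) (Bool.rec (motive := fun _ => Nat) (2100) (Bool.rec (motive := fun _ => Nat) (1146) (1133) (Nat.ble 404 i)) (Nat.ble 403 i)) (Bool.rec (motive := fun _ => Nat) (Bool.rec (motive := fun _ => Nat) (1137) (591) (Nat.ble 406 i)) (Bool.rec (motive := fun _ => Nat) (1696)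 (1486) (Nat.ble 408 i)) (Nat.ble 407 i)) (Nat.ble 405 i)) (Nat.ble 402 i)) (Nat.ble 396 i)) (Nat.ble 383 i)) (Nat.ble 357 i)) (Nat.ble 306 i)) (Nat.ble 204 i)) (Bool.rec (motive := fun _ => Nat) (Bool.rec (motive := fun _ => Nat) (Bool.rec (motive := fun _ => Nat) (Bool.rec (motive := fun _ => Nat) (Bool.rec (motive := fun _ => Nat) (Bool.rec (motive := fun _ => Nat) (Bool.rec (motive := fun _ => Nat) (Bool.rec (motive := fun _ => Nat) (2767) (Bool.rec (motive := fun _ => Nat) (349) (1059) (Nat.ble 411 i)) (Nat.ble 410 i)) (Bool.rec (motive := fun _ => Nat) (2485) (Bool.rec (motive := fun _ => Nat) (2104) (1276) (Nat.ble 414 i)) (Nat.ble 413 i)) (Nat.ble 412 i)) (Bool.rec (motive := fun _ => Nat) (Bool.rec (motive := fun _ => Nat) (1503) (Bool.rec (motive := fun _ => Nat) (1158) (1625) (Nat.ble 417 i)) (Nat.ble 416 i)) (Bool.rec (motive := fun _ => Nat) (136) (Bool.rec (motive := fun _ => Nat) (1398) (1479) (Nat.ble 420 i)) (Nat.ble 419 i))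 (Nat.ble 418 i)) (Nat.ble 415 i)) (Bool.rec (motive := fun _ => Nat) (Bool.rec (motive := fun _ => Nat) (Bool.rec (motive := fun _ => Nat) (1722) (Bool.rec (motive := fun _ => Nat) (196) (2218) (Nat.ble 423 i)) (Nat.ble 422 i)) (Bool.rec (motive := fun _ => Nat) (2302) (Bool.rec (motive := fun _ => Nat) (2381) (2253) (Nat.ble 426 i)) (Nat.ble 425 i)) (Nat.ble 424 i)) (Bool.rec (motive := fun _ => Nat) (Bool.rec (motive := fun _ => Nat) (712) (Bool.rec (motive := fun _ => Nat) (2135) (2585) (Nat.ble 429 i)) (Nat.ble 428 i)) (Bool.rec (motive := fun _ => Nat) (Bool.rec (motive := fun _ => Nat) (2074) (2851) (Nat.ble 431 i)) (Bool.rec (motive := fun _ => Nat) (2127) (436) (Nat.ble 433 i)) (Nat.ble 432 i)) (Nat.ble 430 i)) (Nat.ble 427 i)) (Nat.ble 421 i)) (Bool.rec (motive := fun _ => Nat) (Bool.rec (motive := fun _ => Nat) (Bool.rec (motive := fun _ => Nat) (Bool.rec (motive := fun _ => Nat) (2344) (Bool.rec (motive := fun _ => Nat) (1129) (1466)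 (Nat.ble 436 i)) (Nat.ble 435 i)) (Bool.rec (motive := fun _ => Nat) (733) (Bool.rec (motive := fun _ => Nat) (2640) (2588) (Nat.ble 439 i)) (Nat.ble 438 i)) (Nat.ble 437 i)) (Bool.rec (motive := fun _ => Nat) (Bool.rec (motive := fun _ => Nat) (1376) (Bool.rec (motive := fun _ => Nat) (2087) (81) (Nat.ble 442 i)) (Nat.ble 441 i)) (Bool.rec (motive := fun _ => Nat) (Bool.rec (motive := fun _ => Nat) (2179) (357) (Nat.ble 444 i)) (Bool.rec (motive := fun _ => Nat) (2378) (618) (Nat.ble 446 i)) (Nat.ble 445 i)) (Nat.ble 443 i)) (Nat.ble 440 i)) (Bool.rec (motive := fun _ => Nat) (Bool.rec (motive := fun _ => Nat) (Bool.rec (motive := fun _ => Nat) (2730) (Bool.rec (motive := fun _ => Nat) (2309) (1565) (Nat.ble 449 i)) (Nat.ble 448 i)) (Bool.rec (motive := fun _ => Nat) (11) (Bool.rec (motive := fun _ => Nat) (258) (2783) (Nat.ble 452 i)) (Nat.ble 451 i)) (Nat.ble 450 i)) (Bool.rec (motive := fun _ => Nat) (Bool.rec (motive := fun _ => Nat) (2553)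 (Bool.rec (motive := fun _ => Nat) (233) (2160) (Nat.ble 455 i)) (Nat.ble 454 i)) (Bool.rec (motive := fun _ => Nat) (Bool.rec (motive := fun _ => Nat) (438) (2317) (Nat.ble 457 i)) (Bool.rec (motive := fun _ => Nat) (1374) (602) (Nat.ble 459 i)) (Nat.ble 458 i)) (Nat.ble 456 i)) (Nat.ble 453 i)) (Nat.ble 447 i)) (Nat.ble 434 i)) (Bool.rec (motive := fun _ => Nat) (Bool.rec (motive := fun _ => Nat) (Bool.rec (motive := fun _ => Nat) (Bool.rec (motive := fun _ => Nat) (Bool.rec (motive := fun _ => Nat) (2386) (Bool.rec (motive := fun _ => Nat) (1037) (1069) (Nat.ble 462 i)) (Nat.ble 461 i)) (Bool.rec (motive := fun _ => Nat) (649) (Bool.rec (motive := fun _ => Nat) (259) (2452) (Nat.ble 465 i)) (Nat.ble 464 i)) (Nat.ble 463 i)) (Bool.rec (motive := fun _ => Nat) (Bool.rec (motive := fun _ => Nat) (745) (Bool.rec (motive := fun _ => Nat) (1183) (2651) (Nat.ble 468 i)) (Nat.ble 467 i)) (Bool.rec (motive := fun _ => Nat) (2621) (Bool.rec (motive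 := fun _ => Nat) (2142) (2490) (Nat.ble 471 i)) (Nat.ble 470 i)) (Nat.ble 469 i)) (Nat.ble 466 i)) (Bool.rec (motive := fun _ => Nat) (Bool.rec (motive := fun _ => Nat) (Bool.rec (motive := fun _ => Nat) (2584) (Bool.rec (motive := fun _ => Nat) (1475) (1432) (Nat.ble 474 i)) (Nat.ble 473 i)) (Bool.rec (motive := fun _ => Nat) (100) (Bool.rec (motive := fun _ => Nat) (360) (88) (Nat.ble 477 i)) (Nat.ble 476 i)) (Nat.ble 475 i)) (Bool.rec (motive := fun _ => Nat) (Bool.rec (motive := fun _ => Nat) (1576) (Bool.rec (motive := fun _ => Nat) (2069) (1309) (Nat.ble 480 i)) (Nat.ble 479 i)) (Bool.rec (motive := fun _ => Nat) (Bool.rec (motive := fun _ => Nat) (2258) (1288) (Nat.ble 482 i)) (Bool.rec (motive := fun _ => Nat) (2107) (1049) (Nat.ble 484 i)) (Nat.ble 483 i)) (Nat.ble 481 i)) (Nat.ble 478 i)) (Nat.ble 472 i)) (Bool.rec (motive := fun _ => Nat) (Bool.rec (motive := fun _ => Nat) (Bool.rec (motive := fun _ => Nat) (Bool.rec (motive := fun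 _ => Nat) (522) (Bool.rec (motive := fun _ => Nat) (2807) (2744) (Nat.ble 487 i)) (Nat.ble 486 i)) (Bool.rec (motive := fun _ => Nat) (1204) (Bool.rec (motive := fun _ => Nat) (35) (2440) (Nat.ble 490 i)) (Nat.ble 489 i)) (Nat.ble 488 i)) (Bool.rec (motive := fun _ => Nat) (Bool.rec (motive := fun _ => Nat) (1498) (Bool.rec (motive := fun _ => Nat) (2778) (482) (Nat.ble 493 i)) (Nat.ble 492 i)) (Bool.rec (motive := fun _ => Nat) (Bool.rec (motive := fun _ => Nat) (1377) (2264) (Nat.ble 495 i)) (Bool.rec (motive := fun _ => Nat) (362) (2690) (Nat.ble 497 i)) (Nat.ble 496 i)) (Nat.ble 494 i)) (Nat.ble 491 i)) (Bool.rec (motive := fun _ => Nat) (Bool.rec (motive := fun _ => Nat) (Bool.rec (motive := fun _ => Nat) (2371) (Bool.rec (motive := fun _ => Nat) (2628) (2221) (Nat.ble 500 i)) (Nat.ble 499 i)) (Bool.rec (motive := fun _ => Nat) (2226) (Bool.rec (motive := fun _ => Nat) (2597) (601) (Nat.ble 503 i)) (Nat.ble 502 i)) (Nat.ble 501 i)) (Bool.rec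 (motive := fun _ => Nat) (Bool.rec (motive := fun _ => Nat) (666) (Bool.rec (motive := fun _ => Nat) (112) (5) (Nat.ble 506 i)) (Nat.ble 505 i)) (Bool.rec (motive := fun _ => Nat) (Bool.rec (motive := fun _ => Nat) (2319) (1521) (Nat.ble 508 i)) (Bool.rec (motive := fun _ => Nat) (261) (2527) (Nat.ble 510 i)) (Nat.ble 509 i)) (Nat.ble 507 i)) (Nat.ble 504 i)) (Nat.ble 498 i)) (Nat.ble 485 i)) (Nat.ble 460 i)) (Bool.rec (motive := fun _ => Nat) (Bool.rec (motive := fun _ => Nat) (Bool.rec (motive := fun _ => Nat) (Bool.rec (motive := fun _ => Nat) (Bool.rec (motive := fun _ => Nat) (Bool.rec (motive := fun _ => Nat) (2307) (Bool.rec (motive := fun _ => Nat) (2830) (1404) (Nat.ble 513 i)) (Nat.ble 512 i)) (Bool.rec (motive := fun _ => Nat) (262) (Bool.rec (motive := fun _ => Nat) (2242) (1252) (Nat.ble 516 i)) (Nat.ble 515 i)) (Nat.ble 514 i)) (Bool.rec (motive := fun _ => Nat) (Bool.rec (motive := fun _ => Nat) (16) (Bool.rec (motive := fun _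 => Nat) (1193) (1111) (Nat.ble 519 i)) (Nat.ble 518 i)) (Bool.rec (motive := fun _ => Nat) (2468) (Bool.rec (motive := fun _ => Nat) (1744) (1627) (Nat.ble 522 i)) (Nat.ble 521 i)) (Nat.ble 520 i)) (Nat.ble 517 i)) (Bool.rec (motive := fun _ => Nat) (Bool.rec (motive := fun _ => Nat) (Bool.rec (motive := fun _ => Nat) (1259) (Bool.rec (motive := fun _ => Nat) (1279) (1355) (Nat.ble 525 i)) (Nat.ble 524 i)) (Bool.rec (motive := fun _ => Nat) (2072) (Bool.rec (motive := fun _ => Nat) (1162) (2443) (Nat.ble 528 i)) (Nat.ble 527 i)) (Nat.ble 526 i)) (Bool.rec (motive := fun _ => Nat) (Bool.rec (motive := fun _ => Nat) (2459) (Bool.rec (motive := fun _ => Nat) (2610) (2627) (Nat.ble 531 i)) (Nat.ble 530 i)) (Bool.rec (motive := fun _ => Nat) (Bool.rec (motive := fun _ => Nat) (1616) (2682) (Nat.ble 533 i)) (Bool.rec (motive := fun _ => Nat) (1633) (1526) (Nat.ble 535 i)) (Nat.ble 534 i)) (Nat.ble 532 i)) (Nat.ble 529 i)) (Nat.ble 523 i)) (Bool.rec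 (motive := fun _ => Nat) (Bool.rec (motive := fun _ => Nat) (Bool.rec (motive := fun _ => Nat) (Bool.rec (motive := fun _ => Nat) (1810) (Bool.rec (motive := fun _ => Nat) (2053) (2698) (Nat.ble 538 i)) (Nat.ble 537 i)) (Bool.rec (motive := fun _ => Nat) (1412) (Bool.rec (motive := fun _ => Nat) (644) (1389) (Nat.ble 541 i)) (Nat.ble 540 i)) (Nat.ble 539 i)) (Bool.rec (motive := fun _ => Nat) (Bool.rec (motive := fun _ => Nat) (1643) (Bool.rec (motive := fun _ => Nat) (1588) (2557) (Nat.ble 544 i)) (Nat.ble 543 i)) (Bool.rec (motive := fun _ => Nat) (Bool.rec (motive := fun _ => Nat) (1729) (808) (Nat.ble 546 i)) (Bool.rec (motive := fun _ => Nat) (1456) (501) (Nat.ble 548 i)) (Nat.ble 547 i)) (Nat.ble 545 i)) (Nat.ble 542 i)) (Bool.rec (motive := fun _ => Nat) (Bool.rec (motive := fun _ => Nat) (Bool.rec (motive := fun _ => Nat) (1105) (Bool.rec (motive := fun _ => Nat) (705) (1255) (Nat.ble 551 i)) (Nat.ble 550 i)) (Bool.rec (motive := fun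 _ => Nat) (646) (Bool.rec (motive := fun _ => Nat) (1675) (1216) (Nat.ble 554 i)) (Nat.ble 553 i)) (Nat.ble 552 i)) (Bool.rec (motive := fun _ => Nat) (Bool.rec (motive := fun _ => Nat) (1282) (Bool.rec (motive := fun _ => Nat) (767) (1188) (Nat.ble 557 i)) (Nat.ble 556 i)) (Bool.rec (motive := fun _ => Nat) (Bool.rec (motive := fun _ => Nat) (1683) (2598) (Nat.ble 559 i)) (Bool.rec (motive := fun _ => Nat) (89) (1733) (Nat.ble 561 i)) (Nat.ble 560 i)) (Nat.ble 558 i)) (Nat.ble 555 i)) (Nat.ble 549 i)) (Nat.ble 536 i)) (Bool.rec (motive := fun _ => Nat) (Bool.rec (motive := fun _ => Nat) (Bool.rec (motive := fun _ => Nat) (Bool.rec (motive := fun _ => Nat) (Bool.rec (motive := fun _ => Nat) (1031) (Bool.rec (motive := fun _ => Nat) (1840) (698) (Nat.ble 564 i)) (Nat.ble 563 i)) (Bool.rec (motive := fun _ => Nat) (2128) (Bool.rec (motive := fun _ => Nat) (429) (1751) (Nat.ble 567 i)) (Nat.ble 566 i)) (Nat.ble 565 i)) (Bool.rec (motive := fun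 _ => Nat) (Bool.rec (motive := fun _ => Nat) (1401) (Bool.rec (motive := fun _ => Nat) (2352) (1263) (Nat.ble 570 i)) (Nat.ble 569 i)) (Bool.rec (motive := fun _ => Nat) (Bool.rec (motive := fun _ => Nat) (2738) (2081) (Nat.ble 572 i)) (Bool.rec (motive := fun _ => Nat) (2689) (1472) (Nat.ble 574 i)) (Nat.ble 573 i)) (Nat.ble 571 i)) (Nat.ble 568 i)) (Bool.rec (motive := fun _ => Nat) (Bool.rec (motive := fun _ => Nat) (Bool.rec (motive := fun _ => Nat) (2173) (Bool.rec (motive := fun _ => Nat) (1557) (2150) (Nat.ble 577 i)) (Nat.ble 576 i)) (Bool.rec (motive := fun _ => Nat) (2193) (Bool.rec (motive := fun _ => Nat) (2865) (2612) (Nat.ble 580 i)) (Nat.ble 579 i)) (Nat.ble 578 i)) (Bool.rec (motive := fun _ => Nat) (Bool.rec (motive := fun _ => Nat) (1171) (Bool.rec (motive := fun _ => Nat) (1399) (1442) (Nat.ble 583 i)) (Nat.ble 582 i)) (Bool.rec (motive := fun _ => Nat) (Bool.rec (motive := fun _ => Nat) (775) (2292) (Nat.ble 585 i)) (Bool.rec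 (motive := fun _ => Nat) (1710) (1285) (Nat.ble 587 i)) (Nat.ble 586 i)) (Nat.ble 584 i)) (Nat.ble 581 i)) (Nat.ble 575 i)) (Bool.rec (motive := fun _ => Nat) (Bool.rec (motive := fun _ => Nat) (Bool.rec (motive := fun _ => Nat) (Bool.rec (motive := fun _ => Nat) (2402) (Bool.rec (motive := fun _ => Nat) (2377) (692) (Nat.ble 590 i)) (Nat.ble 589 i)) (Bool.rec (motive := fun _ => Nat) (1362) (Bool.rec (motive := fun _ => Nat) (2064) (543) (Nat.ble 593 i)) (Nat.ble 592 i)) (Nat.ble 591 i)) (Bool.rec (motive := fun _ => Nat) (Bool.rec (motive := fun _ => Nat) (1511) (Bool.rec (motive := fun _ => Nat) (774) (2308) (Nat.ble 596 i)) (Nat.ble 595 i)) (Bool.rec (motive := fun _ => Nat) (Bool.rec (motive := fun _ => Nat) (1448) (1702) (Nat.ble 598 i)) (Bool.rec (motive := fun _ => Nat) (23) (2071) (Nat.ble 600 i)) (Nat.ble 599 i)) (Nat.ble 597 i)) (Nat.ble 594 i)) (Bool.rec (motive := fun _ => Nat) (Bool.rec (motive := fun _ => Nat) (Bool.rec (motive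 := fun _ => Nat) (2176) (Bool.rec (motive := fun _ => Nat) (1430) (611) (Nat.ble 603 i)) (Nat.ble 602 i)) (Bool.rec (motive := fun _ => Nat) (2774) (Bool.rec (motive := fun _ => Nat) (2186) (1681) (Nat.ble 606 i)) (Nat.ble 605 i)) (Nat.ble 604 i)) (Bool.rec (motive := fun _ => Nat) (Bool.rec (motive := fun _ => Nat) (1635) (Bool.rec (motive := fun _ => Nat) (592) (6) (Nat.ble 609 i)) (Nat.ble 608 i)) (Bool.rec (motive := fun _ => Nat) (Bool.rec (motive := fun _ => Nat) (2600) (1030) (Nat.ble 611 i)) (Bool.rec (motive := fun _ => Nat) (1749) (1670) (Nat.ble 613 i)) (Nat.ble 612 i)) (Nat.ble 610 i)) (Nat.ble 607 i)) (Nat.ble 601 i)) (Nat.ble 588 i)) (Nat.ble 562 i)) (Nat.ble 511 i)) (Bool.rec (motive := fun _ => Nat) (Bool.rec (motive := fun _ => Nat) (Bool.rec (motive := fun _ => Nat) (Bool.rec (motive := fun _ => Nat) (Bool.rec (motive := fun _ => Nat) (Bool.rec (motive := fun _ => Nat) (Bool.rec (motive := fun _ => Nat) (1423) (Bool.rec (motive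 := fun _ => Nat) (1257) (2707) (Nat.ble 616 i)) (Nat.ble 615 i)) (Bool.rec (motive := fun _ => Nat) (2794) (Bool.rec (motive := fun _ => Nat) (1347) (50) (Nat.ble 619 i)) (Nat.ble 618 i)) (Nat.ble 617 i)) (Bool.rec (motive := fun _ => Nat) (Bool.rec (motive := fun _ => Nat) (657) (Bool.rec (motive := fun _ => Nat) (1181) (2695) (Nat.ble 622 i)) (Nat.ble 621 i)) (Bool.rec (motive := fun _ => Nat) (2237) (Bool.rec (motive := fun _ => Nat) (1187) (2312) (Nat.ble 625 i)) (Nat.ble 624 i)) (Nat.ble 623 i)) (Nat.ble 620 i)) (Bool.rec (motive := fun _ => Nat) (Bool.rec (motive := fun _ => Nat) (Bool.rec (motive := fun _ => Nat) (2291) (Bool.rec (motive := fun _ => Nat) (2232) (542) (Nat.ble 628 i)) (Nat.ble 627 i)) (Bool.rec (motive := fun _ => Nat) (2732) (Bool.rec (motive := fun _ => Nat) (386) (1541) (Nat.ble 631 i)) (Nat.ble 630 i)) (Nat.ble 629 i)) (Bool.rec (motive := fun _ => Nat) (Bool.rec (motive := fun _ => Nat) (305) (Bool.rec (motive :=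 fun _ => Nat) (1312) (1136) (Nat.ble 634 i)) (Nat.ble 633 i)) (Bool.rec (motive := fun _ => Nat) (Bool.rec (motive := fun _ => Nat) (1665) (1195) (Nat.ble 636 i)) (Bool.rec (motive := fun _ => Nat) (1738) (2761) (Nat.ble 638 i)) (Nat.ble 637 i)) (Nat.ble 635 i)) (Nat.ble 632 i)) (Nat.ble 626 i)) (Bool.rec (motive := fun _ => Nat) (Bool.rec (motive := fun _ => Nat) (Bool.rec (motive := fun _ => Nat) (Bool.rec (motive := fun _ => Nat) (2658) (Bool.rec (motive := fun _ => Nat) (2718) (525) (Nat.ble 641 i)) (Nat.ble 640 i)) (Bool.rec (motive := fun _ => Nat) (0) (Bool.rec (motive := fun _ => Nat) (2318) (2049) (Nat.ble 644 i)) (Nat.ble 643 i)) (Nat.ble 642 i)) (Bool.rec (motive := fun _ => Nat) (Bool.rec (motive := fun _ => Nat) (1127) (Bool.rec (motive := fun _ => Nat) (1828) (1104) (Nat.ble 647 i)) (Nat.ble 646 i)) (Bool.rec (motive := fun _ => Nat) (Bool.rec (motive := fun _ => Nat) (2731) (1461) (Nat.ble 649 i)) (Bool.rec (motive := fun _ =>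 Nat) (294) (92) (Nat.ble 651 i)) (Nat.ble 650 i)) (Nat.ble 648 i)) (Nat.ble 645 i)) (Bool.rec (motive := fun _ => Nat) (Bool.rec (motive := fun _ => Nat) (Bool.rec (motive := fun _ => Nat) (1428) (Bool.rec (motive := fun _ => Nat) (1032) (2234) (Nat.ble 654 i)) (Nat.ble 653 i)) (Bool.rec (motive := fun _ => Nat) (2349) (Bool.rec (motive := fun _ => Nat) (2196) (2692) (Nat.ble 657 i)) (Nat.ble 656 i)) (Nat.ble 655 i)) (Bool.rec (motive := fun _ => Nat) (Bool.rec (motive := fun _ => Nat) (2114) (Bool.rec (motive := fun _ => Nat) (1033) (1393) (Nat.ble 660 i)) (Nat.ble 659 i)) (Bool.rec (motive := fun _ => Nat) (Bool.rec (motive := fun _ => Nat) (2798) (168) (Nat.ble 662 i)) (Bool.rec (motive := fun _ => Nat) (742) (1145) (Nat.ble 664 i)) (Nat.ble 663 i)) (Nat.ble 661 i)) (Nat.ble 658 i)) (Nat.ble 652 i)) (Nat.ble 639 i)) (Bool.rec (motive := fun _ => Nat) (Bool.rec (motive := fun _ => Nat) (Bool.rec (motive := fun _ => Nat) (Bool.rec (motive :=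 fun _ => Nat) (Bool.rec (motive := fun _ => Nat) (127) (Bool.rec (motive := fun _ => Nat) (1153) (2332) (Nat.ble 667 i)) (Nat.ble 666 i)) (Bool.rec (motive := fun _ => Nat) (2482) (Bool.rec (motive := fun _ => Nat) (2361) (2499) (Nat.ble 670 i)) (Nat.ble 669 i)) (Nat.ble 668 i)) (Bool.rec (motive := fun _ => Nat) (Bool.rec (motive := fun _ => Nat) (2050) (Bool.rec (motive := fun _ => Nat) (2750) (615) (Nat.ble 673 i)) (Nat.ble 672 i)) (Bool.rec (motive := fun _ => Nat) (479) (Bool.rec (motive := fun _ => Nat) (2362) (1066) (Nat.ble 676 i)) (Nat.ble 675 i)) (Nat.ble 674 i)) (Nat.ble 671 i)) (Bool.rec (motive := fun _ => Nat) (Bool.rec (motive := fun _ => Nat) (Bool.rec (motive := fun _ => Nat) (2516) (Bool.rec (motive := fun _ => Nat) (1763) (2168) (Nat.ble 679 i)) (Nat.ble 678 i)) (Bool.rec (motive := fun _ => Nat) (2401) (Bool.rec (motive := fun _ => Nat) (1577) (2129) (Nat.ble 682 i)) (Nat.ble 681 i)) (Nat.ble 680 i)) (Bool.rec (motive :=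 fun _ => Nat) (Bool.rec (motive := fun _ => Nat) (500) (Bool.rec (motive := fun _ => Nat) (159) (478) (Nat.ble 685 i)) (Nat.ble 684 i)) (Bool.rec (motive := fun _ => Nat) (Bool.rec (motive := fun _ => Nat) (2216) (766) (Nat.ble 687 i)) (Bool.rec (motive := fun _ => Nat) (2565) (1605) (Nat.ble 689 i)) (Nat.ble 688 i)) (Nat.ble 686 i)) (Nat.ble 683 i)) (Nat.ble 677 i)) (Bool.rec (motive := fun _ => Nat) (Bool.rec (motive := fun _ => Nat) (Bool.rec (motive := fun _ => Nat) (Bool.rec (motive := fun _ => Nat) (432) (Bool.rec (motive := fun _ => Nat) (1172) (2055) (Nat.ble 692 i)) (Nat.ble 691 i)) (Bool.rec (motive := fun _ => Nat) (2188) (Bool.rec (motive := fun _ => Nat) (1756) (2454) (Nat.ble 695 i)) (Nat.ble 694 i)) (Nat.ble 693 i)) (Bool.rec (motive := fun _ => Nat) (Bool.rec (motive := fun _ => Nat) (1110) (Bool.rec (motive := fun _ => Nat) (671) (1043) (Nat.ble 698 i)) (Nat.ble 697 i)) (Bool.rec (motive := fun _ => Nat) (Bool.rec (motive :=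 fun _ => Nat) (2098) (1271) (Nat.ble 700 i)) (Bool.rec (motive := fun _ => Nat) (2820) (2073) (Nat.ble 702 i)) (Nat.ble 701 i)) (Nat.ble 699 i)) (Nat.ble 696 i)) (Bool.rec (motive := fun _ => Nat) (Bool.rec (motive := fun _ => Nat) (Bool.rec (motive := fun _ => Nat) (1310) (Bool.rec (motive := fun _ => Nat) (1317) (2134) (Nat.ble 705 i)) (Nat.ble 704 i)) (Bool.rec (motive := fun _ => Nat) (2528) (Bool.rec (motive := fun _ => Nat) (2768) (1152) (Nat.ble 708 i)) (Nat.ble 707 i)) (Nat.ble 706 i)) (Bool.rec (motive := fun _ => Nat) (Bool.rec (motive := fun _ => Nat) (2532) (Bool.rec (motive := fun _ => Nat) (2664) (2182) (Nat.ble 711 i)) (Nat.ble 710 i)) (Bool.rec (motive := fun _ => Nat) (Bool.rec (motive := fun _ => Nat) (1024) (696) (Nat.ble 713 i)) (Bool.rec (motive := fun _ => Nat) (2787) (473) (Nat.ble 715 i)) (Nat.ble 714 i)) (Nat.ble 712 i)) (Nat.ble 709 i)) (Nat.ble 703 i)) (Nat.ble 690 i)) (Nat.ble 665 i)) (Bool.rec (motive := fun _ =>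 Nat) (Bool.rec (motive := fun _ => Nat) (Bool.rec (motive := fun _ => Nat) (Bool.rec (motive := fun _ => Nat) (Bool.rec (motive := fun _ => Nat) (Bool.rec (motive := fun _ => Nat) (2080) (Bool.rec (motive := fun _ => Nat) (2316) (1592) (Nat.ble 718 i)) (Nat.ble 717 i)) (Bool.rec (motive := fun _ => Nat) (1649) (Bool.rec (motive := fun _ => Nat) (1296) (2324) (Nat.ble 721 i)) (Nat.ble 720 i)) (Nat.ble 719 i)) (Bool.rec (motive := fun _ => Nat) (Bool.rec (motive := fun _ => Nat) (370) (Bool.rec (motive := fun _ => Nat) (2397) (1202) (Nat.ble 724 i)) (Nat.ble 723 i)) (Bool.rec (motive := fun _ => Nat) (2444) (Bool.rec (motive := fun _ => Nat) (1695) (2058) (Nat.ble 727 i)) (Nat.ble 726 i)) (Nat.ble 725 i)) (Nat.ble 722 i)) (Bool.rec (motive := fun _ => Nat) (Bool.rec (motive := fun _ => Nat) (Bool.rec (motive := fun _ => Nat) (1799) (Bool.rec (motive := fun _ => Nat) (1142) (2446) (Nat.ble 730 i)) (Nat.ble 729 i)) (Bool.rec (motive := fun _ =>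 Nat) (537) (Bool.rec (motive := fun _ => Nat) (398) (1026) (Nat.ble 733 i)) (Nat.ble 732 i)) (Nat.ble 731 i)) (Bool.rec (motive := fun _ => Nat) (Bool.rec (motive := fun _ => Nat) (2132) (Bool.rec (motive := fun _ => Nat) (539) (510) (Nat.ble 736 i)) (Nat.ble 735 i)) (Bool.rec (motive := fun _ => Nat) (Bool.rec (motive := fun _ => Nat) (1757) (2701) (Nat.ble 738 i)) (Bool.rec (motive := fun _ => Nat) (1690) (625) (Nat.ble 740 i)) (Nat.ble 739 i)) (Nat.ble 737 i)) (Nat.ble 734 i)) (Nat.ble 728 i)) (Bool.rec (motive := fun _ => Nat) (Bool.rec (motive := fun _ => Nat) (Bool.rec (motive := fun _ => Nat) (Bool.rec (motive := fun _ => Nat) (2508) (Bool.rec (motive := fun _ => Nat) (2092) (1281) (Nat.ble 743 i)) (Nat.ble 742 i)) (Bool.rec (motive := fun _ => Nat) (105) (Bool.rec (motive := fun _ => Nat) (2243) (1723) (Nat.ble 746 i)) (Nat.ble 745 i)) (Nat.ble 744 i)) (Bool.rec (motive := fun _ => Nat) (Bool.rec (motive := fun _ => Nat) (676) (Bool.rec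 (motive := fun _ => Nat) (2523) (2515) (Nat.ble 749 i)) (Nat.ble 748 i)) (Bool.rec (motive := fun _ => Nat) (Bool.rec (motive := fun _ => Nat) (2573) (1027) (Nat.ble 751 i)) (Bool.rec (motive := fun _ => Nat) (1420) (2775) (Nat.ble 753 i)) (Nat.ble 752 i)) (Nat.ble 750 i)) (Nat.ble 747 i)) (Bool.rec (motive := fun _ => Nat) (Bool.rec (motive := fun _ => Nat) (Bool.rec (motive := fun _ => Nat) (2101) (Bool.rec (motive := fun _ => Nat) (322) (2333) (Nat.ble 756 i)) (Nat.ble 755 i)) (Bool.rec (motive := fun _ => Nat) (399) (Bool.rec (motive := fun _ => Nat) (1666) (1305) (Nat.ble 759 i)) (Nat.ble 758 i)) (Nat.ble 757 i)) (Bool.rec (motive := fun _ => Nat) (Bool.rec (motive := fun _ => Nat) (2541) (Bool.rec (motive := fun _ => Nat) (128) (167) (Nat.ble 762 i)) (Nat.ble 761 i)) (Bool.rec (motive := fun _ => Nat) (Bool.rec (motive := fun _ => Nat) (1208) (7) (Nat.ble 764 i)) (Bool.rec (motive := fun _ => Nat) (2747) (1528) (Nat.ble 766 i)) (Nat.ble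 765 i)) (Nat.ble 763 i)) (Nat.ble 760 i)) (Nat.ble 754 i)) (Nat.ble 741 i)) (Bool.rec (motive := fun _ => Nat) (Bool.rec (motive := fun _ => Nat) (Bool.rec (motive := fun _ => Nat) (Bool.rec (motive := fun _ => Nat) (Bool.rec (motive := fun _ => Nat) (1806) (Bool.rec (motive := fun _ => Nat) (2063) (310) (Nat.ble 769 i)) (Nat.ble 768 i)) (Bool.rec (motive := fun _ => Nat) (1761) (Bool.rec (motive := fun _ => Nat) (2746) (653) (Nat.ble 772 i)) (Nat.ble 771 i)) (Nat.ble 770 i)) (Bool.rec (motive := fun _ => Nat) (Bool.rec (motive := fun _ => Nat) (1178) (Bool.rec (motive := fun _ => Nat) (2170) (2740) (Nat.ble 775 i)) (Nat.ble 774 i)) (Bool.rec (motive := fun _ => Nat) (Bool.rec (motive := fun _ => Nat) (2052) (2667) (Nat.ble 777 i)) (Bool.rec (motive := fun _ => Nat) (1080) (2847) (Nat.ble 779 i)) (Nat.ble 778 i)) (Nat.ble 776 i)) (Nat.ble 773 i)) (Bool.rec (motive := fun _ => Nat) (Bool.rec (motive := fun _ => Nat) (Bool.rec (motive := fun _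 => Nat) (741) (Bool.rec (motive := fun _ => Nat) (626) (659) (Nat.ble 782 i)) (Nat.ble 781 i)) (Bool.rec (motive := fun _ => Nat) (2054) (Bool.rec (motive := fun _ => Nat) (1582) (226) (Nat.ble 785 i)) (Nat.ble 784 i)) (Nat.ble 783 i)) (Bool.rec (motive := fun _ => Nat) (Bool.rec (motive := fun _ => Nat) (2342) (Bool.rec (motive := fun _ => Nat) (1068) (2383) (Nat.ble 788 i)) (Nat.ble 787 i)) (Bool.rec (motive := fun _ => Nat) (Bool.rec (motive := fun _ => Nat) (1637) (63) (Nat.ble 790 i)) (Bool.rec (motive := fun _ => Nat) (1067) (1074) (Nat.ble 792 i)) (Nat.ble 791 i)) (Nat.ble 789 i)) (Nat.ble 786 i)) (Nat.ble 780 i)) (Bool.rec (motive := fun _ => Nat) (Bool.rec (motive := fun _ => Nat) (Bool.rec (motive := fun _ => Nat) (Bool.rec (motive := fun _ => Nat) (2065) (Bool.rec (motive := fun _ => Nat) (122) (1169) (Nat.ble 795 i)) (Nat.ble 794 i)) (Bool.rec (motive := fun _ => Nat) (1676) (Bool.rec (motive := fun _ => Nat) (2109) (2595) (Nat.ble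 798 i)) (Nat.ble 797 i)) (Nat.ble 796 i)) (Bool.rec (motive := fun _ => Nat) (Bool.rec (motive := fun _ => Nat) (2184) (Bool.rec (motive := fun _ => Nat) (1813) (2759) (Nat.ble 801 i)) (Nat.ble 800 i)) (Bool.rec (motive := fun _ => Nat) (Bool.rec (motive := fun _ => Nat) (325) (1124) (Nat.ble 803 i)) (Bool.rec (motive := fun _ => Nat) (1) (1192) (Nat.ble 805 i)) (Nat.ble 804 i)) (Nat.ble 802 i)) (Nat.ble 799 i)) (Bool.rec (motive := fun _ => Nat) (Bool.rec (motive := fun _ => Nat) (Bool.rec (motive := fun _ => Nat) (1200) (Bool.rec (motive := fun _ => Nat) (1817) (1198) (Nat.ble 808 i)) (Nat.ble 807 i)) (Bool.rec (motive := fun _ => Nat) (2301) (Bool.rec (motive := fun _ => Nat) (2655) (1126) (Nat.ble 811 i)) (Nat.ble 810 i)) (Nat.ble 809 i)) (Bool.rec (motive := fun _ => Nat) (Bool.rec (motive := fun _ => Nat) (1829) (Bool.rec (motive := fun _ => Nat) (1674) (1765) (Nat.ble 814 i)) (Nat.ble 813 i)) (Bool.rec (motive := fun _ => Nat) (Bool.rec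 (motive := fun _ => Nat) (2505) (1102) (Nat.ble 816 i)) (Bool.rec (motive := fun _ => Nat) (562) (672) (Nat.ble 818 i)) (Nat.ble 817 i)) (Nat.ble 815 i)) (Nat.ble 812 i)) (Nat.ble 806 i)) (Nat.ble 793 i)) (Nat.ble 767 i)) (Nat.ble 716 i)) (Nat.ble 614 i)) (Nat.ble 409 i))

/-- Stabilising words of node 9. -/
def tGen9 : List (List Nat) := [[4, 2, 6, 8, 6, 4, 2, 6, 4, 8, 6, 11, 8, 11, 3, 5, 7, 9, 10, 9, 1], [0, 8, 6, 4, 2, 6, 10, 8, 6, 4, 6, 11, 8, 11, 7, 5, 7, 9, 11, 7, 9, 1, 3, 5, 3], [4, 6, 4, 2, 6, 11, 8, 6, 4, 11, 8, 6, 10, 8, 10, 13, 1, 3, 5, 7, 9, 11, 3, 5, 7, 5]]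

/-- Roots at node 9. -/
def tRoot9 : List Nat := [0, 1, 2, 4, 5, 6, 7, 8, 10, 14, 16, 17, 19, 21, 25, 44, 76, 86, 92, 186]

/-- Forest of the points at node 10. -/
noncomputable def tPar10 (i : Nat) : Nat := (Bool.rec (motive := fun _ => Nat) (Bool.rec (motive := fun _ => Nat) (Bool.rec (motive := fun _ => Nat) (Bool.rec (motive := fun _ => Nat) (Bool.rec (motive := fun _ => Nat) (Bool.rec (motive := fun _ => Nat) (Bool.rec (motive := fun _ => Nat) (Bool.rec (motive := fun _ => Nat) (Bool.rec (motive := fun _ => Nat) (15360) (Bool.rec (motive := fun _ => Nat) (3347) (2295) (Nat.ble 2 i)) (Nat.ble 1 i)) (Bool.rec (motive := fun _ => Nat) (2155) (Bool.rec (motive := fun _ => Nat) (15364) (15365) (Nat.ble 5 i)) (Nat.ble 4 i)) (Nat.ble 3 i)) (Bool.rec (motive := fun _ => Nat) (Bool.rec (motive := fun _ => Nat) (0) (Bool.rec (motive := fun _ => Nat) (3171) (66) (Nat.ble 8 i)) (Nat.ble 7 i)) (Bool.rec (motive := fun _ => Nat) (2338) (Bool.rec (motive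 := fun _ => Nat) (2648) (2620) (Nat.ble 11 i)) (Nat.ble 10 i)) (Nat.ble 9 i)) (Nat.ble 6 i)) (Bool.rec (motive := fun _ => Nat) (Bool.rec (motive := fun _ => Nat) (Bool.rec (motive := fun _ => Nat) (2053) (Bool.rec (motive := fun _ => Nat) (2097) (3399) (Nat.ble 14 i)) (Nat.ble 13 i)) (Bool.rec (motive := fun _ => Nat) (3290) (Bool.rec (motive := fun _ => Nat) (1623) (2789) (Nat.ble 17 i)) (Nat.ble 16 i)) (Nat.ble 15 i)) (Bool.rec (motive := fun _ => Nat) (Bool.rec (motive := fun _ => Nat) (13) (Bool.rec (motive := fun _ => Nat) (9) (3452) (Nat.ble 20 i)) (Nat.ble 19 i)) (Bool.rec (motive := fun _ => Nat) (Bool.rec (motive := fun _ => Nat) (3525) (2765) (Nat.ble 22 i)) (Bool.rec (motive := fun _ => Nat) (2127) (10) (Nat.ble 24 i)) (Nat.ble 23 i)) (Nat.ble 21 i)) (Nat.ble 18 i)) (Nat.ble 12 i)) (Bool.rec (motive := fun _ => Nat) (Bool.rec (motive := fun _ => Nat) (Bool.rec (motive := fun _ => Nat) (Bool.rec (motive := fun _ => Nat) (2360) (Bool.rec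 (motive := fun _ => Nat) (2397) (3219) (Nat.ble 27 i)) (Nat.ble 26 i)) (Bool.rec (motive := fun _ => Nat) (3197) (Bool.rec (motive := fun _ => Nat) (2079) (113) (Nat.ble 30 i)) (Nat.ble 29 i)) (Nat.ble 28 i)) (Bool.rec (motive := fun _ => Nat) (Bool.rec (motive := fun _ => Nat) (112) (Bool.rec (motive := fun _ => Nat) (12) (3833) (Nat.ble 33 i)) (Nat.ble 32 i)) (Bool.rec (motive := fun _ => Nat) (Bool.rec (motive := fun _ => Nat) (1127) (3454) (Nat.ble 35 i)) (Bool.rec (motive := fun _ => Nat) (2612) (3417) (Nat.ble 37 i)) (Nat.ble 36 i)) (Nat.ble 34 i)) (Nat.ble 31 i)) (Bool.rec (motive := fun _ => Nat) (Bool.rec (motive := fun _ => Nat) (Bool.rec (motive := fun _ => Nat) (5) (Bool.rec (motive := fun _ => Nat) (3627) (260) (Nat.ble 40 i)) (Nat.ble 39 i)) (Bool.rec (motive := fun _ => Nat) (3588) (Bool.rec (motive := fun _ => Nat) (3887) (2623) (Nat.ble 43 i)) (Nat.ble 42 i)) (Nat.ble 41 i)) (Bool.rec (motive := fun _ => Nat) (Bool.rec (motive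 := fun _ => Nat) (162) (Bool.rec (motive := fun _ => Nat) (3603) (17) (Nat.ble 46 i)) (Nat.ble 45 i)) (Bool.rec (motive := fun _ => Nat) (Bool.rec (motive := fun _ => Nat) (87) (3221) (Nat.ble 48 i)) (Bool.rec (motive := fun _ => Nat) (63) (1217) (Nat.ble 50 i)) (Nat.ble 49 i)) (Nat.ble 47 i)) (Nat.ble 44 i)) (Nat.ble 38 i)) (Nat.ble 25 i)) (Bool.rec (motive := fun _ => Nat) (Bool.rec (motive := fun _ => Nat) (Bool.rec (motive := fun _ => Nat) (Bool.rec (motive := fun _ => Nat) (Bool.rec (motive := fun _ => Nat) (2638) (Bool.rec (motive := fun _ => Nat) (491) (3534) (Nat.ble 53 i)) (Nat.ble 52 i)) (Bool.rec (motive := fun _ => Nat) (1652) (Bool.rec (motive := fun _ => Nat) (3843) (1615) (Nat.ble 56 i)) (Nat.ble 55 i)) (Nat.ble 54 i)) (Bool.rec (motive := fun _ => Nat) (Bool.rec (motive := fun _ => Nat) (20) (Bool.rec (motive := fun _ => Nat) (3254) (3853) (Nat.ble 59 i)) (Nat.ble 58 i)) (Bool.rec (motive := fun _ => Nat) (3356) (Bool.rec (motive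 := fun _ => Nat) (2746) (2614) (Nat.ble 62 i)) (Nat.ble 61 i)) (Nat.ble 60 i)) (Nat.ble 57 i)) (Bool.rec (motive := fun _ => Nat) (Bool.rec (motive := fun _ => Nat) (Bool.rec (motive := fun _ => Nat) (2383) (Bool.rec (motive := fun _ => Nat) (3278) (85) (Nat.ble 65 i)) (Nat.ble 64 i)) (Bool.rec (motive := fun _ => Nat) (2666) (Bool.rec (motive := fun _ => Nat) (1475) (3289) (Nat.ble 68 i)) (Nat.ble 67 i)) (Nat.ble 66 i)) (Bool.rec (motive := fun _ => Nat) (Bool.rec (motive := fun _ => Nat) (2361) (Bool.rec (motive := fun _ => Nat) (2220) (604) (Nat.ble 71 i)) (Nat.ble 70 i)) (Bool.rec (motive := fun _ => Nat) (Bool.rec (motive := fun _ => Nat) (607) (1600) (Nat.ble 73 i)) (Bool.rec (motive := fun _ => Nat) (3862) (1683) (Nat.ble 75 i)) (Nat.ble 74 i)) (Nat.ble 72 i)) (Nat.ble 69 i)) (Nat.ble 63 i)) (Bool.rec (motive := fun _ => Nat) (Bool.rec (motive := fun _ => Nat) (Bool.rec (motive := fun _ => Nat) (Bool.rec (motive := fun _ => Nat) (3628)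 (Bool.rec (motive := fun _ => Nat) (2120) (2048) (Nat.ble 78 i)) (Nat.ble 77 i)) (Bool.rec (motive := fun _ => Nat) (3806) (Bool.rec (motive := fun _ => Nat) (2561) (3362) (Nat.ble 81 i)) (Nat.ble 80 i)) (Nat.ble 79 i)) (Bool.rec (motive := fun _ => Nat) (Bool.rec (motive := fun _ => Nat) (2569) (Bool.rec (motive := fun _ => Nat) (3815) (3194) (Nat.ble 84 i)) (Nat.ble 83 i)) (Bool.rec (motive := fun _ => Nat) (Bool.rec (motive := fun _ => Nat) (2094) (3805) (Nat.ble 86 i)) (Bool.rec (motive := fun _ => Nat) (2480) (3074) (Nat.ble 88 i)) (Nat.ble 87 i)) (Nat.ble 85 i)) (Nat.ble 82 i)) (Bool.rec (motive := fun _ => Nat) (Bool.rec (motive := fun _ => Nat) (Bool.rec (motive := fun _ => Nat) (3473) (Bool.rec (motive := fun _ => Nat) (1323) (2186) (Nat.ble 91 i)) (Nat.ble 90 i)) (Bool.rec (motive := fun _ => Nat) (3613) (Bool.rec (motive := fun _ => Nat) (1688) (3865) (Nat.ble 94 i)) (Nat.ble 93 i)) (Nat.ble 92 i)) (Bool.rec (motive := fun _ => Nat)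 (Bool.rec (motive := fun _ => Nat) (3094) (Bool.rec (motive := fun _ => Nat) (2510) (2805) (Nat.ble 97 i)) (Nat.ble 96 i)) (Bool.rec (motive := fun _ => Nat) (Bool.rec (motive := fun _ => Nat) (42) (2530) (Nat.ble 99 i)) (Bool.rec (motive := fun _ => Nat) (78) (3686) (Nat.ble 101 i)) (Nat.ble 100 i)) (Nat.ble 98 i)) (Nat.ble 95 i)) (Nat.ble 89 i)) (Nat.ble 76 i)) (Nat.ble 51 i)) (Bool.rec (motive := fun _ => Nat) (Bool.rec (motive := fun _ => Nat) (Bool.rec (motive := fun _ => Nat) (Bool.rec (motive := fun _ => Nat) (Bool.rec (motive := fun _ => Nat) (Bool.rec (motive := fun _ => Nat) (2778) (Bool.rec (motive := fun _ => Nat) (3642) (1644) (Nat.ble 104 i)) (Nat.ble 103 i)) (Bool.rec (motive := fun _ => Nat) (53) (Bool.rec (motive := fun _ => Nat) (1528) (179) (Nat.ble 107 i)) (Nat.ble 106 i)) (Nat.ble 105 i)) (Bool.rec (motive := fun _ => Nat) (Bool.rec (motive := fun _ => Nat) (1397) (Bool.rec (motive := fun _ => Nat) (231) (1646) (Nat.ble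 110 i)) (Nat.ble 109 i)) (Bool.rec (motive := fun _ => Nat) (2841) (Bool.rec (motive := fun _ => Nat) (3118) (2242) (Nat.ble 113 i)) (Nat.ble 112 i)) (Nat.ble 111 i)) (Nat.ble 108 i)) (Bool.rec (motive := fun _ => Nat) (Bool.rec (motive := fun _ => Nat) (Bool.rec (motive := fun _ => Nat) (1601) (Bool.rec (motive := fun _ => Nat) (3203) (3772) (Nat.ble 116 i)) (Nat.ble 115 i)) (Bool.rec (motive := fun _ => Nat) (3494) (Bool.rec (motive := fun _ => Nat) (3216) (2067) (Nat.ble 119 i)) (Nat.ble 118 i)) (Nat.ble 117 i)) (Bool.rec (motive := fun _ => Nat) (Bool.rec (motive := fun _ => Nat) (3451) (Bool.rec (motive := fun _ => Nat) (3287) (3239) (Nat.ble 122 i)) (Nat.ble 121 i)) (Bool.rec (motive := fun _ => Nat) (Bool.rec (motive := fun _ => Nat) (2164) (2182) (Nat.ble 124 i)) (Bool.rec (motive := fun _ => Nat) (1136) (3416) (Nat.ble 126 i)) (Nat.ble 125 i)) (Nat.ble 123 i)) (Nat.ble 120 i)) (Nat.ble 114 i)) (Bool.rec (motive := fun _ => Nat) (Bool.rec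 (motive := fun _ => Nat) (Bool.rec (motive := fun _ => Nat) (Bool.rec (motive := fun _ => Nat) (3543) (Bool.rec (motive := fun _ => Nat) (103) (102) (Nat.ble 129 i)) (Nat.ble 128 i)) (Bool.rec (motive := fun _ => Nat) (2339) (Bool.rec (motive := fun _ => Nat) (2437) (2779) (Nat.ble 132 i)) (Nat.ble 131 i)) (Nat.ble 130 i)) (Bool.rec (motive := fun _ => Nat) (Bool.rec (motive := fun _ => Nat) (3275) (Bool.rec (motive := fun _ => Nat) (3314) (1307) (Nat.ble 135 i)) (Nat.ble 134 i)) (Bool.rec (motive := fun _ => Nat) (Bool.rec (motive := fun _ => Nat) (2420) (2311) (Nat.ble 137 i)) (Bool.rec (motive := fun _ => Nat) (467) (1476) (Nat.ble 139 i)) (Nat.ble 138 i)) (Nat.ble 136 i)) (Nat.ble 133 i)) (Bool.rec (motive := fun _ => Nat) (Bool.rec (motive := fun _ => Nat) (Bool.rec (motive := fun _ => Nat) (2482) (Bool.rec (motive := fun _ => Nat) (2542) (2425) (Nat.ble 142 i)) (Nat.ble 141 i)) (Bool.rec (motive := fun _ => Nat) (2234) (Bool.rec (motive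 := fun _ => Nat) (1817) (2463) (Nat.ble 145 i)) (Nat.ble 144 i)) (Nat.ble 143 i)) (Bool.rec (motive := fun _ => Nat) (Bool.rec (motive := fun _ => Nat) (2052) (Bool.rec (motive := fun _ => Nat) (2316) (1268) (Nat.ble 148 i)) (Nat.ble 147 i)) (Bool.rec (motive := fun _ => Nat) (Bool.rec (motive := fun _ => Nat) (1820) (2377) (Nat.ble 150 i)) (Bool.rec (motive := fun _ => Nat) (749) (3385) (Nat.ble 152 i)) (Nat.ble 151 i)) (Nat.ble 149 i)) (Nat.ble 146 i)) (Nat.ble 140 i)) (Nat.ble 127 i)) (Bool.rec (motive := fun _ => Nat) (Bool.rec (motive := fun _ => Nat) (Bool.rec (motive := fun _ => Nat) (Bool.rec (motive := fun _ => Nat) (Bool.rec (motive := fun _ => Nat) (3817) (Bool.rec (motive := fun _ => Nat) (2086) (3389) (Nat.ble 155 i)) (Nat.ble 154 i)) (Bool.rec (motive := fun _ => Nat) (493) (Bool.rec (motive := fun _ => Nat) (1470) (2567) (Nat.ble 158 i)) (Nat.ble 157 i)) (Nat.ble 156 i)) (Bool.rec (motive := fun _ => Nat) (Bool.rec (motive :=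 fun _ => Nat) (3758) (Bool.rec (motive := fun _ => Nat) (22) (2363) (Nat.ble 161 i)) (Nat.ble 160 i)) (Bool.rec (motive := fun _ => Nat) (3205) (Bool.rec (motive := fun _ => Nat) (3675) (3609) (Nat.ble 164 i)) (Nat.ble 163 i)) (Nat.ble 162 i)) (Nat.ble 159 i)) (Bool.rec (motive := fun _ => Nat) (Bool.rec (motive := fun _ => Nat) (Bool.rec (motive := fun _ => Nat) (2465) (Bool.rec (motive := fun _ => Nat) (1477) (3563) (Nat.ble 167 i)) (Nat.ble 166 i)) (Bool.rec (motive := fun _ => Nat) (1711) (Bool.rec (motive := fun _ => Nat) (3477) (3704) (Nat.ble 170 i)) (Nat.ble 169 i)) (Nat.ble 168 i)) (Bool.rec (motive := fun _ => Nat) (Bool.rec (motive := fun _ => Nat) (2808) (Bool.rec (motive := fun _ => Nat) (1062) (3607) (Nat.ble 173 i)) (Nat.ble 172 i)) (Bool.rec (motive := fun _ => Nat) (Bool.rec (motive := fun _ => Nat) (3285) (3619) (Nat.ble 175 i)) (Bool.rec (motive := fun _ => Nat) (142) (3218) (Nat.ble 177 i)) (Nat.ble 176 i)) (Nat.ble 174 i))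 (Nat.ble 171 i)) (Nat.ble 165 i)) (Bool.rec (motive := fun _ => Nat) (Bool.rec (motive := fun _ => Nat) (Bool.rec (motive := fun _ => Nat) (Bool.rec (motive := fun _ => Nat) (3076) (Bool.rec (motive := fun _ => Nat) (3072) (134) (Nat.ble 180 i)) (Nat.ble 179 i)) (Bool.rec (motive := fun _ => Nat) (2431) (Bool.rec (motive := fun _ => Nat) (2490) (3153) (Nat.ble 183 i)) (Nat.ble 182 i)) (Nat.ble 181 i)) (Bool.rec (motive := fun _ => Nat) (Bool.rec (motive := fun _ => Nat) (2080) (Bool.rec (motive := fun _ => Nat) (3552) (3700) (Nat.ble 186 i)) (Nat.ble 185 i)) (Bool.rec (motive := fun _ => Nat) (Bool.rec (motive := fun _ => Nat) (3113) (2357) (Nat.ble 188 i)) (Bool.rec (motive := fun _ => Nat) (3612) (3280) (Nat.ble 190 i)) (Nat.ble 189 i)) (Nat.ble 187 i)) (Nat.ble 184 i)) (Bool.rec (motive := fun _ => Nat) (Bool.rec (motive := fun _ => Nat) (Bool.rec (motive := fun _ => Nat) (2500) (Bool.rec (motive := fun _ => Nat) (2570) (3539) (Nat.ble 193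 i)) (Nat.ble 192 i)) (Bool.rec (motive := fun _ => Nat) (1633) (Bool.rec (motive := fun _ => Nat) (1506) (1829) (Nat.ble 196 i)) (Nat.ble 195 i)) (Nat.ble 194 i)) (Bool.rec (motive := fun _ => Nat) (Bool.rec (motive := fun _ => Nat) (2591) (Bool.rec (motive := fun _ => Nat) (2260) (627) (Nat.ble 199 i)) (Nat.ble 198 i)) (Bool.rec (motive := fun _ => Nat) (Bool.rec (motive := fun _ => Nat) (3838) (3660) (Nat.ble 201 i)) (Bool.rec (motive := fun _ => Nat) (1541) (2783) (Nat.ble 203 i)) (Nat.ble 202 i)) (Nat.ble 200 i)) (Nat.ble 197 i)) (Nat.ble 191 i)) (Nat.ble 178 i)) (Nat.ble 153 i)) (Nat.ble 102 i)) (Bool.rec (motive := fun _ => Nat) (Bool.rec (motive := fun _ => Nat) (Bool.rec (motive := fun _ => Nat) (Bool.rec (motive := fun _ => Nat) (Bool.rec (motive := fun _ => Nat) (Bool.rec (motive := fun _ => Nat) (Bool.rec (motive := fun _ => Nat) (637) (Bool.rec (motive := fun _ => Nat) (3672) (123) (Nat.ble 206 i)) (Nat.ble 205 i)) (Bool.rec (motive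 := fun _ => Nat) (1510) (Bool.rec (motive := fun _ => Nat) (1730) (3557) (Nat.ble 209 i)) (Nat.ble 208 i)) (Nat.ble 207 i)) (Bool.rec (motive := fun _ => Nat) (Bool.rec (motive := fun _ => Nat) (2754) (Bool.rec (motive := fun _ => Nat) (3286) (290) (Nat.ble 212 i)) (Nat.ble 211 i)) (Bool.rec (motive := fun _ => Nat) (1464) (Bool.rec (motive := fun _ => Nat) (3204) (3746) (Nat.ble 215 i)) (Nat.ble 214 i)) (Nat.ble 213 i)) (Nat.ble 210 i)) (Bool.rec (motive := fun _ => Nat) (Bool.rec (motive := fun _ => Nat) (Bool.rec (motive := fun _ => Nat) (2523) (Bool.rec (motive := fun _ => Nat) (1667) (3188) (Nat.ble 218 i)) (Nat.ble 217 i)) (Bool.rec (motive := fun _ => Nat) (3339) (Bool.rec (motive := fun _ => Nat) (382) (1474) (Nat.ble 221 i)) (Nat.ble 220 i)) (Nat.ble 219 i)) (Bool.rec (motive := fun _ => Nat) (Bool.rec (motive := fun _ => Nat) (2720) (Bool.rec (motive := fun _ => Nat) (3854) (2541) (Nat.ble 224 i)) (Nat.ble 223 i)) (Bool.rec (motive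 := fun _ => Nat) (Bool.rec (motive := fun _ => Nat) (3677) (1624) (Nat.ble 226 i)) (Bool.rec (motive := fun _ => Nat) (2585) (3375) (Nat.ble 228 i)) (Nat.ble 227 i)) (Nat.ble 225 i)) (Nat.ble 222 i)) (Nat.ble 216 i)) (Bool.rec (motive := fun _ => Nat) (Bool.rec (motive := fun _ => Nat) (Bool.rec (motive := fun _ => Nat) (Bool.rec (motive := fun _ => Nat) (3551) (Bool.rec (motive := fun _ => Nat) (3744) (2438) (Nat.ble 231 i)) (Nat.ble 230 i)) (Bool.rec (motive := fun _ => Nat) (3500) (Bool.rec (motive := fun _ => Nat) (3138) (1596) (Nat.ble 234 i)) (Nat.ble 233 i)) (Nat.ble 232 i)) (Bool.rec (motive := fun _ => Nat) (Bool.rec (motive := fun _ => Nat) (3181) (Bool.rec (motive := fun _ => Nat) (3594) (661) (Nat.ble 237 i)) (Nat.ble 236 i)) (Bool.rec (motive := fun _ => Nat) (Bool.rec (motive := fun _ => Nat) (3503) (555) (Nat.ble 239 i)) (Bool.rec (motive := fun _ => Nat) (1275) (3440) (Nat.ble 241 i)) (Nat.ble 240 i)) (Nat.ble 238 i)) (Nat.ble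 235 i)) (Bool.rec (motive := fun _ => Nat) (Bool.rec (motive := fun _ => Nat) (Bool.rec (motive := fun _ => Nat) (1755) (Bool.rec (motive := fun _ => Nat) (3208) (791) (Nat.ble 244 i)) (Nat.ble 243 i)) (Bool.rec (motive := fun _ => Nat) (3154) (Bool.rec (motive := fun _ => Nat) (2660) (731) (Nat.ble 247 i)) (Nat.ble 246 i)) (Nat.ble 245 i)) (Bool.rec (motive := fun _ => Nat) (Bool.rec (motive := fun _ => Nat) (1831) (Bool.rec (motive := fun _ => Nat) (797) (3657) (Nat.ble 250 i)) (Nat.ble 249 i)) (Bool.rec (motive := fun _ => Nat) (Bool.rec (motive := fun _ => Nat) (3647) (765) (Nat.ble 252 i)) (Bool.rec (motive := fun _ => Nat) (3189) (2187) (Nat.ble 254 i)) (Nat.ble 253 i)) (Nat.ble 251 i)) (Nat.ble 248 i)) (Nat.ble 242 i)) (Nat.ble 229 i)) (Bool.rec (motive := fun _ => Nat) (Bool.rec (motive := fun _ => Nat) (Bool.rec (motive := fun _ => Nat) (Bool.rec (motive := fun _ => Nat) (Bool.rec (motive := fun _ => Nat) (3380) (Bool.rec (motive :=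 fun _ => Nat) (2221) (3299) (Nat.ble 257 i)) (Nat.ble 256 i)) (Bool.rec (motive := fun _ => Nat) (2298) (Bool.rec (motive := fun _ => Nat) (3202) (2262) (Nat.ble 260 i)) (Nat.ble 259 i)) (Nat.ble 258 i)) (Bool.rec (motive := fun _ => Nat) (Bool.rec (motive := fun _ => Nat) (2409) (Bool.rec (motive := fun _ => Nat) (1542) (3320) (Nat.ble 263 i)) (Nat.ble 262 i)) (Bool.rec (motive := fun _ => Nat) (2600) (Bool.rec (motive := fun _ => Nat) (524) (3662) (Nat.ble 266 i)) (Nat.ble 265 i)) (Nat.ble 264 i)) (Nat.ble 261 i)) (Bool.rec (motive := fun _ => Nat) (Bool.rec (motive := fun _ => Nat) (Bool.rec (motive := fun _ => Nat) (1642) (Bool.rec (motive := fun _ => Nat) (3803) (539) (Nat.ble 269 i)) (Nat.ble 268 i)) (Bool.rec (motive := fun _ => Nat) (209) (Bool.rec (motive := fun _ => Nat) (1196) (3073) (Nat.ble 272 i)) (Nat.ble 271 i)) (Nat.ble 270 i)) (Bool.rec (motive := fun _ => Nat) (Bool.rec (motive := fun _ => Nat) (2089) (Bool.rec (motive :=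 fun _ => Nat) (3728) (203) (Nat.ble 275 i)) (Nat.ble 274 i)) (Bool.rec (motive := fun _ => Nat) (Bool.rec (motive := fun _ => Nat) (2839) (3709) (Nat.ble 277 i)) (Bool.rec (motive := fun _ => Nat) (2365) (227) (Nat.ble 279 i)) (Nat.ble 278 i)) (Nat.ble 276 i)) (Nat.ble 273 i)) (Nat.ble 267 i)) (Bool.rec (motive := fun _ => Nat) (Bool.rec (motive := fun _ => Nat) (Bool.rec (motive := fun _ => Nat) (Bool.rec (motive := fun _ => Nat) (2662) (Bool.rec (motive := fun _ => Nat) (566) (232) (Nat.ble 282 i)) (Nat.ble 281 i)) (Bool.rec (motive := fun _ => Nat) (3547) (Bool.rec (motive := fun _ => Nat) (2376) (3837) (Nat.ble 285 i)) (Nat.ble 284 i)) (Nat.ble 283 i)) (Bool.rec (motive := fun _ => Nat) (Bool.rec (motive := fun _ => Nat) (1523) (Bool.rec (motive := fun _ => Nat) (3606) (3821) (Nat.ble 288 i)) (Nat.ble 287 i)) (Bool.rec (motive := fun _ => Nat) (Bool.rec (motive := fun _ => Nat) (233) (3244) (Nat.ble 290 i)) (Bool.rec (motive := fun _ =>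 Nat) (3630) (3432) (Nat.ble 292 i)) (Nat.ble 291 i)) (Nat.ble 289 i)) (Nat.ble 286 i)) (Bool.rec (motive := fun _ => Nat) (Bool.rec (motive := fun _ => Nat) (Bool.rec (motive := fun _ => Nat) (2439) (Bool.rec (motive := fun _ => Nat) (2680) (2676) (Nat.ble 295 i)) (Nat.ble 294 i)) (Bool.rec (motive := fun _ => Nat) (218) (Bool.rec (motive := fun _ => Nat) (2814) (3210) (Nat.ble 298 i)) (Nat.ble 297 i)) (Nat.ble 296 i)) (Bool.rec (motive := fun _ => Nat) (Bool.rec (motive := fun _ => Nat) (3444) (Bool.rec (motive := fun _ => Nat) (3568) (2691) (Nat.ble 301 i)) (Nat.ble 300 i)) (Bool.rec (motive := fun _ => Nat) (Bool.rec (motive := fun _ => Nat) (2534) (2621) (Nat.ble 303 i)) (Bool.rec (motive := fun _ => Nat) (3323) (3596) (Nat.ble 305 i)) (Nat.ble 304 i)) (Nat.ble 302 i)) (Nat.ble 299 i)) (Nat.ble 293 i)) (Nat.ble 280 i)) (Nat.ble 255 i)) (Bool.rec (motive := fun _ => Nat) (Bool.rec (motive := fun _ => Nat) (Bool.rec (motive := fun _ => Nat)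 (Bool.rec (motive := fun _ => Nat) (Bool.rec (motive := fun _ => Nat) (Bool.rec (motive := fun _ => Nat) (747) (Bool.rec (motive := fun _ => Nat) (1337) (2670) (Nat.ble 308 i)) (Nat.ble 307 i)) (Bool.rec (motive := fun _ => Nat) (3595) (Bool.rec (motive := fun _ => Nat) (2208) (1096) (Nat.ble 311 i)) (Nat.ble 310 i)) (Nat.ble 309 i)) (Bool.rec (motive := fun _ => Nat) (Bool.rec (motive := fun _ => Nat) (3847) (Bool.rec (motive := fun _ => Nat) (786) (70) (Nat.ble 314 i)) (Nat.ble 313 i)) (Bool.rec (motive := fun _ => Nat) (1362) (Bool.rec (motive := fun _ => Nat) (1758) (1266) (Nat.ble 317 i)) (Nat.ble 316 i)) (Nat.ble 315 i)) (Nat.ble 312 i)) (Bool.rec (motive := fun _ => Nat) (Bool.rec (motive := fun _ => Nat) (Bool.rec (motive := fun _ => Nat) (1518) (Bool.rec (motive := fun _ => Nat) (3858) (1636) (Nat.ble 320 i)) (Nat.ble 319 i)) (Bool.rec (motive := fun _ => Nat) (3794) (Bool.rec (motive := fun _ => Nat) (3878) (432) (Nat.ble 323 i)) (Nat.ble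 322 i)) (Nat.ble 321 i)) (Bool.rec (motive := fun _ => Nat) (Bool.rec (motive := fun _ => Nat) (2253) (Bool.rec (motive := fun _ => Nat) (1742) (2599) (Nat.ble 326 i)) (Nat.ble 325 i)) (Bool.rec (motive := fun _ => Nat) (Bool.rec (motive := fun _ => Nat) (3819) (537) (Nat.ble 328 i)) (Bool.rec (motive := fun _ => Nat) (3226) (3449) (Nat.ble 330 i)) (Nat.ble 329 i)) (Nat.ble 327 i)) (Nat.ble 324 i)) (Nat.ble 318 i)) (Bool.rec (motive := fun _ => Nat) (Bool.rec (motive := fun _ => Nat) (Bool.rec (motive := fun _ => Nat) (Bool.rec (motive := fun _ => Nat) (1188) (Bool.rec (motive := fun _ => Nat) (659) (1543) (Nat.ble 333 i)) (Nat.ble 332 i)) (Bool.rec (motive := fun _ => Nat) (3137) (Bool.rec (motive := fun _ => Nat) (1765) (2430) (Nat.ble 336 i)) (Nat.ble 335 i)) (Nat.ble 334 i)) (Bool.rec (motive := fun _ => Nat) (Bool.rec (motive := fun _ => Nat) (3249) (Bool.rec (motive := fun _ => Nat) (486) (1028) (Nat.ble 339 i)) (Nat.ble 338 i)) (Bool.rec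 (motive := fun _ => Nat) (Bool.rec (motive := fun _ => Nat) (164) (2615) (Nat.ble 341 i)) (Bool.rec (motive := fun _ => Nat) (3442) (2282) (Nat.ble 343 i)) (Nat.ble 342 i)) (Nat.ble 340 i)) (Nat.ble 337 i)) (Bool.rec (motive := fun _ => Nat) (Bool.rec (motive := fun _ => Nat) (Bool.rec (motive := fun _ => Nat) (3214) (Bool.rec (motive := fun _ => Nat) (430) (2684) (Nat.ble 346 i)) (Nat.ble 345 i)) (Bool.rec (motive := fun _ => Nat) (3546) (Bool.rec (motive := fun _ => Nat) (3512) (1343) (Nat.ble 349 i)) (Nat.ble 348 i)) (Nat.ble 347 i)) (Bool.rec (motive := fun _ => Nat) (Bool.rec (motive := fun _ => Nat) (403) (Bool.rec (motive := fun _ => Nat) (3692) (3288) (Nat.ble 352 i)) (Nat.ble 351 i)) (Bool.rec (motive := fun _ => Nat) (Bool.rec (motive := fun _ => Nat) (3715) (3742) (Nat.ble 354 i)) (Bool.rec (motive := fun _ => Nat) (2657) (2838) (Nat.ble 356 i)) (Nat.ble 355 i)) (Nat.ble 353 i)) (Nat.ble 350 i)) (Nat.ble 344 i)) (Nat.ble 331 i)) (Bool.rec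 (motive := fun _ => Nat) (Bool.rec (motive := fun _ => Nat) (Bool.rec (motive := fun _ => Nat) (Bool.rec (motive := fun _ => Nat) (Bool.rec (motive := fun _ => Nat) (2143) (Bool.rec (motive := fun _ => Nat) (1129) (3082) (Nat.ble 359 i)) (Nat.ble 358 i)) (Bool.rec (motive := fun _ => Nat) (462) (Bool.rec (motive := fun _ => Nat) (3374) (2524) (Nat.ble 362 i)) (Nat.ble 361 i)) (Nat.ble 360 i)) (Bool.rec (motive := fun _ => Nat) (Bool.rec (motive := fun _ => Nat) (571) (Bool.rec (motive := fun _ => Nat) (2243) (570) (Nat.ble 365 i)) (Nat.ble 364 i)) (Bool.rec (motive := fun _ => Nat) (Bool.rec (motive := fun _ => Nat) (3836) (3081) (Nat.ble 367 i)) (Bool.rec (motive := fun _ => Nat) (3680) (3484) (Nat.ble 369 i)) (Nat.ble 368 i)) (Nat.ble 366 i)) (Nat.ble 363 i)) (Bool.rec (motive := fun _ => Nat) (Bool.rec (motive := fun _ => Nat) (Bool.rec (motive := fun _ => Nat) (2386) (Bool.rec (motive := fun _ => Nat) (2292) (3410) (Nat.ble 372 i)) (Nat.ble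 371 i)) (Bool.rec (motive := fun _ => Nat) (3888) (Bool.rec (motive := fun _ => Nat) (3361) (3248) (Nat.ble 375 i)) (Nat.ble 374 i)) (Nat.ble 373 i)) (Bool.rec (motive := fun _ => Nat) (Bool.rec (motive := fun _ => Nat) (1561) (Bool.rec (motive := fun _ => Nat) (1029) (1233) (Nat.ble 378 i)) (Nat.ble 377 i)) (Bool.rec (motive := fun _ => Nat) (Bool.rec (motive := fun _ => Nat) (3104) (2387) (Nat.ble 380 i)) (Bool.rec (motive := fun _ => Nat) (2254) (3250) (Nat.ble 382 i)) (Nat.ble 381 i)) (Nat.ble 379 i)) (Nat.ble 376 i)) (Nat.ble 370 i)) (Bool.rec (motive := fun _ => Nat) (Bool.rec (motive := fun _ => Nat) (Bool.rec (motive := fun _ => Nat) (Bool.rec (motive := fun _ => Nat) (3879) (Bool.rec (motive := fun _ => Nat) (3664) (1662) (Nat.ble 385 i)) (Nat.ble 384 i)) (Bool.rec (motive := fun _ => Nat) (3465) (Bool.rec (motive := fun _ => Nat) (2367) (177) (Nat.ble 388 i)) (Nat.ble 387 i)) (Nat.ble 386 i)) (Bool.rec (motive := fun _ => Nat) (Bool.rec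 (motive := fun _ => Nat) (178) (Bool.rec (motive := fun _ => Nat) (3340) (3207) (Nat.ble 391 i)) (Nat.ble 390 i)) (Bool.rec (motive := fun _ => Nat) (Bool.rec (motive := fun _ => Nat) (1077) (1651) (Nat.ble 393 i)) (Bool.rec (motive := fun _ => Nat) (3544) (3439) (Nat.ble 395 i)) (Nat.ble 394 i)) (Nat.ble 392 i)) (Nat.ble 389 i)) (Bool.rec (motive := fun _ => Nat) (Bool.rec (motive := fun _ => Nat) (Bool.rec (motive := fun _ => Nat) (803) (Bool.rec (motive := fun _ => Nat) (3127) (2319) (Nat.ble 398 i)) (Nat.ble 397 i)) (Bool.rec (motive := fun _ => Nat) (2832) (Bool.rec (motive := fun _ => Nat) (3663) (3152) (Nat.ble 401 i)) (Nat.ble 400 i)) (Nat.ble 399 i)) (Bool.rec (motive := fun _ => Nat) (Bool.rec (motive := fun _ => Nat) (278) (Bool.rec (motive := fun _ => Nat) (3765) (3263) (Nat.ble 404 i)) (Nat.ble 403 i)) (Bool.rec (motive := fun _ => Nat) (Bool.rec (motive := fun _ => Nat) (355) (3232) (Nat.ble 406 i)) (Bool.rec (motive := fun _ =>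 Nat) (1074) (3714) (Nat.ble 408 i)) (Nat.ble 407 i)) (Nat.ble 405 i)) (Nat.ble 402 i)) (Nat.ble 396 i)) (Nat.ble 383 i)) (Nat.ble 357 i)) (Nat.ble 306 i)) (Nat.ble 204 i)) (Bool.rec (motive := fun _ => Nat) (Bool.rec (motive := fun _ => Nat) (Bool.rec (motive := fun _ => Nat) (Bool.rec (motive := fun _ => Nat) (Bool.rec (motive := fun _ => Nat) (Bool.rec (motive := fun _ => Nat) (Bool.rec (motive := fun _ => Nat) (Bool.rec (motive := fun _ => Nat) (3760) (Bool.rec (motive := fun _ => Nat) (3424) (816) (Nat.ble 411 i)) (Nat.ble 410 i)) (Bool.rec (motive := fun _ => Nat) (3736) (Bool.rec (motive := fun _ => Nat) (1789) (1698) (Nat.ble 414 i)) (Nat.ble 413 i)) (Nat.ble 412 i)) (Bool.rec (motive := fun _ => Nat) (Bool.rec (motive := fun _ => Nat) (117) (Bool.rec (motive := fun _ => Nat) (3507) (1781) (Nat.ble 417 i)) (Nat.ble 416 i)) (Bool.rec (motive := fun _ => Nat) (2655) (Bool.rec (motive := fun _ => Nat) (2491) (3281) (Nat.ble 420 i)) (Nat.ble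 419 i)) (Nat.ble 418 i)) (Nat.ble 415 i)) (Bool.rec (motive := fun _ => Nat) (Bool.rec (motive := fun _ => Nat) (Bool.rec (motive := fun _ => Nat) (699) (Bool.rec (motive := fun _ => Nat) (700) (344) (Nat.ble 423 i)) (Nat.ble 422 i)) (Bool.rec (motive := fun _ => Nat) (3694) (Bool.rec (motive := fun _ => Nat) (2290) (1376) (Nat.ble 426 i)) (Nat.ble 425 i)) (Nat.ble 424 i)) (Bool.rec (motive := fun _ => Nat) (Bool.rec (motive := fun _ => Nat) (3505) (Bool.rec (motive := fun _ => Nat) (3740) (3141) (Nat.ble 429 i)) (Nat.ble 428 i)) (Bool.rec (motive := fun _ => Nat) (Bool.rec (motive := fun _ => Nat) (2226) (1550) (Nat.ble 431 i)) (Bool.rec (motive := fun _ => Nat) (3762) (124) (Nat.ble 433 i)) (Nat.ble 432 i)) (Nat.ble 430 i)) (Nat.ble 427 i)) (Nat.ble 421 i)) (Bool.rec (motive := fun _ => Nat) (Bool.rec (motive := fun _ => Nat) (Bool.rec (motive := fun _ => Nat) (Bool.rec (motive := fun _ => Nat) (329) (Bool.rec (motive := fun _ => Nat) (330)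 (1055) (Nat.ble 436 i)) (Nat.ble 435 i)) (Bool.rec (motive := fun _ => Nat) (2075) (Bool.rec (motive := fun _ => Nat) (3167) (2400) (Nat.ble 439 i)) (Nat.ble 438 i)) (Nat.ble 437 i)) (Bool.rec (motive := fun _ => Nat) (Bool.rec (motive := fun _ => Nat) (1292) (Bool.rec (motive := fun _ => Nat) (2547) (1353) (Nat.ble 442 i)) (Nat.ble 441 i)) (Bool.rec (motive := fun _ => Nat) (Bool.rec (motive := fun _ => Nat) (1352) (3626) (Nat.ble 444 i)) (Bool.rec (motive := fun _ => Nat) (3437) (3497) (Nat.ble 446 i)) (Nat.ble 445 i)) (Nat.ble 443 i)) (Nat.ble 440 i)) (Bool.rec (motive := fun _ => Nat) (Bool.rec (motive := fun _ => Nat) (Bool.rec (motive := fun _ => Nat) (1294) (Bool.rec (motive := fun _ => Nat) (2797) (3559) (Nat.ble 449 i)) (Nat.ble 448 i)) (Bool.rec (motive := fun _ => Nat) (3363) (Bool.rec (motive := fun _ => Nat) (1714) (1703) (Nat.ble 452 i)) (Nat.ble 451 i)) (Nat.ble 450 i)) (Bool.rec (motive := fun _ => Nat) (Bool.rec (motive := fun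 _ => Nat) (1396) (Bool.rec (motive := fun _ => Nat) (582) (132) (Nat.ble 455 i)) (Nat.ble 454 i)) (Bool.rec (motive := fun _ => Nat) (Bool.rec (motive := fun _ => Nat) (3427) (2852) (Nat.ble 457 i)) (Bool.rec (motive := fun _ => Nat) (133) (2521) (Nat.ble 459 i)) (Nat.ble 458 i)) (Nat.ble 456 i)) (Nat.ble 453 i)) (Nat.ble 447 i)) (Nat.ble 434 i)) (Bool.rec (motive := fun _ => Nat) (Bool.rec (motive := fun _ => Nat) (Bool.rec (motive := fun _ => Nat) (Bool.rec (motive := fun _ => Nat) (Bool.rec (motive := fun _ => Nat) (357) (Bool.rec (motive := fun _ => Nat) (551) (3084) (Nat.ble 462 i)) (Nat.ble 461 i)) (Bool.rec (motive := fun _ => Nat) (2645) (Bool.rec (motive := fun _ => Nat) (3206) (3513) (Nat.ble 465 i)) (Nat.ble 464 i)) (Nat.ble 463 i)) (Bool.rec (motive := fun _ => Nat) (Bool.rec (motive := fun _ => Nat) (3490) (Bool.rec (motive := fun _ => Nat) (2227) (1258) (Nat.ble 468 i)) (Nat.ble 467 i)) (Bool.rec (motive := fun _ => Nat) (718)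 (Bool.rec (motive := fun _ => Nat) (2707) (2512) (Nat.ble 471 i)) (Nat.ble 470 i)) (Nat.ble 469 i)) (Nat.ble 466 i)) (Bool.rec (motive := fun _ => Nat) (Bool.rec (motive := fun _ => Nat) (Bool.rec (motive := fun _ => Nat) (2090) (Bool.rec (motive := fun _ => Nat) (3566) (2533) (Nat.ble 474 i)) (Nat.ble 473 i)) (Bool.rec (motive := fun _ => Nat) (3813) (Bool.rec (motive := fun _ => Nat) (1140) (1485) (Nat.ble 477 i)) (Nat.ble 476 i)) (Nat.ble 475 i)) (Bool.rec (motive := fun _ => Nat) (Bool.rec (motive := fun _ => Nat) (3282) (Bool.rec (motive := fun _ => Nat) (3370) (1456) (Nat.ble 480 i)) (Nat.ble 479 i)) (Bool.rec (motive := fun _ => Nat) (Bool.rec (motive := fun _ => Nat) (1701) (735) (Nat.ble 482 i)) (Bool.rec (motive := fun _ => Nat) (815) (2664) (Nat.ble 484 i)) (Nat.ble 483 i)) (Nat.ble 481 i)) (Nat.ble 478 i)) (Nat.ble 472 i)) (Bool.rec (motive := fun _ => Nat) (Bool.rec (motive := fun _ => Nat) (Bool.rec (motive := fun _ => Nat) (Bool.rec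 (motive := fun _ => Nat) (146) (Bool.rec (motive := fun _ => Nat) (3789) (2738) (Nat.ble 487 i)) (Nat.ble 486 i)) (Bool.rec (motive := fun _ => Nat) (51) (Bool.rec (motive := fun _ => Nat) (3721) (3673) (Nat.ble 490 i)) (Nat.ble 489 i)) (Nat.ble 488 i)) (Bool.rec (motive := fun _ => Nat) (Bool.rec (motive := fun _ => Nat) (2488) (Bool.rec (motive := fun _ => Nat) (1281) (3355) (Nat.ble 493 i)) (Nat.ble 492 i)) (Bool.rec (motive := fun _ => Nat) (Bool.rec (motive := fun _ => Nat) (3592) (3405) (Nat.ble 495 i)) (Bool.rec (motive := fun _ => Nat) (3681) (1235) (Nat.ble 497 i)) (Nat.ble 496 i)) (Nat.ble 494 i)) (Nat.ble 491 i)) (Bool.rec (motive := fun _ => Nat) (Bool.rec (motive := fun _ => Nat) (Bool.rec (motive := fun _ => Nat) (3388) (Bool.rec (motive := fun _ => Nat) (1158) (2165) (Nat.ble 500 i)) (Nat.ble 499 i)) (Bool.rec (motive := fun _ => Nat) (626) (Bool.rec (motive := fun _ => Nat) (2181) (3518) (Nat.ble 503 i)) (Nat.ble 502 i)) (Nat.ble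 501 i)) (Bool.rec (motive := fun _ => Nat) (Bool.rec (motive := fun _ => Nat) (3401) (Bool.rec (motive := fun _ => Nat) (3351) (587) (Nat.ble 506 i)) (Nat.ble 505 i)) (Bool.rec (motive := fun _ => Nat) (Bool.rec (motive := fun _ => Nat) (1131) (3168) (Nat.ble 508 i)) (Bool.rec (motive := fun _ => Nat) (3237) (2378) (Nat.ble 510 i)) (Nat.ble 509 i)) (Nat.ble 507 i)) (Nat.ble 504 i)) (Nat.ble 498 i)) (Nat.ble 485 i)) (Nat.ble 460 i)) (Bool.rec (motive := fun _ => Nat) (Bool.rec (motive := fun _ => Nat) (Bool.rec (motive := fun _ => Nat) (Bool.rec (motive := fun _ => Nat) (Bool.rec (motive := fun _ => Nat) (Bool.rec (motive := fun _ => Nat) (3863) (Bool.rec (motive := fun _ => Nat) (3610) (1574) (Nat.ble 513 i)) (Nat.ble 512 i)) (Bool.rec (motive := fun _ => Nat) (2813) (Bool.rec (motive := fun _ => Nat) (2780) (1238) (Nat.ble 516 i)) (Nat.ble 515 i)) (Nat.ble 514 i)) (Bool.rec (motive := fun _ => Nat) (Bool.rec (motive := fun _ => Nat) (3584)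 (Bool.rec (motive := fun _ => Nat) (1157) (1575) (Nat.ble 519 i)) (Nat.ble 518 i)) (Bool.rec (motive := fun _ => Nat) (3558) (Bool.rec (motive := fun _ => Nat) (3402) (3461) (Nat.ble 522 i)) (Nat.ble 521 i)) (Nat.ble 520 i)) (Nat.ble 517 i)) (Bool.rec (motive := fun _ => Nat) (Bool.rec (motive := fun _ => Nat) (Bool.rec (motive := fun _ => Nat) (2555) (Bool.rec (motive := fun _ => Nat) (3554) (3869) (Nat.ble 525 i)) (Nat.ble 524 i)) (Bool.rec (motive := fun _ => Nat) (1406) (Bool.rec (motive := fun _ => Nat) (266) (2590) (Nat.ble 528 i)) (Nat.ble 527 i)) (Nat.ble 526 i)) (Bool.rec (motive := fun _ => Nat) (Bool.rec (motive := fun _ => Nat) (3564) (Bool.rec (motive := fun _ => Nat) (2160) (2712) (Nat.ble 531 i)) (Nat.ble 530 i)) (Bool.rec (motive := fun _ => Nat) (Bool.rec (motive := fun _ => Nat) (3390) (1231) (Nat.ble 533 i)) (Bool.rec (motive := fun _ => Nat) (2499) (2470) (Nat.ble 535 i)) (Nat.ble 534 i)) (Nat.ble 532 i)) (Nat.ble 529 i))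 (Nat.ble 523 i)) (Bool.rec (motive := fun _ => Nat) (Bool.rec (motive := fun _ => Nat) (Bool.rec (motive := fun _ => Nat) (Bool.rec (motive := fun _ => Nat) (1399) (Bool.rec (motive := fun _ => Nat) (3077) (268) (Nat.ble 538 i)) (Nat.ble 537 i)) (Bool.rec (motive := fun _ => Nat) (3169) (Bool.rec (motive := fun _ => Nat) (3585) (2259) (Nat.ble 541 i)) (Nat.ble 540 i)) (Nat.ble 539 i)) (Bool.rec (motive := fun _ => Nat) (Bool.rec (motive := fun _ => Nat) (1401) (Bool.rec (motive := fun _ => Nat) (3420) (3292) (Nat.ble 544 i)) (Nat.ble 543 i)) (Bool.rec (motive := fun _ => Nat) (Bool.rec (motive := fun _ => Nat) (1229) (3325) (Nat.ble 546 i)) (Bool.rec (motive := fun _ => Nat) (2598) (3157) (Nat.ble 548 i)) (Nat.ble 547 i)) (Nat.ble 545 i)) (Nat.ble 542 i)) (Bool.rec (motive := fun _ => Nat) (Bool.rec (motive := fun _ => Nat) (Bool.rec (motive := fun _ => Nat) (3185) (Bool.rec (motive := fun _ => Nat) (3110) (3718) (Nat.ble 551 i)) (Nat.ble 550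 i)) (Bool.rec (motive := fun _ => Nat) (3462) (Bool.rec (motive := fun _ => Nat) (3793) (3165) (Nat.ble 554 i)) (Nat.ble 553 i)) (Nat.ble 552 i)) (Bool.rec (motive := fun _ => Nat) (Bool.rec (motive := fun _ => Nat) (3163) (Bool.rec (motive := fun _ => Nat) (3802) (1181) (Nat.ble 557 i)) (Nat.ble 556 i)) (Bool.rec (motive := fun _ => Nat) (Bool.rec (motive := fun _ => Nat) (3579) (3678) (Nat.ble 559 i)) (Bool.rec (motive := fun _ => Nat) (351) (2277) (Nat.ble 561 i)) (Nat.ble 560 i)) (Nat.ble 558 i)) (Nat.ble 555 i)) (Nat.ble 549 i)) (Nat.ble 536 i)) (Bool.rec (motive := fun _ => Nat) (Bool.rec (motive := fun _ => Nat) (Bool.rec (motive := fun _ => Nat) (Bool.rec (motive := fun _ => Nat) (Bool.rec (motive := fun _ => Nat) (361) (Bool.rec (motive := fun _ => Nat) (3304) (645) (Nat.ble 564 i)) (Nat.ble 563 i)) (Bool.rec (motive := fun _ => Nat) (2516) (Bool.rec (motive := fun _ => Nat) (3236) (283) (Nat.ble 567 i)) (Nat.ble 566 i)) (Nat.ble 565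 i)) (Bool.rec (motive := fun _ => Nat) (Bool.rec (motive := fun _ => Nat) (449) (Bool.rec (motive := fun _ => Nat) (1650) (2503) (Nat.ble 570 i)) (Nat.ble 569 i)) (Bool.rec (motive := fun _ => Nat) (Bool.rec (motive := fun _ => Nat) (3693) (679) (Nat.ble 572 i)) (Bool.rec (motive := fun _ => Nat) (214) (1562) (Nat.ble 574 i)) (Nat.ble 573 i)) (Nat.ble 571 i)) (Nat.ble 568 i)) (Bool.rec (motive := fun _ => Nat) (Bool.rec (motive := fun _ => Nat) (Bool.rec (motive := fun _ => Nat) (3751) (Bool.rec (motive := fun _ => Nat) (446) (1799) (Nat.ble 577 i)) (Nat.ble 576 i)) (Bool.rec (motive := fun _ => Nat) (3645) (Bool.rec (motive := fun _ => Nat) (288) (3515) (Nat.ble 580 i)) (Nat.ble 579 i)) (Nat.ble 578 i)) (Bool.rec (motive := fun _ => Nat) (Bool.rec (motive := fun _ => Nat) (2647) (Bool.rec (motive := fun _ => Nat) (2769) (3761) (Nat.ble 583 i)) (Nat.ble 582 i)) (Bool.rec (motive := fun _ => Nat) (Bool.rec (motive := fun _ => Nat) (359) (520)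 (Nat.ble 585 i)) (Bool.rec (motive := fun _ => Nat) (510) (3332) (Nat.ble 587 i)) (Nat.ble 586 i)) (Nat.ble 584 i)) (Nat.ble 581 i)) (Nat.ble 575 i)) (Bool.rec (motive := fun _ => Nat) (Bool.rec (motive := fun _ => Nat) (Bool.rec (motive := fun _ => Nat) (Bool.rec (motive := fun _ => Nat) (2823) (Bool.rec (motive := fun _ => Nat) (1250) (380) (Nat.ble 590 i)) (Nat.ble 589 i)) (Bool.rec (motive := fun _ => Nat) (687) (Bool.rec (motive := fun _ => Nat) (3142) (3352) (Nat.ble 593 i)) (Nat.ble 592 i)) (Nat.ble 591 i)) (Bool.rec (motive := fun _ => Nat) (Bool.rec (motive := fun _ => Nat) (3831) (Bool.rec (motive := fun _ => Nat) (2774) (2083) (Nat.ble 596 i)) (Nat.ble 595 i)) (Bool.rec (motive := fun _ => Nat) (Bool.rec (motive := fun _ => Nat) (550) (547) (Nat.ble 598 i)) (Bool.rec (motive := fun _ => Nat) (1599) (3407) (Nat.ble 600 i)) (Nat.ble 599 i)) (Nat.ble 597 i)) (Nat.ble 594 i)) (Bool.rec (motive := fun _ => Nat) (Bool.rec (motive := fun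 _ => Nat) (Bool.rec (motive := fun _ => Nat) (1322) (Bool.rec (motive := fun _ => Nat) (2471) (2136) (Nat.ble 603 i)) (Nat.ble 602 i)) (Bool.rec (motive := fun _ => Nat) (3816) (Bool.rec (motive := fun _ => Nat) (191) (2268) (Nat.ble 606 i)) (Nat.ble 605 i)) (Nat.ble 604 i)) (Bool.rec (motive := fun _ => Nat) (Bool.rec (motive := fun _ => Nat) (3265) (Bool.rec (motive := fun _ => Nat) (2494) (1759) (Nat.ble 609 i)) (Nat.ble 608 i)) (Bool.rec (motive := fun _ => Nat) (Bool.rec (motive := fun _ => Nat) (3669) (3617) (Nat.ble 611 i)) (Bool.rec (motive := fun _ => Nat) (3690) (1309) (Nat.ble 613 i)) (Nat.ble 612 i)) (Nat.ble 610 i)) (Nat.ble 607 i)) (Nat.ble 601 i)) (Nat.ble 588 i)) (Nat.ble 562 i)) (Nat.ble 511 i)) (Bool.rec (motive := fun _ => Nat) (Bool.rec (motive := fun _ => Nat) (Bool.rec (motive := fun _ => Nat) (Bool.rec (motive := fun _ => Nat) (Bool.rec (motive := fun _ => Nat) (Bool.rec (motive := fun _ => Nat) (Bool.rec (motive := fun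 _ => Nat) (1441) (Bool.rec (motive := fun _ => Nat) (3135) (528) (Nat.ble 616 i)) (Nat.ble 615 i)) (Bool.rec (motive := fun _ => Nat) (3412) (Bool.rec (motive := fun _ => Nat) (3411) (1466) (Nat.ble 619 i)) (Nat.ble 618 i)) (Nat.ble 617 i)) (Bool.rec (motive := fun _ => Nat) (Bool.rec (motive := fun _ => Nat) (1582) (Bool.rec (motive := fun _ => Nat) (390) (1544) (Nat.ble 622 i)) (Nat.ble 621 i)) (Bool.rec (motive := fun _ => Nat) (2766) (Bool.rec (motive := fun _ => Nat) (2483) (3575) (Nat.ble 625 i)) (Nat.ble 624 i)) (Nat.ble 623 i)) (Nat.ble 620 i)) (Bool.rec (motive := fun _ => Nat) (Bool.rec (motive := fun _ => Nat) (Bool.rec (motive := fun _ => Nat) (3623) (Bool.rec (motive := fun _ => Nat) (3075) (3622) (Nat.ble 628 i)) (Nat.ble 627 i)) (Bool.rec (motive := fun _ => Nat) (3514) (Bool.rec (motive := fun _ => Nat) (2255) (3495) (Nat.ble 631 i)) (Nat.ble 630 i)) (Nat.ble 629 i)) (Bool.rec (motive := fun _ => Nat) (Bool.rec (motive := fun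 _ => Nat) (425) (Bool.rec (motive := fun _ => Nat) (3509) (3099) (Nat.ble 634 i)) (Nat.ble 633 i)) (Bool.rec (motive := fun _ => Nat) (Bool.rec (motive := fun _ => Nat) (2393) (428) (Nat.ble 636 i)) (Bool.rec (motive := fun _ => Nat) (3196) (1414) (Nat.ble 638 i)) (Nat.ble 637 i)) (Nat.ble 635 i)) (Nat.ble 632 i)) (Nat.ble 626 i)) (Bool.rec (motive := fun _ => Nat) (Bool.rec (motive := fun _ => Nat) (Bool.rec (motive := fun _ => Nat) (Bool.rec (motive := fun _ => Nat) (3520) (Bool.rec (motive := fun _ => Nat) (2566) (804) (Nat.ble 641 i)) (Nat.ble 640 i)) (Bool.rec (motive := fun _ => Nat) (1531) (Bool.rec (motive := fun _ => Nat) (298) (600) (Nat.ble 644 i)) (Nat.ble 643 i)) (Nat.ble 642 i)) (Bool.rec (motive := fun _ => Nat) (Bool.rec (motive := fun _ => Nat) (2601) (Bool.rec (motive := fun _ => Nat) (3179) (441) (Nat.ble 647 i)) (Nat.ble 646 i)) (Bool.rec (motive := fun _ => Nat) (Bool.rec (motive := fun _ => Nat) (2323) (3489) (Nat.ble 649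 i)) (Bool.rec (motive := fun _ => Nat) (3492) (548) (Nat.ble 651 i)) (Nat.ble 650 i)) (Nat.ble 648 i)) (Nat.ble 645 i)) (Bool.rec (motive := fun _ => Nat) (Bool.rec (motive := fun _ => Nat) (Bool.rec (motive := fun _ => Nat) (2509) (Bool.rec (motive := fun _ => Nat) (3577) (2528) (Nat.ble 654 i)) (Nat.ble 653 i)) (Bool.rec (motive := fun _ => Nat) (3790) (Bool.rec (motive := fun _ => Nat) (1066) (558) (Nat.ble 657 i)) (Nat.ble 656 i)) (Nat.ble 655 i)) (Bool.rec (motive := fun _ => Nat) (Bool.rec (motive := fun _ => Nat) (3436) (Bool.rec (motive := fun _ => Nat) (3625) (88) (Nat.ble 660 i)) (Nat.ble 659 i)) (Bool.rec (motive := fun _ => Nat) (Bool.rec (motive := fun _ => Nat) (2801) (2354) (Nat.ble 662 i)) (Bool.rec (motive := fun _ => Nat) (3367) (1271) (Nat.ble 664 i)) (Nat.ble 663 i)) (Nat.ble 661 i)) (Nat.ble 658 i)) (Nat.ble 652 i)) (Nat.ble 639 i)) (Bool.rec (motive := fun _ => Nat) (Bool.rec (motive := fun _ => Nat) (Bool.rec (motive :=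 fun _ => Nat) (Bool.rec (motive := fun _ => Nat) (Bool.rec (motive := fun _ => Nat) (3768) (Bool.rec (motive := fun _ => Nat) (2739) (1339) (Nat.ble 667 i)) (Nat.ble 666 i)) (Bool.rec (motive := fun _ => Nat) (1363) (Bool.rec (motive := fun _ => Nat) (3086) (3092) (Nat.ble 670 i)) (Nat.ble 669 i)) (Nat.ble 668 i)) (Bool.rec (motive := fun _ => Nat) (Bool.rec (motive := fun _ => Nat) (3080) (Bool.rec (motive := fun _ => Nat) (91) (1141) (Nat.ble 673 i)) (Nat.ble 672 i)) (Bool.rec (motive := fun _ => Nat) (193) (Bool.rec (motive := fun _ => Nat) (3510) (3671) (Nat.ble 676 i)) (Nat.ble 675 i)) (Nat.ble 674 i)) (Nat.ble 671 i)) (Bool.rec (motive := fun _ => Nat) (Bool.rec (motive := fun _ => Nat) (Bool.rec (motive := fun _ => Nat) (95) (Bool.rec (motive := fun _ => Nat) (3535) (3172) (Nat.ble 679 i)) (Nat.ble 678 i)) (Bool.rec (motive := fun _ => Nat) (3528) (Bool.rec (motive := fun _ => Nat) (2803) (3780) (Nat.ble 682 i)) (Nat.ble 681 i)) (Nat.ble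 680 i)) (Bool.rec (motive := fun _ => Nat) (Bool.rec (motive := fun _ => Nat) (3861) (Bool.rec (motive := fun _ => Nat) (2833) (649) (Nat.ble 685 i)) (Nat.ble 684 i)) (Bool.rec (motive := fun _ => Nat) (Bool.rec (motive := fun _ => Nat) (3227) (3448) (Nat.ble 687 i)) (Bool.rec (motive := fun _ => Nat) (2531) (2606) (Nat.ble 689 i)) (Nat.ble 688 i)) (Nat.ble 686 i)) (Nat.ble 683 i)) (Nat.ble 677 i)) (Bool.rec (motive := fun _ => Nat) (Bool.rec (motive := fun _ => Nat) (Bool.rec (motive := fun _ => Nat) (Bool.rec (motive := fun _ => Nat) (3807) (Bool.rec (motive := fun _ => Nat) (3775) (3548) (Nat.ble 692 i)) (Nat.ble 691 i)) (Bool.rec (motive := fun _ => Nat) (2141) (Bool.rec (motive := fun _ => Nat) (3166) (2346) (Nat.ble 695 i)) (Nat.ble 694 i)) (Nat.ble 693 i)) (Bool.rec (motive := fun _ => Nat) (Bool.rec (motive := fun _ => Nat) (1488) (Bool.rec (motive := fun _ => Nat) (1548) (3433) (Nat.ble 698 i)) (Nat.ble 697 i)) (Bool.rec (motive :=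 fun _ => Nat) (Bool.rec (motive := fun _ => Nat) (2686) (2148) (Nat.ble 700 i)) (Bool.rec (motive := fun _ => Nat) (2267) (1361) (Nat.ble 702 i)) (Nat.ble 701 i)) (Nat.ble 699 i)) (Nat.ble 696 i)) (Bool.rec (motive := fun _ => Nat) (Bool.rec (motive := fun _ => Nat) (Bool.rec (motive := fun _ => Nat) (2690) (Bool.rec (motive := fun _ => Nat) (3079) (3731) (Nat.ble 705 i)) (Nat.ble 704 i)) (Bool.rec (motive := fun _ => Nat) (618) (Bool.rec (motive := fun _ => Nat) (3687) (3825) (Nat.ble 708 i)) (Nat.ble 707 i)) (Nat.ble 706 i)) (Bool.rec (motive := fun _ => Nat) (Bool.rec (motive := fun _ => Nat) (3252) (Bool.rec (motive := fun _ => Nat) (2675) (517) (Nat.ble 711 i)) (Nat.ble 710 i)) (Bool.rec (motive := fun _ => Nat) (Bool.rec (motive := fun _ => Nat) (1611) (2587) (Nat.ble 713 i)) (Bool.rec (motive := fun _ => Nat) (3266) (3782) (Nat.ble 715 i)) (Nat.ble 714 i)) (Nat.ble 712 i)) (Nat.ble 709 i)) (Nat.ble 703 i)) (Nat.ble 690 i)) (Nat.ble 665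 i)) (Bool.rec (motive := fun _ => Nat) (Bool.rec (motive := fun _ => Nat) (Bool.rec (motive := fun _ => Nat) (Bool.rec (motive := fun _ => Nat) (Bool.rec (motive := fun _ => Nat) (Bool.rec (motive := fun _ => Nat) (521) (Bool.rec (motive := fun _ => Nat) (1203) (3122) (Nat.ble 718 i)) (Nat.ble 717 i)) (Bool.rec (motive := fun _ => Nat) (3820) (Bool.rec (motive := fun _ => Nat) (1625) (1741) (Nat.ble 721 i)) (Nat.ble 720 i)) (Nat.ble 719 i)) (Bool.rec (motive := fun _ => Nat) (Bool.rec (motive := fun _ => Nat) (553) (Bool.rec (motive := fun _ => Nat) (3121) (3590) (Nat.ble 724 i)) (Nat.ble 723 i)) (Bool.rec (motive := fun _ => Nat) (3115) (Bool.rec (motive := fun _ => Nat) (3160) (1051) (Nat.ble 727 i)) (Nat.ble 726 i)) (Nat.ble 725 i)) (Nat.ble 722 i)) (Bool.rec (motive := fun _ => Nat) (Bool.rec (motive := fun _ => Nat) (Bool.rec (motive := fun _ => Nat) (615) (Bool.rec (motive := fun _ => Nat) (552) (1359) (Nat.ble 730 i)) (Nat.ble 729 i))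 (Bool.rec (motive := fun _ => Nat) (3078) (Bool.rec (motive := fun _ => Nat) (1119) (2794) (Nat.ble 733 i)) (Nat.ble 732 i)) (Nat.ble 731 i)) (Bool.rec (motive := fun _ => Nat) (Bool.rec (motive := fun _ => Nat) (3536) (Bool.rec (motive := fun _ => Nat) (3251) (305) (Nat.ble 736 i)) (Nat.ble 735 i)) (Bool.rec (motive := fun _ => Nat) (Bool.rec (motive := fun _ => Nat) (2108) (2450) (Nat.ble 738 i)) (Bool.rec (motive := fun _ => Nat) (3791) (3480) (Nat.ble 740 i)) (Nat.ble 739 i)) (Nat.ble 737 i)) (Nat.ble 734 i)) (Nat.ble 728 i)) (Bool.rec (motive := fun _ => Nat) (Bool.rec (motive := fun _ => Nat) (Bool.rec (motive := fun _ => Nat) (Bool.rec (motive := fun _ => Nat) (3150) (Bool.rec (motive := fun _ => Nat) (1493) (3502) (Nat.ble 743 i)) (Nat.ble 742 i)) (Bool.rec (motive := fun _ => Nat) (2722) (Bool.rec (motive := fun _ => Nat) (302) (116) (Nat.ble 746 i)) (Nat.ble 745 i)) (Nat.ble 744 i)) (Bool.rec (motive := fun _ => Nat) (Bool.rec (motive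 := fun _ => Nat) (2716) (Bool.rec (motive := fun _ => Nat) (1810) (3614) (Nat.ble 749 i)) (Nat.ble 748 i)) (Bool.rec (motive := fun _ => Nat) (Bool.rec (motive := fun _ => Nat) (3368) (2667) (Nat.ble 751 i)) (Bool.rec (motive := fun _ => Nat) (2224) (154) (Nat.ble 753 i)) (Nat.ble 752 i)) (Nat.ble 750 i)) (Nat.ble 747 i)) (Bool.rec (motive := fun _ => Nat) (Bool.rec (motive := fun _ => Nat) (Bool.rec (motive := fun _ => Nat) (312) (Bool.rec (motive := fun _ => Nat) (3303) (3876) (Nat.ble 756 i)) (Nat.ble 755 i)) (Bool.rec (motive := fun _ => Nat) (741) (Bool.rec (motive := fun _ => Nat) (2653) (2669) (Nat.ble 759 i)) (Nat.ble 758 i)) (Nat.ble 757 i)) (Bool.rec (motive := fun _ => Nat) (Bool.rec (motive := fun _ => Nat) (3684) (Bool.rec (motive := fun _ => Nat) (610) (3478) (Nat.ble 762 i)) (Nat.ble 761 i)) (Bool.rec (motive := fun _ => Nat) (Bool.rec (motive := fun _ => Nat) (1631) (3267) (Nat.ble 764 i)) (Bool.rec (motive := fun _ => Nat) (3699)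 (1597) (Nat.ble 766 i)) (Nat.ble 765 i)) (Nat.ble 763 i)) (Nat.ble 760 i)) (Nat.ble 754 i)) (Nat.ble 741 i)) (Bool.rec (motive := fun _ => Nat) (Bool.rec (motive := fun _ => Nat) (Bool.rec (motive := fun _ => Nat) (Bool.rec (motive := fun _ => Nat) (Bool.rec (motive := fun _ => Nat) (1770) (Bool.rec (motive := fun _ => Nat) (3187) (1721) (Nat.ble 769 i)) (Nat.ble 768 i)) (Bool.rec (motive := fun _ => Nat) (3284) (Bool.rec (motive := fun _ => Nat) (3644) (2200) (Nat.ble 772 i)) (Nat.ble 771 i)) (Nat.ble 770 i)) (Bool.rec (motive := fun _ => Nat) (Bool.rec (motive := fun _ => Nat) (3486) (Bool.rec (motive := fun _ => Nat) (1336) (690) (Nat.ble 775 i)) (Nat.ble 774 i)) (Bool.rec (motive := fun _ => Nat) (Bool.rec (motive := fun _ => Nat) (2682) (300) (Nat.ble 777 i)) (Bool.rec (motive := fun _ => Nat) (2829) (3639) (Nat.ble 779 i)) (Nat.ble 778 i)) (Nat.ble 776 i)) (Nat.ble 773 i)) (Bool.rec (motive := fun _ => Nat) (Bool.rec (motive := fun _ =>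 Nat) (Bool.rec (motive := fun _ => Nat) (408) (Bool.rec (motive := fun _ => Nat) (147) (1815) (Nat.ble 782 i)) (Nat.ble 781 i)) (Bool.rec (motive := fun _ => Nat) (2327) (Bool.rec (motive := fun _ => Nat) (3125) (310) (Nat.ble 785 i)) (Nat.ble 784 i)) (Nat.ble 783 i)) (Bool.rec (motive := fun _ => Nat) (Bool.rec (motive := fun _ => Nat) (3089) (Bool.rec (motive := fun _ => Nat) (2565) (254) (Nat.ble 788 i)) (Nat.ble 787 i)) (Bool.rec (motive := fun _ => Nat) (Bool.rec (motive := fun _ => Nat) (251) (155) (Nat.ble 790 i)) (Bool.rec (motive := fun _ => Nat) (3527) (3431) (Nat.ble 792 i)) (Nat.ble 791 i)) (Nat.ble 789 i)) (Nat.ble 786 i)) (Nat.ble 780 i)) (Bool.rec (motive := fun _ => Nat) (Bool.rec (motive := fun _ => Nat) (Bool.rec (motive := fun _ => Nat) (Bool.rec (motive := fun _ => Nat) (1499) (Bool.rec (motive := fun _ => Nat) (3483) (686) (Nat.ble 795 i)) (Nat.ble 794 i)) (Bool.rec (motive := fun _ => Nat) (3400) (Bool.rec (motive := fun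 _ => Nat) (2568) (3593) (Nat.ble 798 i)) (Nat.ble 797 i)) (Nat.ble 796 i)) (Bool.rec (motive := fun _ => Nat) (Bool.rec (motive := fun _ => Nat) (1329) (Bool.rec (motive := fun _ => Nat) (3511) (3754) (Nat.ble 801 i)) (Nat.ble 800 i)) (Bool.rec (motive := fun _ => Nat) (Bool.rec (motive := fun _ => Nat) (2285) (2362) (Nat.ble 803 i)) (Bool.rec (motive := fun _ => Nat) (3646) (3716) (Nat.ble 805 i)) (Nat.ble 804 i)) (Nat.ble 802 i)) (Nat.ble 799 i)) (Bool.rec (motive := fun _ => Nat) (Bool.rec (motive := fun _ => Nat) (Bool.rec (motive := fun _ => Nat) (1219) (Bool.rec (motive := fun _ => Nat) (475) (406) (Nat.ble 808 i)) (Nat.ble 807 i)) (Bool.rec (motive := fun _ => Nat) (186) (Bool.rec (motive := fun _ => Nat) (412) (2497) (Nat.ble 811 i)) (Nat.ble 810 i)) (Nat.ble 809 i)) (Bool.rec (motive := fun _ => Nat) (Bool.rec (motive := fun _ => Nat) (3360) (Bool.rec (motive := fun _ => Nat) (2502) (3798) (Nat.ble 814 i)) (Nat.ble 813 i)) (Bool.rec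 (motive := fun _ => Nat) (Bool.rec (motive := fun _ => Nat) (2727) (2241) (Nat.ble 816 i)) (Bool.rec (motive := fun _ => Nat) (3868) (1438) (Nat.ble 818 i)) (Nat.ble 817 i)) (Nat.ble 815 i)) (Nat.ble 812 i)) (Nat.ble 806 i)) (Nat.ble 793 i)) (Nat.ble 767 i)) (Nat.ble 716 i)) (Nat.ble 614 i)) (Nat.ble 409 i))

/-- Stabilising words of node 10. -/
def tGen10 : List (List Nat) := [[2, 0, 4, 2, 8], [6, 4, 8, 6, 4, 12, 10, 8, 6, 4, 11, 8, 6, 10, 9, 11, 5, 7, 9, 11, 12, 1], [0, 2, 4, 6, 10, 8, 6, 4, 2, 6, 4, 6, 10, 13, 9, 11, 7, 5, 7, 9], [13, 11, 8, 6, 4, 6, 4, 10, 8, 6, 11, 8, 6, 11, 3, 5, 7, 3, 5, 7, 9, 7, 5, 3, 1]]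

/-- Roots at node 10. -/
def tRoot10 : List Nat := [0, 4, 5]

/-- The words of the nodes. -/
def tNodeW : List (List Nat) := [[], [14], [14, 2, 14], [14, 2, 6, 14], [14, 2, 11, 14], [14, 2, 6, 10, 14], [14, 2, 6, 11, 14], [14, 2, 14, 6, 14], [14, 2, 14, 6, 10, 14], [14, 2, 6, 14, 2, 10, 8, 10, 8, 6, 14], [14, 2, 11, 14, 6, 4, 6, 8, 12, 10, 8, 6, 4, 2, 6, 14]]

/-- Listed points. -/
def tHit : List (List Nat) := [[], [0, 6, 33], [96], [], [], [], [], [], [], [], []]

/-- Roots mapped to the other class, with the factorisations. -/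
def tPush : List (Nat × Nat × List (List Nat) × List Nat) := [(1, 10, [[3, 5, 0, 3, 1, 3, 5]], [6, 4, 7, 2, 4, 1, 3, 4, 6, 4, 7, 8, 6, 4, 7, 2, 4, 1, 3]), (2, 58, [[1, 5], [1, 3, 0, 3]], [8, 6, 4, 7, 4, 6, 4, 7]), (4, 33, [[3, 0, 3], [1, 5]], [8, 2, 4, 1, 3])]

end CfsgLib.Coset.Th
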