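import Cfsg.Agent.Coset.Th.CentA
import Cfsg.Agent.Coset.Th.CentTData

/-!
At a node, a conjugate of the first letter is mapped into the class only if it is listed, provided
this is so for the roots of the forest.
-/

set_option autoImplicit false
set_option maxRecDepth 100000
set_option Elab.async false

namespace CfsgLib.Coset.Th

open CfsgLib.Coset.Ly (iv)

/-- The forest of a node. -/
noncomputable def tPar : Nat → Nat → Nat
  | 1 => tPar1 | 2 => tPar2 | 3 => tPar3 | 4 => tPar4 | 5 => tPar5
  | 6 => tPar6 | 7 => tPar7 | 8 => tPar8 | 9 => tPar9 | _ => tPar10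

/-- The stabilising words of a node. -/
def tGen : Nat → List (List Nat)
  | 1 => tGen1 | 2 => tGen2 | 3 => tGen3 | 4 => tGen4 | 5 => tGen5
  | 6 => tGen6 | 7 => tGen7 | 8 => tGen8 | 9 => tGen9 | _ => tGen10

/-- The roots of a node. -/
def tRoot : Nat → List Nat
  | 1 => tRoot1 | 2 => tRoot2 | 3 => tRoot3 | 4 => tRoot4 | 5 => tRoot5
  | 6 => tRoot6 | 7 => tRoot7 | 8 => tRoot8 | 9 => tRoot9 | _ => tRoot10

section Kernel

/-- Membership in a list of numbers. -/
noncomputable def memT (i : Nat) (s : List Nat) : Bool :=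
  List.rec false (fun r _ ih => cond (Nat.beq r i) true ih) s

/-- A point is listed, a root, or the conjugate of its parent, which is not listed. -/
noncomputable def tEdge (n y : Nat) : Bool :=
  cond (memT y (tHit.getD n [])) true
    (cond (memT y (tRoot n)) true
      (cond (Nat.ble (Nat.add (Nat.land (tPar n y) 1023) 1) 819)
        (cond (Nat.ble (Nat.add (Nat.shiftRight (tPar n y) 10) 1) (tGen n).length)
          (Nat.beq (CfsgLib.Coset.Ly.ff (tget TP.Tb) (Nat.land (tPar n y) 1023)
            ((tGen n).getD (Nat.shiftRight (tPar n y) 10) [])) y)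
          false) false))

/-- The parent of a point, or the point itself at the top. -/
noncomputable def tUp (n y : Nat) : Nat :=
  cond (memT y (tHit.getD n [])) y (cond (memT y (tRoot n)) y (Nat.land (tPar n y) 1023))

/-- The top above a point. -/
noncomputable def tTop (n k y : Nat) : Nat := Nat.rec y (fun _ ih => tUp n ih) k

/-- The top above a point is a root, unless the point is listed. -/
noncomputable def tReach (n y : Nat) : Bool :=
  cond (memT y (tHit.getD n [])) true (memT (tTop n 10 y) (tRoot n))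

/-- Stabilising words are in range, roots are points, and no parent is listed. -/
noncomputable def tGenOK (n : Nat) : Bool :=
  cond (allList lt14 (tGen n))
    (allBelow 10 819 fun y => cond (tEdge n y) (tReach n y) false) false

end Kernel

theorem tGenOK_one : tGenOK 1 = true := by decide +kernel
theorem tGenOK_two : tGenOK 2 = true := by decide +kernel
theorem tGenOK_three : tGenOK 3 = true := by decide +kernel
theorem tGenOK_four : tGenOK 4 = true := by decide +kernel
theorem tGenOK_five : tGenOK 5 = true := by decide +kernel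
theorem tGenOK_six : tGenOK 6 = true := by decide +kernel
theorem tGenOK_seven : tGenOK 7 = true := by decide +kernel
theorem tGenOK_eight : tGenOK 8 = true := by decide +kernel
theorem tGenOK_nine : tGenOK 9 = true := by decide +kernel
theorem tGenOK_ten : tGenOK 10 = true := by decide +kernel

theorem tGenOK_all (n : Nat) (h1 : 1 ≤ n) (h2 : n ≤ 10) : tGenOK n = true := by
  interval_cases n
  · exact tGenOK_one
  · exact tGenOK_two
  · exact tGenOK_three
  · exact tGenOK_four
  · exact tGenOK_five
  · exact tGenOK_six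
  · exact tGenOK_seven
  · exact tGenOK_eight
  · exact tGenOK_nine
  · exact tGenOK_ten

/-- The stabiliser of the first point is the centralizer of the first letter. -/
theorem pstab_eq : pstab ρ (0 : Fin 819) = Subgroup.centralizer {aA} := by
  have hP : P ≤ pstab ρ (0 : Fin 819) := by
    refine (Subgroup.closure_le _).mpr ?_
    rintro _ ⟨w, hw, rfl⟩
    refine (matches_ρ.mem_pstab_iff 0 fun l hl => ?_).mpr
      (Nat.eq_of_beq_eq_true (allList_iff.mp
        (show allList (fun w => Nat.beq (follow (tget TP.Tb) 0 w) 0) TP.subs = true by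
          decide +kernel) w hw))
    exact ((by decide +kernel : ∀ w ∈ TP.subs, ∀ l ∈ w, l < 14) w hw l hl).trans_eq len_LA.symm
  rw [← card_centralizer_aA.2]
  refine (Subgroup.eq_of_le_of_card_ge hP ?_).symm
  have horb : (orb ρ (⊤ : Subgroup A) (0 : Fin 819)) = Set.univ := by
    refine Set.eq_univ_of_forall fun i => ?_
    obtain ⟨g, hg⟩ := transitive i
    exact ⟨g, trivial, hg⟩
  have h := card_orb_mul (ρ := ρ) (⊤ : Subgroup A) (0 : Fin 819)
  rw [horb, Set.ncard_univ, Nat.card_fin, top_inf_eq, Subgroup.card_top, card_and_injective.1] at h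
  have := card_P_ge
  omega

/-- Words act on the conjugates as on the points. -/
theorem conj_aPt (x y : Fin 819) {g : List Nat} (hg : ∀ l ∈ g, l < 14)
    (h : CfsgLib.Coset.Ly.ff (tget TP.Tb) x g = y) :
    (ev LA g)⁻¹ * aPt x * ev LA g = aPt y := by
  have hz : ∀ i : Fin 819, (ρ (ev LA (ptW i)))⁻¹ 0 = i := fun i => by
    refine Fin.ext ?_
    rw [matches_ρ.follow_eq _ _ fun l hl => (ptW_lt i.2 l hl).trans_eq len_LA.symm]
    have := (cond_false_eq_true.mp (of_allBelow ptOK_all i i.2)).2
    rw [CfsgLib.Coset.Ly.ff_eq] at this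
    exact Nat.eq_of_beq_eq_true this
  have hg' : (ρ (ev LA g))⁻¹ x = y := by
    refine Fin.ext ?_
    rw [matches_ρ.follow_eq _ _ fun l hl => (hg l hl).trans_eq len_LA.symm,
      ← CfsgLib.Coset.Ly.ff_eq]
    exact h
  have hm : ev LA (ptW x) * ev LA g * (ev LA (ptW y))⁻¹ ∈ Subgroup.centralizer {aA} := by
    rw [← pstab_eq, mem_pstab, map_mul, map_mul, map_inv, Equiv.Perm.mul_apply,
      Equiv.Perm.mul_apply, hz, ← hg']
    have hap : ∀ (σ : Equiv.Perm (Fin 819)) (i : Fin 819), σ (σ⁻¹ i) = i := fun σ i => by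
      rw [← Equiv.Perm.mul_apply, mul_inv_cancel, Equiv.Perm.one_apply]
    have hz2 := congrArg (ρ (ev LA (ptW x))) (hz x)
    rw [hap] at hz2
    rw [hap]
    exact hz2.symm
  have hc := Subgroup.mem_centralizer_singleton_iff.mp hm
  rw [aPt_eq, aPt_eq]
  calc (ev LA g)⁻¹ * ((ev LA (ptW x))⁻¹ * aA * ev LA (ptW x)) * ev LA g
      = (ev LA g)⁻¹ * (ev LA (ptW x))⁻¹ * (aA * (ev LA (ptW x) * ev LA g * (ev LA (ptW y))⁻¹)) *
          ev LA (ptW y) := by group
    _ = (ev LA g)⁻¹ * (ev LA (ptW x))⁻¹ * (ev LA (ptW x) * ev LA g * (ev LA (ptW y))⁻¹ * aA) *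
          ev LA (ptW y) := by rw [hc]
    _ = _ := by group

theorem memT_iff (i : Nat) : ∀ s : List Nat, memT i s = true ↔ i ∈ s := by
  intro s
  induction s with
  | nil => simp [memT]
  | cons b s ih =>
    change cond (Nat.beq b i) true (memT i s) = true ↔ _
    cases h : Nat.beq b i
    · have : i ≠ b := fun e => by rw [e, Nat.beq_refl] at h; exact Bool.noConfusion h
      simp [ih, this]
    · simp [Nat.eq_of_beq_eq_true h]

variable {G : Type*} [Group G] (Ψ : A →* G) (w : G)

/-- A conjugate of the first letter is mapped to one at the node. -/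
def IsHit (x : A) : Prop := ∃ β : A, w * Ψ x * w⁻¹ = Ψ (β⁻¹ * aA * β)

theorem isHit_conj {x s : A} (hs : w * Ψ s * w⁻¹ ∈ Ψ.range) (h : IsHit Ψ w (s⁻¹ * x * s)) :
    IsHit Ψ w x := by
  obtain ⟨s', hs'⟩ := hs
  obtain ⟨β, hβ⟩ := h
  refine ⟨β * s'⁻¹, ?_⟩
  calc w * Ψ x * w⁻¹ = (w * Ψ s * w⁻¹) * (w * Ψ (s⁻¹ * x * s) * w⁻¹) * (w * Ψ s * w⁻¹)⁻¹ := by
        simp only [map_mul, map_inv]; group
    _ = Ψ s' * Ψ (β⁻¹ * aA * β) * (Ψ s')⁻¹ := by rw [hs', hβ]
    _ = Ψ ((β * s'⁻¹)⁻¹ * aA * (β * s'⁻¹)) := by simp only [map_mul, map_inv]; group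

theorem aPt_conj (i : Fin 819) : ∃ γ : A, aPt i = γ⁻¹ * aA * γ := ⟨_, aPt_eq i⟩

/-- Only listed points are mapped into the class. -/
theorem hit_listed {n : Nat} (h1 : 1 ≤ n) (h2 : n ≤ 10)
    (hgen : ∀ g ∈ tGen n, w * Ψ (ev LA g) * w⁻¹ ∈ Ψ.range)
    (hroot : ∀ r : Fin 819, (r : Nat) ∈ tRoot n → ¬ IsHit Ψ w (aPt r))
    (y : Fin 819) (hy : IsHit Ψ w (aPt y)) : (y : Nat) ∈ tHit.getD n [] := by
  obtain ⟨hl, hall⟩ := cond_false_eq_true.mp (tGenOK_all n h1 h2)
  have key : ∀ k : Nat, ∀ y : Fin 819, tTop n k y ∈ tRoot n →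
      (y : Nat) ∉ tHit.getD n [] → ¬ IsHit Ψ w (aPt y) := by
    intro k
    induction k with
    | zero => intro y hr _; exact hroot y hr
    | succ k ih =>
      intro y hr hn hhit
      by_cases hroot' : (y : Nat) ∈ tRoot n
      · exact hroot y hroot' hhit
      have he := (cond_false_eq_true.mp (of_allBelow hall y y.2)).1
      rw [tEdge, show memT (y : Nat) (tHit.getD n []) = false from
          Bool.eq_false_iff.mpr fun h => hn ((memT_iff _ _).mp h), cond_false,
        show memT (y : Nat) (tRoot n) = false from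
          Bool.eq_false_iff.mpr fun h => hroot' ((memT_iff _ _).mp h), cond_false,
        cond_false_eq_true, cond_false_eq_true] at he
      obtain ⟨hx, hi, heq⟩ := he
      set x := Nat.land (tPar n y) 1023 with hxdef
      set i := Nat.shiftRight (tPar n y) 10
      have hxlt : x < 819 := Nat.ble_eq.mp hx
      have hilt : i < (tGen n).length := Nat.ble_eq.mp hi
      have hmem : (tGen n).getD i [] ∈ tGen n := by
        rw [List.getD_eq_getElem _ _ hilt]; exact List.getElem_mem hilt
      have hlt := lt14_sound (allList_iff.mp hl _ hmem)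
      have hconj : aPt y = (ev LA ((tGen n).getD i []))⁻¹ * aPt ⟨x, hxlt⟩ *
          ev LA ((tGen n).getD i []) := by
        exact (conj_aPt ⟨x, hxlt⟩ y hlt (Nat.eq_of_beq_eq_true heq)).symm
      have hup : tUp n y = x := by
        rw [tUp, show memT (y : Nat) (tHit.getD n []) = false from
          Bool.eq_false_iff.mpr fun h => hn ((memT_iff _ _).mp h), cond_false,
          show memT (y : Nat) (tRoot n) = false from
            Bool.eq_false_iff.mpr fun h => hroot' ((memT_iff _ _).mp h), cond_false]
      have htop : ∀ k, tTop n (k + 1) y = tTop n k x := by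
        intro k
        induction k with
        | zero => exact hup
        | succ k ih' => show tUp n (tTop n (k + 1) y) = tUp n (tTop n k x); rw [ih']
      rw [htop] at hr
      have hxn : x ∉ tHit.getD n [] := by
        intro hx'
        have hstay : ∀ j, tTop n j x = x := by
          intro j
          induction j with
          | zero => rfl
          | succ j ih' =>
            show tUp n (tTop n j x) = x
            rw [ih', tUp, (memT_iff _ _).mpr hx', cond_true]
        rw [hstay] at hr
        exact hroot ⟨x, hxlt⟩ hr (isHit_conj Ψ w (hgen _ hmem) (hconj ▸ hhit))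
      exact ih ⟨x, hxlt⟩ hr hxn (isHit_conj Ψ w (hgen _ hmem) (hconj ▸ hhit))
  by_contra hn
  have hr := (cond_false_eq_true.mp (of_allBelow hall y y.2)).2
  rw [tReach, show memT (y : Nat) (tHit.getD n []) = false from
    Bool.eq_false_iff.mpr fun h => hn ((memT_iff _ _).mp h), cond_false] at hr
  exact key 10 y ((memT_iff _ _).mp hr) hn hy

end CfsgLib.Coset.Th
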