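import Mathlib.Data.List.Basic

/-!
Representative words of the eleven double cosets of the subgroup on fourteen letters in the
Thompson group.
-/

set_option autoImplicit false

namespace CfsgLib.Coset.Th

/-- The words of the eleven double cosets. -/
def nodeW : List (List Nat) := [[], [14], [14, 2, 14], [14, 2, 6, 14], [14, 2, 11, 14], [14, 2, 6, 10, 14], [14, 2, 6, 11, 14], [14, 2, 14, 6, 14], [14, 2, 14, 6, 10, 14], [14, 2, 6, 14, 2, 10, 8, 10, 8, 6, 14], [14, 2, 11, 14, 6, 4, 6, 8, 12, 10, 8, 6, 4, 2, 6, 14]]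

theorem len_nodeW : nodeW.length = 11 := rfl

theorem nodeW_lt : ∀ w ∈ nodeW, ∀ l ∈ w, l < 16 := by decide +kernel

end CfsgLib.Coset.Th
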