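import Cfsg.Agent.Coset.Th.CentG
import Cfsg.Agent.Coset.Th.CentT
import Cfsg.Agent.Coset.Th.CentCount
import Cfsg.Agent.Coset.Th.NodeWords

/-!
An upper bound for the centralizer of the involution in the presented Thompson group.
-/

set_option autoImplicit false
set_option maxRecDepth 100000
set_option linter.unusedSimpArgs false
set_option Elab.async false

namespace CfsgLib.Coset.Th.Cent

open Cfsg.Spor (Th)

section Kernel

/-- The word of a node conjugating a root. -/
noncomputable def rootW (n r : Nat) : List Nat :=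
  nodeW.getD n [] ++ aW r ++ invW (nodeW.getD n [])

/-- A number is one of the roots treated by factorisations. -/
noncomputable def isPushed (n r : Nat) : Bool :=
  List.rec false (fun q _ ih => cond (Nat.beq q.1 n) (cond (Nat.beq q.2.1 r) true ih) ih) tPush

/-- The first vector leaves the first block. -/
noncomputable def rootMoves (n r : Nat) : Bool :=
  cond (isPushed n r) true
    (cond (Nat.ble (Nat.add r 1) 819)
      (!(Nat.beq (Nat.shiftRight (vrun K1 matL (2 ^ (10 * 0)) (rootW n r)) 520) 0)) false)

/-- All roots of a node. -/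
noncomputable def rootsOK (n : Nat) : Bool := allList (rootMoves n) (tRoot n)

end Kernel

theorem rootsOK_one : rootsOK 1 = true := by decide +kernel
theorem rootsOK_two : rootsOK 2 = true := by decide +kernel
theorem rootsOK_three : rootsOK 3 = true := by decide +kernel
theorem rootsOK_four : rootsOK 4 = true := by decide +kernel
theorem rootsOK_five : rootsOK 5 = true := by decide +kernel
/-- Eight roots of the sixth node. -/
noncomputable def rootBlk (s : Nat) : Bool :=
  allBlock 3 s fun i => cond (Nat.ble 150 i) true (rootMoves 6 ((tRoot 6).getD i 0))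

theorem rootsSix_0 : rootBlk 0 = true := by decide +kernel
theorem rootsSix_1 : rootBlk 1 = true := by decide +kernel
theorem rootsSix_2 : rootBlk 2 = true := by decide +kernel
theorem rootsSix_3 : rootBlk 3 = true := by decide +kernel
theorem rootsSix_4 : rootBlk 4 = true := by decide +kernel
theorem rootsSix_5 : rootBlk 5 = true := by decide +kernel
theorem rootsSix_6 : rootBlk 6 = true := by decide +kernel
theorem rootsSix_7 : rootBlk 7 = true := by decide +kernel
theorem rootsSix_8 : rootBlk 8 = true := by decide +kernel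
theorem rootsSix_9 : rootBlk 9 = true := by decide +kernel
theorem rootsSix_10 : rootBlk 10 = true := by decide +kernel
theorem rootsSix_11 : rootBlk 11 = true := by decide +kernel
theorem rootsSix_12 : rootBlk 12 = true := by decide +kernel
theorem rootsSix_13 : rootBlk 13 = true := by decide +kernel
theorem rootsSix_14 : rootBlk 14 = true := by decide +kernel
theorem rootsSix_15 : rootBlk 15 = true := by decide +kernel
theorem rootsSix_16 : rootBlk 16 = true := by decide +kernel
theorem rootsSix_17 : rootBlk 17 = true := by decide +kernel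
theorem rootsSix_18 : rootBlk 18 = true := by decide +kernel

theorem rootsOK_six : rootsOK 6 = true := by
  refine allList_iff.mpr fun r hr => ?_
  obtain ⟨i, hi, rfl⟩ := List.getElem_of_mem hr
  have hl : i < 150 := lt_of_lt_of_eq hi (show (tRoot 6).length = 150 by decide +kernel)
  have hs : i / 8 < 19 := by omega
  have hb : rootBlk (i / 8) = true := by
    interval_cases h : i / 8
    exacts [rootsSix_0, rootsSix_1, rootsSix_2, rootsSix_3, rootsSix_4, rootsSix_5, rootsSix_6, rootsSix_7, rootsSix_8, rootsSix_9, rootsSix_10, rootsSix_11, rootsSix_12, rootsSix_13, rootsSix_14, rootsSix_15, rootsSix_16, rootsSix_17, rootsSix_18]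
  have h := allBlock_iff 3 (i / 8) _ hb i (by omega) (by omega)
  rw [show Nat.ble 150 i = false from Bool.eq_false_iff.mpr fun h => by
    have := Nat.ble_eq.mp h; omega, cond_false, List.getD_eq_getElem _ _ hi] at h
  exact h
theorem rootsOK_seven : rootsOK 7 = true := by decide +kernel
theorem rootsOK_eight : rootsOK 8 = true := by decide +kernel
theorem rootsOK_nine : rootsOK 9 = true := by decide +kernel
theorem rootsOK_ten : rootsOK 10 = true := by decide +kernel

/-- The word is carried into the model by the factorisations, from the right. -/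
noncomputable def pushRun : List Nat → List (List Nat) → List Nat → Bool × List Nat
  | [], _, cur => (true, cur)
  | l :: ls, st, cur =>
    cond (Nat.beq l 14)
      (cond (allList (fun x => Nat.ble (Nat.add x 1) 6) (st.headD []) && eqA cur (flatT kmW (st.headD [])))
        (pushRun ls st.tail (flatT kgW (st.headD []))) (false, []))
      (cond (Nat.ble (Nat.add l 1) 14)
        (pushRun ls st ([l] ++ cur ++ [Nat.xor l 1])) (false, []))

/-- The result of the factorisations is outside the class. -/
noncomputable def pushOK (q : Nat × Nat × List (List Nat) × List Nat) : Bool :=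
  (pushRun (nodeW.getD q.1 []).reverse q.2.2.1 (aW q.2.1)).1 && Nat.ble (Nat.add q.2.1 1) 819 &&
    allBelow 10 819 (fun i =>
      !(Nat.beq (sigB (pushRun (nodeW.getD q.1 []).reverse q.2.2.1 (aW q.2.1)).2) (sigB (aW i))))

theorem pushOK_all : allList pushOK tPush = true := by decide +kernel

theorem pushRun_sound : ∀ (ls : List Nat) (st : List (List Nat)) (cur : List Nat),
    (∀ l ∈ cur, l < 14) → (pushRun ls st cur).1 = true →
      (∀ l ∈ (pushRun ls st cur).2, l < 14) ∧
        ev LG ls.reverse * ev LG cur * (ev LG ls.reverse)⁻¹ = ev LG (pushRun ls st cur).2 := by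
  intro ls
  induction ls with
  | nil => intro st cur hc _; exact ⟨hc, by simp [pushRun]⟩
  | cons l ls ih =>
    intro st cur hc h
    have e : ev LG (l :: ls).reverse = ev LG ls.reverse * fl LG l := by
      rw [List.reverse_cons, ev_append, ev_cons, ev_nil, mul_one]
    unfold pushRun at h ⊢
    cases hl : Nat.beq l 14
    · simp only [hl, cond_false] at h ⊢
      cases hl2 : Nat.ble (Nat.add l 1) 14
      · simp only [hl2, cond_false] at h
        exact Bool.noConfusion h
      simp only [hl2, cond_true] at h ⊢
      have hlt : l < 14 := Nat.ble_eq.mp hl2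
      obtain ⟨h1, h2⟩ := ih st _ (fun x hx => by
        simp only [List.mem_append, List.mem_singleton] at hx
        rcases hx with (rfl | hx) | rfl
        · exact hlt
        · exact hc x hx
        · exact (pairsA l hlt).1) h
      refine ⟨h1, ?_⟩
      rw [← h2, e, ev_append, ev_append, ev_cons, ev_nil, mul_one, ev_cons, ev_nil, mul_one,
        fl_xor16 len_LG pair_LG]
      group
    · simp only [hl, cond_true] at h ⊢
      cases hb : (allList (fun x => Nat.ble (Nat.add x 1) 6) (st.headD []) &&
          eqA cur (flatT kmW (st.headD [])))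
      · simp only [hb, cond_false] at h
        exact Bool.noConfusion h
      simp only [hb, cond_true] at h ⊢
      obtain ⟨hid, he⟩ := Bool.and_eq_true_iff.mp hb
      obtain ⟨h1, h2⟩ := ih st.tail _ (flatT_lt kgW_lt _) h
      refine ⟨h1, ?_⟩
      have he' : ev LG cur = ev LG (flatT kmW (st.headD [])) := by
        rw [← ΨT_ev cur hc, eqA_sound he, ΨT_ev _ (flatT_lt kmW_lt _)]
      rw [← h2, e, Nat.eq_of_beq_eq_true hl, he', mul_assoc _ (fl LG 14),
        ← conj_flat _ fun x hx => Nat.ble_eq.mp (allList_iff.mp hid x hx)]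
      group

theorem encW_lt_of_top : ∀ (n : ℕ) (f : Fin n → ℕ), (∀ j, f j < 2 ^ 10) → ∀ k : ℕ,
    (∀ j : Fin n, k ≤ (j : ℕ) → f j = 0) → encW 10 n f < 2 ^ (10 * k) := by
  intro n
  induction n with
  | zero => intro f _ k _; simp [encW]
  | succ n ih =>
    intro f hf k hk
    rcases k with _ | k
    · have h0 : ∀ (n : ℕ) (f : Fin n → ℕ), (∀ j, f j = 0) → encW 10 n f = 0 := by
        intro n
        induction n with
        | zero => intro f _; rfl
        | succ n ih' =>
          intro f h
          show f 0 + 2 ^ 10 * encW 10 n (f ∘ Fin.succ) = 0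
          rw [h 0, ih' (f ∘ Fin.succ) fun j => h _]
          simp
      rw [h0 _ f fun j => hk j (Nat.zero_le _)]
      norm_num
    · have h1 := ih (f ∘ Fin.succ) (fun j => hf _) k fun j hj => hk _ (by simp; omega)
      have h2 := hf 0
      show f 0 + 2 ^ 10 * encW 10 n (f ∘ Fin.succ) < 2 ^ (10 * (k + 1))
      rw [show 10 * (k + 1) = 10 + 10 * k by ring, pow_add]
      generalize encW 10 n (f ∘ Fin.succ) = x at h1 ⊢
      generalize (2 : ℕ) ^ (10 * k) = y at h1 ⊢
      calc f 0 + 2 ^ 10 * x < 2 ^ 10 + 2 ^ 10 * x := by omega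
        _ = 2 ^ 10 * (x + 1) := by ring
        _ ≤ 2 ^ 10 * y := Nat.mul_le_mul_left _ h1

theorem root_not_hit {n : Nat} (h1 : 1 ≤ n) (h2 : n ≤ 10) (r : Fin 819) (hr : (r : Nat) ∈ tRoot n) :
    ¬ IsHit ΨT (ev LG (nodeW.getD n [])) (aPt r) := by
  rintro ⟨β, hβ⟩
  have hall : rootsOK n = true := by
    interval_cases n
    exacts [rootsOK_one, rootsOK_two, rootsOK_three, rootsOK_four, rootsOK_five, rootsOK_six,
      rootsOK_seven, rootsOK_eight, rootsOK_nine, rootsOK_ten]
  have hroot := allList_iff.mp hall r hr
  have hnl : ∀ l ∈ nodeW.getD n [], l < 16 := by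
    rw [List.getD_eq_getElem _ _ (show n < nodeW.length by rw [len_nodeW]; omega)]
    exact nodeW_lt _ (List.getElem_mem _)
  rw [aPt, ΨT_ev _ (aW_lt r.2)] at hβ
  have hz : ev LG (nodeW.getD n []) * ev LG (aW r) * (ev LG (nodeW.getD n []))⁻¹ =
      ev LG (rootW n r) := by
    rw [rootW, ev_append, ev_append, ev_invW_LG]
  rw [hz] at hβ
  cases hp : isPushed n r
  · rw [rootMoves, hp, cond_false, cond_false_eq_true] at hroot
    have hlt : ∀ l ∈ rootW n r, l < 16 := by
      intro l hl
      simp only [rootW, List.mem_append] at hl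
      rcases hl with (hl | hl) | hl
      · exact hnl l hl
      · have := aW_lt r.2 l hl; omega
      · simp only [invW, List.mem_map, List.mem_reverse] at hl
        obtain ⟨m, hm, rfl⟩ := hl
        exact (by decide +kernel : ∀ m < 16, Nat.xor m 1 < 16) m (hnl m hm)
    obtain ⟨v, hv, hev⟩ := exists_word_A (β⁻¹ * aA * β)
    rw [← hev, ΨT_ev _ hv] at hβ
    have hblk : ∀ (w : List Nat), (∀ l ∈ w, l < 14) → ∀ j : Fin 248, 52 ≤ (j : ℕ) →
        ∀ x : Fin 248 → ZMod 3, (∀ i : Fin 248, 52 ≤ (i : ℕ) → x i = 0) →
          Matrix.vecMul x ((repTh (ev LG w)) : Matrix (Fin 248) (Fin 248) (ZMod 3)) j = 0 := by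
      intro w
      induction w with
      | nil => intro _ j hj x hx; simpa using hx j hj
      | cons l w ih =>
        intro hw j hj x hx
        rw [ev_cons, map_mul, Units.val_mul, ← Matrix.vecMul_vecMul]
        refine ih (fun y hy => hw y (by simp [hy])) j hj _ fun i hi => ?_
        rw [Matrix.vecMul, dotProduct]
        refine Finset.sum_eq_zero fun k _ => ?_
        rcases lt_or_ge (k : ℕ) 52 with hk | hk
        · rw [block (hw l (by simp)) k i (Or.inl ⟨hk, hi⟩), mul_zero]
        · rw [hx k hk, zero_mul]
    have hv0 := vrun_rep (rootW n r) hlt (Pi.single (⟨0, by norm_num⟩ : Fin 248) 1)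
    rw [code_single, hβ] at hv0
    have hshift := hroot.2
    rw [show vrun K1 matL (2 ^ (10 * 0)) (rootW n r) = _ from hv0] at hshift
    refine absurd hshift ?_
    rw [Bool.not_eq_true', ← Bool.not_eq_true]
    intro hne
    refine hne ?_
    refine Nat.beq_eq.mpr ?_ |> fun h => h
    rw [code]
    show encW 10 248 _ >>> 520 = 0
    rw [Nat.shiftRight_eq_div_pow]
    refine Nat.div_eq_of_lt ?_
    have hz52 : ∀ j : Fin 248, 52 ≤ (j : ℕ) →
        Matrix.vecMul (Pi.single (⟨0, by norm_num⟩ : Fin 248) 1)
          ((repTh (ev LG v)) : Matrix (Fin 248) (Fin 248) (ZMod 3)) j = 0 := fun j hj =>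
      hblk v hv j hj _ fun i hi => Pi.single_eq_of_ne (fun e => by rw [e] at hi; simp at hi) _
    exact encW_lt_of_top 248 _ (fun j => val_lt_lane _) 52 fun j hj => by rw [hz52 j hj, ZMod.val_zero]
  · obtain ⟨q, hq, hqn, hqr⟩ : ∃ q ∈ tPush, q.1 = n ∧ q.2.1 = r := by
      have key : ∀ L : List (Nat × Nat × List (List Nat) × List Nat),
          List.rec false (fun q _ ih => cond (Nat.beq q.1 n) (cond (Nat.beq q.2.1 r) true ih) ih) L
            = true → ∃ q ∈ L, q.1 = n ∧ q.2.1 = r := by
        intro L
        induction L with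
        | nil => intro h; exact Bool.noConfusion h
        | cons q L ih =>
          intro h
          by_cases hh : q.1 = n ∧ q.2.1 = r
          · exact ⟨q, by simp, hh⟩
          · have : ∀ b, cond (Nat.beq q.1 n) (cond (Nat.beq q.2.1 r) true b) b = b := by
              intro b
              cases e1 : Nat.beq q.1 n
              · rfl
              cases e2 : Nat.beq q.2.1 r
              · rfl
              exact absurd ⟨Nat.eq_of_beq_eq_true e1, Nat.eq_of_beq_eq_true e2⟩ hh
            simp only [this] at h
            obtain ⟨x, hx, hxe⟩ := ih h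
            exact ⟨x, by simp [hx], hxe⟩
      exact key tPush hp
    have hok := allList_iff.mp pushOK_all q hq
    rw [pushOK, hqn, hqr, Bool.and_eq_true, Bool.and_eq_true] at hok
    obtain ⟨⟨hrun, -⟩, hsig⟩ := hok
    obtain ⟨hlt, he⟩ := pushRun_sound _ _ _ (aW_lt r.2) hrun
    rw [List.reverse_reverse] at he
    rw [hz, hβ, ← ΨT_ev _ hlt] at he
    obtain ⟨i, hi⟩ := exists_aPt β
    have h := sig_eq (aW_lt i.2) hlt (by
      rw [show ev LA (aW i) = β⁻¹ * aA * β from hi.symm]
      exact ΨT_injective he)
    have := of_allBelow hsig i i.2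
    rw [h, Nat.beq_refl] at this
    exact Bool.noConfusion this

/-- The sizes of the double cosets, in cosets. -/
def nodeSize : List Nat :=
  [1, 17199, 45864, 1304576, 2201472, 11741184, 105670656, 5031936, 8128512, 8805888, 179712]

/-- The numbers of cosets in each node fixed with the class of the letter. -/
def nodeB : List Nat := [1, 63, 56, 0, 0, 0, 0, 0, 0, 0, 0]

/-- The stabiliser of a node in the model. -/
noncomputable def stT (n : Nat) : Subgroup A :=
  (ΨT.range.comap (MulAut.conj (ev LG (nodeW.getD n []))).toMonoidHom).comap ΨT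

theorem mem_stT {n : Nat} {α : A} :
    α ∈ stT n ↔ ev LG (nodeW.getD n []) * ΨT α * (ev LG (nodeW.getD n []))⁻¹ ∈ ΨT.range := Iff.rfl

theorem card_centralizer_le [Finite Th]
    (hcover : ∀ g : Th, ∃ n < 11, ∃ α, g * (ev LG (nodeW.getD n []) * ΨT α)⁻¹ ∈ ΨT.range)
    (hgen : ∀ n, 1 ≤ n → n ≤ 10 → ∀ g ∈ tGen n, ev LA g ∈ stT n)
    (hidx : ∀ n < 11, (stT n).index = nodeSize.getD n 0) :
    Nat.card (Subgroup.centralizer {zT}) ≤ 92897280 := by
  classical
  let T : Fin 11 → Finset A := fun n =>
    (Finset.univ.image aPt).filter fun y => IsHit ΨT (ev LG (nodeW.getD n [])) y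
  have hcls : ∀ y, y ∈ Finset.univ.image aPt ↔ ∃ γ : A, y = γ⁻¹ * aA * γ := by
    intro y
    simp only [Finset.mem_image, Finset.mem_univ, true_and]
    constructor
    · rintro ⟨i, rfl⟩; exact aPt_conj i
    · rintro ⟨γ, rfl⟩
      obtain ⟨i, hi⟩ := exists_aPt γ
      exact ⟨i, hi.symm⟩
  have hT : ∀ n : Fin 11, (T n).card * 774144 ≤ nodeB.getD n 0 * Nat.card (stT n) := by
    intro n
    have hcard := (stT n).card_mul_index
    rw [hidx n n.2, card_and_injective.1] at hcard
    have hle : (T n).card ≤ if (n : ℕ) = 0 then 819 else (tHit.getD n []).length := by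
      split
      · refine (Finset.card_filter_le _ _).trans (Finset.card_image_le.trans ?_)
        simp
      next hn0 =>
        refine le_trans (Finset.card_le_card (t := ((tHit.getD n []).toFinset.image
          fun i => if h : i < 819 then aPt ⟨i, h⟩ else 1)) ?_)
          (Finset.card_image_le.trans (List.toFinset_card_le _))
        intro y hy
        obtain ⟨hy1, hy2⟩ := Finset.mem_filter.mp hy
        obtain ⟨i, -, rfl⟩ := Finset.mem_image.mp hy1
        have := hit_listed ΨT _ (n := (n : ℕ)) (by omega) (by omega)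
          (hgen n (by omega) (by omega)) (root_not_hit (by omega) (by omega)) i hy2
        exact Finset.mem_image.mpr ⟨i, List.mem_toFinset.mpr this, dif_pos i.2⟩
    obtain ⟨n, hn⟩ := n
    interval_cases n
    all_goals
      simp only [nodeB, nodeSize, tHit, List.getD_cons_zero, List.getD_cons_succ, List.getD_nil,
        List.length_cons, List.length_nil, if_true, if_false, Nat.succ_ne_zero,
        OfNat.ofNat_ne_zero, one_ne_zero] at hle hcard ⊢
      omega
  refine le_trans (CentCount.card_centralizer_le ΨT ΨT_injective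
    (fun n : Fin 11 => ev LG (nodeW.getD n [])) (fun g => ?_) (fun n => stT n)
    (fun n α => mem_stT) aA T ?_ ?_ (fun n : Fin 11 => nodeB.getD n 0)
    (fun n => by rw [card_centralizer_aA.1]; exact hT n)) ?_
  · obtain ⟨n, hn, α, h⟩ := hcover g
    exact ⟨⟨n, hn⟩, α, h⟩
  · intro n s hs y hy
    obtain ⟨hy1, hy2⟩ := Finset.mem_filter.mp hy
    refine Finset.mem_filter.mpr ⟨?_, isHit_conj ΨT _ (mem_stT.mp hs) ?_⟩
    · obtain ⟨γ, rfl⟩ := (hcls _).mp hy1
      exact (hcls _).mpr ⟨γ * s⁻¹, by group⟩
    · rwa [show s⁻¹ * (s * y * s⁻¹) * s = y by group]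
  · intro n γ β h
    refine Finset.mem_filter.mpr ⟨(hcls _).mpr ⟨γ⁻¹, by group⟩, β⁻¹, ?_⟩
    rw [inv_inv]
    exact h
  · rw [card_centralizer_aA.1]
    simp [Fin.sum_univ_succ, nodeB]

end CfsgLib.Coset.Th.Cent
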