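import Cfsg.Agent.Coset.Prim

/-! Certificate data for the normal subgroup of order 512 of the centralizer of the first letter. -/

set_option autoImplicit false
set_option maxRecDepth 100000

namespace CfsgLib.Coset.Th

/-- Nine generators of the subgroup. -/
def qBas : List (List Nat) := [[0], [4], [7, 4, 6], [9, 7, 4, 6, 8], [11, 9, 7, 4, 6, 8, 10], [7, 11, 9, 7, 4, 6, 8, 10, 6], [9, 11, 9, 7, 4, 6, 8, 10, 8], [11, 11, 9, 7, 4, 6, 8, 10, 10], [13, 7, 11, 9, 7, 4, 6, 8, 10, 6, 12]]

/-- Products with the generators, packed. -/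
noncomputable def qTab (i : Nat) : Nat := (Bool.rec (motive := fun _ => Nat) (Bool.rec (motive := fun _ => Nat) (Bool.rec (motive := fun _ => Nat) (Bool.rec (motive := fun _ => Nat) (Bool.rec (motive := fun _ => Nat) (Bool.rec (motive := fun _ => Nat) (Bool.rec (motive := fun _ => Nat) (Bool.rec (motive := fun _ => Nat) (Bool.rec (motive := fun _ => Nat) (1210107565283851686118401) (1214839173188409921635840) (Nat.ble 1 i)) (Bool.rec (motive := fun _ => Nat) (1219570781092968157151235) (1224302388997526392668674) (Nat.ble 3 i)) (Nat.ble 2 i)) (Bool.rec (motive := fun _ => Nat) (Bool.rec (motive := fun _ => Nat) (1229033996902084626091525) (1233765604806642861607940) (Nat.ble 5 i)) (Bool.rec (motive := fun _ => Nat) (1238497212711201097124359) (1243228820615759332640774) (Nat.ble 7 i)) (Nat.ble 6 i)) (Nat.ble 4 i)) (Bool.rec (motive := fun _ => Nat) (Bool.rec (motive := fun _ => Nat) (Bool.rec (motive := fun _ => Nat) (1247960428520315423036937) (1252692036424873658029064) (Nat.ble 9 i))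 (Bool.rec (motive := fun _ => Nat) (1257423644329431894069771) (1262155252233990129061898) (Nat.ble 11 i)) (Nat.ble 10 i)) (Bool.rec (motive := fun _ => Nat) (Bool.rec (motive := fun _ => Nat) (1266886860138548363009037) (1271618468043106598002188) (Nat.ble 13 i)) (Bool.rec (motive := fun _ => Nat) (1276350075947664834041871) (1281081683852223069035022) (Nat.ble 15 i)) (Nat.ble 14 i)) (Nat.ble 12 i)) (Nat.ble 8 i)) (Bool.rec (motive := fun _ => Nat) (Bool.rec (motive := fun _ => Nat) (Bool.rec (motive := fun _ => Nat) (Bool.rec (motive := fun _ => Nat) (1285813291754584565622289) (1290544899659142532178960) (Nat.ble 17 i)) (Bool.rec (motive := fun _ => Nat) (1295276507563701036655123) (1300008115468259003211794) (Nat.ble 19 i)) (Nat.ble 18 i)) (Bool.rec (motive := fun _ => Nat) (Bool.rec (motive := fun _ => Nat) (1304739723372817505594389) (1309471331277375472152084) (Nat.ble 21 i)) (Bool.rec (motive := fun _ => Nat) (1314202939181933976627223) (1318934547086491943184918) (Nat.ble 23 i))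 (Nat.ble 22 i)) (Nat.ble 20 i)) (Bool.rec (motive := fun _ => Nat) (Bool.rec (motive := fun _ => Nat) (Bool.rec (motive := fun _ => Nat) (1323666154991048302015513) (1328397762895606269097496) (Nat.ble 25 i)) (Bool.rec (motive := fun _ => Nat) (1333129370800164773048347) (1337860978704722740130330) (Nat.ble 27 i)) (Nat.ble 26 i)) (Bool.rec (motive := fun _ => Nat) (Bool.rec (motive := fun _ => Nat) (1342592586609281241988637) (1347324194513839209069596) (Nat.ble 29 i)) (Bool.rec (motive := fun _ => Nat) (1352055802418397713021471) (1356787410322955680102430) (Nat.ble 31 i)) (Nat.ble 30 i)) (Nat.ble 28 i)) (Nat.ble 24 i)) (Nat.ble 16 i)) (Bool.rec (motive := fun _ => Nat) (Bool.rec (motive := fun _ => Nat) (Bool.rec (motive := fun _ => Nat) (Bool.rec (motive := fun _ => Nat) (Bool.rec (motive := fun _ => Nat) (1361519015977984262948385) (1366250623882404790551584) (Nat.ble 33 i)) (Bool.rec (motive := fun _ => Nat) (1370982231787100733981219) (1375713839691521261584418) (Nat.ble 35 i)) (Nat.ble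 34 i)) (Bool.rec (motive := fun _ => Nat) (Bool.rec (motive := fun _ => Nat) (1380445447596217202920485) (1385177055500637730524708) (Nat.ble 37 i)) (Bool.rec (motive := fun _ => Nat) (1389908663405333673953319) (1394640271309754201557542) (Nat.ble 39 i)) (Nat.ble 38 i)) (Nat.ble 36 i)) (Bool.rec (motive := fun _ => Nat) (Bool.rec (motive := fun _ => Nat) (Bool.rec (motive := fun _ => Nat) (1399371879214447999341609) (1404103487118868527470120) (Nat.ble 41 i)) (Bool.rec (motive := fun _ => Nat) (1408835095023564470374443) (1413566702927984998502954) (Nat.ble 43 i)) (Nat.ble 42 i)) (Bool.rec (motive := fun _ => Nat) (Bool.rec (motive := fun _ => Nat) (1418298310832680939314733) (1423029918737101467442220) (Nat.ble 45 i)) (Bool.rec (motive := fun _ => Nat) (1427761526641797410347567) (1432493134546217938475054) (Nat.ble 47 i)) (Nat.ble 46 i)) (Nat.ble 44 i)) (Nat.ble 40 i)) (Bool.rec (motive := fun _ => Nat) (Bool.rec (motive := fun _ => Nat) (Bool.rec (motive := fun _ => Nat) (Bool.rec (motive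 := fun _ => Nat) (1437224742448716873491505) (1441956350353137670055472) (Nat.ble 49 i)) (Bool.rec (motive := fun _ => Nat) (1446687958257833344524339) (1451419566162254141088306) (Nat.ble 51 i)) (Nat.ble 50 i)) (Bool.rec (motive := fun _ => Nat) (Bool.rec (motive := fun _ => Nat) (1456151174066949813464629) (1460882781971370610027572) (Nat.ble 53 i)) (Bool.rec (motive := fun _ => Nat) (1465614389876066284497463) (1470345997780487081060406) (Nat.ble 55 i)) (Nat.ble 54 i)) (Nat.ble 52 i)) (Bool.rec (motive := fun _ => Nat) (Bool.rec (motive := fun _ => Nat) (Bool.rec (motive := fun _ => Nat) (1475077605685180610410041) (1479809213589601406448696) (Nat.ble 57 i)) (Bool.rec (motive := fun _ => Nat) (1484540821494297081442875) (1489272429398717877481530) (Nat.ble 59 i)) (Nat.ble 58 i)) (Bool.rec (motive := fun _ => Nat) (Bool.rec (motive := fun _ => Nat) (1494004037303413550382141) (1498735645207834346421820) (Nat.ble 61 i)) (Bool.rec (motive := fun _ => Nat) (1503467253112530021414975) (1508198861016950817454654)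 (Nat.ble 63 i)) (Nat.ble 62 i)) (Nat.ble 60 i)) (Nat.ble 56 i)) (Nat.ble 48 i)) (Nat.ble 32 i)) (Bool.rec (motive := fun _ => Nat) (Bool.rec (motive := fun _ => Nat) (Bool.rec (motive := fun _ => Nat) (Bool.rec (motive := fun _ => Nat) (Bool.rec (motive := fun _ => Nat) (Bool.rec (motive := fun _ => Nat) (1512928165367822771586625) (1517659773201874555012160) (Nat.ble 65 i)) (Bool.rec (motive := fun _ => Nat) (1522391381176939242619459) (1527122989010991026044994) (Nat.ble 67 i)) (Nat.ble 66 i)) (Bool.rec (motive := fun _ => Nat) (Bool.rec (motive := fun _ => Nat) (1531854596986055711558725) (1536586204820107494985284) (Nat.ble 69 i)) (Bool.rec (motive := fun _ => Nat) (1541317812795172182591559) (1546049420629223966018118) (Nat.ble 71 i)) (Nat.ble 70 i)) (Nat.ble 68 i)) (Bool.rec (motive := fun _ => Nat) (Bool.rec (motive := fun _ => Nat) (Bool.rec (motive := fun _ => Nat) (1550781028604286507979849) (1555512636438338291930696) (Nat.ble 73 i)) (Bool.rec (motive := fun _ => Nat) (1560244244413402979012683)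 (1564975852247454762963530) (Nat.ble 75 i)) (Nat.ble 74 i)) (Bool.rec (motive := fun _ => Nat) (Bool.rec (motive := fun _ => Nat) (1569707460222519447952973) (1574439068056571231902796) (Nat.ble 77 i)) (Bool.rec (motive := fun _ => Nat) (1579170676031635918985807) (1583902283865687702935630) (Nat.ble 79 i)) (Nat.ble 78 i)) (Nat.ble 76 i)) (Nat.ble 72 i)) (Bool.rec (motive := fun _ => Nat) (Bool.rec (motive := fun _ => Nat) (Bool.rec (motive := fun _ => Nat) (Bool.rec (motive := fun _ => Nat) (1588633891838555382129745) (1593365499672607434516048) (Nat.ble 81 i)) (Bool.rec (motive := fun _ => Nat) (1598097107647671853162579) (1602828715481723905548882) (Nat.ble 83 i)) (Nat.ble 82 i)) (Bool.rec (motive := fun _ => Nat) (Bool.rec (motive := fun _ => Nat) (1607560323456788322102869) (1612291931290840374488148) (Nat.ble 85 i)) (Bool.rec (motive := fun _ => Nat) (1617023539265904793135703) (1621755147099956845520982) (Nat.ble 87 i)) (Nat.ble 86 i)) (Nat.ble 84 i)) (Bool.rec (motive := fun _ =>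 Nat) (Bool.rec (motive := fun _ => Nat) (Bool.rec (motive := fun _ => Nat) (1626486755075019119048281) (1631218362909071170909272) (Nat.ble 89 i)) (Bool.rec (motive := fun _ => Nat) (1635949970884135590081115) (1640681578718187641942106) (Nat.ble 91 i)) (Nat.ble 90 i)) (Bool.rec (motive := fun _ => Nat) (Bool.rec (motive := fun _ => Nat) (1645413186693252059020381) (1650144794527304110882396) (Nat.ble 93 i)) (Bool.rec (motive := fun _ => Nat) (1654876402502368530053215) (1659608010336420581915230) (Nat.ble 95 i)) (Nat.ble 94 i)) (Nat.ble 92 i)) (Nat.ble 88 i)) (Nat.ble 80 i)) (Bool.rec (motive := fun _ => Nat) (Bool.rec (motive := fun _ => Nat) (Bool.rec (motive := fun _ => Nat) (Bool.rec (motive := fun _ => Nat) (Bool.rec (motive := fun _ => Nat) (1664339616061817640502369) (1669071223896007131842144) (Nat.ble 97 i)) (Bool.rec (motive := fun _ => Nat) (1673802831870934111535203) (1678534439705123602874978) (Nat.ble 99 i)) (Nat.ble 98 i)) (Bool.rec (motive := fun _ => Nat) (Bool.rec (motive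 := fun _ => Nat) (1683266047680050580475493) (1687997655514240071814244) (Nat.ble 101 i)) (Bool.rec (motive := fun _ => Nat) (1692729263489167051508327) (1697460871323356542847078) (Nat.ble 103 i)) (Nat.ble 102 i)) (Nat.ble 100 i)) (Bool.rec (motive := fun _ => Nat) (Bool.rec (motive := fun _ => Nat) (Bool.rec (motive := fun _ => Nat) (1702192479298281377420905) (1706924087132470868235368) (Nat.ble 105 i)) (Bool.rec (motive := fun _ => Nat) (1711655695107397848453739) (1716387302941587339268202) (Nat.ble 107 i)) (Nat.ble 106 i)) (Bool.rec (motive := fun _ => Nat) (Bool.rec (motive := fun _ => Nat) (1721118910916514317393005) (1725850518750703808208492) (Nat.ble 109 i)) (Bool.rec (motive := fun _ => Nat) (1730582126725630788425839) (1735313734559820279241326) (Nat.ble 111 i)) (Nat.ble 110 i)) (Nat.ble 108 i)) (Nat.ble 104 i)) (Bool.rec (motive := fun _ => Nat) (Bool.rec (motive := fun _ => Nat) (Bool.rec (motive := fun _ => Nat) (Bool.rec (motive := fun _ => Nat) (1740045342532550520006257)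 (1744776950366739742385264) (Nat.ble 113 i)) (Bool.rec (motive := fun _ => Nat) (1749508558341666991039091) (1754240166175856213418098) (Nat.ble 115 i)) (Nat.ble 114 i)) (Bool.rec (motive := fun _ => Nat) (Bool.rec (motive := fun _ => Nat) (1758971774150783459978357) (1763703381984972682358388) (Nat.ble 117 i)) (Bool.rec (motive := fun _ => Nat) (1768434989959899931011191) (1773166597794089153391222) (Nat.ble 119 i)) (Nat.ble 118 i)) (Nat.ble 116 i)) (Bool.rec (motive := fun _ => Nat) (Bool.rec (motive := fun _ => Nat) (Bool.rec (motive := fun _ => Nat) (1777898205769014256399481) (1782629813603203479303800) (Nat.ble 121 i)) (Bool.rec (motive := fun _ => Nat) (1787361421578130727432315) (1792093029412319950336634) (Nat.ble 123 i)) (Nat.ble 122 i)) (Bool.rec (motive := fun _ => Nat) (Bool.rec (motive := fun _ => Nat) (1796824637387247196372605) (1801556245221436419275900) (Nat.ble 125 i)) (Bool.rec (motive := fun _ => Nat) (1806287853196363667405439) (1811019461030552890308734) (Nat.ble 127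 i)) (Nat.ble 126 i)) (Nat.ble 124 i)) (Nat.ble 120 i)) (Nat.ble 112 i)) (Nat.ble 96 i)) (Nat.ble 64 i)) (Bool.rec (motive := fun _ => Nat) (Bool.rec (motive := fun _ => Nat) (Bool.rec (motive := fun _ => Nat) (Bool.rec (motive := fun _ => Nat) (Bool.rec (motive := fun _ => Nat) (Bool.rec (motive := fun _ => Nat) (Bool.rec (motive := fun _ => Nat) (1813392211875522745271937) (1818123783680777509733504) (Nat.ble 129 i)) (Bool.rec (motive := fun _ => Nat) (1822855427684639216304771) (1827586999489893980766338) (Nat.ble 131 i)) (Nat.ble 130 i)) (Bool.rec (motive := fun _ => Nat) (Bool.rec (motive := fun _ => Nat) (1832318643493755685244037) (1837050215299010449706628) (Nat.ble 133 i)) (Bool.rec (motive := fun _ => Nat) (1841781859302872156276871) (1846513431108126920739462) (Nat.ble 135 i)) (Nat.ble 134 i)) (Nat.ble 132 i)) (Bool.rec (motive := fun _ => Nat) (Bool.rec (motive := fun _ => Nat) (Bool.rec (motive := fun _ => Nat) (1851245075111986481665161) (1855976646917241246652040) (Nat.ble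 137 i)) (Bool.rec (motive := fun _ => Nat) (1860708290921102952697995) (1865439862726357717684874) (Nat.ble 139 i)) (Nat.ble 138 i)) (Bool.rec (motive := fun _ => Nat) (Bool.rec (motive := fun _ => Nat) (1870171506730219421638285) (1874903078535474186624140) (Nat.ble 141 i)) (Bool.rec (motive := fun _ => Nat) (1879634722539335892671119) (1884366294344590657656974) (Nat.ble 143 i)) (Nat.ble 142 i)) (Nat.ble 140 i)) (Nat.ble 136 i)) (Bool.rec (motive := fun _ => Nat) (Bool.rec (motive := fun _ => Nat) (Bool.rec (motive := fun _ => Nat) (Bool.rec (motive := fun _ => Nat) (1889097938346255355815057) (1893829510151510389237392) (Nat.ble 145 i)) (Bool.rec (motive := fun _ => Nat) (1898561154155371826847891) (1903292725960626860270226) (Nat.ble 147 i)) (Nat.ble 146 i)) (Bool.rec (motive := fun _ => Nat) (Bool.rec (motive := fun _ => Nat) (1908024369964488295788181) (1912755941769743329209492) (Nat.ble 149 i)) (Bool.rec (motive := fun _ => Nat) (1917487585773604766821015) (1922219157578859800242326)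 (Nat.ble 151 i)) (Nat.ble 150 i)) (Nat.ble 148 i)) (Bool.rec (motive := fun _ => Nat) (Bool.rec (motive := fun _ => Nat) (Bool.rec (motive := fun _ => Nat) (1926950801582719092733593) (1931682373387974125630616) (Nat.ble 153 i)) (Bool.rec (motive := fun _ => Nat) (1936414017391835563766427) (1941145589197090596663450) (Nat.ble 155 i)) (Nat.ble 154 i)) (Bool.rec (motive := fun _ => Nat) (Bool.rec (motive := fun _ => Nat) (1945877233200952032705693) (1950608805006207065603740) (Nat.ble 157 i)) (Bool.rec (motive := fun _ => Nat) (1955340449010068503738527) (1960072020815323536636574) (Nat.ble 159 i)) (Nat.ble 158 i)) (Nat.ble 156 i)) (Nat.ble 152 i)) (Nat.ble 144 i)) (Bool.rec (motive := fun _ => Nat) (Bool.rec (motive := fun _ => Nat) (Bool.rec (motive := fun _ => Nat) (Bool.rec (motive := fun _ => Nat) (Bool.rec (motive := fun _ => Nat) (1964803662569517614187681) (1969535234374910086563488) (Nat.ble 161 i)) (Bool.rec (motive := fun _ => Nat) (1974266878378634085220515) (1978998450184026557596322)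 (Nat.ble 163 i)) (Nat.ble 162 i)) (Bool.rec (motive := fun _ => Nat) (Bool.rec (motive := fun _ => Nat) (1983730094187750554160805) (1988461665993143026535588) (Nat.ble 165 i)) (Bool.rec (motive := fun _ => Nat) (1993193309996867025193639) (1997924881802259497568422) (Nat.ble 167 i)) (Nat.ble 166 i)) (Nat.ble 164 i)) (Bool.rec (motive := fun _ => Nat) (Bool.rec (motive := fun _ => Nat) (Bool.rec (motive := fun _ => Nat) (2002656525805981351106217) (2007388097611373822956712) (Nat.ble 169 i)) (Bool.rec (motive := fun _ => Nat) (2012119741615097822139051) (2016851313420490293989546) (Nat.ble 171 i)) (Nat.ble 170 i)) (Bool.rec (motive := fun _ => Nat) (Bool.rec (motive := fun _ => Nat) (2021582957424214291078317) (2026314529229606762929836) (Nat.ble 173 i)) (Bool.rec (motive := fun _ => Nat) (2031046173233330762111151) (2035777745038723233962670) (Nat.ble 175 i)) (Nat.ble 174 i)) (Nat.ble 172 i)) (Nat.ble 168 i)) (Bool.rec (motive := fun _ => Nat) (Bool.rec (motive := fun _ => Nat) (Bool.rec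 (motive := fun _ => Nat) (Bool.rec (motive := fun _ => Nat) (2040509389040250493691569) (2045240960845642697106608) (Nat.ble 177 i)) (Bool.rec (motive := fun _ => Nat) (2049972604849366964724403) (2054704176654759168139442) (Nat.ble 179 i)) (Nat.ble 178 i)) (Bool.rec (motive := fun _ => Nat) (Bool.rec (motive := fun _ => Nat) (2059435820658483433663669) (2064167392463875637079732) (Nat.ble 181 i)) (Bool.rec (motive := fun _ => Nat) (2068899036467599904696503) (2073630608272992108112566) (Nat.ble 183 i)) (Nat.ble 182 i)) (Nat.ble 180 i)) (Bool.rec (motive := fun _ => Nat) (Bool.rec (motive := fun _ => Nat) (Bool.rec (motive := fun _ => Nat) (2078362252276714230084793) (2083093824082106434025144) (Nat.ble 185 i)) (Bool.rec (motive := fun _ => Nat) (2087825468085830701117627) (2092557039891222905057978) (Nat.ble 187 i)) (Nat.ble 186 i)) (Bool.rec (motive := fun _ => Nat) (Bool.rec (motive := fun _ => Nat) (2097288683894947170057917) (2102020255700339373997244) (Nat.ble 189 i)) (Bool.rec (motive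 := fun _ => Nat) (2106751899704063641090751) (2111483471509455845030078) (Nat.ble 191 i)) (Nat.ble 190 i)) (Nat.ble 188 i)) (Nat.ble 184 i)) (Nat.ble 176 i)) (Nat.ble 160 i)) (Bool.rec (motive := fun _ => Nat) (Bool.rec (motive := fun _ => Nat) (Bool.rec (motive := fun _ => Nat) (Bool.rec (motive := fun _ => Nat) (Bool.rec (motive := fun _ => Nat) (Bool.rec (motive := fun _ => Nat) (2116212811888987378648257) (2120944383764748595201728) (Nat.ble 193 i)) (Bool.rec (motive := fun _ => Nat) (2125676027698103849681091) (2130407599573865066234562) (Nat.ble 195 i)) (Nat.ble 194 i)) (Bool.rec (motive := fun _ => Nat) (Bool.rec (motive := fun _ => Nat) (2135139243507220318621381) (2139870815382981535173828) (Nat.ble 197 i)) (Bool.rec (motive := fun _ => Nat) (2144602459316336789654215) (2149334031192098006206662) (Nat.ble 199 i)) (Nat.ble 198 i)) (Nat.ble 196 i)) (Bool.rec (motive := fun _ => Nat) (Bool.rec (motive := fun _ => Nat) (Bool.rec (motive := fun _ => Nat) (2154065675125451115566793) (2158797247001212331594952)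 (Nat.ble 201 i)) (Bool.rec (motive := fun _ => Nat) (2163528890934567586599627) (2168260462810328802627786) (Nat.ble 203 i)) (Nat.ble 202 i)) (Bool.rec (motive := fun _ => Nat) (Bool.rec (motive := fun _ => Nat) (2172992106743684055538893) (2177723678619445271568076) (Nat.ble 205 i)) (Bool.rec (motive := fun _ => Nat) (2182455322552800526571727) (2187186894428561742600910) (Nat.ble 207 i)) (Nat.ble 206 i)) (Nat.ble 204 i)) (Nat.ble 200 i)) (Bool.rec (motive := fun _ => Nat) (Bool.rec (motive := fun _ => Nat) (Bool.rec (motive := fun _ => Nat) (Bool.rec (motive := fun _ => Nat) (2191918538359720258152145) (2196650110235481205744848) (Nat.ble 209 i)) (Bool.rec (motive := fun _ => Nat) (2201381754168836729184979) (2206113326044597676777682) (Nat.ble 211 i)) (Nat.ble 210 i)) (Bool.rec (motive := fun _ => Nat) (Bool.rec (motive := fun _ => Nat) (2210844969977953198124245) (2215576541853714145717972) (Nat.ble 213 i)) (Bool.rec (motive := fun _ => Nat) (2220308185787069669157079) (2225039757662830616750806)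 (Nat.ble 215 i)) (Nat.ble 214 i)) (Nat.ble 212 i)) (Bool.rec (motive := fun _ => Nat) (Bool.rec (motive := fun _ => Nat) (Bool.rec (motive := fun _ => Nat) (2229771401596183994545369) (2234502973471944942663384) (Nat.ble 217 i)) (Bool.rec (motive := fun _ => Nat) (2239234617405300465578203) (2243966189281061413696218) (Nat.ble 219 i)) (Nat.ble 218 i)) (Bool.rec (motive := fun _ => Nat) (Bool.rec (motive := fun _ => Nat) (2248697833214416934518493) (2253429405090177882635484) (Nat.ble 221 i)) (Bool.rec (motive := fun _ => Nat) (2258161049023533405551327) (2262892620899294353668318) (Nat.ble 223 i)) (Nat.ble 222 i)) (Nat.ble 220 i)) (Nat.ble 216 i)) (Nat.ble 208 i)) (Bool.rec (motive := fun _ => Nat) (Bool.rec (motive := fun _ => Nat) (Bool.rec (motive := fun _ => Nat) (Bool.rec (motive := fun _ => Nat) (Bool.rec (motive := fun _ => Nat) (2267624262583119955478241) (2272355834458743464117472) (Nat.ble 225 i)) (Bool.rec (motive := fun _ => Nat) (2277087478392236426511075) (2281819050267859935150306)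 (Nat.ble 227 i)) (Nat.ble 226 i)) (Bool.rec (motive := fun _ => Nat) (Bool.rec (motive := fun _ => Nat) (2286550694201352895450341) (2291282266076976404090596) (Nat.ble 229 i)) (Bool.rec (motive := fun _ => Nat) (2296013910010469366483175) (2300745481886092875123430) (Nat.ble 231 i)) (Nat.ble 230 i)) (Nat.ble 228 i)) (Bool.rec (motive := fun _ => Nat) (Bool.rec (motive := fun _ => Nat) (Bool.rec (motive := fun _ => Nat) (2305477125819583691871465) (2310208697695207201036008) (Nat.ble 233 i)) (Bool.rec (motive := fun _ => Nat) (2314940341628700162904299) (2319671913504323672068842) (Nat.ble 235 i)) (Nat.ble 234 i)) (Bool.rec (motive := fun _ => Nat) (Bool.rec (motive := fun _ => Nat) (2324403557437816631844589) (2329135129313440141008108) (Nat.ble 237 i)) (Bool.rec (motive := fun _ => Nat) (2333866773246933102877423) (2338598345122556612040942) (Nat.ble 239 i)) (Nat.ble 238 i)) (Nat.ble 236 i)) (Nat.ble 232 i)) (Bool.rec (motive := fun _ => Nat) (Bool.rec (motive := fun _ => Nat) (Bool.rec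 (motive := fun _ => Nat) (Bool.rec (motive := fun _ => Nat) (2343329989053852566021361) (2348061560929476343621360) (Nat.ble 241 i)) (Bool.rec (motive := fun _ => Nat) (2352793204862969037054195) (2357524776738592814654194) (Nat.ble 243 i)) (Nat.ble 242 i)) (Bool.rec (motive := fun _ => Nat) (Bool.rec (motive := fun _ => Nat) (2362256420672085505994485) (2366987992547709283593460) (Nat.ble 245 i)) (Bool.rec (motive := fun _ => Nat) (2371719636481201977027319) (2376451208356825754626294) (Nat.ble 247 i)) (Nat.ble 246 i)) (Nat.ble 244 i)) (Bool.rec (motive := fun _ => Nat) (Bool.rec (motive := fun _ => Nat) (Bool.rec (motive := fun _ => Nat) (2381182852290316302939897) (2385914424165940080014584) (Nat.ble 249 i)) (Bool.rec (motive := fun _ => Nat) (2390646068099432773972731) (2395377639975056551047418) (Nat.ble 251 i)) (Nat.ble 250 i)) (Bool.rec (motive := fun _ => Nat) (Bool.rec (motive := fun _ => Nat) (2400109283908549242911997) (2404840855784173019987708) (Nat.ble 253 i)) (Bool.rec (motive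 := fun _ => Nat) (2409572499717665713944831) (2414304071593289491020542) (Nat.ble 255 i)) (Nat.ble 254 i)) (Nat.ble 252 i)) (Nat.ble 248 i)) (Nat.ble 240 i)) (Nat.ble 224 i)) (Nat.ble 192 i)) (Nat.ble 128 i)) (Bool.rec (motive := fun _ => Nat) (Bool.rec (motive := fun _ => Nat) (Bool.rec (motive := fun _ => Nat) (Bool.rec (motive := fun _ => Nat) (Bool.rec (motive := fun _ => Nat) (Bool.rec (motive := fun _ => Nat) (Bool.rec (motive := fun _ => Nat) (Bool.rec (motive := fun _ => Nat) (3556791043190219474689) (8269916104371274384640) (Nat.ble 257 i)) (Bool.rec (motive := fun _ => Nat) (13020006852306690507523) (17733131913487745417474) (Nat.ble 259 i)) (Nat.ble 258 i)) (Bool.rec (motive := fun _ => Nat) (Bool.rec (motive := fun _ => Nat) (22483222661423159446789) (27196347722604214357764) (Nat.ble 261 i)) (Bool.rec (motive := fun _ => Nat) (31946438470539630479623) (36659563531720685390598) (Nat.ble 263 i)) (Nat.ble 262 i)) (Nat.ble 260 i)) (Bool.rec (motive := fun _ => Nat) (Bool.rec (motive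 := fun _ => Nat) (Bool.rec (motive := fun _ => Nat) (41409654279653955867913) (46122779340835011303176) (Nat.ble 265 i)) (Bool.rec (motive := fun _ => Nat) (50872870088770426900747) (55585995149951482336010) (Nat.ble 267 i)) (Nat.ble 266 i)) (Bool.rec (motive := fun _ => Nat) (Bool.rec (motive := fun _ => Nat) (60336085897886895841037) (65049210959067951275276) (Nat.ble 269 i)) (Bool.rec (motive := fun _ => Nat) (69799301707003366873871) (74512426768184422308110) (Nat.ble 271 i)) (Nat.ble 270 i)) (Nat.ble 268 i)) (Nat.ble 264 i)) (Bool.rec (motive := fun _ => Nat) (Bool.rec (motive := fun _ => Nat) (Bool.rec (motive := fun _ => Nat) (Bool.rec (motive := fun _ => Nat) (79262517513922830017809) (83975642575104153888528) (Nat.ble 273 i)) (Bool.rec (motive := fun _ => Nat) (88725733323039301050643) (93438858384220624921362) (Nat.ble 275 i)) (Nat.ble 274 i)) (Bool.rec (motive := fun _ => Nat) (Bool.rec (motive := fun _ => Nat) (98188949132155769990933) (102902074193337093860628) (Nat.ble 277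 i)) (Bool.rec (motive := fun _ => Nat) (107652164941272241023767) (112365290002453564893462) (Nat.ble 279 i)) (Nat.ble 278 i)) (Nat.ble 276 i)) (Bool.rec (motive := fun _ => Nat) (Bool.rec (motive := fun _ => Nat) (Bool.rec (motive := fun _ => Nat) (117115380750386566936345) (121828505811567890281752) (Nat.ble 281 i)) (Bool.rec (motive := fun _ => Nat) (126578596559503037969179) (131291721620684361314586) (Nat.ble 283 i)) (Nat.ble 282 i)) (Bool.rec (motive := fun _ => Nat) (Bool.rec (motive := fun _ => Nat) (136041812368619506908445) (140754937429800830254876) (Nat.ble 285 i)) (Bool.rec (motive := fun _ => Nat) (145505028177735977941279) (150218153238917301287710) (Nat.ble 287 i)) (Nat.ble 286 i)) (Nat.ble 284 i)) (Nat.ble 280 i)) (Nat.ble 272 i)) (Bool.rec (motive := fun _ => Nat) (Bool.rec (motive := fun _ => Nat) (Bool.rec (motive := fun _ => Nat) (Bool.rec (motive := fun _ => Nat) (Bool.rec (motive := fun _ => Nat) (154968241737185088390433) (159681366798503851214624) (Nat.ble 289 i))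 (Bool.rec (motive := fun _ => Nat) (164431457546301559423267) (169144582607620322247458) (Nat.ble 291 i)) (Nat.ble 290 i)) (Bool.rec (motive := fun _ => Nat) (Bool.rec (motive := fun _ => Nat) (173894673355418028363557) (178607798416736791186724) (Nat.ble 293 i)) (Bool.rec (motive := fun _ => Nat) (183357889164534499396391) (188071014225853262219558) (Nat.ble 295 i)) (Nat.ble 294 i)) (Nat.ble 292 i)) (Bool.rec (motive := fun _ => Nat) (Bool.rec (motive := fun _ => Nat) (Bool.rec (motive := fun _ => Nat) (192821104973648825308969) (197534230034967587607848) (Nat.ble 297 i)) (Bool.rec (motive := fun _ => Nat) (202284320782765296341803) (206997445844084058640682) (Nat.ble 299 i)) (Nat.ble 298 i)) (Bool.rec (motive := fun _ => Nat) (Bool.rec (motive := fun _ => Nat) (211747536591881765281069) (216460661653200527580972) (Nat.ble 301 i)) (Bool.rec (motive := fun _ => Nat) (221210752400998236313903) (225923877462316998613806) (Nat.ble 303 i)) (Nat.ble 302 i)) (Nat.ble 300 i)) (Nat.ble 296 i)) (Bool.rec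 (motive := fun _ => Nat) (Bool.rec (motive := fun _ => Nat) (Bool.rec (motive := fun _ => Nat) (Bool.rec (motive := fun _ => Nat) (230673968207917967894321) (235387093269236461757744) (Nat.ble 305 i)) (Bool.rec (motive := fun _ => Nat) (240137184017034438927155) (244850309078352932790578) (Nat.ble 307 i)) (Nat.ble 306 i)) (Bool.rec (motive := fun _ => Nat) (Bool.rec (motive := fun _ => Nat) (249600399826150907866421) (254313524887469401730868) (Nat.ble 309 i)) (Bool.rec (motive := fun _ => Nat) (259063615635267378899255) (263776740696585872763702) (Nat.ble 311 i)) (Nat.ble 310 i)) (Nat.ble 308 i)) (Bool.rec (motive := fun _ => Nat) (Bool.rec (motive := fun _ => Nat) (Bool.rec (motive := fun _ => Nat) (268526831444381704287545) (273239956505700198676280) (Nat.ble 313 i)) (Bool.rec (motive := fun _ => Nat) (277990047253498175320379) (282703172314816669709114) (Nat.ble 315 i)) (Nat.ble 314 i)) (Bool.rec (motive := fun _ => Nat) (Bool.rec (motive := fun _ => Nat) (287453263062614644260669) (292166388123933138648380)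 (Nat.ble 317 i)) (Bool.rec (motive := fun _ => Nat) (296916478871731115293503) (301629603933049609681214) (Nat.ble 319 i)) (Nat.ble 318 i)) (Nat.ble 316 i)) (Nat.ble 312 i)) (Nat.ble 304 i)) (Nat.ble 288 i)) (Bool.rec (motive := fun _ => Nat) (Bool.rec (motive := fun _ => Nat) (Bool.rec (motive := fun _ => Nat) (Bool.rec (motive := fun _ => Nat) (Bool.rec (motive := fun _ => Nat) (Bool.rec (motive := fun _ => Nat) (306377391056654852851009) (311090516188342359852864) (Nat.ble 321 i)) (Bool.rec (motive := fun _ => Nat) (315840606865771323883843) (320553731997458830885698) (Nat.ble 323 i)) (Nat.ble 322 i)) (Bool.rec (motive := fun _ => Nat) (Bool.rec (motive := fun _ => Nat) (325303822674887792824133) (330016947806575299824964) (Nat.ble 325 i)) (Bool.rec (motive := fun _ => Nat) (334767038484004263856967) (339480163615691770857798) (Nat.ble 327 i)) (Nat.ble 326 i)) (Nat.ble 324 i)) (Bool.rec (motive := fun _ => Nat) (Bool.rec (motive := fun _ => Nat) (Bool.rec (motive := fun _ => Nat) (344230254293118589769545)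 (348943379424806096246088) (Nat.ble 329 i)) (Bool.rec (motive := fun _ => Nat) (353693470102235060802379) (358406595233922567278922) (Nat.ble 331 i)) (Nat.ble 330 i)) (Bool.rec (motive := fun _ => Nat) (Bool.rec (motive := fun _ => Nat) (363156685911351529741645) (367869811043039036219212) (Nat.ble 333 i)) (Bool.rec (motive := fun _ => Nat) (372619901720468000774479) (377333026852155507252046) (Nat.ble 335 i)) (Nat.ble 334 i)) (Nat.ble 332 i)) (Nat.ble 328 i)) (Bool.rec (motive := fun _ => Nat) (Bool.rec (motive := fun _ => Nat) (Bool.rec (motive := fun _ => Nat) (Bool.rec (motive := fun _ => Nat) (382083117527387732354897) (386796242659074970395984) (Nat.ble 337 i)) (Bool.rec (motive := fun _ => Nat) (391546333336504203387731) (396259458468191441428818) (Nat.ble 339 i)) (Nat.ble 338 i)) (Bool.rec (motive := fun _ => Nat) (Bool.rec (motive := fun _ => Nat) (401009549145620672326997) (405722674277307910369108) (Nat.ble 341 i)) (Bool.rec (motive := fun _ => Nat) (410472764954737143359831)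 (415185890086424381401942) (Nat.ble 343 i)) (Nat.ble 342 i)) (Nat.ble 340 i)) (Bool.rec (motive := fun _ => Nat) (Bool.rec (motive := fun _ => Nat) (Bool.rec (motive := fun _ => Nat) (419935980763851468748121) (424649105895538707314520) (Nat.ble 345 i)) (Bool.rec (motive := fun _ => Nat) (429399196572967939780955) (434112321704655178347354) (Nat.ble 347 i)) (Nat.ble 346 i)) (Bool.rec (motive := fun _ => Nat) (Bool.rec (motive := fun _ => Nat) (438862412382084408721245) (443575537513771647286620) (Nat.ble 349 i)) (Bool.rec (motive := fun _ => Nat) (448325628191200879754079) (453038753322888118319454) (Nat.ble 351 i)) (Nat.ble 350 i)) (Nat.ble 348 i)) (Nat.ble 344 i)) (Nat.ble 336 i)) (Bool.rec (motive := fun _ => Nat) (Bool.rec (motive := fun _ => Nat) (Bool.rec (motive := fun _ => Nat) (Bool.rec (motive := fun _ => Nat) (Bool.rec (motive := fun _ => Nat) (457788841750787429680993) (462501966882337228768608) (Nat.ble 353 i)) (Bool.rec (motive := fun _ => Nat) (467252057559903900713827) (471965182691453699801442)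 (Nat.ble 355 i)) (Nat.ble 354 i)) (Bool.rec (motive := fun _ => Nat) (Bool.rec (motive := fun _ => Nat) (476715273369020369653093) (481428398500570168741732) (Nat.ble 357 i)) (Bool.rec (motive := fun _ => Nat) (486178489178136840685927) (490891614309686639774566) (Nat.ble 359 i)) (Nat.ble 358 i)) (Nat.ble 356 i)) (Bool.rec (motive := fun _ => Nat) (Bool.rec (motive := fun _ => Nat) (Bool.rec (motive := fun _ => Nat) (495641704987251166074217) (500354830118800965687144) (Nat.ble 361 i)) (Bool.rec (motive := fun _ => Nat) (505104920796367637107051) (509818045927917436719978) (Nat.ble 363 i)) (Nat.ble 362 i)) (Bool.rec (motive := fun _ => Nat) (Bool.rec (motive := fun _ => Nat) (514568136605484106047341) (519281261737033905659244) (Nat.ble 365 i)) (Bool.rec (motive := fun _ => Nat) (524031352414600577080175) (528744477546150376692078) (Nat.ble 367 i)) (Nat.ble 366 i)) (Nat.ble 364 i)) (Nat.ble 360 i)) (Bool.rec (motive := fun _ => Nat) (Bool.rec (motive := fun _ => Nat) (Bool.rec (motive :=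 fun _ => Nat) (Bool.rec (motive := fun _ => Nat) (533494568221520040224113) (538207693353070108272496) (Nat.ble 369 i)) (Bool.rec (motive := fun _ => Nat) (542957784030636511256947) (547670909162186579305330) (Nat.ble 371 i)) (Nat.ble 370 i)) (Bool.rec (motive := fun _ => Nat) (Bool.rec (motive := fun _ => Nat) (552420999839752980197237) (557134124971303048244596) (Nat.ble 373 i)) (Bool.rec (motive := fun _ => Nat) (561884215648869451230071) (566597340780419519277430) (Nat.ble 375 i)) (Nat.ble 374 i)) (Nat.ble 372 i)) (Bool.rec (motive := fun _ => Nat) (Bool.rec (motive := fun _ => Nat) (Bool.rec (motive := fun _ => Nat) (571347431457983777142649) (576060556589533844665720) (Nat.ble 377 i)) (Bool.rec (motive := fun _ => Nat) (580810647267100248175483) (585523772398650315698554) (Nat.ble 379 i)) (Nat.ble 378 i)) (Bool.rec (motive := fun _ => Nat) (Bool.rec (motive := fun _ => Nat) (590273863076216717114749) (594986988207766784638844) (Nat.ble 381 i)) (Bool.rec (motive := fun _ => Nat) (599737078885333188147583)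 (604450204016883255671678) (Nat.ble 383 i)) (Nat.ble 382 i)) (Nat.ble 380 i)) (Nat.ble 376 i)) (Nat.ble 368 i)) (Nat.ble 352 i)) (Nat.ble 320 i)) (Bool.rec (motive := fun _ => Nat) (Bool.rec (motive := fun _ => Nat) (Bool.rec (motive := fun _ => Nat) (Bool.rec (motive := fun _ => Nat) (Bool.rec (motive := fun _ => Nat) (Bool.rec (motive := fun _ => Nat) (Bool.rec (motive := fun _ => Nat) (606841401535557807572353) (611554562696042333538176) (Nat.ble 385 i)) (Bool.rec (motive := fun _ => Nat) (616304617344674278605187) (621017778505158804571010) (Nat.ble 387 i)) (Nat.ble 386 i)) (Bool.rec (motive := fun _ => Nat) (Bool.rec (motive := fun _ => Nat) (625767833153790747545477) (630480994314275273510276) (Nat.ble 389 i)) (Bool.rec (motive := fun _ => Nat) (635231048962907218578311) (639944210123391744543110) (Nat.ble 391 i)) (Nat.ble 390 i)) (Nat.ble 388 i)) (Bool.rec (motive := fun _ => Nat) (Bool.rec (motive := fun _ => Nat) (Bool.rec (motive := fun _ => Nat) (644694264772021544490889) (649407425932506069931400)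 (Nat.ble 393 i)) (Bool.rec (motive := fun _ => Nat) (654157480581138015523723) (658870641741622540964234) (Nat.ble 395 i)) (Nat.ble 394 i)) (Bool.rec (motive := fun _ => Nat) (Bool.rec (motive := fun _ => Nat) (663620696390254484462989) (668333857550739009904524) (Nat.ble 397 i)) (Bool.rec (motive := fun _ => Nat) (673083912199370955495823) (677797073359855480937358) (Nat.ble 399 i)) (Nat.ble 398 i)) (Nat.ble 396 i)) (Nat.ble 392 i)) (Bool.rec (motive := fun _ => Nat) (Bool.rec (motive := fun _ => Nat) (Bool.rec (motive := fun _ => Nat) (Bool.rec (motive := fun _ => Nat) (682547128006290687076241) (687260289166774944081296) (Nat.ble 401 i)) (Bool.rec (motive := fun _ => Nat) (692010343815407158109075) (696723504975891415114130) (Nat.ble 403 i)) (Nat.ble 402 i)) (Bool.rec (motive := fun _ => Nat) (Bool.rec (motive := fun _ => Nat) (701473559624523627048341) (706186720785007884054420) (Nat.ble 405 i)) (Bool.rec (motive := fun _ => Nat) (710936775433640098081175) (715649936594124355087254)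 (Nat.ble 407 i)) (Nat.ble 406 i)) (Nat.ble 404 i)) (Bool.rec (motive := fun _ => Nat) (Bool.rec (motive := fun _ => Nat) (Bool.rec (motive := fun _ => Nat) (720399991242754423469465) (725113152403238680999832) (Nat.ble 409 i)) (Bool.rec (motive := fun _ => Nat) (729863207051870894502299) (734576368212355152032666) (Nat.ble 411 i)) (Nat.ble 410 i)) (Bool.rec (motive := fun _ => Nat) (Bool.rec (motive := fun _ => Nat) (739326422860987363442589) (744039584021471620971932) (Nat.ble 413 i)) (Bool.rec (motive := fun _ => Nat) (748789638670103834475423) (753502799830588092004766) (Nat.ble 415 i)) (Nat.ble 414 i)) (Nat.ble 412 i)) (Nat.ble 408 i)) (Nat.ble 400 i)) (Bool.rec (motive := fun _ => Nat) (Bool.rec (motive := fun _ => Nat) (Bool.rec (motive := fun _ => Nat) (Bool.rec (motive := fun _ => Nat) (Bool.rec (motive := fun _ => Nat) (758252852229690384402337) (762966013390037202453920) (Nat.ble 417 i)) (Bool.rec (motive := fun _ => Nat) (767716068038806855435171) (772429229199153673486754) (Nat.ble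 419 i)) (Nat.ble 418 i)) (Bool.rec (motive := fun _ => Nat) (Bool.rec (motive := fun _ => Nat) (777179283847923324374437) (781892445008270142427044) (Nat.ble 421 i)) (Bool.rec (motive := fun _ => Nat) (786642499657039795407271) (791355660817386613459878) (Nat.ble 423 i)) (Nat.ble 422 i)) (Nat.ble 420 i)) (Bool.rec (motive := fun _ => Nat) (Bool.rec (motive := fun _ => Nat) (Bool.rec (motive := fun _ => Nat) (796105715466154120795561) (800818876626500939372456) (Nat.ble 425 i)) (Bool.rec (motive := fun _ => Nat) (805568931275270591828395) (810282092435617410405290) (Nat.ble 427 i)) (Nat.ble 426 i)) (Bool.rec (motive := fun _ => Nat) (Bool.rec (motive := fun _ => Nat) (815032147084387060768685) (819745308244733879344556) (Nat.ble 429 i)) (Bool.rec (motive := fun _ => Nat) (824495362893503531801519) (829208524053850350377390) (Nat.ble 431 i)) (Nat.ble 430 i)) (Nat.ble 428 i)) (Nat.ble 424 i)) (Bool.rec (motive := fun _ => Nat) (Bool.rec (motive := fun _ => Nat) (Bool.rec (motive := fun _ =>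 Nat) (Bool.rec (motive := fun _ => Nat) (833958578700422994945457) (838671739860770081957808) (Nat.ble 433 i)) (Bool.rec (motive := fun _ => Nat) (843421794509539465978291) (848134955669886552990642) (Nat.ble 435 i)) (Nat.ble 434 i)) (Bool.rec (motive := fun _ => Nat) (Bool.rec (motive := fun _ => Nat) (852885010318655934918581) (857598171479003021929908) (Nat.ble 437 i)) (Bool.rec (motive := fun _ => Nat) (862348226127772405951415) (867061387288119492962742) (Nat.ble 439 i)) (Nat.ble 438 i)) (Nat.ble 436 i)) (Bool.rec (motive := fun _ => Nat) (Bool.rec (motive := fun _ => Nat) (Bool.rec (motive := fun _ => Nat) (871811441936886731863993) (876524603097233818351032) (Nat.ble 441 i)) (Bool.rec (motive := fun _ => Nat) (881274657746003202896827) (885987818906350289383866) (Nat.ble 443 i)) (Nat.ble 442 i)) (Bool.rec (motive := fun _ => Nat) (Bool.rec (motive := fun _ => Nat) (890737873555119671836093) (895451034715466758324156) (Nat.ble 445 i)) (Bool.rec (motive := fun _ => Nat) (900201089364236142868927)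 (904914250524583229356990) (Nat.ble 447 i)) (Nat.ble 446 i)) (Nat.ble 444 i)) (Nat.ble 440 i)) (Nat.ble 432 i)) (Nat.ble 416 i)) (Bool.rec (motive := fun _ => Nat) (Bool.rec (motive := fun _ => Nat) (Bool.rec (motive := fun _ => Nat) (Bool.rec (motive := fun _ => Nat) (Bool.rec (motive := fun _ => Nat) (Bool.rec (motive := fun _ => Nat) (909662001619528893040577) (914375162709506966914496) (Nat.ble 449 i)) (Bool.rec (motive := fun _ => Nat) (919125217428645364073411) (923838378518623437947330) (Nat.ble 451 i)) (Nat.ble 450 i)) (Bool.rec (motive := fun _ => Nat) (Bool.rec (motive := fun _ => Nat) (928588433237761833012677) (933301594327739906887620) (Nat.ble 453 i)) (Bool.rec (motive := fun _ => Nat) (938051649046878304045511) (942764810136856377920454) (Nat.ble 455 i)) (Nat.ble 454 i)) (Nat.ble 452 i)) (Bool.rec (motive := fun _ => Nat) (Bool.rec (motive := fun _ => Nat) (Bool.rec (motive := fun _ => Nat) (947514864855992629433801) (952228025945970703833032) (Nat.ble 457 i)) (Bool.rec (motive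 := fun _ => Nat) (956978080665109100466635) (961691241755087174865866) (Nat.ble 459 i)) (Nat.ble 458 i)) (Bool.rec (motive := fun _ => Nat) (Bool.rec (motive := fun _ => Nat) (966441296474225569406925) (971154457564203643805132) (Nat.ble 461 i)) (Bool.rec (motive := fun _ => Nat) (975904512283342040439759) (980617673373320114837966) (Nat.ble 463 i)) (Nat.ble 462 i)) (Nat.ble 460 i)) (Nat.ble 456 i)) (Bool.rec (motive := fun _ => Nat) (Bool.rec (motive := fun _ => Nat) (Bool.rec (motive := fun _ => Nat) (Bool.rec (motive := fun _ => Nat) (985367728090261503583697) (990080889180239846418384) (Nat.ble 465 i)) (Bool.rec (motive := fun _ => Nat) (994830943899377974616531) (999544104989356317451218) (Nat.ble 467 i)) (Nat.ble 466 i)) (Bool.rec (motive := fun _ => Nat) (Bool.rec (motive := fun _ => Nat) (1004294159708494443556821) (1009007320798472786390484) (Nat.ble 469 i)) (Bool.rec (motive := fun _ => Nat) (1013757375517610914589655) (1018470536607589257423318) (Nat.ble 471 i)) (Nat.ble 470 i))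 (Nat.ble 468 i)) (Bool.rec (motive := fun _ => Nat) (Bool.rec (motive := fun _ => Nat) (Bool.rec (motive := fun _ => Nat) (1023220591326725240502233) (1027933752416703582811608) (Nat.ble 473 i)) (Bool.rec (motive := fun _ => Nat) (1032683807135841711535067) (1037396968225820053844442) (Nat.ble 475 i)) (Nat.ble 474 i)) (Bool.rec (motive := fun _ => Nat) (Bool.rec (motive := fun _ => Nat) (1042147022944958180474333) (1046860184034936522784732) (Nat.ble 477 i)) (Bool.rec (motive := fun _ => Nat) (1051610238754074651507167) (1056323399844052993817566) (Nat.ble 479 i)) (Nat.ble 478 i)) (Nat.ble 476 i)) (Nat.ble 472 i)) (Nat.ble 464 i)) (Bool.rec (motive := fun _ => Nat) (Bool.rec (motive := fun _ => Nat) (Bool.rec (motive := fun _ => Nat) (Bool.rec (motive := fun _ => Nat) (Bool.rec (motive := fun _ => Nat) (1061073452313523761956321) (1065786613403639543744480) (Nat.ble 481 i)) (Bool.rec (motive := fun _ => Nat) (1070536668122640232989155) (1075249829212756014777314) (Nat.ble 483 i)) (Nat.ble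 482 i)) (Bool.rec (motive := fun _ => Nat) (Bool.rec (motive := fun _ => Nat) (1079999883931756701929445) (1084713045021872483716580) (Nat.ble 485 i)) (Bool.rec (motive := fun _ => Nat) (1089463099740873172962279) (1094176260830988954749414) (Nat.ble 487 i)) (Nat.ble 486 i)) (Nat.ble 484 i)) (Bool.rec (motive := fun _ => Nat) (Bool.rec (motive := fun _ => Nat) (Bool.rec (motive := fun _ => Nat) (1098926315549987498874857) (1103639476640103280137704) (Nat.ble 489 i)) (Bool.rec (motive := fun _ => Nat) (1108389531359103969907691) (1113102692449219751170538) (Nat.ble 491 i)) (Nat.ble 490 i)) (Bool.rec (motive := fun _ => Nat) (Bool.rec (motive := fun _ => Nat) (1117852747168220438846957) (1122565908258336220110828) (Nat.ble 493 i)) (Bool.rec (motive := fun _ => Nat) (1127315962977336909879791) (1132029124067452691143662) (Nat.ble 495 i)) (Nat.ble 494 i)) (Nat.ble 492 i)) (Nat.ble 488 i)) (Bool.rec (motive := fun _ => Nat) (Bool.rec (motive := fun _ => Nat) (Bool.rec (motive := fun _ => Nat)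 (Bool.rec (motive := fun _ => Nat) (1136779178784256641460209) (1141492339874372154287600) (Nat.ble 497 i)) (Bool.rec (motive := fun _ => Nat) (1146242394593373112493043) (1150955555683488625320434) (Nat.ble 499 i)) (Nat.ble 498 i)) (Bool.rec (motive := fun _ => Nat) (Bool.rec (motive := fun _ => Nat) (1155705610402489581432309) (1160418771492605094260724) (Nat.ble 501 i)) (Bool.rec (motive := fun _ => Nat) (1165168826211606052465143) (1169881987301721565293558) (Nat.ble 503 i)) (Nat.ble 502 i)) (Nat.ble 500 i)) (Bool.rec (motive := fun _ => Nat) (Bool.rec (motive := fun _ => Nat) (Bool.rec (motive := fun _ => Nat) (1174632042020720377853433) (1179345203110835891206136) (Nat.ble 505 i)) (Bool.rec (motive := fun _ => Nat) (1184095257829836848886267) (1188808418919952362238970) (Nat.ble 507 i)) (Nat.ble 506 i)) (Bool.rec (motive := fun _ => Nat) (Bool.rec (motive := fun _ => Nat) (1193558473638953317826557) (1198271634729068831178236) (Nat.ble 509 i)) (Bool.rec (motive := fun _ => Nat) (1203021689448069788859391)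 (1207734850538185302211070) (Nat.ble 511 i)) (Nat.ble 510 i)) (Nat.ble 508 i)) (Nat.ble 504 i)) (Nat.ble 496 i)) (Nat.ble 480 i)) (Nat.ble 448 i)) (Nat.ble 384 i)) (Nat.ble 256 i))

/-- The elements in increasing order of the images of the base. -/
noncomputable def qOrd (i : Nat) : Nat := (Bool.rec (motive := fun _ => Nat) (Bool.rec (motive := fun _ => Nat) (Bool.rec (motive := fun _ => Nat) (Bool.rec (motive := fun _ => Nat) (Bool.rec (motive := fun _ => Nat) (Bool.rec (motive := fun _ => Nat) (Bool.rec (motive := fun _ => Nat) (Bool.rec (motive := fun _ => Nat) (Bool.rec (motive := fun _ => Nat) (0) (1) (Nat.ble 1 i)) (Bool.rec (motive := fun _ => Nat) (2) (3) (Nat.ble 3 i)) (Nat.ble 2 i)) (Bool.rec (motive := fun _ => Nat) (Bool.rec (motive := fun _ => Nat) (4) (5) (Nat.ble 5 i)) (Bool.rec (motive := fun _ => Nat) (7) (8) (Nat.ble 7 i)) (Nat.ble 6 i)) (Nat.ble 4 i)) (Bool.rec (motive := fun _ => Nat) (Bool.rec (motive := fun _ => Nat) (Bool.rec (motive := fun _ => Nat) (6) (9) (Nat.ble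 9 i)) (Bool.rec (motive := fun _ => Nat) (11) (16) (Nat.ble 11 i)) (Nat.ble 10 i)) (Bool.rec (motive := fun _ => Nat) (Bool.rec (motive := fun _ => Nat) (32) (10) (Nat.ble 13 i)) (Bool.rec (motive := fun _ => Nat) (17) (33) (Nat.ble 15 i)) (Nat.ble 14 i)) (Nat.ble 12 i)) (Nat.ble 8 i)) (Bool.rec (motive := fun _ => Nat) (Bool.rec (motive := fun _ => Nat) (Bool.rec (motive := fun _ => Nat) (Bool.rec (motive := fun _ => Nat) (13) (19) (Nat.ble 17 i)) (Bool.rec (motive := fun _ => Nat) (35) (64) (Nat.ble 19 i)) (Nat.ble 18 i)) (Bool.rec (motive := fun _ => Nat) (Bool.rec (motive := fun _ => Nat) (128) (510) (Nat.ble 21 i)) (Bool.rec (motive := fun _ => Nat) (256) (12) (Nat.ble 23 i)) (Nat.ble 22 i)) (Nat.ble 20 i)) (Bool.rec (motive := fun _ => Nat) (Bool.rec (motive := fun _ => Nat) (Bool.rec (motive := fun _ => Nat) (18) (34) (Nat.ble 25 i)) (Bool.rec (motive := fun _ => Nat) (65) (129) (Nat.ble 27 i)) (Nat.ble 26 i)) (Bool.rec (motive := fun _ => Nat) (Bool.rec (motive := fun _ => Nat) (511)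 (257) (Nat.ble 29 i)) (Bool.rec (motive := fun _ => Nat) (15) (21) (Nat.ble 31 i)) (Nat.ble 30 i)) (Nat.ble 28 i)) (Nat.ble 24 i)) (Nat.ble 16 i)) (Bool.rec (motive := fun _ => Nat) (Bool.rec (motive := fun _ => Nat) (Bool.rec (motive := fun _ => Nat) (Bool.rec (motive := fun _ => Nat) (Bool.rec (motive := fun _ => Nat) (37) (67) (Nat.ble 33 i)) (Bool.rec (motive := fun _ => Nat) (131) (509) (Nat.ble 35 i)) (Nat.ble 34 i)) (Bool.rec (motive := fun _ => Nat) (Bool.rec (motive := fun _ => Nat) (259) (14) (Nat.ble 37 i)) (Bool.rec (motive := fun _ => Nat) (20) (36) (Nat.ble 39 i)) (Nat.ble 38 i)) (Nat.ble 36 i)) (Bool.rec (motive := fun _ => Nat) (Bool.rec (motive := fun _ => Nat) (Bool.rec (motive := fun _ => Nat) (66) (130) (Nat.ble 41 i)) (Bool.rec (motive := fun _ => Nat) (508) (258) (Nat.ble 43 i)) (Nat.ble 42 i)) (Bool.rec (motive := fun _ => Nat) (Bool.rec (motive := fun _ => Nat) (353) (23) (Nat.ble 45 i)) (Bool.rec (motive := fun _ => Nat) (39) (73) (Nat.ble 47 i)) (Nat.ble 46 i))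 (Nat.ble 44 i)) (Nat.ble 40 i)) (Bool.rec (motive := fun _ => Nat) (Bool.rec (motive := fun _ => Nat) (Bool.rec (motive := fun _ => Nat) (Bool.rec (motive := fun _ => Nat) (133) (506) (Nat.ble 49 i)) (Bool.rec (motive := fun _ => Nat) (137) (261) (Nat.ble 51 i)) (Nat.ble 50 i)) (Bool.rec (motive := fun _ => Nat) (Bool.rec (motive := fun _ => Nat) (69) (367) (Nat.ble 53 i)) (Bool.rec (motive := fun _ => Nat) (22) (38) (Nat.ble 55 i)) (Nat.ble 54 i)) (Nat.ble 52 i)) (Bool.rec (motive := fun _ => Nat) (Bool.rec (motive := fun _ => Nat) (Bool.rec (motive := fun _ => Nat) (72) (132) (Nat.ble 57 i)) (Bool.rec (motive := fun _ => Nat) (507) (136) (Nat.ble 59 i)) (Nat.ble 58 i)) (Bool.rec (motive := fun _ => Nat) (Bool.rec (motive := fun _ => Nat) (260) (68) (Nat.ble 61 i)) (Bool.rec (motive := fun _ => Nat) (354) (352) (Nat.ble 63 i)) (Nat.ble 62 i)) (Nat.ble 60 i)) (Nat.ble 56 i)) (Nat.ble 48 i)) (Nat.ble 32 i)) (Bool.rec (motive := fun _ => Nat) (Bool.rec (motive := fun _ => Nat) (Bool.rec (motive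 := fun _ => Nat) (Bool.rec (motive := fun _ => Nat) (Bool.rec (motive := fun _ => Nat) (Bool.rec (motive := fun _ => Nat) (470) (127) (Nat.ble 65 i)) (Bool.rec (motive := fun _ => Nat) (75) (135) (Nat.ble 67 i)) (Nat.ble 66 i)) (Bool.rec (motive := fun _ => Nat) (Bool.rec (motive := fun _ => Nat) (504) (139) (Nat.ble 69 i)) (Bool.rec (motive := fun _ => Nat) (263) (71) (Nat.ble 71 i)) (Nat.ble 70 i)) (Nat.ble 68 i)) (Bool.rec (motive := fun _ => Nat) (Bool.rec (motive := fun _ => Nat) (Bool.rec (motive := fun _ => Nat) (503) (494) (Nat.ble 73 i)) (Bool.rec (motive := fun _ => Nat) (161) (41) (Nat.ble 75 i)) (Nat.ble 74 i)) (Bool.rec (motive := fun _ => Nat) (Bool.rec (motive := fun _ => Nat) (265) (81) (Nat.ble 77 i)) (Bool.rec (motive := fun _ => Nat) (48) (25) (Nat.ble 79 i)) (Nat.ble 78 i)) (Nat.ble 76 i)) (Nat.ble 72 i)) (Bool.rec (motive := fun _ => Nat) (Bool.rec (motive := fun _ => Nat) (Bool.rec (motive := fun _ => Nat) (Bool.rec (motive := fun _ => Nat) (364) (366) (Nat.ble 81 i))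 (Bool.rec (motive := fun _ => Nat) (449) (88) (Nat.ble 83 i)) (Nat.ble 82 i)) (Bool.rec (motive := fun _ => Nat) (Bool.rec (motive := fun _ => Nat) (74) (134) (Nat.ble 85 i)) (Bool.rec (motive := fun _ => Nat) (505) (138) (Nat.ble 87 i)) (Nat.ble 86 i)) (Nat.ble 84 i)) (Bool.rec (motive := fun _ => Nat) (Bool.rec (motive := fun _ => Nat) (Bool.rec (motive := fun _ => Nat) (262) (70) (Nat.ble 89 i)) (Bool.rec (motive := fun _ => Nat) (502) (495) (Nat.ble 91 i)) (Nat.ble 90 i)) (Bool.rec (motive := fun _ => Nat) (Bool.rec (motive := fun _ => Nat) (160) (40) (Nat.ble 93 i)) (Bool.rec (motive := fun _ => Nat) (264) (80) (Nat.ble 95 i)) (Nat.ble 94 i)) (Nat.ble 92 i)) (Nat.ble 88 i)) (Nat.ble 80 i)) (Bool.rec (motive := fun _ => Nat) (Bool.rec (motive := fun _ => Nat) (Bool.rec (motive := fun _ => Nat) (Bool.rec (motive := fun _ => Nat) (Bool.rec (motive := fun _ => Nat) (49) (24) (Nat.ble 97 i)) (Bool.rec (motive := fun _ => Nat) (358) (355) (Nat.ble 99 i)) (Nat.ble 98 i)) (Bool.rec (motive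 := fun _ => Nat) (Bool.rec (motive := fun _ => Nat) (363) (469) (Nat.ble 101 i)) (Bool.rec (motive := fun _ => Nat) (124) (471) (Nat.ble 103 i)) (Nat.ble 102 i)) (Nat.ble 100 i)) (Bool.rec (motive := fun _ => Nat) (Bool.rec (motive := fun _ => Nat) (Bool.rec (motive := fun _ => Nat) (126) (388) (Nat.ble 105 i)) (Bool.rec (motive := fun _ => Nat) (281) (200) (Nat.ble 107 i)) (Nat.ble 106 i)) (Bool.rec (motive := fun _ => Nat) (Bool.rec (motive := fun _ => Nat) (222) (431) (Nat.ble 109 i)) (Bool.rec (motive := fun _ => Nat) (176) (498) (Nat.ble 111 i)) (Nat.ble 110 i)) (Nat.ble 108 i)) (Nat.ble 104 i)) (Bool.rec (motive := fun _ => Nat) (Bool.rec (motive := fun _ => Nat) (Bool.rec (motive := fun _ => Nat) (Bool.rec (motive := fun _ => Nat) (492) (163) (Nat.ble 113 i)) (Bool.rec (motive := fun _ => Nat) (43) (267) (Nat.ble 115 i)) (Nat.ble 114 i)) (Bool.rec (motive := fun _ => Nat) (Bool.rec (motive := fun _ => Nat) (269) (83) (Nat.ble 117 i)) (Bool.rec (motive := fun _ => Nat) (50) (501) (Nat.ble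 119 i)) (Nat.ble 118 i)) (Nat.ble 116 i)) (Bool.rec (motive := fun _ => Nat) (Bool.rec (motive := fun _ => Nat) (Bool.rec (motive := fun _ => Nat) (27) (273) (Nat.ble 121 i)) (Bool.rec (motive := fun _ => Nat) (97) (321) (Nat.ble 123 i)) (Nat.ble 122 i)) (Bool.rec (motive := fun _ => Nat) (Bool.rec (motive := fun _ => Nat) (385) (144) (Nat.ble 125 i)) (Bool.rec (motive := fun _ => Nat) (382) (272) (Nat.ble 127 i)) (Nat.ble 126 i)) (Nat.ble 124 i)) (Nat.ble 120 i)) (Nat.ble 112 i)) (Nat.ble 96 i)) (Nat.ble 64 i)) (Bool.rec (motive := fun _ => Nat) (Bool.rec (motive := fun _ => Nat) (Bool.rec (motive := fun _ => Nat) (Bool.rec (motive := fun _ => Nat) (Bool.rec (motive := fun _ => Nat) (Bool.rec (motive := fun _ => Nat) (Bool.rec (motive := fun _ => Nat) (254) (289) (Nat.ble 129 i)) (Bool.rec (motive := fun _ => Nat) (479) (383) (Nat.ble 131 i)) (Nat.ble 130 i)) (Bool.rec (motive := fun _ => Nat) (Bool.rec (motive := fun _ => Nat) (255) (192) (Nat.ble 133 i)) (Bool.rec (motive := fun _ =>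 Nat) (384) (446) (Nat.ble 135 i)) (Nat.ble 134 i)) (Nat.ble 132 i)) (Bool.rec (motive := fun _ => Nat) (Bool.rec (motive := fun _ => Nat) (Bool.rec (motive := fun _ => Nat) (145) (356) (Nat.ble 137 i)) (Bool.rec (motive := fun _ => Nat) (365) (450) (Nat.ble 139 i)) (Nat.ble 138 i)) (Bool.rec (motive := fun _ => Nat) (Bool.rec (motive := fun _ => Nat) (91) (448) (Nat.ble 141 i)) (Bool.rec (motive := fun _ => Nat) (89) (462) (Nat.ble 143 i)) (Nat.ble 142 i)) (Nat.ble 140 i)) (Nat.ble 136 i)) (Bool.rec (motive := fun _ => Nat) (Bool.rec (motive := fun _ => Nat) (Bool.rec (motive := fun _ => Nat) (Bool.rec (motive := fun _ => Nat) (415) (305) (Nat.ble 145 i)) (Bool.rec (motive := fun _ => Nat) (85) (169) (Nat.ble 147 i)) (Nat.ble 146 i)) (Bool.rec (motive := fun _ => Nat) (Bool.rec (motive := fun _ => Nat) (246) (499) (Nat.ble 149 i)) (Bool.rec (motive := fun _ => Nat) (493) (162) (Nat.ble 151 i)) (Nat.ble 150 i)) (Nat.ble 148 i)) (Bool.rec (motive := fun _ => Nat) (Bool.rec (motive := fun _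 => Nat) (Bool.rec (motive := fun _ => Nat) (42) (266) (Nat.ble 153 i)) (Bool.rec (motive := fun _ => Nat) (268) (82) (Nat.ble 155 i)) (Nat.ble 154 i)) (Bool.rec (motive := fun _ => Nat) (Bool.rec (motive := fun _ => Nat) (51) (500) (Nat.ble 157 i)) (Bool.rec (motive := fun _ => Nat) (26) (96) (Nat.ble 159 i)) (Nat.ble 158 i)) (Nat.ble 156 i)) (Nat.ble 152 i)) (Nat.ble 144 i)) (Bool.rec (motive := fun _ => Nat) (Bool.rec (motive := fun _ => Nat) (Bool.rec (motive := fun _ => Nat) (Bool.rec (motive := fun _ => Nat) (Bool.rec (motive := fun _ => Nat) (320) (288) (Nat.ble 161 i)) (Bool.rec (motive := fun _ => Nat) (478) (193) (Nat.ble 163 i)) (Nat.ble 162 i)) (Bool.rec (motive := fun _ => Nat) (Bool.rec (motive := fun _ => Nat) (447) (359) (Nat.ble 165 i)) (Bool.rec (motive := fun _ => Nat) (360) (464) (Nat.ble 167 i)) (Nat.ble 166 i)) (Nat.ble 164 i)) (Bool.rec (motive := fun _ => Nat) (Bool.rec (motive := fun _ => Nat) (Bool.rec (motive := fun _ => Nat) (121) (362) (Nat.ble 169 i)) (Bool.rec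 (motive := fun _ => Nat) (468) (125) (Nat.ble 171 i)) (Nat.ble 170 i)) (Bool.rec (motive := fun _ => Nat) (Bool.rec (motive := fun _ => Nat) (361) (452) (Nat.ble 173 i)) (Bool.rec (motive := fun _ => Nat) (93) (391) (Nat.ble 175 i)) (Nat.ble 174 i)) (Nat.ble 172 i)) (Nat.ble 168 i)) (Bool.rec (motive := fun _ => Nat) (Bool.rec (motive := fun _ => Nat) (Bool.rec (motive := fun _ => Nat) (Bool.rec (motive := fun _ => Nat) (282) (203) (Nat.ble 177 i)) (Bool.rec (motive := fun _ => Nat) (221) (428) (Nat.ble 179 i)) (Nat.ble 178 i)) (Bool.rec (motive := fun _ => Nat) (Bool.rec (motive := fun _ => Nat) (179) (389) (Nat.ble 181 i)) (Bool.rec (motive := fun _ => Nat) (280) (201) (Nat.ble 183 i)) (Nat.ble 182 i)) (Nat.ble 180 i)) (Bool.rec (motive := fun _ => Nat) (Bool.rec (motive := fun _ => Nat) (Bool.rec (motive := fun _ => Nat) (223) (430) (Nat.ble 185 i)) (Bool.rec (motive := fun _ => Nat) (177) (387) (Nat.ble 187 i)) (Nat.ble 186 i)) (Bool.rec (motive := fun _ => Nat) (Bool.rec (motive :=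 fun _ => Nat) (101) (490) (Nat.ble 189 i)) (Bool.rec (motive := fun _ => Nat) (443) (52) (Nat.ble 191 i)) (Nat.ble 190 i)) (Nat.ble 188 i)) (Nat.ble 184 i)) (Nat.ble 176 i)) (Nat.ble 160 i)) (Bool.rec (motive := fun _ => Nat) (Bool.rec (motive := fun _ => Nat) (Bool.rec (motive := fun _ => Nat) (Bool.rec (motive := fun _ => Nat) (Bool.rec (motive := fun _ => Nat) (Bool.rec (motive := fun _ => Nat) (208) (297) (Nat.ble 193 i)) (Bool.rec (motive := fun _ => Nat) (191) (336) (Nat.ble 195 i)) (Nat.ble 194 i)) (Bool.rec (motive := fun _ => Nat) (Bool.rec (motive := fun _ => Nat) (224) (497) (Nat.ble 197 i)) (Bool.rec (motive := fun _ => Nat) (277) (29) (Nat.ble 199 i)) (Nat.ble 198 i)) (Nat.ble 196 i)) (Bool.rec (motive := fun _ => Nat) (Bool.rec (motive := fun _ => Nat) (Bool.rec (motive := fun _ => Nat) (141) (323) (Nat.ble 201 i)) (Bool.rec (motive := fun _ => Nat) (146) (380) (Nat.ble 203 i)) (Nat.ble 202 i)) (Bool.rec (motive := fun _ => Nat) (Bool.rec (motive := fun _ => Nat) (274) (252)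 (Nat.ble 205 i)) (Bool.rec (motive := fun _ => Nat) (291) (477) (Nat.ble 207 i)) (Nat.ble 206 i)) (Nat.ble 204 i)) (Nat.ble 200 i)) (Bool.rec (motive := fun _ => Nat) (Bool.rec (motive := fun _ => Nat) (Bool.rec (motive := fun _ => Nat) (Bool.rec (motive := fun _ => Nat) (270) (53) (Nat.ble 209 i)) (Bool.rec (motive := fun _ => Nat) (474) (77) (Nat.ble 211 i)) (Nat.ble 210 i)) (Bool.rec (motive := fun _ => Nat) (Bool.rec (motive := fun _ => Nat) (45) (381) (Nat.ble 213 i)) (Bool.rec (motive := fun _ => Nat) (253) (194) (Nat.ble 215 i)) (Nat.ble 214 i)) (Nat.ble 212 i)) (Bool.rec (motive := fun _ => Nat) (Bool.rec (motive := fun _ => Nat) (Bool.rec (motive := fun _ => Nat) (386) (444) (Nat.ble 217 i)) (Bool.rec (motive := fun _ => Nat) (275) (99) (Nat.ble 219 i)) (Nat.ble 218 i)) (Bool.rec (motive := fun _ => Nat) (Bool.rec (motive := fun _ => Nat) (147) (357) (Nat.ble 221 i)) (Bool.rec (motive := fun _ => Nat) (466) (123) (Nat.ble 223 i)) (Nat.ble 222 i)) (Nat.ble 220 i)) (Nat.ble 216 i))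 (Nat.ble 208 i)) (Bool.rec (motive := fun _ => Nat) (Bool.rec (motive := fun _ => Nat) (Bool.rec (motive := fun _ => Nat) (Bool.rec (motive := fun _ => Nat) (Bool.rec (motive := fun _ => Nat) (451) (90) (Nat.ble 225 i)) (Bool.rec (motive := fun _ => Nat) (461) (412) (Nat.ble 227 i)) (Nat.ble 226 i)) (Bool.rec (motive := fun _ => Nat) (Bool.rec (motive := fun _ => Nat) (306) (86) (Nat.ble 229 i)) (Bool.rec (motive := fun _ => Nat) (170) (245) (Nat.ble 231 i)) (Nat.ble 230 i)) (Nat.ble 228 i)) (Bool.rec (motive := fun _ => Nat) (Bool.rec (motive := fun _ => Nat) (Bool.rec (motive := fun _ => Nat) (463) (414) (Nat.ble 233 i)) (Bool.rec (motive := fun _ => Nat) (304) (84) (Nat.ble 235 i)) (Nat.ble 234 i)) (Bool.rec (motive := fun _ => Nat) (Bool.rec (motive := fun _ => Nat) (168) (247) (Nat.ble 237 i)) (Bool.rec (motive := fun _ => Nat) (112) (392) (Nat.ble 239 i)) (Nat.ble 238 i)) (Nat.ble 236 i)) (Nat.ble 232 i)) (Bool.rec (motive := fun _ => Nat) (Bool.rec (motive := fun _ => Nat) (Bool.rec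 (motive := fun _ => Nat) (Bool.rec (motive := fun _ => Nat) (328) (401) (Nat.ble 241 i)) (Bool.rec (motive := fun _ => Nat) (318) (378) (Nat.ble 243 i)) (Nat.ble 242 i)) (Bool.rec (motive := fun _ => Nat) (Bool.rec (motive := fun _ => Nat) (164) (250) (Nat.ble 245 i)) (Bool.rec (motive := fun _ => Nat) (496) (276) (Nat.ble 247 i)) (Nat.ble 246 i)) (Nat.ble 244 i)) (Bool.rec (motive := fun _ => Nat) (Bool.rec (motive := fun _ => Nat) (Bool.rec (motive := fun _ => Nat) (100) (28) (Nat.ble 249 i)) (Bool.rec (motive := fun _ => Nat) (140) (322) (Nat.ble 251 i)) (Nat.ble 250 i)) (Bool.rec (motive := fun _ => Nat) (Bool.rec (motive := fun _ => Nat) (290) (476) (Nat.ble 253 i)) (Bool.rec (motive := fun _ => Nat) (271) (475) (Nat.ble 255 i)) (Nat.ble 254 i)) (Nat.ble 252 i)) (Nat.ble 248 i)) (Nat.ble 240 i)) (Nat.ble 224 i)) (Nat.ble 192 i)) (Nat.ble 128 i)) (Bool.rec (motive := fun _ => Nat) (Bool.rec (motive := fun _ => Nat) (Bool.rec (motive := fun _ => Nat) (Bool.rec (motive := fun _ => Nat)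 (Bool.rec (motive := fun _ => Nat) (Bool.rec (motive := fun _ => Nat) (Bool.rec (motive := fun _ => Nat) (Bool.rec (motive := fun _ => Nat) (76) (44) (Nat.ble 257 i)) (Bool.rec (motive := fun _ => Nat) (195) (445) (Nat.ble 259 i)) (Nat.ble 258 i)) (Bool.rec (motive := fun _ => Nat) (Bool.rec (motive := fun _ => Nat) (98) (465) (Nat.ble 261 i)) (Bool.rec (motive := fun _ => Nat) (120) (455) (Nat.ble 263 i)) (Nat.ble 262 i)) (Nat.ble 260 i)) (Bool.rec (motive := fun _ => Nat) (Bool.rec (motive := fun _ => Nat) (Bool.rec (motive := fun _ => Nat) (94) (398) (Nat.ble 265 i)) (Bool.rec (motive := fun _ => Nat) (286) (207) (Nat.ble 267 i)) (Nat.ble 266 i)) (Bool.rec (motive := fun _ => Nat) (Bool.rec (motive := fun _ => Nat) (213) (425) (Nat.ble 269 i)) (Bool.rec (motive := fun _ => Nat) (183) (453) (Nat.ble 271 i)) (Nat.ble 270 i)) (Nat.ble 268 i)) (Nat.ble 264 i)) (Bool.rec (motive := fun _ => Nat) (Bool.rec (motive := fun _ => Nat) (Bool.rec (motive := fun _ => Nat) (Bool.rec (motive := fun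 _ => Nat) (92) (390) (Nat.ble 273 i)) (Bool.rec (motive := fun _ => Nat) (283) (202) (Nat.ble 275 i)) (Nat.ble 274 i)) (Bool.rec (motive := fun _ => Nat) (Bool.rec (motive := fun _ => Nat) (220) (429) (Nat.ble 277 i)) (Bool.rec (motive := fun _ => Nat) (178) (454) (Nat.ble 279 i)) (Nat.ble 278 i)) (Nat.ble 276 i)) (Bool.rec (motive := fun _ => Nat) (Bool.rec (motive := fun _ => Nat) (Bool.rec (motive := fun _ => Nat) (95) (411) (Nat.ble 281 i)) (Bool.rec (motive := fun _ => Nat) (308) (172) (Nat.ble 283 i)) (Nat.ble 282 i)) (Bool.rec (motive := fun _ => Nat) (Bool.rec (motive := fun _ => Nat) (242) (102) (Nat.ble 285 i)) (Bool.rec (motive := fun _ => Nat) (489) (440) (Nat.ble 287 i)) (Nat.ble 286 i)) (Nat.ble 284 i)) (Nat.ble 280 i)) (Nat.ble 272 i)) (Bool.rec (motive := fun _ => Nat) (Bool.rec (motive := fun _ => Nat) (Bool.rec (motive := fun _ => Nat) (Bool.rec (motive := fun _ => Nat) (Bool.rec (motive := fun _ => Nat) (55) (298) (Nat.ble 289 i)) (Bool.rec (motive := fun _ => Nat) (188)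 (339) (Nat.ble 291 i)) (Nat.ble 290 i)) (Bool.rec (motive := fun _ => Nat) (Bool.rec (motive := fun _ => Nat) (227) (491) (Nat.ble 293 i)) (Bool.rec (motive := fun _ => Nat) (442) (209) (Nat.ble 295 i)) (Nat.ble 294 i)) (Nat.ble 292 i)) (Bool.rec (motive := fun _ => Nat) (Bool.rec (motive := fun _ => Nat) (Bool.rec (motive := fun _ => Nat) (296) (190) (Nat.ble 297 i)) (Bool.rec (motive := fun _ => Nat) (337) (225) (Nat.ble 299 i)) (Nat.ble 298 i)) (Bool.rec (motive := fun _ => Nat) (Bool.rec (motive := fun _ => Nat) (152) (292) (Nat.ble 301 i)) (Bool.rec (motive := fun _ => Nat) (325) (149) (Nat.ble 303 i)) (Nat.ble 302 i)) (Nat.ble 300 i)) (Nat.ble 296 i)) (Bool.rec (motive := fun _ => Nat) (Bool.rec (motive := fun _ => Nat) (Bool.rec (motive := fun _ => Nat) (Bool.rec (motive := fun _ => Nat) (196) (211) (Nat.ble 305 i)) (Bool.rec (motive := fun _ => Nat) (319) (153) (Nat.ble 307 i)) (Nat.ble 306 i)) (Bool.rec (motive := fun _ => Nat) (Bool.rec (motive := fun _ => Nat) (351) (239) (Nat.ble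 309 i)) (Bool.rec (motive := fun _ => Nat) (56) (104) (Nat.ble 311 i)) (Nat.ble 310 i)) (Nat.ble 308 i)) (Bool.rec (motive := fun _ => Nat) (Bool.rec (motive := fun _ => Nat) (Bool.rec (motive := fun _ => Nat) (238) (113) (Nat.ble 313 i)) (Bool.rec (motive := fun _ => Nat) (417) (350) (Nat.ble 315 i)) (Nat.ble 314 i)) (Bool.rec (motive := fun _ => Nat) (Bool.rec (motive := fun _ => Nat) (374) (438) (Nat.ble 317 i)) (Bool.rec (motive := fun _ => Nat) (79) (278) (Nat.ble 319 i)) (Nat.ble 318 i)) (Nat.ble 316 i)) (Nat.ble 312 i)) (Nat.ble 304 i)) (Nat.ble 288 i)) (Bool.rec (motive := fun _ => Nat) (Bool.rec (motive := fun _ => Nat) (Bool.rec (motive := fun _ => Nat) (Bool.rec (motive := fun _ => Nat) (Bool.rec (motive := fun _ => Nat) (Bool.rec (motive := fun _ => Nat) (30) (142) (Nat.ble 321 i)) (Bool.rec (motive := fun _ => Nat) (379) (302) (Nat.ble 323 i)) (Nat.ble 322 i)) (Bool.rec (motive := fun _ => Nat) (Bool.rec (motive := fun _ => Nat) (143) (54) (Nat.ble 325 i)) (Bool.rec (motive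 := fun _ => Nat) (473) (78) (Nat.ble 327 i)) (Nat.ble 326 i)) (Nat.ble 324 i)) (Bool.rec (motive := fun _ => Nat) (Bool.rec (motive := fun _ => Nat) (Bool.rec (motive := fun _ => Nat) (46) (393) (Nat.ble 329 i)) (Bool.rec (motive := fun _ => Nat) (324) (197) (Nat.ble 331 i)) (Nat.ble 330 i)) (Bool.rec (motive := fun _ => Nat) (Bool.rec (motive := fun _ => Nat) (165) (293) (Nat.ble 333 i)) (Bool.rec (motive := fun _ => Nat) (251) (467) (Nat.ble 335 i)) (Nat.ble 334 i)) (Nat.ble 332 i)) (Nat.ble 328 i)) (Bool.rec (motive := fun _ => Nat) (Bool.rec (motive := fun _ => Nat) (Bool.rec (motive := fun _ => Nat) (Bool.rec (motive := fun _ => Nat) (122) (396) (Nat.ble 337 i)) (Bool.rec (motive := fun _ => Nat) (284) (205) (Nat.ble 339 i)) (Nat.ble 338 i)) (Bool.rec (motive := fun _ => Nat) (Bool.rec (motive := fun _ => Nat) (215) (427) (Nat.ble 341 i)) (Bool.rec (motive := fun _ => Nat) (181) (460) (Nat.ble 343 i)) (Nat.ble 342 i)) (Nat.ble 340 i)) (Bool.rec (motive := fun _ => Nat) (Bool.rec (motive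 := fun _ => Nat) (Bool.rec (motive := fun _ => Nat) (413) (307) (Nat.ble 345 i)) (Bool.rec (motive := fun _ => Nat) (87) (171) (Nat.ble 347 i)) (Nat.ble 346 i)) (Bool.rec (motive := fun _ => Nat) (Bool.rec (motive := fun _ => Nat) (244) (117) (Nat.ble 349 i)) (Bool.rec (motive := fun _ => Nat) (395) (331) (Nat.ble 351 i)) (Nat.ble 350 i)) (Nat.ble 348 i)) (Nat.ble 344 i)) (Nat.ble 336 i)) (Bool.rec (motive := fun _ => Nat) (Bool.rec (motive := fun _ => Nat) (Bool.rec (motive := fun _ => Nat) (Bool.rec (motive := fun _ => Nat) (Bool.rec (motive := fun _ => Nat) (402) (317) (Nat.ble 353 i)) (Bool.rec (motive := fun _ => Nat) (472) (377) (Nat.ble 355 i)) (Nat.ble 354 i)) (Bool.rec (motive := fun _ => Nat) (Bool.rec (motive := fun _ => Nat) (167) (249) (Nat.ble 357 i)) (Bool.rec (motive := fun _ => Nat) (329) (400) (Nat.ble 359 i)) (Nat.ble 358 i)) (Nat.ble 356 i)) (Bool.rec (motive := fun _ => Nat) (Bool.rec (motive := fun _ => Nat) (Bool.rec (motive := fun _ => Nat) (115) (375) (Nat.ble 361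 i)) (Bool.rec (motive := fun _ => Nat) (416) (486) (Nat.ble 363 i)) (Nat.ble 362 i)) (Bool.rec (motive := fun _ => Nat) (Bool.rec (motive := fun _ => Nat) (368) (279) (Nat.ble 365 i)) (Bool.rec (motive := fun _ => Nat) (103) (31) (Nat.ble 367 i)) (Nat.ble 366 i)) (Nat.ble 364 i)) (Nat.ble 360 i)) (Bool.rec (motive := fun _ => Nat) (Bool.rec (motive := fun _ => Nat) (Bool.rec (motive := fun _ => Nat) (Bool.rec (motive := fun _ => Nat) (439) (148) (Nat.ble 369 i)) (Bool.rec (motive := fun _ => Nat) (47) (399) (Nat.ble 371 i)) (Nat.ble 370 i)) (Bool.rec (motive := fun _ => Nat) (Bool.rec (motive := fun _ => Nat) (287) (206) (Nat.ble 373 i)) (Bool.rec (motive := fun _ => Nat) (212) (424) (Nat.ble 375 i)) (Nat.ble 374 i)) (Nat.ble 372 i)) (Bool.rec (motive := fun _ => Nat) (Bool.rec (motive := fun _ => Nat) (Bool.rec (motive := fun _ => Nat) (182) (408) (Nat.ble 377 i)) (Bool.rec (motive := fun _ => Nat) (311) (175) (Nat.ble 379 i)) (Nat.ble 378 i)) (Bool.rec (motive := fun _ => Nat) (Bool.rec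 (motive := fun _ => Nat) (241) (119) (Nat.ble 381 i)) (Bool.rec (motive := fun _ => Nat) (457) (433) (Nat.ble 383 i)) (Nat.ble 382 i)) (Nat.ble 380 i)) (Nat.ble 376 i)) (Nat.ble 368 i)) (Nat.ble 352 i)) (Nat.ble 320 i)) (Bool.rec (motive := fun _ => Nat) (Bool.rec (motive := fun _ => Nat) (Bool.rec (motive := fun _ => Nat) (Bool.rec (motive := fun _ => Nat) (Bool.rec (motive := fun _ => Nat) (Bool.rec (motive := fun _ => Nat) (Bool.rec (motive := fun _ => Nat) (62) (315) (Nat.ble 385 i)) (Bool.rec (motive := fun _ => Nat) (156) (347) (Nat.ble 387 i)) (Nat.ble 386 i)) (Bool.rec (motive := fun _ => Nat) (Bool.rec (motive := fun _ => Nat) (235) (410) (Nat.ble 389 i)) (Bool.rec (motive := fun _ => Nat) (309) (173) (Nat.ble 391 i)) (Nat.ble 390 i)) (Nat.ble 388 i)) (Bool.rec (motive := fun _ => Nat) (Bool.rec (motive := fun _ => Nat) (Bool.rec (motive := fun _ => Nat) (243) (488) (Nat.ble 393 i)) (Bool.rec (motive := fun _ => Nat) (441) (299) (Nat.ble 395 i)) (Nat.ble 394 i)) (Bool.rec (motive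 := fun _ => Nat) (Bool.rec (motive := fun _ => Nat) (189) (338) (Nat.ble 397 i)) (Bool.rec (motive := fun _ => Nat) (226) (409) (Nat.ble 399 i)) (Nat.ble 398 i)) (Nat.ble 396 i)) (Nat.ble 392 i)) (Bool.rec (motive := fun _ => Nat) (Bool.rec (motive := fun _ => Nat) (Bool.rec (motive := fun _ => Nat) (Bool.rec (motive := fun _ => Nat) (310) (174) (Nat.ble 401 i)) (Bool.rec (motive := fun _ => Nat) (240) (155) (Nat.ble 403 i)) (Nat.ble 402 i)) (Bool.rec (motive := fun _ => Nat) (Bool.rec (motive := fun _ => Nat) (295) (326) (Nat.ble 405 i)) (Bool.rec (motive := fun _ => Nat) (150) (199) (Nat.ble 407 i)) (Nat.ble 406 i)) (Nat.ble 404 i)) (Bool.rec (motive := fun _ => Nat) (Bool.rec (motive := fun _ => Nat) (Bool.rec (motive := fun _ => Nat) (59) (107) (Nat.ble 409 i)) (Bool.rec (motive := fun _ => Nat) (237) (114) (Nat.ble 411 i)) (Nat.ble 410 i)) (Bool.rec (motive := fun _ => Nat) (Bool.rec (motive := fun _ => Nat) (418) (349) (Nat.ble 413 i)) (Bool.rec (motive := fun _ => Nat) (373) (437)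 (Nat.ble 415 i)) (Nat.ble 414 i)) (Nat.ble 412 i)) (Nat.ble 408 i)) (Nat.ble 400 i)) (Bool.rec (motive := fun _ => Nat) (Bool.rec (motive := fun _ => Nat) (Bool.rec (motive := fun _ => Nat) (Bool.rec (motive := fun _ => Nat) (Bool.rec (motive := fun _ => Nat) (210) (57) (Nat.ble 417 i)) (Bool.rec (motive := fun _ => Nat) (105) (300) (Nat.ble 419 i)) (Nat.ble 418 i)) (Bool.rec (motive := fun _ => Nat) (Bool.rec (motive := fun _ => Nat) (218) (316) (Nat.ble 421 i)) (Bool.rec (motive := fun _ => Nat) (154) (348) (Nat.ble 423 i)) (Nat.ble 422 i)) (Nat.ble 420 i)) (Bool.rec (motive := fun _ => Nat) (Bool.rec (motive := fun _ => Nat) (Bool.rec (motive := fun _ => Nat) (236) (487) (Nat.ble 425 i)) (Bool.rec (motive := fun _ => Nat) (376) (303) (Nat.ble 427 i)) (Nat.ble 426 i)) (Bool.rec (motive := fun _ => Nat) (Bool.rec (motive := fun _ => Nat) (159) (63) (Nat.ble 429 i)) (Bool.rec (motive := fun _ => Nat) (216) (335) (Nat.ble 431 i)) (Nat.ble 430 i)) (Nat.ble 428 i)) (Nat.ble 424 i)) (Bool.rec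 (motive := fun _ => Nat) (Bool.rec (motive := fun _ => Nat) (Bool.rec (motive := fun _ => Nat) (Bool.rec (motive := fun _ => Nat) (111) (394) (Nat.ble 433 i)) (Bool.rec (motive := fun _ => Nat) (327) (198) (Nat.ble 435 i)) (Nat.ble 434 i)) (Bool.rec (motive := fun _ => Nat) (Bool.rec (motive := fun _ => Nat) (166) (294) (Nat.ble 437 i)) (Bool.rec (motive := fun _ => Nat) (248) (397) (Nat.ble 439 i)) (Nat.ble 438 i)) (Nat.ble 436 i)) (Bool.rec (motive := fun _ => Nat) (Bool.rec (motive := fun _ => Nat) (Bool.rec (motive := fun _ => Nat) (285) (204) (Nat.ble 441 i)) (Bool.rec (motive := fun _ => Nat) (214) (426) (Nat.ble 443 i)) (Nat.ble 442 i)) (Bool.rec (motive := fun _ => Nat) (Bool.rec (motive := fun _ => Nat) (180) (459) (Nat.ble 445 i)) (Bool.rec (motive := fun _ => Nat) (435) (60) (Nat.ble 447 i)) (Nat.ble 446 i)) (Nat.ble 444 i)) (Nat.ble 440 i)) (Nat.ble 432 i)) (Nat.ble 416 i)) (Bool.rec (motive := fun _ => Nat) (Bool.rec (motive := fun _ => Nat) (Bool.rec (motive := fun _ => Nat)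 (Bool.rec (motive := fun _ => Nat) (Bool.rec (motive := fun _ => Nat) (Bool.rec (motive := fun _ => Nat) (217) (313) (Nat.ble 449 i)) (Bool.rec (motive := fun _ => Nat) (158) (345) (Nat.ble 451 i)) (Nat.ble 450 i)) (Bool.rec (motive := fun _ => Nat) (Bool.rec (motive := fun _ => Nat) (233) (116) (Nat.ble 453 i)) (Bool.rec (motive := fun _ => Nat) (330) (403) (Nat.ble 455 i)) (Nat.ble 454 i)) (Nat.ble 452 i)) (Bool.rec (motive := fun _ => Nat) (Bool.rec (motive := fun _ => Nat) (Bool.rec (motive := fun _ => Nat) (371) (421) (Nat.ble 457 i)) (Bool.rec (motive := fun _ => Nat) (186) (485) (Nat.ble 459 i)) (Nat.ble 458 i)) (Bool.rec (motive := fun _ => Nat) (Bool.rec (motive := fun _ => Nat) (370) (458) (Nat.ble 461 i)) (Bool.rec (motive := fun _ => Nat) (372) (419) (Nat.ble 463 i)) (Nat.ble 462 i)) (Nat.ble 460 i)) (Nat.ble 456 i)) (Bool.rec (motive := fun _ => Nat) (Bool.rec (motive := fun _ => Nat) (Bool.rec (motive := fun _ => Nat) (Bool.rec (motive := fun _ => Nat) (369) (343) (Nat.ble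 465 i)) (Bool.rec (motive := fun _ => Nat) (118) (480) (Nat.ble 467 i)) (Nat.ble 466 i)) (Bool.rec (motive := fun _ => Nat) (Bool.rec (motive := fun _ => Nat) (436) (151) (Nat.ble 469 i)) (Bool.rec (motive := fun _ => Nat) (456) (432) (Nat.ble 471 i)) (Nat.ble 470 i)) (Nat.ble 468 i)) (Bool.rec (motive := fun _ => Nat) (Bool.rec (motive := fun _ => Nat) (Bool.rec (motive := fun _ => Nat) (314) (157) (Nat.ble 473 i)) (Bool.rec (motive := fun _ => Nat) (346) (234) (Nat.ble 475 i)) (Nat.ble 474 i)) (Bool.rec (motive := fun _ => Nat) (Bool.rec (motive := fun _ => Nat) (219) (423) (Nat.ble 477 i)) (Bool.rec (motive := fun _ => Nat) (184) (334) (Nat.ble 479 i)) (Nat.ble 478 i)) (Nat.ble 476 i)) (Nat.ble 472 i)) (Nat.ble 464 i)) (Bool.rec (motive := fun _ => Nat) (Bool.rec (motive := fun _ => Nat) (Bool.rec (motive := fun _ => Nat) (Bool.rec (motive := fun _ => Nat) (Bool.rec (motive := fun _ => Nat) (407) (230) (Nat.ble 481 i)) (Bool.rec (motive := fun _ => Nat) (405) (108) (Nat.ble 483 i)) (Nat.ble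 482 i)) (Bool.rec (motive := fun _ => Nat) (Bool.rec (motive := fun _ => Nat) (483) (332) (Nat.ble 485 i)) (Bool.rec (motive := fun _ => Nat) (340) (58) (Nat.ble 487 i)) (Nat.ble 486 i)) (Nat.ble 484 i)) (Bool.rec (motive := fun _ => Nat) (Bool.rec (motive := fun _ => Nat) (Bool.rec (motive := fun _ => Nat) (106) (301) (Nat.ble 489 i)) (Bool.rec (motive := fun _ => Nat) (228) (61) (Nat.ble 491 i)) (Nat.ble 490 i)) (Bool.rec (motive := fun _ => Nat) (Bool.rec (motive := fun _ => Nat) (333) (109) (Nat.ble 493 i)) (Bool.rec (motive := fun _ => Nat) (187) (341) (Nat.ble 495 i)) (Nat.ble 494 i)) (Nat.ble 492 i)) (Nat.ble 488 i)) (Bool.rec (motive := fun _ => Nat) (Bool.rec (motive := fun _ => Nat) (Bool.rec (motive := fun _ => Nat) (Bool.rec (motive := fun _ => Nat) (229) (484) (Nat.ble 497 i)) (Bool.rec (motive := fun _ => Nat) (312) (110) (Nat.ble 499 i)) (Nat.ble 498 i)) (Bool.rec (motive := fun _ => Nat) (Bool.rec (motive := fun _ => Nat) (185) (231) (Nat.ble 501 i)) (Bool.rec (motive :=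 fun _ => Nat) (344) (422) (Nat.ble 503 i)) (Nat.ble 502 i)) (Nat.ble 500 i)) (Bool.rec (motive := fun _ => Nat) (Bool.rec (motive := fun _ => Nat) (Bool.rec (motive := fun _ => Nat) (232) (434) (Nat.ble 505 i)) (Bool.rec (motive := fun _ => Nat) (342) (481) (Nat.ble 507 i)) (Nat.ble 506 i)) (Bool.rec (motive := fun _ => Nat) (Bool.rec (motive := fun _ => Nat) (420) (482) (Nat.ble 509 i)) (Bool.rec (motive := fun _ => Nat) (404) (406) (Nat.ble 511 i)) (Nat.ble 510 i)) (Nat.ble 508 i)) (Nat.ble 504 i)) (Nat.ble 496 i)) (Nat.ble 480 i)) (Nat.ble 448 i)) (Nat.ble 384 i)) (Nat.ble 256 i))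

/-- A generator not commuting with the element. -/
noncomputable def qNc (i : Nat) : Nat := (Bool.rec (motive := fun _ => Nat) (Bool.rec (motive := fun _ => Nat) (Bool.rec (motive := fun _ => Nat) (Bool.rec (motive := fun _ => Nat) (Bool.rec (motive := fun _ => Nat) (Bool.rec (motive := fun _ => Nat) (Bool.rec (motive := fun _ => Nat) (Bool.rec (motive := fun _ => Nat) (Bool.rec (motive := fun _ => Nat) (15) (15) (Nat.ble 1 i)) (Bool.rec (motive := fun _ => Nat) (2) (2) (Nat.ble 3 i)) (Nat.ble 2 i)) (Bool.rec (motive := fun _ => Nat) (Bool.rec (motive := fun _ => Nat) (1) (1) (Nat.ble 5 i)) (Bool.rec (motive := fun _ => Nat) (1) (1) (Nat.ble 7 i)) (Nat.ble 6 i)) (Nat.ble 4 i)) (Bool.rec (motive := fun _ => Nat) (Bool.rec (motive := fun _ => Nat) (Bool.rec (motive := fun _ => Nat) (1) (1) (Nat.ble 9 i)) (Bool.rec (motive := fun _ => Nat) (1) (1) (Nat.ble 11 i)) (Nat.ble 10 i)) (Bool.rec (motive := fun _ => Nat) (Bool.rec (motive := fun _ => Nat) (2) (2) (Nat.ble 13 i)) (Bool.rec (motive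 := fun _ => Nat) (4) (4) (Nat.ble 15 i)) (Nat.ble 14 i)) (Nat.ble 12 i)) (Nat.ble 8 i)) (Bool.rec (motive := fun _ => Nat) (Bool.rec (motive := fun _ => Nat) (Bool.rec (motive := fun _ => Nat) (Bool.rec (motive := fun _ => Nat) (1) (1) (Nat.ble 17 i)) (Bool.rec (motive := fun _ => Nat) (1) (1) (Nat.ble 19 i)) (Nat.ble 18 i)) (Bool.rec (motive := fun _ => Nat) (Bool.rec (motive := fun _ => Nat) (2) (2) (Nat.ble 21 i)) (Bool.rec (motive := fun _ => Nat) (3) (3) (Nat.ble 23 i)) (Nat.ble 22 i)) (Nat.ble 20 i)) (Bool.rec (motive := fun _ => Nat) (Bool.rec (motive := fun _ => Nat) (Bool.rec (motive := fun _ => Nat) (3) (3) (Nat.ble 25 i)) (Bool.rec (motive := fun _ => Nat) (2) (2) (Nat.ble 27 i)) (Nat.ble 26 i)) (Bool.rec (motive := fun _ => Nat) (Bool.rec (motive := fun _ => Nat) (1) (1) (Nat.ble 29 i)) (Bool.rec (motive := fun _ => Nat) (1) (1) (Nat.ble 31 i)) (Nat.ble 30 i)) (Nat.ble 28 i)) (Nat.ble 24 i)) (Nat.ble 16 i)) (Bool.rec (motive := fun _ => Nat) (Bool.rec (motive := fun _ => Nat)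 (Bool.rec (motive := fun _ => Nat) (Bool.rec (motive := fun _ => Nat) (Bool.rec (motive := fun _ => Nat) (1) (1) (Nat.ble 33 i)) (Bool.rec (motive := fun _ => Nat) (1) (1) (Nat.ble 35 i)) (Nat.ble 34 i)) (Bool.rec (motive := fun _ => Nat) (Bool.rec (motive := fun _ => Nat) (2) (2) (Nat.ble 37 i)) (Bool.rec (motive := fun _ => Nat) (3) (3) (Nat.ble 39 i)) (Nat.ble 38 i)) (Nat.ble 36 i)) (Bool.rec (motive := fun _ => Nat) (Bool.rec (motive := fun _ => Nat) (Bool.rec (motive := fun _ => Nat) (3) (3) (Nat.ble 41 i)) (Bool.rec (motive := fun _ => Nat) (2) (2) (Nat.ble 43 i)) (Nat.ble 42 i)) (Bool.rec (motive := fun _ => Nat) (Bool.rec (motive := fun _ => Nat) (1) (1) (Nat.ble 45 i)) (Bool.rec (motive := fun _ => Nat) (1) (1) (Nat.ble 47 i)) (Nat.ble 46 i)) (Nat.ble 44 i)) (Nat.ble 40 i)) (Bool.rec (motive := fun _ => Nat) (Bool.rec (motive := fun _ => Nat) (Bool.rec (motive := fun _ => Nat) (Bool.rec (motive := fun _ => Nat) (4) (4) (Nat.ble 49 i)) (Bool.rec (motive := fun _ => Nat) (2) (2) (Nat.ble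 51 i)) (Nat.ble 50 i)) (Bool.rec (motive := fun _ => Nat) (Bool.rec (motive := fun _ => Nat) (1) (1) (Nat.ble 53 i)) (Bool.rec (motive := fun _ => Nat) (1) (1) (Nat.ble 55 i)) (Nat.ble 54 i)) (Nat.ble 52 i)) (Bool.rec (motive := fun _ => Nat) (Bool.rec (motive := fun _ => Nat) (Bool.rec (motive := fun _ => Nat) (1) (1) (Nat.ble 57 i)) (Bool.rec (motive := fun _ => Nat) (1) (1) (Nat.ble 59 i)) (Nat.ble 58 i)) (Bool.rec (motive := fun _ => Nat) (Bool.rec (motive := fun _ => Nat) (2) (2) (Nat.ble 61 i)) (Bool.rec (motive := fun _ => Nat) (6) (6) (Nat.ble 63 i)) (Nat.ble 62 i)) (Nat.ble 60 i)) (Nat.ble 56 i)) (Nat.ble 48 i)) (Nat.ble 32 i)) (Bool.rec (motive := fun _ => Nat) (Bool.rec (motive := fun _ => Nat) (Bool.rec (motive := fun _ => Nat) (Bool.rec (motive := fun _ => Nat) (Bool.rec (motive := fun _ => Nat) (Bool.rec (motive := fun _ => Nat) (1) (1) (Nat.ble 65 i)) (Bool.rec (motive := fun _ => Nat) (1) (1) (Nat.ble 67 i)) (Nat.ble 66 i)) (Bool.rec (motive := fun _ => Nat) (Bool.rec (motive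 := fun _ => Nat) (2) (2) (Nat.ble 69 i)) (Bool.rec (motive := fun _ => Nat) (3) (3) (Nat.ble 71 i)) (Nat.ble 70 i)) (Nat.ble 68 i)) (Bool.rec (motive := fun _ => Nat) (Bool.rec (motive := fun _ => Nat) (Bool.rec (motive := fun _ => Nat) (3) (3) (Nat.ble 73 i)) (Bool.rec (motive := fun _ => Nat) (2) (2) (Nat.ble 75 i)) (Nat.ble 74 i)) (Bool.rec (motive := fun _ => Nat) (Bool.rec (motive := fun _ => Nat) (1) (1) (Nat.ble 77 i)) (Bool.rec (motive := fun _ => Nat) (1) (1) (Nat.ble 79 i)) (Nat.ble 78 i)) (Nat.ble 76 i)) (Nat.ble 72 i)) (Bool.rec (motive := fun _ => Nat) (Bool.rec (motive := fun _ => Nat) (Bool.rec (motive := fun _ => Nat) (Bool.rec (motive := fun _ => Nat) (4) (4) (Nat.ble 81 i)) (Bool.rec (motive := fun _ => Nat) (2) (2) (Nat.ble 83 i)) (Nat.ble 82 i)) (Bool.rec (motive := fun _ => Nat) (Bool.rec (motive := fun _ => Nat) (1) (1) (Nat.ble 85 i)) (Bool.rec (motive := fun _ => Nat) (1) (1) (Nat.ble 87 i)) (Nat.ble 86 i)) (Nat.ble 84 i)) (Bool.rec (motive := fun _ => Nat) (Bool.rec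 (motive := fun _ => Nat) (Bool.rec (motive := fun _ => Nat) (1) (1) (Nat.ble 89 i)) (Bool.rec (motive := fun _ => Nat) (1) (1) (Nat.ble 91 i)) (Nat.ble 90 i)) (Bool.rec (motive := fun _ => Nat) (Bool.rec (motive := fun _ => Nat) (2) (2) (Nat.ble 93 i)) (Bool.rec (motive := fun _ => Nat) (5) (5) (Nat.ble 95 i)) (Nat.ble 94 i)) (Nat.ble 92 i)) (Nat.ble 88 i)) (Nat.ble 80 i)) (Bool.rec (motive := fun _ => Nat) (Bool.rec (motive := fun _ => Nat) (Bool.rec (motive := fun _ => Nat) (Bool.rec (motive := fun _ => Nat) (Bool.rec (motive := fun _ => Nat) (5) (5) (Nat.ble 97 i)) (Bool.rec (motive := fun _ => Nat) (2) (2) (Nat.ble 99 i)) (Nat.ble 98 i)) (Bool.rec (motive := fun _ => Nat) (Bool.rec (motive := fun _ => Nat) (1) (1) (Nat.ble 101 i)) (Bool.rec (motive := fun _ => Nat) (1) (1) (Nat.ble 103 i)) (Nat.ble 102 i)) (Nat.ble 100 i)) (Bool.rec (motive := fun _ => Nat) (Bool.rec (motive := fun _ => Nat) (Bool.rec (motive := fun _ => Nat) (1) (1) (Nat.ble 105 i)) (Bool.rec (motive := fun _ => Nat)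 (1) (1) (Nat.ble 107 i)) (Nat.ble 106 i)) (Bool.rec (motive := fun _ => Nat) (Bool.rec (motive := fun _ => Nat) (2) (2) (Nat.ble 109 i)) (Bool.rec (motive := fun _ => Nat) (4) (4) (Nat.ble 111 i)) (Nat.ble 110 i)) (Nat.ble 108 i)) (Nat.ble 104 i)) (Bool.rec (motive := fun _ => Nat) (Bool.rec (motive := fun _ => Nat) (Bool.rec (motive := fun _ => Nat) (Bool.rec (motive := fun _ => Nat) (1) (1) (Nat.ble 113 i)) (Bool.rec (motive := fun _ => Nat) (1) (1) (Nat.ble 115 i)) (Nat.ble 114 i)) (Bool.rec (motive := fun _ => Nat) (Bool.rec (motive := fun _ => Nat) (2) (2) (Nat.ble 117 i)) (Bool.rec (motive := fun _ => Nat) (3) (3) (Nat.ble 119 i)) (Nat.ble 118 i)) (Nat.ble 116 i)) (Bool.rec (motive := fun _ => Nat) (Bool.rec (motive := fun _ => Nat) (Bool.rec (motive := fun _ => Nat) (3) (3) (Nat.ble 121 i)) (Bool.rec (motive := fun _ => Nat) (2) (2) (Nat.ble 123 i)) (Nat.ble 122 i)) (Bool.rec (motive := fun _ => Nat) (Bool.rec (motive := fun _ => Nat) (1) (1) (Nat.ble 125 i)) (Bool.rec (motive :=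 fun _ => Nat) (1) (1) (Nat.ble 127 i)) (Nat.ble 126 i)) (Nat.ble 124 i)) (Nat.ble 120 i)) (Nat.ble 112 i)) (Nat.ble 96 i)) (Nat.ble 64 i)) (Bool.rec (motive := fun _ => Nat) (Bool.rec (motive := fun _ => Nat) (Bool.rec (motive := fun _ => Nat) (Bool.rec (motive := fun _ => Nat) (Bool.rec (motive := fun _ => Nat) (Bool.rec (motive := fun _ => Nat) (Bool.rec (motive := fun _ => Nat) (1) (1) (Nat.ble 129 i)) (Bool.rec (motive := fun _ => Nat) (1) (1) (Nat.ble 131 i)) (Nat.ble 130 i)) (Bool.rec (motive := fun _ => Nat) (Bool.rec (motive := fun _ => Nat) (2) (2) (Nat.ble 133 i)) (Bool.rec (motive := fun _ => Nat) (3) (3) (Nat.ble 135 i)) (Nat.ble 134 i)) (Nat.ble 132 i)) (Bool.rec (motive := fun _ => Nat) (Bool.rec (motive := fun _ => Nat) (Bool.rec (motive := fun _ => Nat) (3) (3) (Nat.ble 137 i)) (Bool.rec (motive := fun _ => Nat) (2) (2) (Nat.ble 139 i)) (Nat.ble 138 i)) (Bool.rec (motive := fun _ => Nat) (Bool.rec (motive := fun _ => Nat) (1) (1) (Nat.ble 141 i)) (Bool.rec (motive := fun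 _ => Nat) (1) (1) (Nat.ble 143 i)) (Nat.ble 142 i)) (Nat.ble 140 i)) (Nat.ble 136 i)) (Bool.rec (motive := fun _ => Nat) (Bool.rec (motive := fun _ => Nat) (Bool.rec (motive := fun _ => Nat) (Bool.rec (motive := fun _ => Nat) (4) (4) (Nat.ble 145 i)) (Bool.rec (motive := fun _ => Nat) (2) (2) (Nat.ble 147 i)) (Nat.ble 146 i)) (Bool.rec (motive := fun _ => Nat) (Bool.rec (motive := fun _ => Nat) (1) (1) (Nat.ble 149 i)) (Bool.rec (motive := fun _ => Nat) (1) (1) (Nat.ble 151 i)) (Nat.ble 150 i)) (Nat.ble 148 i)) (Bool.rec (motive := fun _ => Nat) (Bool.rec (motive := fun _ => Nat) (Bool.rec (motive := fun _ => Nat) (1) (1) (Nat.ble 153 i)) (Bool.rec (motive := fun _ => Nat) (1) (1) (Nat.ble 155 i)) (Nat.ble 154 i)) (Bool.rec (motive := fun _ => Nat) (Bool.rec (motive := fun _ => Nat) (2) (2) (Nat.ble 157 i)) (Bool.rec (motive := fun _ => Nat) (5) (5) (Nat.ble 159 i)) (Nat.ble 158 i)) (Nat.ble 156 i)) (Nat.ble 152 i)) (Nat.ble 144 i)) (Bool.rec (motive := fun _ => Nat) (Bool.rec (motive :=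 fun _ => Nat) (Bool.rec (motive := fun _ => Nat) (Bool.rec (motive := fun _ => Nat) (Bool.rec (motive := fun _ => Nat) (5) (5) (Nat.ble 161 i)) (Bool.rec (motive := fun _ => Nat) (2) (2) (Nat.ble 163 i)) (Nat.ble 162 i)) (Bool.rec (motive := fun _ => Nat) (Bool.rec (motive := fun _ => Nat) (1) (1) (Nat.ble 165 i)) (Bool.rec (motive := fun _ => Nat) (1) (1) (Nat.ble 167 i)) (Nat.ble 166 i)) (Nat.ble 164 i)) (Bool.rec (motive := fun _ => Nat) (Bool.rec (motive := fun _ => Nat) (Bool.rec (motive := fun _ => Nat) (1) (1) (Nat.ble 169 i)) (Bool.rec (motive := fun _ => Nat) (1) (1) (Nat.ble 171 i)) (Nat.ble 170 i)) (Bool.rec (motive := fun _ => Nat) (Bool.rec (motive := fun _ => Nat) (2) (2) (Nat.ble 173 i)) (Bool.rec (motive := fun _ => Nat) (4) (4) (Nat.ble 175 i)) (Nat.ble 174 i)) (Nat.ble 172 i)) (Nat.ble 168 i)) (Bool.rec (motive := fun _ => Nat) (Bool.rec (motive := fun _ => Nat) (Bool.rec (motive := fun _ => Nat) (Bool.rec (motive := fun _ => Nat) (1) (1) (Nat.ble 177 i)) (Bool.rec (motive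 := fun _ => Nat) (1) (1) (Nat.ble 179 i)) (Nat.ble 178 i)) (Bool.rec (motive := fun _ => Nat) (Bool.rec (motive := fun _ => Nat) (2) (2) (Nat.ble 181 i)) (Bool.rec (motive := fun _ => Nat) (3) (3) (Nat.ble 183 i)) (Nat.ble 182 i)) (Nat.ble 180 i)) (Bool.rec (motive := fun _ => Nat) (Bool.rec (motive := fun _ => Nat) (Bool.rec (motive := fun _ => Nat) (3) (3) (Nat.ble 185 i)) (Bool.rec (motive := fun _ => Nat) (2) (2) (Nat.ble 187 i)) (Nat.ble 186 i)) (Bool.rec (motive := fun _ => Nat) (Bool.rec (motive := fun _ => Nat) (1) (1) (Nat.ble 189 i)) (Bool.rec (motive := fun _ => Nat) (1) (1) (Nat.ble 191 i)) (Nat.ble 190 i)) (Nat.ble 188 i)) (Nat.ble 184 i)) (Nat.ble 176 i)) (Nat.ble 160 i)) (Bool.rec (motive := fun _ => Nat) (Bool.rec (motive := fun _ => Nat) (Bool.rec (motive := fun _ => Nat) (Bool.rec (motive := fun _ => Nat) (Bool.rec (motive := fun _ => Nat) (Bool.rec (motive := fun _ => Nat) (6) (6) (Nat.ble 193 i)) (Bool.rec (motive := fun _ => Nat) (2) (2) (Nat.ble 195 i)) (Nat.ble 194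 i)) (Bool.rec (motive := fun _ => Nat) (Bool.rec (motive := fun _ => Nat) (1) (1) (Nat.ble 197 i)) (Bool.rec (motive := fun _ => Nat) (1) (1) (Nat.ble 199 i)) (Nat.ble 198 i)) (Nat.ble 196 i)) (Bool.rec (motive := fun _ => Nat) (Bool.rec (motive := fun _ => Nat) (Bool.rec (motive := fun _ => Nat) (1) (1) (Nat.ble 201 i)) (Bool.rec (motive := fun _ => Nat) (1) (1) (Nat.ble 203 i)) (Nat.ble 202 i)) (Bool.rec (motive := fun _ => Nat) (Bool.rec (motive := fun _ => Nat) (2) (2) (Nat.ble 205 i)) (Bool.rec (motive := fun _ => Nat) (4) (4) (Nat.ble 207 i)) (Nat.ble 206 i)) (Nat.ble 204 i)) (Nat.ble 200 i)) (Bool.rec (motive := fun _ => Nat) (Bool.rec (motive := fun _ => Nat) (Bool.rec (motive := fun _ => Nat) (Bool.rec (motive := fun _ => Nat) (1) (1) (Nat.ble 209 i)) (Bool.rec (motive := fun _ => Nat) (1) (1) (Nat.ble 211 i)) (Nat.ble 210 i)) (Bool.rec (motive := fun _ => Nat) (Bool.rec (motive := fun _ => Nat) (2) (2) (Nat.ble 213 i)) (Bool.rec (motive := fun _ => Nat) (3) (3) (Nat.ble 215 i))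 (Nat.ble 214 i)) (Nat.ble 212 i)) (Bool.rec (motive := fun _ => Nat) (Bool.rec (motive := fun _ => Nat) (Bool.rec (motive := fun _ => Nat) (3) (3) (Nat.ble 217 i)) (Bool.rec (motive := fun _ => Nat) (2) (2) (Nat.ble 219 i)) (Nat.ble 218 i)) (Bool.rec (motive := fun _ => Nat) (Bool.rec (motive := fun _ => Nat) (1) (1) (Nat.ble 221 i)) (Bool.rec (motive := fun _ => Nat) (1) (1) (Nat.ble 223 i)) (Nat.ble 222 i)) (Nat.ble 220 i)) (Nat.ble 216 i)) (Nat.ble 208 i)) (Bool.rec (motive := fun _ => Nat) (Bool.rec (motive := fun _ => Nat) (Bool.rec (motive := fun _ => Nat) (Bool.rec (motive := fun _ => Nat) (Bool.rec (motive := fun _ => Nat) (1) (1) (Nat.ble 225 i)) (Bool.rec (motive := fun _ => Nat) (1) (1) (Nat.ble 227 i)) (Nat.ble 226 i)) (Bool.rec (motive := fun _ => Nat) (Bool.rec (motive := fun _ => Nat) (2) (2) (Nat.ble 229 i)) (Bool.rec (motive := fun _ => Nat) (3) (3) (Nat.ble 231 i)) (Nat.ble 230 i)) (Nat.ble 228 i)) (Bool.rec (motive := fun _ => Nat) (Bool.rec (motive := fun _ => Nat) (Bool.rec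 (motive := fun _ => Nat) (3) (3) (Nat.ble 233 i)) (Bool.rec (motive := fun _ => Nat) (2) (2) (Nat.ble 235 i)) (Nat.ble 234 i)) (Bool.rec (motive := fun _ => Nat) (Bool.rec (motive := fun _ => Nat) (1) (1) (Nat.ble 237 i)) (Bool.rec (motive := fun _ => Nat) (1) (1) (Nat.ble 239 i)) (Nat.ble 238 i)) (Nat.ble 236 i)) (Nat.ble 232 i)) (Bool.rec (motive := fun _ => Nat) (Bool.rec (motive := fun _ => Nat) (Bool.rec (motive := fun _ => Nat) (Bool.rec (motive := fun _ => Nat) (4) (4) (Nat.ble 241 i)) (Bool.rec (motive := fun _ => Nat) (2) (2) (Nat.ble 243 i)) (Nat.ble 242 i)) (Bool.rec (motive := fun _ => Nat) (Bool.rec (motive := fun _ => Nat) (1) (1) (Nat.ble 245 i)) (Bool.rec (motive := fun _ => Nat) (1) (1) (Nat.ble 247 i)) (Nat.ble 246 i)) (Nat.ble 244 i)) (Bool.rec (motive := fun _ => Nat) (Bool.rec (motive := fun _ => Nat) (Bool.rec (motive := fun _ => Nat) (1) (1) (Nat.ble 249 i)) (Bool.rec (motive := fun _ => Nat) (1) (1) (Nat.ble 251 i)) (Nat.ble 250 i)) (Bool.rec (motive := fun _ => Nat)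 (Bool.rec (motive := fun _ => Nat) (2) (2) (Nat.ble 253 i)) (Bool.rec (motive := fun _ => Nat) (8) (8) (Nat.ble 255 i)) (Nat.ble 254 i)) (Nat.ble 252 i)) (Nat.ble 248 i)) (Nat.ble 240 i)) (Nat.ble 224 i)) (Nat.ble 192 i)) (Nat.ble 128 i)) (Bool.rec (motive := fun _ => Nat) (Bool.rec (motive := fun _ => Nat) (Bool.rec (motive := fun _ => Nat) (Bool.rec (motive := fun _ => Nat) (Bool.rec (motive := fun _ => Nat) (Bool.rec (motive := fun _ => Nat) (Bool.rec (motive := fun _ => Nat) (Bool.rec (motive := fun _ => Nat) (1) (1) (Nat.ble 257 i)) (Bool.rec (motive := fun _ => Nat) (1) (1) (Nat.ble 259 i)) (Nat.ble 258 i)) (Bool.rec (motive := fun _ => Nat) (Bool.rec (motive := fun _ => Nat) (2) (2) (Nat.ble 261 i)) (Bool.rec (motive := fun _ => Nat) (3) (3) (Nat.ble 263 i)) (Nat.ble 262 i)) (Nat.ble 260 i)) (Bool.rec (motive := fun _ => Nat) (Bool.rec (motive := fun _ => Nat) (Bool.rec (motive := fun _ => Nat) (3) (3) (Nat.ble 265 i)) (Bool.rec (motive := fun _ => Nat) (2) (2) (Nat.ble 267 i)) (Nat.ble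 266 i)) (Bool.rec (motive := fun _ => Nat) (Bool.rec (motive := fun _ => Nat) (1) (1) (Nat.ble 269 i)) (Bool.rec (motive := fun _ => Nat) (1) (1) (Nat.ble 271 i)) (Nat.ble 270 i)) (Nat.ble 268 i)) (Nat.ble 264 i)) (Bool.rec (motive := fun _ => Nat) (Bool.rec (motive := fun _ => Nat) (Bool.rec (motive := fun _ => Nat) (Bool.rec (motive := fun _ => Nat) (4) (4) (Nat.ble 273 i)) (Bool.rec (motive := fun _ => Nat) (2) (2) (Nat.ble 275 i)) (Nat.ble 274 i)) (Bool.rec (motive := fun _ => Nat) (Bool.rec (motive := fun _ => Nat) (1) (1) (Nat.ble 277 i)) (Bool.rec (motive := fun _ => Nat) (1) (1) (Nat.ble 279 i)) (Nat.ble 278 i)) (Nat.ble 276 i)) (Bool.rec (motive := fun _ => Nat) (Bool.rec (motive := fun _ => Nat) (Bool.rec (motive := fun _ => Nat) (1) (1) (Nat.ble 281 i)) (Bool.rec (motive := fun _ => Nat) (1) (1) (Nat.ble 283 i)) (Nat.ble 282 i)) (Bool.rec (motive := fun _ => Nat) (Bool.rec (motive := fun _ => Nat) (2) (2) (Nat.ble 285 i)) (Bool.rec (motive := fun _ => Nat) (5) (5) (Nat.ble 287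 i)) (Nat.ble 286 i)) (Nat.ble 284 i)) (Nat.ble 280 i)) (Nat.ble 272 i)) (Bool.rec (motive := fun _ => Nat) (Bool.rec (motive := fun _ => Nat) (Bool.rec (motive := fun _ => Nat) (Bool.rec (motive := fun _ => Nat) (Bool.rec (motive := fun _ => Nat) (5) (5) (Nat.ble 289 i)) (Bool.rec (motive := fun _ => Nat) (2) (2) (Nat.ble 291 i)) (Nat.ble 290 i)) (Bool.rec (motive := fun _ => Nat) (Bool.rec (motive := fun _ => Nat) (1) (1) (Nat.ble 293 i)) (Bool.rec (motive := fun _ => Nat) (1) (1) (Nat.ble 295 i)) (Nat.ble 294 i)) (Nat.ble 292 i)) (Bool.rec (motive := fun _ => Nat) (Bool.rec (motive := fun _ => Nat) (Bool.rec (motive := fun _ => Nat) (1) (1) (Nat.ble 297 i)) (Bool.rec (motive := fun _ => Nat) (1) (1) (Nat.ble 299 i)) (Nat.ble 298 i)) (Bool.rec (motive := fun _ => Nat) (Bool.rec (motive := fun _ => Nat) (2) (2) (Nat.ble 301 i)) (Bool.rec (motive := fun _ => Nat) (4) (4) (Nat.ble 303 i)) (Nat.ble 302 i)) (Nat.ble 300 i)) (Nat.ble 296 i)) (Bool.rec (motive := fun _ => Nat) (Bool.rec (motive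 := fun _ => Nat) (Bool.rec (motive := fun _ => Nat) (Bool.rec (motive := fun _ => Nat) (1) (1) (Nat.ble 305 i)) (Bool.rec (motive := fun _ => Nat) (1) (1) (Nat.ble 307 i)) (Nat.ble 306 i)) (Bool.rec (motive := fun _ => Nat) (Bool.rec (motive := fun _ => Nat) (2) (2) (Nat.ble 309 i)) (Bool.rec (motive := fun _ => Nat) (3) (3) (Nat.ble 311 i)) (Nat.ble 310 i)) (Nat.ble 308 i)) (Bool.rec (motive := fun _ => Nat) (Bool.rec (motive := fun _ => Nat) (Bool.rec (motive := fun _ => Nat) (3) (3) (Nat.ble 313 i)) (Bool.rec (motive := fun _ => Nat) (2) (2) (Nat.ble 315 i)) (Nat.ble 314 i)) (Bool.rec (motive := fun _ => Nat) (Bool.rec (motive := fun _ => Nat) (1) (1) (Nat.ble 317 i)) (Bool.rec (motive := fun _ => Nat) (1) (1) (Nat.ble 319 i)) (Nat.ble 318 i)) (Nat.ble 316 i)) (Nat.ble 312 i)) (Nat.ble 304 i)) (Nat.ble 288 i)) (Bool.rec (motive := fun _ => Nat) (Bool.rec (motive := fun _ => Nat) (Bool.rec (motive := fun _ => Nat) (Bool.rec (motive := fun _ => Nat) (Bool.rec (motive := fun _ => Nat) (Bool.rec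 (motive := fun _ => Nat) (6) (6) (Nat.ble 321 i)) (Bool.rec (motive := fun _ => Nat) (2) (2) (Nat.ble 323 i)) (Nat.ble 322 i)) (Bool.rec (motive := fun _ => Nat) (Bool.rec (motive := fun _ => Nat) (1) (1) (Nat.ble 325 i)) (Bool.rec (motive := fun _ => Nat) (1) (1) (Nat.ble 327 i)) (Nat.ble 326 i)) (Nat.ble 324 i)) (Bool.rec (motive := fun _ => Nat) (Bool.rec (motive := fun _ => Nat) (Bool.rec (motive := fun _ => Nat) (1) (1) (Nat.ble 329 i)) (Bool.rec (motive := fun _ => Nat) (1) (1) (Nat.ble 331 i)) (Nat.ble 330 i)) (Bool.rec (motive := fun _ => Nat) (Bool.rec (motive := fun _ => Nat) (2) (2) (Nat.ble 333 i)) (Bool.rec (motive := fun _ => Nat) (4) (4) (Nat.ble 335 i)) (Nat.ble 334 i)) (Nat.ble 332 i)) (Nat.ble 328 i)) (Bool.rec (motive := fun _ => Nat) (Bool.rec (motive := fun _ => Nat) (Bool.rec (motive := fun _ => Nat) (Bool.rec (motive := fun _ => Nat) (1) (1) (Nat.ble 337 i)) (Bool.rec (motive := fun _ => Nat) (1) (1) (Nat.ble 339 i)) (Nat.ble 338 i)) (Bool.rec (motive := fun _ => Nat)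 (Bool.rec (motive := fun _ => Nat) (2) (2) (Nat.ble 341 i)) (Bool.rec (motive := fun _ => Nat) (3) (3) (Nat.ble 343 i)) (Nat.ble 342 i)) (Nat.ble 340 i)) (Bool.rec (motive := fun _ => Nat) (Bool.rec (motive := fun _ => Nat) (Bool.rec (motive := fun _ => Nat) (3) (3) (Nat.ble 345 i)) (Bool.rec (motive := fun _ => Nat) (2) (2) (Nat.ble 347 i)) (Nat.ble 346 i)) (Bool.rec (motive := fun _ => Nat) (Bool.rec (motive := fun _ => Nat) (1) (1) (Nat.ble 349 i)) (Bool.rec (motive := fun _ => Nat) (1) (1) (Nat.ble 351 i)) (Nat.ble 350 i)) (Nat.ble 348 i)) (Nat.ble 344 i)) (Nat.ble 336 i)) (Bool.rec (motive := fun _ => Nat) (Bool.rec (motive := fun _ => Nat) (Bool.rec (motive := fun _ => Nat) (Bool.rec (motive := fun _ => Nat) (Bool.rec (motive := fun _ => Nat) (1) (1) (Nat.ble 353 i)) (Bool.rec (motive := fun _ => Nat) (1) (1) (Nat.ble 355 i)) (Nat.ble 354 i)) (Bool.rec (motive := fun _ => Nat) (Bool.rec (motive := fun _ => Nat) (2) (2) (Nat.ble 357 i)) (Bool.rec (motive := fun _ => Nat) (3) (3) (Nat.ble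 359 i)) (Nat.ble 358 i)) (Nat.ble 356 i)) (Bool.rec (motive := fun _ => Nat) (Bool.rec (motive := fun _ => Nat) (Bool.rec (motive := fun _ => Nat) (3) (3) (Nat.ble 361 i)) (Bool.rec (motive := fun _ => Nat) (2) (2) (Nat.ble 363 i)) (Nat.ble 362 i)) (Bool.rec (motive := fun _ => Nat) (Bool.rec (motive := fun _ => Nat) (1) (1) (Nat.ble 365 i)) (Bool.rec (motive := fun _ => Nat) (1) (1) (Nat.ble 367 i)) (Nat.ble 366 i)) (Nat.ble 364 i)) (Nat.ble 360 i)) (Bool.rec (motive := fun _ => Nat) (Bool.rec (motive := fun _ => Nat) (Bool.rec (motive := fun _ => Nat) (Bool.rec (motive := fun _ => Nat) (4) (4) (Nat.ble 369 i)) (Bool.rec (motive := fun _ => Nat) (2) (2) (Nat.ble 371 i)) (Nat.ble 370 i)) (Bool.rec (motive := fun _ => Nat) (Bool.rec (motive := fun _ => Nat) (1) (1) (Nat.ble 373 i)) (Bool.rec (motive := fun _ => Nat) (1) (1) (Nat.ble 375 i)) (Nat.ble 374 i)) (Nat.ble 372 i)) (Bool.rec (motive := fun _ => Nat) (Bool.rec (motive := fun _ => Nat) (Bool.rec (motive := fun _ => Nat) (1) (1) (Nat.ble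 377 i)) (Bool.rec (motive := fun _ => Nat) (1) (1) (Nat.ble 379 i)) (Nat.ble 378 i)) (Bool.rec (motive := fun _ => Nat) (Bool.rec (motive := fun _ => Nat) (2) (2) (Nat.ble 381 i)) (Bool.rec (motive := fun _ => Nat) (7) (7) (Nat.ble 383 i)) (Nat.ble 382 i)) (Nat.ble 380 i)) (Nat.ble 376 i)) (Nat.ble 368 i)) (Nat.ble 352 i)) (Nat.ble 320 i)) (Bool.rec (motive := fun _ => Nat) (Bool.rec (motive := fun _ => Nat) (Bool.rec (motive := fun _ => Nat) (Bool.rec (motive := fun _ => Nat) (Bool.rec (motive := fun _ => Nat) (Bool.rec (motive := fun _ => Nat) (Bool.rec (motive := fun _ => Nat) (7) (7) (Nat.ble 385 i)) (Bool.rec (motive := fun _ => Nat) (2) (2) (Nat.ble 387 i)) (Nat.ble 386 i)) (Bool.rec (motive := fun _ => Nat) (Bool.rec (motive := fun _ => Nat) (1) (1) (Nat.ble 389 i)) (Bool.rec (motive := fun _ => Nat) (1) (1) (Nat.ble 391 i)) (Nat.ble 390 i)) (Nat.ble 388 i)) (Bool.rec (motive := fun _ => Nat) (Bool.rec (motive := fun _ => Nat) (Bool.rec (motive := fun _ => Nat) (1) (1) (Nat.ble 393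 i)) (Bool.rec (motive := fun _ => Nat) (1) (1) (Nat.ble 395 i)) (Nat.ble 394 i)) (Bool.rec (motive := fun _ => Nat) (Bool.rec (motive := fun _ => Nat) (2) (2) (Nat.ble 397 i)) (Bool.rec (motive := fun _ => Nat) (4) (4) (Nat.ble 399 i)) (Nat.ble 398 i)) (Nat.ble 396 i)) (Nat.ble 392 i)) (Bool.rec (motive := fun _ => Nat) (Bool.rec (motive := fun _ => Nat) (Bool.rec (motive := fun _ => Nat) (Bool.rec (motive := fun _ => Nat) (1) (1) (Nat.ble 401 i)) (Bool.rec (motive := fun _ => Nat) (1) (1) (Nat.ble 403 i)) (Nat.ble 402 i)) (Bool.rec (motive := fun _ => Nat) (Bool.rec (motive := fun _ => Nat) (2) (2) (Nat.ble 405 i)) (Bool.rec (motive := fun _ => Nat) (3) (3) (Nat.ble 407 i)) (Nat.ble 406 i)) (Nat.ble 404 i)) (Bool.rec (motive := fun _ => Nat) (Bool.rec (motive := fun _ => Nat) (Bool.rec (motive := fun _ => Nat) (3) (3) (Nat.ble 409 i)) (Bool.rec (motive := fun _ => Nat) (2) (2) (Nat.ble 411 i)) (Nat.ble 410 i)) (Bool.rec (motive := fun _ => Nat) (Bool.rec (motive := fun _ => Nat) (1) (1)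 (Nat.ble 413 i)) (Bool.rec (motive := fun _ => Nat) (1) (1) (Nat.ble 415 i)) (Nat.ble 414 i)) (Nat.ble 412 i)) (Nat.ble 408 i)) (Nat.ble 400 i)) (Bool.rec (motive := fun _ => Nat) (Bool.rec (motive := fun _ => Nat) (Bool.rec (motive := fun _ => Nat) (Bool.rec (motive := fun _ => Nat) (Bool.rec (motive := fun _ => Nat) (1) (1) (Nat.ble 417 i)) (Bool.rec (motive := fun _ => Nat) (1) (1) (Nat.ble 419 i)) (Nat.ble 418 i)) (Bool.rec (motive := fun _ => Nat) (Bool.rec (motive := fun _ => Nat) (2) (2) (Nat.ble 421 i)) (Bool.rec (motive := fun _ => Nat) (3) (3) (Nat.ble 423 i)) (Nat.ble 422 i)) (Nat.ble 420 i)) (Bool.rec (motive := fun _ => Nat) (Bool.rec (motive := fun _ => Nat) (Bool.rec (motive := fun _ => Nat) (3) (3) (Nat.ble 425 i)) (Bool.rec (motive := fun _ => Nat) (2) (2) (Nat.ble 427 i)) (Nat.ble 426 i)) (Bool.rec (motive := fun _ => Nat) (Bool.rec (motive := fun _ => Nat) (1) (1) (Nat.ble 429 i)) (Bool.rec (motive := fun _ => Nat) (1) (1) (Nat.ble 431 i)) (Nat.ble 430 i)) (Nat.ble 428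 i)) (Nat.ble 424 i)) (Bool.rec (motive := fun _ => Nat) (Bool.rec (motive := fun _ => Nat) (Bool.rec (motive := fun _ => Nat) (Bool.rec (motive := fun _ => Nat) (4) (4) (Nat.ble 433 i)) (Bool.rec (motive := fun _ => Nat) (2) (2) (Nat.ble 435 i)) (Nat.ble 434 i)) (Bool.rec (motive := fun _ => Nat) (Bool.rec (motive := fun _ => Nat) (1) (1) (Nat.ble 437 i)) (Bool.rec (motive := fun _ => Nat) (1) (1) (Nat.ble 439 i)) (Nat.ble 438 i)) (Nat.ble 436 i)) (Bool.rec (motive := fun _ => Nat) (Bool.rec (motive := fun _ => Nat) (Bool.rec (motive := fun _ => Nat) (1) (1) (Nat.ble 441 i)) (Bool.rec (motive := fun _ => Nat) (1) (1) (Nat.ble 443 i)) (Nat.ble 442 i)) (Bool.rec (motive := fun _ => Nat) (Bool.rec (motive := fun _ => Nat) (2) (2) (Nat.ble 445 i)) (Bool.rec (motive := fun _ => Nat) (6) (6) (Nat.ble 447 i)) (Nat.ble 446 i)) (Nat.ble 444 i)) (Nat.ble 440 i)) (Nat.ble 432 i)) (Nat.ble 416 i)) (Bool.rec (motive := fun _ => Nat) (Bool.rec (motive := fun _ => Nat) (Bool.rec (motive := fun _ => Nat)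 (Bool.rec (motive := fun _ => Nat) (Bool.rec (motive := fun _ => Nat) (Bool.rec (motive := fun _ => Nat) (1) (1) (Nat.ble 449 i)) (Bool.rec (motive := fun _ => Nat) (1) (1) (Nat.ble 451 i)) (Nat.ble 450 i)) (Bool.rec (motive := fun _ => Nat) (Bool.rec (motive := fun _ => Nat) (2) (2) (Nat.ble 453 i)) (Bool.rec (motive := fun _ => Nat) (3) (3) (Nat.ble 455 i)) (Nat.ble 454 i)) (Nat.ble 452 i)) (Bool.rec (motive := fun _ => Nat) (Bool.rec (motive := fun _ => Nat) (Bool.rec (motive := fun _ => Nat) (3) (3) (Nat.ble 457 i)) (Bool.rec (motive := fun _ => Nat) (2) (2) (Nat.ble 459 i)) (Nat.ble 458 i)) (Bool.rec (motive := fun _ => Nat) (Bool.rec (motive := fun _ => Nat) (1) (1) (Nat.ble 461 i)) (Bool.rec (motive := fun _ => Nat) (1) (1) (Nat.ble 463 i)) (Nat.ble 462 i)) (Nat.ble 460 i)) (Nat.ble 456 i)) (Bool.rec (motive := fun _ => Nat) (Bool.rec (motive := fun _ => Nat) (Bool.rec (motive := fun _ => Nat) (Bool.rec (motive := fun _ => Nat) (4) (4) (Nat.ble 465 i)) (Bool.rec (motive := fun _ =>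 Nat) (2) (2) (Nat.ble 467 i)) (Nat.ble 466 i)) (Bool.rec (motive := fun _ => Nat) (Bool.rec (motive := fun _ => Nat) (1) (1) (Nat.ble 469 i)) (Bool.rec (motive := fun _ => Nat) (1) (1) (Nat.ble 471 i)) (Nat.ble 470 i)) (Nat.ble 468 i)) (Bool.rec (motive := fun _ => Nat) (Bool.rec (motive := fun _ => Nat) (Bool.rec (motive := fun _ => Nat) (1) (1) (Nat.ble 473 i)) (Bool.rec (motive := fun _ => Nat) (1) (1) (Nat.ble 475 i)) (Nat.ble 474 i)) (Bool.rec (motive := fun _ => Nat) (Bool.rec (motive := fun _ => Nat) (2) (2) (Nat.ble 477 i)) (Bool.rec (motive := fun _ => Nat) (5) (5) (Nat.ble 479 i)) (Nat.ble 478 i)) (Nat.ble 476 i)) (Nat.ble 472 i)) (Nat.ble 464 i)) (Bool.rec (motive := fun _ => Nat) (Bool.rec (motive := fun _ => Nat) (Bool.rec (motive := fun _ => Nat) (Bool.rec (motive := fun _ => Nat) (Bool.rec (motive := fun _ => Nat) (5) (5) (Nat.ble 481 i)) (Bool.rec (motive := fun _ => Nat) (2) (2) (Nat.ble 483 i)) (Nat.ble 482 i)) (Bool.rec (motive := fun _ => Nat) (Bool.rec (motive := fun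 _ => Nat) (1) (1) (Nat.ble 485 i)) (Bool.rec (motive := fun _ => Nat) (1) (1) (Nat.ble 487 i)) (Nat.ble 486 i)) (Nat.ble 484 i)) (Bool.rec (motive := fun _ => Nat) (Bool.rec (motive := fun _ => Nat) (Bool.rec (motive := fun _ => Nat) (1) (1) (Nat.ble 489 i)) (Bool.rec (motive := fun _ => Nat) (1) (1) (Nat.ble 491 i)) (Nat.ble 490 i)) (Bool.rec (motive := fun _ => Nat) (Bool.rec (motive := fun _ => Nat) (2) (2) (Nat.ble 493 i)) (Bool.rec (motive := fun _ => Nat) (4) (4) (Nat.ble 495 i)) (Nat.ble 494 i)) (Nat.ble 492 i)) (Nat.ble 488 i)) (Bool.rec (motive := fun _ => Nat) (Bool.rec (motive := fun _ => Nat) (Bool.rec (motive := fun _ => Nat) (Bool.rec (motive := fun _ => Nat) (1) (1) (Nat.ble 497 i)) (Bool.rec (motive := fun _ => Nat) (1) (1) (Nat.ble 499 i)) (Nat.ble 498 i)) (Bool.rec (motive := fun _ => Nat) (Bool.rec (motive := fun _ => Nat) (2) (2) (Nat.ble 501 i)) (Bool.rec (motive := fun _ => Nat) (3) (3) (Nat.ble 503 i)) (Nat.ble 502 i)) (Nat.ble 500 i)) (Bool.rec (motive := fun _ =>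 Nat) (Bool.rec (motive := fun _ => Nat) (Bool.rec (motive := fun _ => Nat) (3) (3) (Nat.ble 505 i)) (Bool.rec (motive := fun _ => Nat) (2) (2) (Nat.ble 507 i)) (Nat.ble 506 i)) (Bool.rec (motive := fun _ => Nat) (Bool.rec (motive := fun _ => Nat) (1) (1) (Nat.ble 509 i)) (Bool.rec (motive := fun _ => Nat) (1) (1) (Nat.ble 511 i)) (Nat.ble 510 i)) (Nat.ble 508 i)) (Nat.ble 504 i)) (Nat.ble 496 i)) (Nat.ble 480 i)) (Nat.ble 448 i)) (Nat.ble 384 i)) (Nat.ble 256 i))

/-- Conjugates of the generators by four letters. -/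
def qConj : List (Nat × List Nat) := [(6, [1, 4, 2, 8, 32, 16, 510, 256, 128]), (8, [1, 2, 8, 4, 64, 128, 16, 32, 510]), (10, [1, 2, 4, 16, 128, 8, 510, 64, 32]), (11, [1, 2, 4, 32, 8, 256, 128, 16, 510])]

/-- Conjugates of the generators by the last letter. -/
def qU : List Nat := [1, 2, 355, 365, 330, 376, 488, 299, 151]

/-- The cube of the basic element and three squares of products. -/
def qRel : List Nat := [1, 484, 154, 278]

end CfsgLib.Coset.Th
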