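import Cfsg.Agent.Coset.Th.CentA
import Cfsg.Agent.Coset.Th.CentQData
import Cfsg.Agent.Coset.Th.CentAbs

/-!
A subgroup of order 512 in the centralizer of the first letter of the model: extraspecial, and
normalised by four letters.
-/

set_option autoImplicit false
set_option maxRecDepth 100000
set_option Elab.async false

namespace CfsgLib.Coset.Th

section Kernel

/-- The selected concatenation of a list of words. -/
noncomputable def selW (m : Nat) (ws : List (List Nat)) : List Nat :=
  List.rec (motive := fun _ => Nat → List Nat) (fun _ => [])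
    (fun w _ ih m => cond (Nat.beq (Nat.land m 1) 1) (w ++ ih (Nat.shiftRight m 1))
      (ih (Nat.shiftRight m 1))) ws m

/-- The normal form of an element. -/
noncomputable def qW (m : Nat) : List Nat := selW m qBas

/-- The product with a generator. -/
noncomputable def qMul (m j : Nat) : Nat := Nat.land (Nat.shiftRight (qTab m) (Nat.mul 9 j)) 511

/-- The normal forms are closed under the generators. -/
noncomputable def qClosed (m : Nat) : Bool :=
  allBlock 4 0 fun j => cond (Nat.ble 9 j) true (eqA (qW m ++ qBas.getD j []) (qW (qMul m j)))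

/-- Consecutive images are increasing. -/
noncomputable def qStep (k : Nat) : Bool :=
  cond (Nat.ble (Nat.add (qOrd k) 1) 512)
    (cond (Nat.ble 511 k) true
      (Nat.ble (Nat.add (sigB (qW (qOrd k))) 1) (sigB (qW (qOrd (Nat.add k 1)))))) false

/-- Central or not commuting with some generator. -/
noncomputable def qNcOK (m : Nat) : Bool :=
  cond (Nat.ble m 1) true
    (cond (Nat.ble (Nat.add (qNc m) 1) 9)
      (!(Nat.beq (sigB (qW m ++ qBas.getD (qNc m) [])) (sigB (qBas.getD (qNc m) [] ++ qW m)))) false)

/-- Squares and commutators of the generators. -/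
noncomputable def qGenOK (i : Nat) : Bool :=
  cond (lt14 (qBas.getD i []))
    (cond (eqA (qBas.getD i [] ++ [0]) ([0] ++ qBas.getD i []))
      (cond (cond (eqA (qBas.getD i [] ++ qBas.getD i []) []) true
        (eqA (qBas.getD i [] ++ qBas.getD i []) [0]))
        (allBlock 4 0 fun j => cond (Nat.ble 9 j) true
          (cond (eqA (qBas.getD i [] ++ qBas.getD j []) (qBas.getD j [] ++ qBas.getD i [])) true
            (eqA (qBas.getD i [] ++ qBas.getD j []) ([0] ++ (qBas.getD j [] ++ qBas.getD i [])))))
        false) false) false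

/-- Four letters normalise the subgroup. -/
noncomputable def qConjOK (p : Nat × List Nat) : Bool :=
  allBlock 4 0 fun j => cond (Nat.ble 9 j) true
    (cond (Nat.ble (Nat.add (p.2.getD j 0) 1) 512)
      (eqA ([Nat.xor p.1 1] ++ qBas.getD j [] ++ [p.1]) (qW (p.2.getD j 0))) false)

end Kernel

theorem qClosed_all : allBelow 9 512 qClosed = true := by decide +kernel
theorem qStep_all : allBelow 9 512 qStep = true := by decide +kernel
theorem qNcOK_all : allBelow 9 512 qNcOK = true := by decide +kernel
theorem qGenOK_all : allBelow 4 9 qGenOK = true := by decide +kernel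
theorem qConjOK_all : allList qConjOK qConj = true := by decide +kernel

theorem qBas_length : qBas.length = 9 := rfl

theorem allBlock_nine {p : Nat → Bool}
    (h : allBlock 4 0 (fun j => cond (Nat.ble 9 j) true (p j)) = true) {j : Nat} (hj : j < 9) :
    p j = true := by
  have := allBlock_iff 4 0 _ h j (by omega) (by omega)
  rwa [show Nat.ble 9 j = false from Bool.eq_false_iff.mpr fun h => by
    have := Nat.ble_eq.mp h; omega, cond_false] at this

theorem qBas_lt (i : Nat) : ∀ l ∈ qBas.getD i [], l < 14 := by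
  rcases lt_or_ge i 9 with hi | hi
  · exact lt14_sound (cond_false_eq_true.mp (of_allBelow qGenOK_all i hi)).1
  · rw [List.getD_eq_default _ _ (qBas_length ▸ hi)]; simp

theorem selW_lt : ∀ (ws : List (List Nat)), (∀ w ∈ ws, ∀ l ∈ w, l < 14) → ∀ m,
    ∀ l ∈ selW m ws, l < 14 := by
  intro ws
  induction ws with
  | nil => intro _ m l hl; simp [selW] at hl
  | cons w ws ih =>
    intro h m l hl
    have e : selW m (w :: ws) = cond (Nat.beq (Nat.land m 1) 1) (w ++ selW (Nat.shiftRight m 1) ws)
      (selW (Nat.shiftRight m 1) ws) := rfl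
    rw [e] at hl
    have ih' := ih (fun v hv => h v (by simp [hv])) (Nat.shiftRight m 1)
    cases hb : Nat.beq (Nat.land m 1) 1 <;> rw [hb] at hl
    · exact ih' l hl
    · rcases List.mem_append.mp hl with h' | h'
      · exact h w (by simp) l h'
      · exact ih' l h'

theorem qW_lt (m : Nat) : ∀ l ∈ qW m, l < 14 := selW_lt _ (fun w hw => by
  obtain ⟨i, hi, rfl⟩ := List.getElem_of_mem hw
  rw [← List.getD_eq_getElem qBas [] hi]
  exact qBas_lt i) m

/-- The normal subgroup of order 512 of the centralizer of the first letter. -/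
noncomputable def QA : Subgroup A := genW LA qBas

theorem qBas_mem (i : Nat) : ev LA (qBas.getD i []) ∈ QA := by
  rcases lt_or_ge i 9 with hi | hi
  · rw [List.getD_eq_getElem _ _ (qBas_length ▸ hi)]
    exact ev_mem_genW (List.getElem_mem _)
  · rw [List.getD_eq_default _ _ (qBas_length ▸ hi)]
    simp

theorem selW_mem : ∀ (ws : List (List Nat)) (m : Nat), (∀ w ∈ ws, ev LA w ∈ QA) →
    ev LA (selW m ws) ∈ QA := by
  intro ws
  induction ws with
  | nil => intro m _; simp [selW]
  | cons w ws ih =>
    intro m h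
    have e : selW m (w :: ws) = cond (Nat.beq (Nat.land m 1) 1) (w ++ selW (Nat.shiftRight m 1) ws)
      (selW (Nat.shiftRight m 1) ws) := rfl
    rw [e]
    have ih' := ih (Nat.shiftRight m 1) fun v hv => h v (by simp [hv])
    cases Nat.beq (Nat.land m 1) 1
    · exact ih'
    · rw [cond_true, ev_append]; exact mul_mem (h w (by simp)) ih'

theorem qW_mem (m : Nat) : ev LA (qW m) ∈ QA := selW_mem _ m fun _ hw => ev_mem_genW hw

theorem qMul_lt (m j : Nat) : qMul m j < 512 := by
  have h : Nat.land (Nat.shiftRight (qTab m) (Nat.mul 9 j)) 511 =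
      Nat.shiftRight (qTab m) (Nat.mul 9 j) % 512 := Nat.and_two_pow_sub_one_eq_mod _ 9
  rw [qMul, h]
  exact Nat.mod_lt _ (by norm_num)

theorem qMul_eq {m j : Nat} (hm : m < 512) (hj : j < 9) :
    ev LA (qW m) * ev LA (qBas.getD j []) = ev LA (qW (qMul m j)) := by
  rw [← ev_append]
  exact eqA_sound (allBlock_nine (of_allBelow qClosed_all m hm) hj)

theorem exists_qW {g : A} (hg : g ∈ QA) : ∃ m < 512, ev LA (qW m) = g := by
  classical
  let S : Finset A := (Finset.range 512).image fun m => ev LA (qW m)
  have hT : ∀ g ∈ QA, ∀ x ∈ S, x * g ∈ S := by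
    intro g hg
    induction hg using Subgroup.closure_induction with
    | mem x hx =>
      obtain ⟨w, hw, rfl⟩ := hx
      obtain ⟨i, hi, rfl⟩ := List.getElem_of_mem hw
      intro y hy
      obtain ⟨m, hm, rfl⟩ := Finset.mem_image.mp hy
      rw [← List.getD_eq_getElem qBas [] hi, qMul_eq (Finset.mem_range.mp hm) (qBas_length ▸ hi)]
      exact Finset.mem_image.mpr ⟨_, Finset.mem_range.mpr (qMul_lt _ _), rfl⟩
    | one => intro x hx; simpa using hx
    | mul a b _ _ ha hb => intro x hx; rw [← mul_assoc]; exact hb _ (ha x hx)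
    | inv a _ ha =>
      intro x hx
      have hsur : ∃ y ∈ S, y * a = x := by
        have him : S.image (· * a) = S := Finset.eq_of_subset_of_card_le
          (fun y hy => by obtain ⟨z, hz, rfl⟩ := Finset.mem_image.mp hy; exact ha z hz)
          (by rw [Finset.card_image_of_injective _ (mul_left_injective a)])
        rw [← him] at hx
        exact Finset.mem_image.mp hx
      obtain ⟨y, hy, rfl⟩ := hsur
      simpa using hy
  have h1 : (1 : A) ∈ S := Finset.mem_image.mpr ⟨0, by simp, by
    show ev LA (qW 0) = 1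
    rw [show qW 0 = [] from by decide +kernel, ev_nil]⟩
  obtain ⟨m, hm, e⟩ := Finset.mem_image.mp (hT g hg 1 h1)
  exact ⟨m, Finset.mem_range.mp hm, by simpa using e⟩

theorem qOrd_lt {k : Nat} (hk : k < 512) : qOrd k < 512 :=
  Nat.ble_eq.mp (cond_false_eq_true.mp (of_allBelow qStep_all k hk)).1

theorem qsig_mono : ∀ j k : Nat, j < k → k < 512 →
    sigB (qW (qOrd j)) < sigB (qW (qOrd k)) := by
  intro j k
  induction k with
  | zero => intro h; omega
  | succ k ih =>
    intro hjk hk
    have hs := (cond_false_eq_true.mp (of_allBelow qStep_all k (by omega))).2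
    rw [show Nat.ble 511 k = false from Bool.eq_false_iff.mpr fun h => by
      have := Nat.ble_eq.mp h; omega, cond_false] at hs
    have hs' : sigB (qW (qOrd k)) < sigB (qW (qOrd (k + 1))) := Nat.ble_eq.mp hs
    rcases eq_or_lt_of_le (Nat.le_of_lt_succ hjk) with rfl | h
    · exact hs'
    · exact (ih h (by omega)).trans hs'

theorem card_QA : Nat.card QA = 512 := by
  refine le_antisymm ?_ ?_
  · refine le_trans (Nat.card_le_card_of_surjective
      (fun m : Fin 512 => (⟨ev LA (qW m), qW_mem m⟩ : QA)) fun g => ?_) (Nat.card_fin 512).le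
    obtain ⟨m, hm, e⟩ := exists_qW g.2
    exact ⟨⟨m, hm⟩, Subtype.ext e⟩
  · refine le_trans (Nat.card_fin 512).ge (Nat.card_le_card_of_injective
      (fun k : Fin 512 => (⟨ev LA (qW (qOrd k)), qW_mem _⟩ : QA)) fun j k h => ?_)
    have e : sigB (qW (qOrd j)) = sigB (qW (qOrd k)) :=
      sig_eq (qW_lt _) (qW_lt _) (congrArg Subtype.val h)
    by_contra hne
    rcases lt_or_gt_of_ne (fun h => hne (Fin.ext h) : (j : Nat) ≠ k) with h' | h'
    · exact absurd e (qsig_mono j k h' k.2).ne
    · exact absurd e (qsig_mono k j h' j.2).ne'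

theorem aA_mem_QA : aA ∈ QA := by
  have := qBas_mem 0
  exact this

theorem aA_ne_one : aA ≠ 1 := by
  intro h
  have := sig_eq (v := [0]) (w := []) (by simp) (by simp) (h.trans (ev_nil _).symm)
  exact absurd this (by decide +kernel)

theorem aA_sq : aA * aA = 1 := by
  rw [← ev_append, ev_relsA _ (by decide +kernel : [0] ++ [0] ∈ relsA)]

theorem orderOf_aA : orderOf aA = 2 := by
  haveI : Fact (Nat.Prime 2) := ⟨Nat.prime_two⟩
  exact orderOf_eq_prime (by rw [pow_two]; exact aA_sq) aA_ne_one

theorem QA_comm {g : A} (hg : g ∈ QA) : g * aA = aA * g := by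
  induction hg using Subgroup.closure_induction with
  | mem x hx =>
    obtain ⟨w, hw, rfl⟩ := hx
    obtain ⟨i, hi, rfl⟩ := List.getElem_of_mem hw
    have h := (cond_false_eq_true.mp (cond_false_eq_true.mp
      (of_allBelow qGenOK_all i (qBas_length ▸ hi))).2).1
    rw [← List.getD_eq_getElem qBas [] hi, ← ev_append, ← ev_append]
    exact eqA_sound h
  | one => simp
  | mul x y _ _ hx hy => exact (Commute.mul_left hx hy : Commute (x * y) aA)
  | inv x _ hx => exact (Commute.inv_left hx : Commute x⁻¹ aA)

theorem qW_cen {m : Nat} (hm : m ≤ 1) : ev LA (qW m) = 1 ∨ ev LA (qW m) = aA := by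
  rcases (show m = 0 ∨ m = 1 by omega) with rfl | rfl
  · left; rw [show qW 0 = [] from by decide +kernel, ev_nil]
  · right; rw [show qW 1 = [0] from by decide +kernel]

theorem extraspecial_QA : Cfsg.IsExtraspecial 2 QA := by
  refine CentAbs.isExtraspecial_closure orderOf_aA (S := ev LA '' {w | w ∈ qBas}) rfl aA_mem_QA
    ?_ ?_ ?_ ?_ ?_
  · rintro _ ⟨w, hw, rfl⟩
    exact QA_comm (ev_mem_genW hw)
  · rintro _ ⟨w, hw, rfl⟩
    obtain ⟨i, hi, rfl⟩ := List.getElem_of_mem hw
    have h := cond_false_eq_true.mp (cond_false_eq_true.mp (cond_false_eq_true.mp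
      (of_allBelow qGenOK_all i (qBas_length ▸ hi))).2).2
    rw [← List.getD_eq_getElem qBas [] hi, ← ev_append]
    have h1 := h.1
    cases he : eqA (qBas.getD i [] ++ qBas.getD i []) []
    · rw [he, cond_false] at h1
      exact Or.inr (eqA_sound h1)
    · exact Or.inl ((eqA_sound he).trans (ev_nil _))
  · rintro _ ⟨w, hw, rfl⟩ _ ⟨v, hv, rfl⟩
    obtain ⟨i, hi, rfl⟩ := List.getElem_of_mem hw
    obtain ⟨j, hj, rfl⟩ := List.getElem_of_mem hv
    have h := allBlock_nine (cond_false_eq_true.mp (cond_false_eq_true.mp (cond_false_eq_true.mp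
      (of_allBelow qGenOK_all i (qBas_length ▸ hi))).2).2).2 (qBas_length ▸ hj)
    rw [← List.getD_eq_getElem qBas [] hi, ← List.getD_eq_getElem qBas [] hj]
    cases he : eqA (qBas.getD i [] ++ qBas.getD j []) (qBas.getD j [] ++ qBas.getD i [])
    · rw [he, cond_false] at h
      right
      simpa [ev_append] using eqA_sound h
    · left
      simpa [ev_append] using eqA_sound he
  · intro g hg hall
    obtain ⟨m, hm, rfl⟩ := exists_qW hg
    rcases Nat.lt_or_ge 1 m with h1 | h1
    · exfalso
      have h := of_allBelow qNcOK_all m hm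
      rw [qNcOK, show Nat.ble m 1 = false from Bool.eq_false_iff.mpr fun h => by
        have := Nat.ble_eq.mp h; omega, cond_false, cond_false_eq_true] at h
      obtain ⟨hj, hne⟩ := h
      have hj' : qNc m < 9 := Nat.ble_eq.mp hj
      have hc := hall (ev LA (qBas.getD (qNc m) [])) ⟨qBas.getD (qNc m) [], by
        rw [List.getD_eq_getElem _ _ (qBas_length ▸ hj')]
        exact List.getElem_mem _, rfl⟩
      rw [← ev_append, ← ev_append] at hc
      have := sig_eq (fun l hl => (List.mem_append.mp hl).elim (qW_lt m l) (qBas_lt _ l))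
        (fun l hl => (List.mem_append.mp hl).elim (qBas_lt _ l) (qW_lt m l)) hc
      rw [this, Nat.beq_refl] at hne
      exact Bool.noConfusion hne
    · exact qW_cen h1
  · refine ⟨ev LA [4], ⟨[4], by decide +kernel, rfl⟩, fun h => ?_, fun h => ?_⟩
    · have := sig_eq (v := [4]) (w := []) (by simp) (by simp) (h.trans (ev_nil _).symm)
      exact absurd this (by decide +kernel)
    · have := sig_eq (v := [4]) (w := [0]) (by simp) (by simp) h
      exact absurd this (by decide +kernel)

theorem conj_QA {p : Nat × List Nat} (hp : p ∈ qConj) {g : A} (hg : g ∈ QA) :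
    ev LA [Nat.xor p.1 1] * g * ev LA [p.1] ∈ QA := by
  have hl : ∀ q ∈ qConj, q.1 < 14 := by decide +kernel
  have hinv : ev LA [Nat.xor p.1 1] = (ev LA [p.1])⁻¹ := by
    simpa [ev_cons] using (inv_eq_of_mul_eq_one_right (pairsA p.1 (hl p hp)).2).symm
  induction hg using Subgroup.closure_induction with
  | mem x hx =>
    obtain ⟨w, hw, rfl⟩ := hx
    obtain ⟨i, hi, rfl⟩ := List.getElem_of_mem hw
    have h := (cond_false_eq_true.mp
      (allBlock_nine (allList_iff.mp qConjOK_all p hp) (qBas_length ▸ hi))).2
    rw [← List.getD_eq_getElem qBas [] hi, ← ev_append, ← ev_append, eqA_sound h]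
    exact qW_mem _
  | one => rw [mul_one, hinv, inv_mul_cancel]; exact one_mem _
  | mul x y _ _ hx hy =>
    rw [hinv] at hx hy ⊢
    have := mul_mem hx hy
    convert this using 1
    group
  | inv x _ hx =>
    rw [hinv] at hx ⊢
    have := inv_mem hx
    convert this using 1
    group

end CfsgLib.Coset.Th
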