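import Cfsg.Agent.Coset.Prim

/-! Factorisations of the generators of the subgroup of order 512 in the six words fixed by the last letter. -/

set_option autoImplicit false

namespace CfsgLib.Coset.Th

/-- The generators as products of the six words. -/
def qUids : List (List Nat) := [[5, 0, 5], [0], [3], [1, 3, 1], [1, 2, 4, 2, 3, 4, 2, 4], [4, 3, 4], [2, 4, 3, 4, 2, 2], [1, 4, 3, 1, 4], [2, 2, 4, 3, 4, 2]]

end CfsgLib.Coset.Th
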