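import Mathlib.Data.List.Basic

/-!
A derivation of the conjugates by `u` as products of conjugates of relators.
-/

set_option autoImplicit false
set_option maxRecDepth 100000

namespace CfsgLib.Coset.Th

/-- The relators used. -/
def cjRels : List (List Nat) := [[14,14,5,1], [15,1,14,0], [15,5,14,4], [15,9,14,8], [15,12,14,12], [6,6], [13,7,12,6], [11,1,10,0], [11,5,10,4], [0,4,11,15,11,15,11,15], [0,0], [4,4], [13,5,12,4], [10,6,10,6], [8,8], [9,11,11,15,10,10,8,11,11,14,10,10], [13,10,12,11,11], [13,9,12,8], [9,11,8,11,11,9,10,10,10], [12,12,12], [0,7,5,7,5,7,5,7,5], [6,7], [10,11], [14,15], [13,1,12,0], [6,8,15,6,14,6,8,15,6,14], [6,11,11,14,10,10,6,11,11,14,10,10,6,11,11,14,10,10,6,11,11,14,9,7,5,6,8,10,10,10,9,7,5,6,8,11,7,5,6,5,1], [4,5], [12,13], [8,9], [15,3,5,1,2,14,3,0,4,2,9]]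

/-- A part of the derivation. -/
def cjStepsP0 : List (List (List Nat × Nat × Bool)) := [
  [([15,15], 0, false)],
  [([14], 1, false)],
  [([14], 2, false)],
  [([14], 3, false)],
  [([14], 4, false)],
  [([14], 5, false)],
  [([13], 35, true), ([14,6,12], 6, false)],
  [([], 32, false), ([14,10], 7, false)],
  [([], 33, false), ([14,10], 8, false)],
  [([11], 33, true), ([11,5], 32, true), ([11], 31, false), ([14,10,14,10,5,1], 9, false)],
  [([5,1], 40, false), ([5], 38, false), ([], 39, false), ([14,10,15,15], 0, false)],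
  [([14,6], 10, false)],
  [([14,6], 11, false)],
  [([], 37, false), ([14,6,4,12], 12, false)],
  [([14,11,7,11], 13, false)],
  [([], 45, true), ([14,6,10], 5, false)],
  [([], 36, true), ([14,6,11], 13, false)],
  [([], 47, true), ([14,10], 5, false)],
  [([14,10], 14, false)],
  [([0,4,10,10,9,11,11], 31, false), ([0,4], 31, true), ([14,10,10,9,11,11,14,10,10,8], 15, false)]]

/-- A part of the derivation. -/
def cjStepsP1 : List (List (List Nat × Nat × Bool)) := [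
  [([], 35, false), ([14,10,10,13,11,12], 16, false)],
  [([13,0,4,10,10,8,11,11,5,1,12], 49, false), ([13,0,4,10,10,8,11,11,5,1], 51, false), ([13,0,4,10,10,8,11,11,5,1], 50, true), ([13], 51, true), ([14,10,8,12], 17, false)],
  [([0,4,10,10,9,11,11,5,1,13,0,4,10,10,9,11,11,5,1,12], 52, true), ([], 50, false), ([14,11,8,10,10,9,10,8], 18, false)],
  [([13], 51, true), ([14,10,13], 19, false)],
  [([13], 35, true), ([14,11,12], 16, false)],
  [([14,10,13,11,12], 16, false)],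
  [([], 55, false), ([14,11,13], 19, false)],
  [([13], 55, false), ([], 57, false), ([], 56, false), ([14,10,13,10,13,11,12], 16, false)],
  [([12,12], 54, false), ([12,12], 58, true), ([14,11,13,11,12], 16, false)],
  [([14,6,0], 11, false)],
  [([14,6,0,4,15,15], 0, false)],
  [([14,6,0], 5, false)],
  [([], 42, false), ([14,6,10], 7, false)],
  [([14,6,0,10], 7, false)],
  [([], 42, true), ([14,6,0,11,0,10], 7, false)],
  [([], 42, false), ([14,6,4,15,15], 0, false)],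
  [([14,6,0,14], 1, false)],
  [([], 61, true), ([], 67, false), ([], 66, false), ([14,6,4], 1, false)],
  [([], 68, true), ([14,6,0,4], 10, false)],
  [([], 68, false), ([], 43, false), ([14,6,15,15], 0, false)]]

/-- A part of the derivation. -/
def cjStepsP2 : List (List (List Nat × Nat × Bool)) := [
  [([], 69, false), ([], 60, false), ([14,6,0,15,15], 0, false)],
  [([14,6,4], 5, false)],
  [([5,0], 72, false), ([5,0], 43, false), ([5,0], 36, false), ([5,0], 32, true), ([], 33, false), ([14,6,4,6,4,6,4,6,1], 20, false)],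
  [([5,1,4], 62, false), ([5,1,4], 73, true), ([5], 72, false), ([5], 43, false), ([5], 36, false), ([], 33, false), ([14,6,1], 20, false)],
  [([5,0,4], 36, false), ([5,0,4], 74, true), ([14,6,0], 21, false)],
  [([], 75, false), ([14,6,0], 22, false)],
  [([], 75, false), ([14,6,0,11], 22, false)],
  [([], 75, false), ([14,6,0,15], 23, false)],
  [([5,0,4], 70, false), ([], 78, false), ([], 71, true), ([14,6,4], 23, false)],
  [([5,0,4], 69, false), ([], 79, false), ([14,6,4,10], 7, false)],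
  [([], 43, false), ([14,6,10], 8, false)],
  [([14,6,4,10], 8, false)],
  [([5,0,4], 68, true), ([], 79, false), ([14,6,4,11,0,10], 7, false)],
  [([], 43, true), ([14,6,4,11,4,10], 8, false)],
  [([5,1,4], 64, false), ([5,1,4], 76, true), ([14,6,10,10], 7, false)],
  [([12], 37, true), ([14,6,10,10,13,11,12], 16, false)],
  [([5,1,4], 63, true), ([5,1,4], 76, true), ([14,6,10,13,0,12], 24, false)],
  [([], 46, true), ([14,11,13,6,12], 6, false)],
  [([13], 86, true), ([14,6,10,13], 19, false)],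
  [([], 80, false), ([], 81, false), ([14,6,10,15,15], 0, false)]]

/-- A part of the derivation. -/
def cjStepsP3 : List (List (List Nat × Nat × Bool)) := [
  [([], 37, false), ([14,6,11,12], 16, false)],
  [([], 48, true), ([14,6,11,11], 13, false)],
  [([], 92, true), ([14,10,10], 5, false)],
  [([13], 88, false), ([13], 59, true), ([], 93, true), ([14,6,11,11,11], 13, false)],
  [([14,6,10,13,11,12], 16, false)],
  [([5,1,4], 65, false), ([5,1,4], 77, true), ([14,6,11,15,0,14], 1, false)],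
  [([5,0,4], 96, true), ([14,6,11,15,4,15,15], 0, false)],
  [([], 82, false), ([14,6,4,10,10], 8, false)],
  [([12], 44, true), ([14,6,4,10,10,13,11,12], 16, false)],
  [([5,1,4], 80, true), ([14,6,4,10,13,0,12], 24, false)],
  [([], 82, true), ([14,6,10,13,4,12], 12, false)],
  [([13], 99, true), ([14,6,4,10,13], 19, false)],
  [([], 81, true), ([14,6,4,10,13,4,12], 12, false)],
  [([], 83, false), ([14,6,4,11,11,0,10], 7, false)],
  [([], 84, false), ([14,6,4,11,11,4,10], 8, false)],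
  [([13], 103, true), ([], 94, false), ([], 105, false), ([14,6,4,11,11,11,4,10], 8, false)],
  [([], 85, false), ([], 98, false), ([14,6,4,10,10,15,15], 0, false)],
  [([13], 86, true), ([14,6,10,14], 4, false)],
  [([13], 86, true), ([14,6,10,15,13,14], 4, false)],
  [([5,0,4], 87, true), ([], 101, true), ([14,6,4,10,13,15,15], 0, false)]]

/-- A part of the derivation. -/
def cjStepsP4 : List (List (List Nat × Nat × Bool)) := [
  [([5,0,4], 87, true), ([14,6,10,13,14], 1, false)],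
  [([12], 89, true), ([14,6,10,10,14], 4, false)],
  [([], 87, false), ([14,6,10,13,15,0,14], 1, false)],
  [([5,1,4], 103, false), ([5,1,4], 110, true), ([14,6,10,13,14,4,14], 2, false)],
  [([12], 89, true), ([14,6,10,10,15,13,14], 4, false)],
  [([5,0,4], 113, true), ([14,6,10,13,15,4,15,15], 0, false)],
  [([5,0,4], 100, true), ([], 103, true), ([14,6,10,13,15,15], 0, false)],
  [([14,6,10,15], 5, false)],
  [([], 91, false), ([14,6,11,14], 4, false)],
  [([], 91, false), ([14,6,11,15,13,14], 4, false)],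
  [([5,1,4], 104, true), ([], 105, true), ([14,6,11,11,15,15], 0, false)],
  [([14,6,11,13,14], 4, false)],
  [([14,6,11,13,15,13,14], 4, false)],
  [([14,6,11,14], 5, false)],
  [([14,6,11,15], 5, false)],
  [([5,1,4], 97, true), ([14,6,11,14,10], 8, false)],
  [([12], 108, true), ([14,6,10,10,14,6,12], 6, false)],
  [([12], 109, true), ([14,6,10,10,15,6,12], 6, false)],
  [([13], 112, true), ([14,6,10,13,14,6,12], 6, false)],
  [([5,1,4], 111, true), ([14,6,10,13,14,11,0,10], 7, false)]]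

/-- A part of the derivation. -/
def cjStepsP5 : List (List (List Nat × Nat × Bool)) := [
  [([13], 115, true), ([14,6,10,13,15,6,12], 6, false)],
  [([], 114, false), ([14,6,10,13,14,11,4,10], 8, false)],
  [([13,0,4,10,10,8,11,11,5,1,12,5,1,11], 46, true), ([13,0,4,10,10,8,11,11,5,1,12], 41, false), ([13,0,4,10,10,8,11,11,5,1,12], 49, true), ([], 52, false), ([], 48, true), ([], 125, true), ([14,6,11,15,6,14,9,7], 25, false)],
  [([14,6,10,15,6], 14, false)],
  [([0,4,10,10,9,11,11,5,1,13,0,4,10,10,9,11,11,5,1,12,10], 47, true), ([0,4,10,10,9,11,11,5,1,13,0,4,10,10,9,11,11,5,1,12,10], 40, true), ([], 53, false), ([], 45, true), ([], 118, true), ([14,6,10,15,6,14,9,7], 25, false)],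
  [([11,13,0,4,10,10,8,11,11,5,1,12,0,4,10,10,8,11,11,5,1], 134, false), ([11,13,0,4,10,10,8,11,11,5,1,12,0,4,10,10,8,11,11,5,1], 135, true), ([14,6,11,14,6,15,8,14], 3, false)],
  [([12], 119, true), ([14,6,11,11,14,6,12], 6, false)],
  [([13,5,1,4], 116, false), ([13], 113, false), ([], 94, false), ([14,6,11,11,14,10,14,10,5,1], 9, false)],
  [([5,1,4,13], 114, false), ([5,1,4,13], 111, true), ([5,1,4,13], 110, false), ([5,1,4], 106, false), ([], 121, false), ([14,6,11,11,15,10,14,10,5,1], 9, false)],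
  [([5,1,4,13,5,0,4], 130, true), ([5,1,4,13], 132, true), ([], 139, false), ([14,6,11,11,15,10,15], 0, false)],
  [([], 124, true), ([14,6,11,14,6,11], 13, false)],
  [([], 141, true), ([14,6,11,14,10], 5, false)],
  [([], 119, false), ([14,6,11,14,10,10,13,11,12], 16, false)],
  [([], 122, false), ([14,6,11,13,14,10,10,13,11,12], 16, false)],
  [([14,6,11,15,6], 11, false)],
  [([], 125, true), ([14,6,11,15,6,11], 13, false)],
  [([], 146, true), ([14,6,11,15,10], 5, false)],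
  [([], 126, false), ([14,6,11,14,10,10], 8, false)],
  [([], 120, false), ([14,6,11,15,10,10,13,11,12], 16, false)],
  [([], 123, false), ([14,6,11,13,15,10,10,13,11,12], 16, false)]]

/-- A part of the derivation. -/
def cjStepsP6 : List (List (List Nat × Nat × Bool)) := [
  [([12,0,4,9,7,5,6,8,10,10,10,9,7,5,6,8,11,7,5,6,5,1,6,11,11,13], 144, false), ([12,0,4,9,7,5,6,8,10,10,10,9,7,5,6,8,11,7,5,6,5,1,6,11,11,13], 95, false), ([12,0,4,9,7,5,6,8,10,10,10,9,7,5,6,8,11,7,5,6,5,1,6,11,11], 94, false), ([12,0,4,9,7,5,6,8,10,10,10,9,7,5,6,8,11,7,5,6,5,1,6,11,11], 92, true), ([12,0,4], 31, true), ([12], 93, true), ([12], 94, true), ([], 95, true), ([], 150, true), ([14,6,11,15,10,12,7,11,11,15,10,10,7,11,11,15,10,10,7], 26, false)],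
  [([12,10,10,7,0,4,7,4,6,10,9,7,4,6,8,11,11,11,9,7,4,6,8,5,1,13], 147, false), ([12,10,10,7,0,4,7,4,6,10,9,7,4,6,8,11,11,11,9,7,4,6,8,5,1,13], 151, true), ([14,6,11,14,10,6,12], 6, false)],
  [([12,0,4,9,7,5,6,8,10,10,10,9,7,5,6,8,11,7,5,6,5,1,6,11,11,13], 142, false), ([12,0,4,9,7,5,6,8,10,10,10,9,7,5,6,8,11,7,5,6,5,1,6,11,11,13], 152, true), ([], 146, true), ([14,6,11,15,10], 21, false)],
  [([12,0,4,9,7,5,6,8,10,10,10,9,7,5,6,8,11,7,5,6,5,1,6,11,11,13], 152, true), ([14,6,11,15,6,11], 22, false)],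
  [([5,0,4,12,10,10,7,0,4,7,4,6,10,9,7,4,6,8,11,11,11,9,7,4,6,8,5,1,13], 145, false), ([5,0,4,12,10,10,7,0,4,7,4,6,10,9,7,4,6,8,11,11,11,9,7,4,6,8,5,1,13], 154, true), ([5,0,4], 148, true), ([14,6,11,15,10,10], 27, false)],
  [([], 155, false), ([14,6,11,15,10], 22, false)],
  [([12], 155, false), ([12], 149, true), ([14,6,11,11,15,10], 28, false)],
  [([12,10,10,7,0,4,7,4,6,10,9,7,4,6,8,11,11,11,9,7,4,6,8,5,1,13], 156, false), ([12,10,10,7,0,4,7,4,6,10,9,7,4,6,8,11,11,11,9,7,4,6,8,5,1,13], 153, true), ([14,6,11,14,6,11], 22, false)],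
  [([12,12,0,4,9,7,5,6,8,10,10,10,9,7,5,6,8,11,7,5,6,5,1,6,11,11,13,13], 137, true), ([12,12,0,4,9,7,5,6,8,10,10,10,9,7,5,6,8,11,7,5,6,5,1,6,11,11,13], 158, true), ([], 157, false), ([14,6,11,11,15,10], 28, false)],
  [([5,1,4,12,5,0,4], 159, false), ([5,1,4,12,5,0,4], 140, true), ([14,6,10,13,14,11], 23, false)],
  [([5,1,4,12,5,0,4,12,12,0,4,9,7,5,6,8,10,10,10,9,7,5,6,8,11,7,5,6,5,1,6,11,11,13], 136, false), ([5,1,4,12,5,0,4,12,12,0,4,9,7,5,6,8,10,10,10,9,7,5,6,8,11,7,5,6,5,1,6,11,11,13,13], 137, false), ([], 160, false), ([14,6,10,13,14,11,13,14], 4, false)],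
  [([0,4,10,10,9,11,11,5,1,13,0,4,10,10,9,11,11,5,1,12,10,12,10,10,7,0,4,7,4,6,10,9,7,4,6,8,11,11,11,9,7,4,6,8,5,1,13,13,5,1,4,13,5,0,4,12,12,12,10,10,7,0,4,7,4,6,10,9,7,4,6,8,11,11,11,9,7,4,6,8,5,1,13], 133, false), ([0,4,10,10,9,11,11,5,1,13,0,4,10,10,9,11,11,5,1,12,10,12,10,10,7,0,4,7,4,6,10,9,7,4,6,8,11,11,11,9,7,4,6,8,5,1,13,13,5,1,4,13,5,0,4,12,12,12,10,10,7,0,4,7,4,6,10,9,7,4,6,8,11,11,11,9,7,4,6,8,5,1,13], 154, true), ([0,4,10,10,9,11,11,5,1,13,0,4,10,10,9,11,11,5,1,12,10,12,10,10,7,0,4,7,4,6,10,9,7,4,6,8,11,11,11,9,7,4,6,8,5,1,13,13,5,1,4,13,5,0,4,12,12], 143, true), ([0,4,10,10,9,11,11,5,1,13,0,4,10,10,9,11,11,5,1,12,10,12,10,10,7,0,4,7,4,6,10,9,7,4,6,8,11,11,11,9,7,4,6,8,5,1,13,13,5,1,4,13,5,0,4,12], 138, true), ([0,4,10,10,9,11,11,5,1,13,0,4,10,10,9,11,11,5,1,12,10,12,10,10,7,0,4,7,4,6,10,9,7,4,6,8,11,11,11,9,7,4,6,8,5,1,13,13,5,1,4,13,5,0,4], 161, true), ([14,6,10,15,6,8,15,13,14], 4, false)],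
  [([], 162, false), ([14,6,10,15,6], 29, false)],
  [([12,0,4,10,10,9,11,11,5,1,13,0,4,10,10,9,11,11,5,1,12,10,12,10,10,7,0,4,7,4,6,10,9,7,4,6,8,11,11,11,9,7,4,6,8,5,1,13,13,5,1,4,13,5,0,4,12,12,12,10,10,7,0,4,7,4,6,10,9,7,4,6,8,11,11,11,9,7,4,6,8,5,1,13,13,0,4,10,10,8,11,11,5,1,12,5,1,11,13], 127, true), ([12], 163, false), ([], 128, false), ([14,6,10,10,15,6], 28, false)],
  [([0,4,10,10,9,11,11,5,1,13,0,4,10,10,9,11,11,5,1,12,10,12,10,10,7,0,4,7,4,6,10,9,7,4,6,8,11,11,11,9,7,4,6,8,5,1,13,13,5,1,4,13,5,0,4,12,12,12,10,10,7,0,4,7,4,6,10,9,7,4,6,8,11,11,11,9,7,4,6,8,5,1,13,13,0,4,10,10,8,11,11,5,1,12,5,1,11], 129, true), ([13], 164, false), ([], 131, false), ([14,6,10,13,15,6], 28, false)],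
  [([], 165, false), ([14,6,10,13,15], 21, false)],
  [([5,1,4], 166, false), ([5,1,4], 117, true), ([14,6,4,10,13], 23, false)],
  [([12,5,1,4,0,4,10,10,9,11,11,5,1,13,0,4,10,10,9,11,11,5,1,12,10,12,10,10,7,0,4,7,4,6,10,9,7,4,6,8,11,11,11,9,7,4,6,8,5,1,13,13,5,1,4,13,5,0,4,12,12,12,10,10,7,0,4,7,4,6,10,9,7,4,6,8,11,11,11,9,7,4,6,8,5,1,13,13,0,4,10,10,8,11,11,5,1,12,5,1,11], 89, false), ([12], 167, false), ([12], 102, true), ([14,6,4,10,10], 28, false)],
  [([5,0,4], 168, false), ([5,0,4], 107, true), ([14,6,10,10,14], 23, false)],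
  [([10,0,4,13,0,4,10,10,9,11,11,5,1,12,12,0,4,9,7,5,6,8,10,10,10,9,7,5,6,8,11,7,5,6,5,1,6,11,11,13,13,13,5,1,4,12,5,0,4,12,12,0,4,9,7,5,6,8,10,10,10,9,7,5,6,8,11,7,5,6,5,1,6,11,11,13,11,13,0,4,10,10,8,11,11,5,1,12,0,4,10,10,8,11,11,5,1,5,0,4,13,5,1,4,12], 108, true), ([10,0,4,13,0,4,10,10,9,11,11,5,1,12,12,0,4,9,7,5,6,8,10,10,10,9,7,5,6,8,11,7,5,6,5,1,6,11,11,13,13,13,5,1,4,12,5,0,4,12,12,0,4,9,7,5,6,8,10,10,10,9,7,5,6,8,11,7,5,6,5,1,6,11,11,13,11,13,0,4,10,10,8,11,11,5,1,12,0,4,10,10,8,11,11,5,1,5,0,4,13,5,1,4], 169, true), ([], 109, false), ([14,6,10,15,13], 28, false)]]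

/-- A part of the derivation. -/
def cjStepsP7 : List (List (List Nat × Nat × Bool)) := [
  [([5,1,4], 170, false), ([5,1,4], 90, true), ([14,6,4,10], 23, false)],
  [([], 171, false), ([14,6,4], 22, false)],
  [([], 31, true), ([5,1,4], 33, false), ([5,1,4,0,4], 31, false)],
  [([], 31, true), ([5,1,8], 34, false), ([5,1,8,0,4], 31, false)],
  [([], 31, true), ([5,1,13], 35, false), ([5,1,13,0,4], 31, false)],
  [([], 31, true), ([5,1], 172, true), ([5,1,5,1,4,10,0,4,13,0,4,10,10,9,11,11,5,1,12,12,0,4,9,7,5,6,8,10,10,10,9,7,5,6,8,11,7,5,6,5,1,6,11,11,13,13,13,5,1,4,12,5,0,4,12,12,0,4,9,7,5,6,8,10,10,10,9,7,5,6,8,11,7,5,6,5,1,6,11,11,13,11,13,0,4,10,10,8,11,11,5,1,12,0,4,10,10,8,11,11,5,1,5,0,4,13,5,1,4,12,0,4], 31, false)],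
  [([], 31, true), ([5,1,13,0,4,10,10,9,11,11,5,1,12], 52, false), ([5,1,13,0,4,10,10,9,11,11,5,1,12,0,4], 31, false)],
  [([3,0,4,2,9], 30, true)]]

/-- The derivation. -/
def cjSteps : List (List (List Nat × Nat × Bool)) :=
  cjStepsP0 ++ cjStepsP1 ++ cjStepsP2 ++ cjStepsP3 ++ cjStepsP4 ++ cjStepsP5 ++ cjStepsP6 ++ cjStepsP7

/-- The six conjugates, with the number of their derived word. -/
def cjGoals : List (List Nat × List Nat × Nat) := [
  ([4], [5,1,4,0,4], 173),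
  ([8], [5,1,8,0,4], 174),
  ([12], [5,1,13,0,4], 175),
  ([6,4,7], [5,1,5,1,4,10,0,4,13,0,4,10,10,9,11,11,5,1,12,12,0,4,9,7,5,6,8,10,10,10,9,7,5,6,8,11,7,5,6,5,1,6,11,11,13,13,13,5,1,4,12,5,0,4,12,12,0,4,9,7,5,6,8,10,10,10,9,7,5,6,8,11,7,5,6,5,1,6,11,11,13,11,13,0,4,10,10,8,11,11,5,1,12,0,4,10,10,8,11,11,5,1,5,0,4,13,5,1,4,12,0,4], 176),
  ([10,8,11], [5,1,13,0,4,10,10,9,11,11,5,1,12,0,4], 177),
  ([3,0,4,2], [3,0,4,2,9], 178)]

end CfsgLib.Coset.Th
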