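import Cfsg.Agent.Coset.Th.A
import Cfsg.Agent.Coset.Th.ConjData

/-!
Conjugation by `u` carries the six generators `kgW` to the six words `kmW`: each conjugate is a
product of conjugates of relators, checked by free reduction, up to equality in the model of the
subgroup on fourteen letters.
-/

set_option autoImplicit false
set_option maxRecDepth 100000
set_option Elab.async false

namespace CfsgLib.Coset.Th

/-- The conjugates by `u` of the words `kgW`. -/
def kmW : List (List Nat) :=
  [[4], [8], [13], [6, 4, 2, 0, 6, 4, 2, 6, 4, 6, 8, 6, 4, 6, 3, 5, 1, 3], [8, 11, 8, 10],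
    [2, 0, 4, 2, 8]]

/-- Put a letter of the sixteen in front, cancelling. -/
def consU : Nat → List Nat → List Nat
  | l, [] => [l]
  | l, m :: t => if l < 16 ∧ m = Nat.xor l 1 then t else l :: m :: t

/-- Free reduction in sixteen letters. -/
def redU : List Nat → List Nat
  | [] => []
  | l :: t => consU l (redU t)

/-- The product of conjugates of known words. -/
def cjWord (F : List (List Nat)) (ps : List (List Nat × Nat × Bool)) : List Nat :=
  redU (ps.map fun p =>
    p.1 ++ (if p.2.2 then invW (F.getD p.2.1 []) else F.getD p.2.1 []) ++ invW p.1).flatten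

/-- All derived words. -/
def cjFacts : List (List (List Nat × Nat × Bool)) → List (List Nat) → List (List Nat)
  | [], F => F
  | ps :: rest, F => cjFacts rest (F ++ [cjWord F ps])

variable {Γ : Type*} [Group Γ] {L : List Γ}

theorem fl_xor16 (hlen : L.length = 16) (hp : ∀ l < 16, fl L l * fl L (Nat.xor l 1) = 1)
    (l : Nat) : fl L (Nat.xor l 1) = (fl L l)⁻¹ := by
  rcases lt_or_ge l 16 with hl | hl
  · exact (inv_eq_of_mul_eq_one_right (hp l hl)).symm
  · have h2 : 16 ≤ Nat.xor l 1 := by
      by_contra hlt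
      have h3 : ∀ m < 16, Nat.xor m 1 < 16 := by decide +kernel
      have := h3 _ (by omega : Nat.xor l 1 < 16)
      rw [show Nat.xor (Nat.xor l 1) 1 = l from Nat.xor_xor_cancel_right l 1] at this
      omega
    rw [fl_of_le _ (hlen ▸ h2), fl_of_le _ (hlen ▸ hl), inv_one]

theorem ev_invW16 (hlen : L.length = 16) (hp : ∀ l < 16, fl L l * fl L (Nat.xor l 1) = 1) :
    ∀ w : List Nat, ev L (invW w) = (ev L w)⁻¹
  | [] => by simp [invW]
  | l :: w => by
    have e : invW (l :: w) = invW w ++ [Nat.xor l 1] := by simp [invW]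
    rw [e, ev_append, ev_invW16 hlen hp w, ev_cons, ev_nil, mul_one, fl_xor16 hlen hp, ev_cons,
      mul_inv_rev]

theorem ev_redU (hp : ∀ l < 16, fl L l * fl L (Nat.xor l 1) = 1) :
    ∀ w : List Nat, ev L (redU w) = ev L w
  | [] => rfl
  | l :: t => by
    rw [redU, ev_cons, ← ev_redU hp t]
    generalize redU t = u
    rcases u with _ | ⟨m, s⟩
    · simp [consU]
    · rw [consU]
      split
      · next h => rw [ev_cons, h.2, ← mul_assoc, hp l h.1, one_mul]
      · simp

theorem ev_getD {F : List (List Nat)} (hF : ∀ w ∈ F, ev L w = 1) (i : Nat) :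
    ev L (F.getD i []) = 1 := by
  rcases lt_or_ge i F.length with hi | hi
  · rw [List.getD_eq_getElem _ _ hi]
    exact hF _ (List.getElem_mem hi)
  · rw [List.getD_eq_default _ _ hi]; simp

theorem ev_cjWord (hlen : L.length = 16) (hp : ∀ l < 16, fl L l * fl L (Nat.xor l 1) = 1)
    {F : List (List Nat)} (hF : ∀ w ∈ F, ev L w = 1) (ps : List (List Nat × Nat × Bool)) :
    ev L (cjWord F ps) = 1 := by
  rw [cjWord, ev_redU hp]
  induction ps with
  | nil => simp
  | cons p ps ih =>
    rw [List.map_cons, List.flatten_cons, ev_append, ih, ev_append, ev_append,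
      ev_invW16 hlen hp]
    split
    · rw [ev_invW16 hlen hp, ev_getD hF]; simp
    · rw [ev_getD hF]; simp

theorem ev_cjFacts (hlen : L.length = 16) (hp : ∀ l < 16, fl L l * fl L (Nat.xor l 1) = 1) :
    ∀ (steps : List (List (List Nat × Nat × Bool))) (F : List (List Nat)),
      (∀ w ∈ F, ev L w = 1) → ∀ w ∈ cjFacts steps F, ev L w = 1
  | [], _, hF => hF
  | ps :: rest, F, hF => ev_cjFacts hlen hp rest _ fun w hw =>
    (List.mem_append.mp hw).elim (hF w) fun h =>
      (List.mem_singleton.mp h) ▸ ev_cjWord hlen hp hF ps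

theorem cjRels_mem : ∀ w ∈ cjRels, w ∈ relW ++ relsA ∨
    w = [14, 15] ∨ w = [15, 14] := by
  decide +kernel

theorem cjGoals_ok : ∀ i < 6,
    redU ([15] ++ (cjGoals.getD i ([], [], 0)).1 ++ [14] ++
        invW (cjGoals.getD i ([], [], 0)).2.1) =
      redU ((cjFacts cjSteps cjRels).getD (cjGoals.getD i ([], [], 0)).2.2 []) := by
  decide +kernel

theorem cjGoals_eqA : ∀ i < 6,
    eqA (kgW.getD i []) (cjGoals.getD i ([], [], 0)).1 = true ∧
      eqA (kmW.getD i []) (cjGoals.getD i ([], [], 0)).2.1 = true := by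
  decide +kernel

theorem cjGoals_letters : ∀ i < 6, ∀ l ∈ kgW.getD i [] ++ kmW.getD i [] ++
    (cjGoals.getD i ([], [], 0)).1 ++ (cjGoals.getD i ([], [], 0)).2.1, l < 14 := by
  decide +kernel

theorem ev_take_fourteen (L : List Γ) : ∀ w : List Nat, (∀ l ∈ w, l < 14) →
    ev (L.take 14) w = ev L w
  | [], _ => by simp
  | x :: w, hw => by
    rw [ev_cons, ev_cons, ev_take_fourteen L w fun y hy => hw y (by simp [hy])]
    simp [fl, List.getD_eq_getElem?_getD, hw x (by simp)]

/-- Equal words in the model of the subgroup are equal in any group satisfying its relators. -/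
theorem ev_eq_of_eqA (hlen : L.length = 16) (hA : ∀ w ∈ relsA, ev L w = 1) {v w : List Nat}
    (hv : ∀ l ∈ v, l < 14) (hw : ∀ l ∈ w, l < 14) (h : eqA v w = true) : ev L v = ev L w := by
  have hl : (L.take 14).length = 14 := by simp [hlen]
  have hrel : ∀ r ∈ relsA, ev (L.take 14) r = 1 := fun r hr =>
    (ev_take_fourteen L r ((by decide +kernel : ∀ r ∈ relsA, ∀ l ∈ r, l < 14) r hr)).trans
      (hA r hr)
  have e := congrArg (numHom (L := L.take 14) hl hrel) (eqA_sound h)
  rwa [numHom_ev, numHom_ev, ev_take_fourteen L v hv, ev_take_fourteen L w hw] at e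

/-- The exact conjugation identities: `kgW i` times `u` is `u` times `kmW i`. -/
theorem conj_kg (hlen : L.length = 16) (hp : ∀ l < 16, fl L l * fl L (Nat.xor l 1) = 1)
    (hrel : ∀ w ∈ relW ++ relsA, ev L w = 1) {i : Nat} (hi : i < 6) :
    ev L (kgW.getD i []) * fl L 14 = fl L 14 * ev L (kmW.getD i []) := by
  have hR : ∀ w ∈ cjRels, ev L w = 1 := fun w hw => by
    rcases cjRels_mem w hw with h | rfl | rfl
    · exact hrel w h
    · simpa using hp 14 (by omega)
    · simpa using hp 15 (by omega)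
  have hA : ∀ w ∈ relsA, ev L w = 1 := fun w hw => hrel w (List.mem_append_right _ hw)
  obtain ⟨e1, e2⟩ := cjGoals_eqA i hi
  have hl := cjGoals_letters i hi
  set g := (cjGoals.getD i ([], [], 0)).1
  set h := (cjGoals.getD i ([], [], 0)).2.1
  have hl' : (∀ l ∈ kgW.getD i [], l < 14) ∧ (∀ l ∈ kmW.getD i [], l < 14) ∧ (∀ l ∈ g, l < 14) ∧
      (∀ l ∈ h, l < 14) := by
    simp only [List.mem_append, or_imp, forall_and, and_assoc] at hl
    exact hl
  rw [ev_eq_of_eqA hlen hA hl'.1 hl'.2.2.1 e1, ev_eq_of_eqA hlen hA hl'.2.1 hl'.2.2.2 e2]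
  have key : ev L ([15] ++ g ++ [14] ++ invW h) = 1 := by
    rw [← ev_redU hp, cjGoals_ok i hi, ev_redU hp]
    exact ev_getD (ev_cjFacts hlen hp cjSteps cjRels hR) _
  simp only [ev_append, ev_invW16 hlen hp, ev_cons, ev_nil, mul_one] at key
  rw [show fl L 15 = (fl L 14)⁻¹ from fl_xor16 hlen hp 14, mul_inv_eq_one,
    mul_assoc, inv_mul_eq_iff_eq_mul] at key
  exact key

end CfsgLib.Coset.Th
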