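import Cfsg.Agent.Coset.Prim

/-! Certificate data for the subgroup on fourteen letters of the Thompson presentation. -/

set_option autoImplicit false
set_option maxRecDepth 100000
set_option linter.unusedVariables false

namespace CfsgLib.Coset.Th

noncomputable def SAP_0 (i : Nat) : Nat := (Bool.rec (motive := fun _ => Nat) (Bool.rec (motive := fun _ => Nat) (Bool.rec (motive := fun _ => Nat) (Bool.rec (motive := fun _ => Nat) (Bool.rec (motive := fun _ => Nat) (0) (Bool.rec (motive := fun _ => Nat) (0x2000000000001) (0x1000002) (Nat.ble 2 i)) (Nat.ble 1 i)) (Bool.rec (motive := fun _ => Nat) (0x4000001000003) (Bool.rec (motive := fun _ => Nat) (0x4000002000004) (0x6000003000005) (Nat.ble 5 i)) (Nat.ble 4 i)) (Nat.ble 3 i)) (Bool.rec (motive := fun _ => Nat) (Bool.rec (motive := fun _ => Nat) (0x2000004000006) (Bool.rec (motive := fun _ => Nat) (0x6000004000007) (0x4000005000008) (Nat.ble 8 i)) (Nat.ble 7 i)) (Bool.rec (motive := fun _ => Nat) (0x8000005000009) (Bool.rec (motive := fun _ => Nat) (0x600000600000a)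 (0x400000700000b) (Nat.ble 11 i)) (Nat.ble 10 i)) (Nat.ble 9 i)) (Nat.ble 6 i)) (Bool.rec (motive := fun _ => Nat) (Bool.rec (motive := fun _ => Nat) (Bool.rec (motive := fun _ => Nat) (0x800000700000c) (Bool.rec (motive := fun _ => Nat) (0x200000800000d) (0x800000800000e) (Nat.ble 14 i)) (Nat.ble 13 i)) (Bool.rec (motive := fun _ => Nat) (0xa00000900000f) (Bool.rec (motive := fun _ => Nat) (0xb000009000010) (0x400000a000011) (Nat.ble 17 i)) (Nat.ble 16 i)) (Nat.ble 15 i)) (Bool.rec (motive := fun _ => Nat) (Bool.rec (motive := fun _ => Nat) (0x800000a000012) (Bool.rec (motive := fun _ => Nat) (0x200000b000013) (0x800000b000014) (Nat.ble 20 i)) (Nat.ble 19 i)) (Bool.rec (motive := fun _ => Nat) (Bool.rec (motive := fun _ => Nat) (0xa00000c000015) (0xb00000c000016) (Nat.ble 22 i)) (Bool.rec (motive := fun _ => Nat) (0xd000017) (0x800000d000018) (Nat.ble 24 i)) (Nat.ble 23 i)) (Nat.ble 21 i)) (Nat.ble 18 i)) (Nat.ble 12 i)) (Bool.rec (motive := fun _ => Nat) (Bool.rec (motive := fun _ => Nat) (Bool.rec (motive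 := fun _ => Nat) (Bool.rec (motive := fun _ => Nat) (0x600000e000019) (Bool.rec (motive := fun _ => Nat) (0xa00000e00001a) (0xb00000e00001b) (Nat.ble 27 i)) (Nat.ble 26 i)) (Bool.rec (motive := fun _ => Nat) (0x800000f00001c) (Bool.rec (motive := fun _ => Nat) (0xa00000f00001d) (0xb00001000001f) (Nat.ble 30 i)) (Nat.ble 29 i)) (Nat.ble 28 i)) (Bool.rec (motive := fun _ => Nat) (Bool.rec (motive := fun _ => Nat) (0x2000011000020) (Bool.rec (motive := fun _ => Nat) (0x6000011000021) (0x8000011000022) (Nat.ble 33 i)) (Nat.ble 32 i)) (Bool.rec (motive := fun _ => Nat) (Bool.rec (motive := fun _ => Nat) (0xa000012000023) (0xb000012000024) (Nat.ble 35 i)) (Bool.rec (motive := fun _ => Nat) (0x13000025) (0x8000013000026) (Nat.ble 37 i)) (Nat.ble 36 i)) (Nat.ble 34 i)) (Nat.ble 31 i)) (Bool.rec (motive := fun _ => Nat) (Bool.rec (motive := fun _ => Nat) (Bool.rec (motive := fun _ => Nat) (0x6000014000027) (Bool.rec (motive := fun _ => Nat) (0xa000014000028) (0xb000014000029) (Nat.ble 40 i)) (Nat.ble 39 i)) (Bool.rec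 (motive := fun _ => Nat) (0x800001500002a) (Bool.rec (motive := fun _ => Nat) (0xa00001500002b) (0xb00001600002d) (Nat.ble 43 i)) (Nat.ble 42 i)) (Nat.ble 41 i)) (Bool.rec (motive := fun _ => Nat) (Bool.rec (motive := fun _ => Nat) (0x800001700002e) (Bool.rec (motive := fun _ => Nat) (0x600001800002f) (0xa000018000030) (Nat.ble 46 i)) (Nat.ble 45 i)) (Bool.rec (motive := fun _ => Nat) (Bool.rec (motive := fun _ => Nat) (0xb000018000031) (0x4000019000032) (Nat.ble 48 i)) (Bool.rec (motive := fun _ => Nat) (0xa000019000033) (0xb000019000034) (Nat.ble 50 i)) (Nat.ble 49 i)) (Nat.ble 47 i)) (Nat.ble 44 i)) (Nat.ble 38 i)) (Nat.ble 25 i))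
noncomputable def SAP_1 (i : Nat) : Nat := (Bool.rec (motive := fun _ => Nat) (Bool.rec (motive := fun _ => Nat) (Bool.rec (motive := fun _ => Nat) (Bool.rec (motive := fun _ => Nat) (Bool.rec (motive := fun _ => Nat) (0x800001a000035) (Bool.rec (motive := fun _ => Nat) (0xa00001a000036) (0xb00001b000038) (Nat.ble 53 i)) (Nat.ble 52 i)) (Bool.rec (motive := fun _ => Nat) (0x600001c00001e) (Bool.rec (motive := fun _ => Nat) (0x1f000039) (0x600001f00003a) (Nat.ble 56 i)) (Nat.ble 55 i)) (Nat.ble 54 i)) (Bool.rec (motive := fun _ => Nat) (Bool.rec (motive := fun _ => Nat) (0x800001f00003b) (Bool.rec (motive := fun _ => Nat) (0xa00002100003c) (0xb00002100003d) (Nat.ble 59 i)) (Nat.ble 58 i)) (Bool.rec (motive := fun _ => Nat) (0x800002200003e) (Bool.rec (motive := fun _ => Nat) (0xa00002200003f) (0xb000023000041) (Nat.ble 62 i)) (Nat.ble 61 i)) (Nat.ble 60 i)) (Nat.ble 57 i)) (Bool.rec (motive := fun _ => Nat) (Bool.rec (motive := fun _ => Nat) (Bool.rec (motive := fun _ => Nat) (0x8000024000042) (Bool.rec (motive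 := fun _ => Nat) (0x6000025000043) (0xa000025000044) (Nat.ble 65 i)) (Nat.ble 64 i)) (Bool.rec (motive := fun _ => Nat) (0xb000025000045) (Bool.rec (motive := fun _ => Nat) (0x4000026000046) (0xa000026000047) (Nat.ble 68 i)) (Nat.ble 67 i)) (Nat.ble 66 i)) (Bool.rec (motive := fun _ => Nat) (Bool.rec (motive := fun _ => Nat) (0xb000026000048) (Bool.rec (motive := fun _ => Nat) (0x8000027000049) (0xa00002700004a) (Nat.ble 71 i)) (Nat.ble 70 i)) (Bool.rec (motive := fun _ => Nat) (Bool.rec (motive := fun _ => Nat) (0xb00002800004c) (0x600002900002c) (Nat.ble 73 i)) (Bool.rec (motive := fun _ => Nat) (0x600002c00004d) (0xa00002c00004e) (Nat.ble 75 i)) (Nat.ble 74 i)) (Nat.ble 72 i)) (Nat.ble 69 i)) (Nat.ble 63 i)) (Bool.rec (motive := fun _ => Nat) (Bool.rec (motive := fun _ => Nat) (Bool.rec (motive := fun _ => Nat) (Bool.rec (motive := fun _ => Nat) (0xb00002c00004f) (Bool.rec (motive := fun _ => Nat) (0x400002d000050) (0xa00002d000051) (Nat.ble 78 i)) (Nat.ble 77 i)) (Bool.rec (motive := fun _ => Nat) (0xb00002d000052)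 (Bool.rec (motive := fun _ => Nat) (0x800002e000053) (0xa00002e000054) (Nat.ble 81 i)) (Nat.ble 80 i)) (Nat.ble 79 i)) (Bool.rec (motive := fun _ => Nat) (Bool.rec (motive := fun _ => Nat) (0xb00002f000056) (Bool.rec (motive := fun _ => Nat) (0x2000030000057) (0xa000030000058) (Nat.ble 84 i)) (Nat.ble 83 i)) (Bool.rec (motive := fun _ => Nat) (Bool.rec (motive := fun _ => Nat) (0xb000030000059) (0x800003100005a) (Nat.ble 86 i)) (Bool.rec (motive := fun _ => Nat) (0xa00003100005b) (0x800003200005d) (Nat.ble 88 i)) (Nat.ble 87 i)) (Nat.ble 85 i)) (Nat.ble 82 i)) (Bool.rec (motive := fun _ => Nat) (Bool.rec (motive := fun _ => Nat) (Bool.rec (motive := fun _ => Nat) (0xb00003200005e) (Bool.rec (motive := fun _ => Nat) (0x600003300005c) (0xa000033000037) (Nat.ble 91 i)) (Nat.ble 90 i)) (Bool.rec (motive := fun _ => Nat) (0x6000037000060) (Bool.rec (motive := fun _ => Nat) (0x8000037000061) (0xa000039000062) (Nat.ble 94 i)) (Nat.ble 93 i)) (Nat.ble 92 i)) (Bool.rec (motive := fun _ => Nat) (Bool.rec (motive := fun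 _ => Nat) (0xb000039000063) (Bool.rec (motive := fun _ => Nat) (0x800003a000064) (0xa00003a000065) (Nat.ble 97 i)) (Nat.ble 96 i)) (Bool.rec (motive := fun _ => Nat) (Bool.rec (motive := fun _ => Nat) (0xb00003b000067) (0x600003c000040) (Nat.ble 99 i)) (Bool.rec (motive := fun _ => Nat) (0x600003f000068) (0xa00003f000069) (Nat.ble 101 i)) (Nat.ble 100 i)) (Nat.ble 98 i)) (Nat.ble 95 i)) (Nat.ble 89 i)) (Nat.ble 76 i))
noncomputable def SAP_2 (i : Nat) : Nat := (Bool.rec (motive := fun _ => Nat) (Bool.rec (motive := fun _ => Nat) (Bool.rec (motive := fun _ => Nat) (Bool.rec (motive := fun _ => Nat) (Bool.rec (motive := fun _ => Nat) (0xb00003f00006a) (Bool.rec (motive := fun _ => Nat) (0x400004000006b) (0xa00004000006c) (Nat.ble 104 i)) (Nat.ble 103 i)) (Bool.rec (motive := fun _ => Nat) (0xb00004000006d) (Bool.rec (motive := fun _ => Nat) (0x800004100006e) (0xa00004100006f) (Nat.ble 107 i)) (Nat.ble 106 i)) (Nat.ble 105 i)) (Bool.rec (motive := fun _ => Nat) (Bool.rec (motive := fun _ => Nat) (0xb000042000071)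 (Bool.rec (motive := fun _ => Nat) (0x2000043000072) (0xa000043000073) (Nat.ble 110 i)) (Nat.ble 109 i)) (Bool.rec (motive := fun _ => Nat) (0xb000043000074) (Bool.rec (motive := fun _ => Nat) (0x8000044000075) (0xa000044000076) (Nat.ble 113 i)) (Nat.ble 112 i)) (Nat.ble 111 i)) (Nat.ble 108 i)) (Bool.rec (motive := fun _ => Nat) (Bool.rec (motive := fun _ => Nat) (Bool.rec (motive := fun _ => Nat) (0x8000045000078) (Bool.rec (motive := fun _ => Nat) (0xb000045000079) (0x6000046000077) (Nat.ble 116 i)) (Nat.ble 115 i)) (Bool.rec (motive := fun _ => Nat) (0xa00004600004b) (Bool.rec (motive := fun _ => Nat) (0x400004a00007b) (0xa00004a00007c) (Nat.ble 119 i)) (Nat.ble 118 i)) (Nat.ble 117 i)) (Bool.rec (motive := fun _ => Nat) (Bool.rec (motive := fun _ => Nat) (0xb00004a00007d) (Bool.rec (motive := fun _ => Nat) (0x800004b00007e) (0xa00004b00007f) (Nat.ble 122 i)) (Nat.ble 121 i)) (Bool.rec (motive := fun _ => Nat) (Bool.rec (motive := fun _ => Nat) (0xb00004c000081) (0x200004d000082) (Nat.ble 124 i)) (Bool.rec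 (motive := fun _ => Nat) (0x600004d000083) (0xa00004d000084) (Nat.ble 126 i)) (Nat.ble 125 i)) (Nat.ble 123 i)) (Nat.ble 120 i)) (Nat.ble 114 i)) (Bool.rec (motive := fun _ => Nat) (Bool.rec (motive := fun _ => Nat) (Bool.rec (motive := fun _ => Nat) (Bool.rec (motive := fun _ => Nat) (0xb00004d000085) (Bool.rec (motive := fun _ => Nat) (0x800004e000086) (0xa00004e000087) (Nat.ble 129 i)) (Nat.ble 128 i)) (Bool.rec (motive := fun _ => Nat) (0x800004f000089) (Bool.rec (motive := fun _ => Nat) (0xb00004f00008a) (0x6000050000088) (Nat.ble 132 i)) (Nat.ble 131 i)) (Nat.ble 130 i)) (Bool.rec (motive := fun _ => Nat) (Bool.rec (motive := fun _ => Nat) (0xa000050000055) (Bool.rec (motive := fun _ => Nat) (0x5300008c) (0xa00005300008d) (Nat.ble 135 i)) (Nat.ble 134 i)) (Bool.rec (motive := fun _ => Nat) (Bool.rec (motive := fun _ => Nat) (0xb00005300008e) (0x800005400008f) (Nat.ble 137 i)) (Bool.rec (motive := fun _ => Nat) (0xa000054000090) (0x8000055000092) (Nat.ble 139 i)) (Nat.ble 138 i)) (Nat.ble 136 i)) (Nat.ble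 133 i)) (Bool.rec (motive := fun _ => Nat) (Bool.rec (motive := fun _ => Nat) (Bool.rec (motive := fun _ => Nat) (0xb000055000093) (Bool.rec (motive := fun _ => Nat) (0x6000056000095) (0xa000056000096) (Nat.ble 142 i)) (Nat.ble 141 i)) (Bool.rec (motive := fun _ => Nat) (0xb000056000097) (Bool.rec (motive := fun _ => Nat) (0x8000057000098) (0xa00005700005f) (Nat.ble 145 i)) (Nat.ble 144 i)) (Nat.ble 143 i)) (Bool.rec (motive := fun _ => Nat) (Bool.rec (motive := fun _ => Nat) (0x6000058000099) (Bool.rec (motive := fun _ => Nat) (0xa00005800009a) (0xb00005800009b) (Nat.ble 148 i)) (Nat.ble 147 i)) (Bool.rec (motive := fun _ => Nat) (Bool.rec (motive := fun _ => Nat) (0x400005a000091) (0xa00005d00009d) (Nat.ble 150 i)) (Bool.rec (motive := fun _ => Nat) (0xb00005d00009e) (0x800005e00009f) (Nat.ble 152 i)) (Nat.ble 151 i)) (Nat.ble 149 i)) (Nat.ble 146 i)) (Nat.ble 140 i)) (Nat.ble 127 i))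
noncomputable def SAP_3 (i : Nat) : Nat := (Bool.rec (motive := fun _ => Nat) (Bool.rec (motive := fun _ => Nat) (Bool.rec (motive := fun _ => Nat) (Bool.rec (motive := fun _ => Nat) (Bool.rec (motive := fun _ => Nat) (0xa00005e0000a0) (Bool.rec (motive := fun _ => Nat) (0xb00005f0000a2) (0x6000060000066) (Nat.ble 155 i)) (Nat.ble 154 i)) (Bool.rec (motive := fun _ => Nat) (0x40000640000a3) (Bool.rec (motive := fun _ => Nat) (0xa0000640000a4) (0xb0000640000a5) (Nat.ble 158 i)) (Nat.ble 157 i)) (Nat.ble 156 i)) (Bool.rec (motive := fun _ => Nat) (Bool.rec (motive := fun _ => Nat) (0x80000650000a6) (Bool.rec (motive := fun _ => Nat) (0xa0000650000a7) (0xb0000660000a9) (Nat.ble 161 i)) (Nat.ble 160 i)) (Bool.rec (motive := fun _ => Nat) (0x20000670000aa) (Bool.rec (motive := fun _ => Nat) (0xa0000670000ab) (0xb0000670000ac) (Nat.ble 164 i)) (Nat.ble 163 i)) (Nat.ble 162 i)) (Nat.ble 159 i)) (Bool.rec (motive := fun _ => Nat) (Bool.rec (motive := fun _ => Nat) (Bool.rec (motive := fun _ => Nat) (0x80000680000ad)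 (Bool.rec (motive := fun _ => Nat) (0xa0000680000ae) (0x80000690000b0) (Nat.ble 167 i)) (Nat.ble 166 i)) (Bool.rec (motive := fun _ => Nat) (0xb0000690000b1) (Bool.rec (motive := fun _ => Nat) (0x600006a0000af) (0xa00006a000070) (Nat.ble 170 i)) (Nat.ble 169 i)) (Nat.ble 168 i)) (Bool.rec (motive := fun _ => Nat) (Bool.rec (motive := fun _ => Nat) (0x6d0000b3) (Bool.rec (motive := fun _ => Nat) (0xa00006d0000b4) (0xb00006d0000b5) (Nat.ble 173 i)) (Nat.ble 172 i)) (Bool.rec (motive := fun _ => Nat) (Bool.rec (motive := fun _ => Nat) (0x800006e0000b6) (0xa00006e0000b7) (Nat.ble 175 i)) (Bool.rec (motive := fun _ => Nat) (0x800006f0000b9) (0xb00006f0000ba) (Nat.ble 177 i)) (Nat.ble 176 i)) (Nat.ble 174 i)) (Nat.ble 171 i)) (Nat.ble 165 i)) (Bool.rec (motive := fun _ => Nat) (Bool.rec (motive := fun _ => Nat) (Bool.rec (motive := fun _ => Nat) (Bool.rec (motive := fun _ => Nat) (0x60000700000bc) (Bool.rec (motive := fun _ => Nat) (0xa0000700000bd) (0xb0000700000be) (Nat.ble 180 i)) (Nat.ble 179 i)) (Bool.rec (motive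 := fun _ => Nat) (0x80000710000bf) (Bool.rec (motive := fun _ => Nat) (0xa00007100007a) (0x60000720000c0) (Nat.ble 183 i)) (Nat.ble 182 i)) (Nat.ble 181 i)) (Bool.rec (motive := fun _ => Nat) (Bool.rec (motive := fun _ => Nat) (0xa0000720000c1) (Bool.rec (motive := fun _ => Nat) (0xb0000720000c2) (0x40000740000b8) (Nat.ble 186 i)) (Nat.ble 185 i)) (Bool.rec (motive := fun _ => Nat) (Bool.rec (motive := fun _ => Nat) (0x20000760000c4) (0x60000760000c5) (Nat.ble 188 i)) (Bool.rec (motive := fun _ => Nat) (0xa0000760000c6) (0xb0000760000c7) (Nat.ble 190 i)) (Nat.ble 189 i)) (Nat.ble 187 i)) (Nat.ble 184 i)) (Bool.rec (motive := fun _ => Nat) (Bool.rec (motive := fun _ => Nat) (Bool.rec (motive := fun _ => Nat) (0x80000770000c8) (Bool.rec (motive := fun _ => Nat) (0xa0000770000c9) (0x80000780000cb) (Nat.ble 193 i)) (Nat.ble 192 i)) (Bool.rec (motive := fun _ => Nat) (0xb0000780000cc) (Bool.rec (motive := fun _ => Nat) (0x60000790000ca) (0xa000079000080) (Nat.ble 196 i)) (Nat.ble 195 i)) (Nat.ble 194 i)) (Bool.rec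 (motive := fun _ => Nat) (Bool.rec (motive := fun _ => Nat) (0x7c0000ce) (Bool.rec (motive := fun _ => Nat) (0x600007c0000cf) (0xa00007c0000d0) (Nat.ble 199 i)) (Nat.ble 198 i)) (Bool.rec (motive := fun _ => Nat) (Bool.rec (motive := fun _ => Nat) (0xb00007c0000d1) (0xa00007d0000d2) (Nat.ble 201 i)) (Bool.rec (motive := fun _ => Nat) (0xb00007d0000d3) (0x800007e0000d4) (Nat.ble 203 i)) (Nat.ble 202 i)) (Nat.ble 200 i)) (Nat.ble 197 i)) (Nat.ble 191 i)) (Nat.ble 178 i))
noncomputable def SAP_4 (i : Nat) : Nat := (Bool.rec (motive := fun _ => Nat) (Bool.rec (motive := fun _ => Nat) (Bool.rec (motive := fun _ => Nat) (Bool.rec (motive := fun _ => Nat) (Bool.rec (motive := fun _ => Nat) (0xa00007e0000d5) (Bool.rec (motive := fun _ => Nat) (0x800007f0000d7) (0xb00007f0000d8) (Nat.ble 206 i)) (Nat.ble 205 i)) (Bool.rec (motive := fun _ => Nat) (0x60000800000da) (Bool.rec (motive := fun _ => Nat) (0xa0000800000db) (0xb0000800000dc) (Nat.ble 209 i)) (Nat.ble 208 i)) (Nat.ble 207 i)) (Bool.rec (motive := fun _ => Nat)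 (Bool.rec (motive := fun _ => Nat) (0x80000810000dd) (Bool.rec (motive := fun _ => Nat) (0xa00008100008b) (0x60000820000de) (Nat.ble 212 i)) (Nat.ble 211 i)) (Bool.rec (motive := fun _ => Nat) (0xa0000820000df) (Bool.rec (motive := fun _ => Nat) (0xb0000820000e0) (0x40000840000d6) (Nat.ble 215 i)) (Nat.ble 214 i)) (Nat.ble 213 i)) (Nat.ble 210 i)) (Bool.rec (motive := fun _ => Nat) (Bool.rec (motive := fun _ => Nat) (Bool.rec (motive := fun _ => Nat) (0xa0000860000e2) (Bool.rec (motive := fun _ => Nat) (0xb0000860000e3) (0x80000870000e4) (Nat.ble 218 i)) (Nat.ble 217 i)) (Bool.rec (motive := fun _ => Nat) (0xa0000870000e5) (Bool.rec (motive := fun _ => Nat) (0x80000880000e7) (0xb0000880000e8) (Nat.ble 221 i)) (Nat.ble 220 i)) (Nat.ble 219 i)) (Bool.rec (motive := fun _ => Nat) (Bool.rec (motive := fun _ => Nat) (0x60000890000ea) (Bool.rec (motive := fun _ => Nat) (0xa0000890000eb) (0xb0000890000ec) (Nat.ble 224 i)) (Nat.ble 223 i)) (Bool.rec (motive := fun _ => Nat) (Bool.rec (motive := fun _ => Nat) (0x800008a0000ed)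 (0xa00008a000094) (Nat.ble 226 i)) (Bool.rec (motive := fun _ => Nat) (0x600008b0000ef) (0xa00008b0000f0) (Nat.ble 228 i)) (Nat.ble 227 i)) (Nat.ble 225 i)) (Nat.ble 222 i)) (Nat.ble 216 i)) (Bool.rec (motive := fun _ => Nat) (Bool.rec (motive := fun _ => Nat) (Bool.rec (motive := fun _ => Nat) (Bool.rec (motive := fun _ => Nat) (0xb00008b0000f1) (Bool.rec (motive := fun _ => Nat) (0x800008c0000f2) (0xa00008d0000f4) (Nat.ble 231 i)) (Nat.ble 230 i)) (Bool.rec (motive := fun _ => Nat) (0xb00008d0000f5) (Bool.rec (motive := fun _ => Nat) (0x800008e0000f6) (0xa00008e0000f7) (Nat.ble 234 i)) (Nat.ble 233 i)) (Nat.ble 232 i)) (Bool.rec (motive := fun _ => Nat) (Bool.rec (motive := fun _ => Nat) (0xb00008f0000fa) (Bool.rec (motive := fun _ => Nat) (0x600009000009c) (0xa0000900000c3) (Nat.ble 237 i)) (Nat.ble 236 i)) (Bool.rec (motive := fun _ => Nat) (Bool.rec (motive := fun _ => Nat) (0xb0000900000fc) (0x40000920000ee) (Nat.ble 239 i)) (Bool.rec (motive := fun _ => Nat) (0xb0000920000fd) (0xa0000930000fe) (Nat.ble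 241 i)) (Nat.ble 240 i)) (Nat.ble 238 i)) (Nat.ble 235 i)) (Bool.rec (motive := fun _ => Nat) (Bool.rec (motive := fun _ => Nat) (Bool.rec (motive := fun _ => Nat) (0x8000094000100) (Bool.rec (motive := fun _ => Nat) (0x20000950000e6) (0x60000950000bb) (Nat.ble 244 i)) (Nat.ble 243 i)) (Bool.rec (motive := fun _ => Nat) (0x8000096000104) (Bool.rec (motive := fun _ => Nat) (0xa000096000105) (0xb000097000107) (Nat.ble 247 i)) (Nat.ble 246 i)) (Nat.ble 245 i)) (Bool.rec (motive := fun _ => Nat) (Bool.rec (motive := fun _ => Nat) (0x60000980000a1) (Bool.rec (motive := fun _ => Nat) (0x200009c000108) (0xa00009c000109) (Nat.ble 250 i)) (Nat.ble 249 i)) (Bool.rec (motive := fun _ => Nat) (Bool.rec (motive := fun _ => Nat) (0xb00009c00010a) (0x800009d00010b) (Nat.ble 252 i)) (Bool.rec (motive := fun _ => Nat) (0xa00009d00010c) (0x800009e00010e) (Nat.ble 254 i)) (Nat.ble 253 i)) (Nat.ble 251 i)) (Nat.ble 248 i)) (Nat.ble 242 i)) (Nat.ble 229 i))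
noncomputable def SAP_5 (i : Nat) : Nat := (Bool.rec (motive := fun _ => Nat) (Bool.rec (motive := fun _ => Nat) (Bool.rec (motive := fun _ => Nat) (Bool.rec (motive := fun _ => Nat) (Bool.rec (motive := fun _ => Nat) (0xb00009e00010f) (Bool.rec (motive := fun _ => Nat) (0x600009f00010d) (0xa00009f0000a8) (Nat.ble 257 i)) (Nat.ble 256 i)) (Bool.rec (motive := fun _ => Nat) (0xa2000111) (Bool.rec (motive := fun _ => Nat) (0xa0000a2000112) (0xb0000a2000113) (Nat.ble 260 i)) (Nat.ble 259 i)) (Nat.ble 258 i)) (Bool.rec (motive := fun _ => Nat) (Bool.rec (motive := fun _ => Nat) (0x80000a3000114) (Bool.rec (motive := fun _ => Nat) (0xa0000a3000115) (0x80000a4000117) (Nat.ble 263 i)) (Nat.ble 262 i)) (Bool.rec (motive := fun _ => Nat) (0xb0000a4000118) (Bool.rec (motive := fun _ => Nat) (0x60000a500011a) (0xa0000a500011b) (Nat.ble 266 i)) (Nat.ble 265 i)) (Nat.ble 264 i)) (Nat.ble 261 i)) (Bool.rec (motive := fun _ => Nat) (Bool.rec (motive := fun _ => Nat) (Bool.rec (motive := fun _ => Nat) (0xb0000a500011c) (Bool.rec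 (motive := fun _ => Nat) (0x80000a600011d) (0xa0000a60000b2) (Nat.ble 269 i)) (Nat.ble 268 i)) (Bool.rec (motive := fun _ => Nat) (0x60000a700011e) (Bool.rec (motive := fun _ => Nat) (0xa0000a700011f) (0xb0000a7000120) (Nat.ble 272 i)) (Nat.ble 271 i)) (Nat.ble 270 i)) (Bool.rec (motive := fun _ => Nat) (Bool.rec (motive := fun _ => Nat) (0x40000a9000116) (Bool.rec (motive := fun _ => Nat) (0xa0000ab000122) (0xb0000ab000123) (Nat.ble 275 i)) (Nat.ble 274 i)) (Bool.rec (motive := fun _ => Nat) (Bool.rec (motive := fun _ => Nat) (0x80000ac000124) (0xa0000ac000125) (Nat.ble 277 i)) (Bool.rec (motive := fun _ => Nat) (0x80000ad000127) (0xb0000ad000128) (Nat.ble 279 i)) (Nat.ble 278 i)) (Nat.ble 276 i)) (Nat.ble 273 i)) (Nat.ble 267 i)) (Bool.rec (motive := fun _ => Nat) (Bool.rec (motive := fun _ => Nat) (Bool.rec (motive := fun _ => Nat) (Bool.rec (motive := fun _ => Nat) (0x60000ae00012a) (Bool.rec (motive := fun _ => Nat) (0xa0000ae00012b) (0xb0000ae00012c) (Nat.ble 282 i)) (Nat.ble 281 i)) (Bool.rec (motive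 := fun _ => Nat) (0x80000af00012d) (Bool.rec (motive := fun _ => Nat) (0x60000b000012f) (0xa0000b0000130) (Nat.ble 285 i)) (Nat.ble 284 i)) (Nat.ble 283 i)) (Bool.rec (motive := fun _ => Nat) (Bool.rec (motive := fun _ => Nat) (0xb0000b0000131) (Bool.rec (motive := fun _ => Nat) (0x80000b1000132) (0xb0000b2000134) (Nat.ble 288 i)) (Nat.ble 287 i)) (Bool.rec (motive := fun _ => Nat) (Bool.rec (motive := fun _ => Nat) (0x80000b3000135) (0xa0000b3000101) (Nat.ble 290 i)) (Bool.rec (motive := fun _ => Nat) (0xb0000b5000136) (0x40000b700012e) (Nat.ble 292 i)) (Nat.ble 291 i)) (Nat.ble 289 i)) (Nat.ble 286 i)) (Bool.rec (motive := fun _ => Nat) (Bool.rec (motive := fun _ => Nat) (Bool.rec (motive := fun _ => Nat) (0xb0000b7000137) (Bool.rec (motive := fun _ => Nat) (0xa0000b80000f9) (0x80000b9000138) (Nat.ble 295 i)) (Nat.ble 294 i)) (Bool.rec (motive := fun _ => Nat) (0x20000ba000126) (Bool.rec (motive := fun _ => Nat) (0xbb00013a) (0x60000bb00013b) (Nat.ble 298 i)) (Nat.ble 297 i)) (Nat.ble 296 i)) (Bool.rec (motive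 := fun _ => Nat) (Bool.rec (motive := fun _ => Nat) (0xa0000bb00013c) (Bool.rec (motive := fun _ => Nat) (0xb0000bb00013d) (0xa0000bc00013e) (Nat.ble 301 i)) (Nat.ble 300 i)) (Bool.rec (motive := fun _ => Nat) (Bool.rec (motive := fun _ => Nat) (0xb0000bc00013f) (0x80000bd000140) (Nat.ble 303 i)) (Bool.rec (motive := fun _ => Nat) (0xa0000bd000141) (0x80000be000143) (Nat.ble 305 i)) (Nat.ble 304 i)) (Nat.ble 302 i)) (Nat.ble 299 i)) (Nat.ble 293 i)) (Nat.ble 280 i))
noncomputable def SAP_6 (i : Nat) : Nat := (Bool.rec (motive := fun _ => Nat) (Bool.rec (motive := fun _ => Nat) (Bool.rec (motive := fun _ => Nat) (Bool.rec (motive := fun _ => Nat) (Bool.rec (motive := fun _ => Nat) (0xb0000be000144) (Bool.rec (motive := fun _ => Nat) (0x60000bf000146) (0xa0000bf000147) (Nat.ble 308 i)) (Nat.ble 307 i)) (Bool.rec (motive := fun _ => Nat) (0xb0000bf000148) (Bool.rec (motive := fun _ => Nat) (0x80000c0000149) (0xa0000c00000cd) (Nat.ble 311 i)) (Nat.ble 310 i)) (Nat.ble 309 i)) (Bool.rec (motive := fun _ => Nat)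 (Bool.rec (motive := fun _ => Nat) (0x60000c100014a) (Bool.rec (motive := fun _ => Nat) (0xa0000c100014b) (0xb0000c100014c) (Nat.ble 314 i)) (Nat.ble 313 i)) (Bool.rec (motive := fun _ => Nat) (0x40000c3000142) (Bool.rec (motive := fun _ => Nat) (0x60000c500014e) (0xa0000c500014f) (Nat.ble 317 i)) (Nat.ble 316 i)) (Nat.ble 315 i)) (Nat.ble 312 i)) (Bool.rec (motive := fun _ => Nat) (Bool.rec (motive := fun _ => Nat) (Bool.rec (motive := fun _ => Nat) (0xb0000c5000150) (Bool.rec (motive := fun _ => Nat) (0x40000c6000151) (0xa0000c6000152) (Nat.ble 320 i)) (Nat.ble 319 i)) (Bool.rec (motive := fun _ => Nat) (0xb0000c6000153) (Bool.rec (motive := fun _ => Nat) (0x80000c7000154) (0xa0000c7000155) (Nat.ble 323 i)) (Nat.ble 322 i)) (Nat.ble 321 i)) (Bool.rec (motive := fun _ => Nat) (Bool.rec (motive := fun _ => Nat) (0x80000c8000157) (Bool.rec (motive := fun _ => Nat) (0xb0000c8000158) (0xa0000c900015a) (Nat.ble 326 i)) (Nat.ble 325 i)) (Bool.rec (motive := fun _ => Nat) (Bool.rec (motive := fun _ => Nat) (0xb0000ca00015c)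 (0xa0000cb00015e) (Nat.ble 328 i)) (Bool.rec (motive := fun _ => Nat) (0xb0000cb00015f) (0x80000cc000160) (Nat.ble 330 i)) (Nat.ble 329 i)) (Nat.ble 327 i)) (Nat.ble 324 i)) (Nat.ble 318 i)) (Bool.rec (motive := fun _ => Nat) (Bool.rec (motive := fun _ => Nat) (Bool.rec (motive := fun _ => Nat) (Bool.rec (motive := fun _ => Nat) (0xa0000cc0000d9) (Bool.rec (motive := fun _ => Nat) (0xa0000cd000162) (0xb0000cd000163) (Nat.ble 333 i)) (Nat.ble 332 i)) (Bool.rec (motive := fun _ => Nat) (0x80000ce000164) (Bool.rec (motive := fun _ => Nat) (0xa0000cf000166) (0xb0000cf000167) (Nat.ble 336 i)) (Nat.ble 335 i)) (Nat.ble 334 i)) (Bool.rec (motive := fun _ => Nat) (Bool.rec (motive := fun _ => Nat) (0x80000d0000168) (Bool.rec (motive := fun _ => Nat) (0xa0000d0000169) (0xb0000d100016c) (Nat.ble 339 i)) (Nat.ble 338 i)) (Bool.rec (motive := fun _ => Nat) (Bool.rec (motive := fun _ => Nat) (0x60000d20000e1) (0xa0000d2000121) (Nat.ble 341 i)) (Bool.rec (motive := fun _ => Nat) (0xb0000d200016e) (0x40000d4000161) (Nat.ble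 343 i)) (Nat.ble 342 i)) (Nat.ble 340 i)) (Nat.ble 337 i)) (Bool.rec (motive := fun _ => Nat) (Bool.rec (motive := fun _ => Nat) (Bool.rec (motive := fun _ => Nat) (0xb0000d400016f) (Bool.rec (motive := fun _ => Nat) (0xa0000d5000170) (0x80000d6000172) (Nat.ble 346 i)) (Nat.ble 345 i)) (Bool.rec (motive := fun _ => Nat) (0x20000d7000156) (Bool.rec (motive := fun _ => Nat) (0x60000d700015d) (0x80000d8000176) (Nat.ble 349 i)) (Nat.ble 348 i)) (Nat.ble 347 i)) (Bool.rec (motive := fun _ => Nat) (Bool.rec (motive := fun _ => Nat) (0xa0000d8000177) (Bool.rec (motive := fun _ => Nat) (0x80000d9000179) (0xb0000d900017a) (Nat.ble 352 i)) (Nat.ble 351 i)) (Bool.rec (motive := fun _ => Nat) (Bool.rec (motive := fun _ => Nat) (0x60000da00017c) (0xa0000da00017d) (Nat.ble 354 i)) (Bool.rec (motive := fun _ => Nat) (0xb0000da00017e) (0x80000db00017f) (Nat.ble 356 i)) (Nat.ble 355 i)) (Nat.ble 353 i)) (Nat.ble 350 i)) (Nat.ble 344 i)) (Nat.ble 331 i))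
noncomputable def SAP_7 (i : Nat) : Nat := (Bool.rec (motive := fun _ => Nat) (Bool.rec (motive := fun _ => Nat) (Bool.rec (motive := fun _ => Nat) (Bool.rec (motive := fun _ => Nat) (Bool.rec (motive := fun _ => Nat) (0xa0000db0000e9) (Bool.rec (motive := fun _ => Nat) (0x60000dc000181) (0xa0000dc000182) (Nat.ble 359 i)) (Nat.ble 358 i)) (Bool.rec (motive := fun _ => Nat) (0xb0000dc000183) (Bool.rec (motive := fun _ => Nat) (0x80000dd000184) (0x40000de000186) (Nat.ble 362 i)) (Nat.ble 361 i)) (Nat.ble 360 i)) (Bool.rec (motive := fun _ => Nat) (Bool.rec (motive := fun _ => Nat) (0xa0000de000187) (Bool.rec (motive := fun _ => Nat) (0x80000df00018a) (0xb0000e000018d) (Nat.ble 365 i)) (Nat.ble 364 i)) (Bool.rec (motive := fun _ => Nat) (Bool.rec (motive := fun _ => Nat) (0x60000e1000188) (0xa0000e1000133) (Nat.ble 367 i)) (Bool.rec (motive := fun _ => Nat) (0xb0000e100018f) (0x80000e20000f3) (Nat.ble 369 i)) (Nat.ble 368 i)) (Nat.ble 366 i)) (Nat.ble 363 i)) (Bool.rec (motive := fun _ => Nat) (Bool.rec (motive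 := fun _ => Nat) (Bool.rec (motive := fun _ => Nat) (0x40000e3000191) (Bool.rec (motive := fun _ => Nat) (0xa0000e3000192) (0xb0000e3000193) (Nat.ble 372 i)) (Nat.ble 371 i)) (Bool.rec (motive := fun _ => Nat) (0xa0000e4000196) (Bool.rec (motive := fun _ => Nat) (0x80000e5000198) (0x60000e6000194) (Nat.ble 375 i)) (Nat.ble 374 i)) (Nat.ble 373 i)) (Bool.rec (motive := fun _ => Nat) (Bool.rec (motive := fun _ => Nat) (0xa0000e600019b) (Bool.rec (motive := fun _ => Nat) (0xb0000e600019c) (0x80000e7000102) (Nat.ble 378 i)) (Nat.ble 377 i)) (Bool.rec (motive := fun _ => Nat) (Bool.rec (motive := fun _ => Nat) (0x80000e80000f8) (0x80000eb000139) (Nat.ble 380 i)) (Bool.rec (motive := fun _ => Nat) (0xa0000ec000103) (0xb0000ee0000fb) (Nat.ble 382 i)) (Nat.ble 381 i)) (Nat.ble 379 i)) (Nat.ble 376 i)) (Nat.ble 370 i)) (Bool.rec (motive := fun _ => Nat) (Bool.rec (motive := fun _ => Nat) (Bool.rec (motive := fun _ => Nat) (Bool.rec (motive := fun _ => Nat) (0x20000ef000180) (Bool.rec (motive := fun _ => Nat) (0x60000ef000189)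 (0xb0000ef000190) (Nat.ble 385 i)) (Nat.ble 384 i)) (Bool.rec (motive := fun _ => Nat) (0xf3000178) (Bool.rec (motive := fun _ => Nat) (0x60000f3000129) (0x60000f5000106) (Nat.ble 388 i)) (Nat.ble 387 i)) (Nat.ble 386 i)) (Bool.rec (motive := fun _ => Nat) (Bool.rec (motive := fun _ => Nat) (0xf900019e) (Bool.rec (motive := fun _ => Nat) (0xa0000f900019f) (0xb0000f90001a0) (Nat.ble 391 i)) (Nat.ble 390 i)) (Bool.rec (motive := fun _ => Nat) (Bool.rec (motive := fun _ => Nat) (0x80000fa0001a1) (0xa0000fa0001a2) (Nat.ble 393 i)) (Bool.rec (motive := fun _ => Nat) (0x80000fb0001a4) (0xb0000fb0001a5) (Nat.ble 395 i)) (Nat.ble 394 i)) (Nat.ble 392 i)) (Nat.ble 389 i)) (Bool.rec (motive := fun _ => Nat) (Bool.rec (motive := fun _ => Nat) (Bool.rec (motive := fun _ => Nat) (0x60000fc0001a7) (Bool.rec (motive := fun _ => Nat) (0xa0000fc0001a8) (0xb0000fc0001a9) (Nat.ble 398 i)) (Nat.ble 397 i)) (Bool.rec (motive := fun _ => Nat) (0x80000fd0001aa) (Bool.rec (motive := fun _ => Nat) (0xa0000fd000110) (0x60000fe0001ab)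 (Nat.ble 401 i)) (Nat.ble 400 i)) (Nat.ble 399 i)) (Bool.rec (motive := fun _ => Nat) (Bool.rec (motive := fun _ => Nat) (0xa0000fe0001ac) (Bool.rec (motive := fun _ => Nat) (0xb0000fe0001ad) (0x40001000001a3) (Nat.ble 404 i)) (Nat.ble 403 i)) (Bool.rec (motive := fun _ => Nat) (Bool.rec (motive := fun _ => Nat) (0xa0001020001af) (0xb0001020001b0) (Nat.ble 406 i)) (Bool.rec (motive := fun _ => Nat) (0x80001030001b1) (0xa0001030001b2) (Nat.ble 408 i)) (Nat.ble 407 i)) (Nat.ble 405 i)) (Nat.ble 402 i)) (Nat.ble 396 i)) (Nat.ble 383 i))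
noncomputable def SAP_8 (i : Nat) : Nat := (Bool.rec (motive := fun _ => Nat) (Bool.rec (motive := fun _ => Nat) (Bool.rec (motive := fun _ => Nat) (Bool.rec (motive := fun _ => Nat) (Bool.rec (motive := fun _ => Nat) (0x80001040001b4) (Bool.rec (motive := fun _ => Nat) (0xb0001040001b5) (0x60001050001b7) (Nat.ble 411 i)) (Nat.ble 410 i)) (Bool.rec (motive := fun _ => Nat) (0xa0001050001b8) (Bool.rec (motive := fun _ => Nat) (0xb0001050001b9) (0x80001060001ba) (Nat.ble 414 i)) (Nat.ble 413 i)) (Nat.ble 412 i)) (Bool.rec (motive := fun _ => Nat) (Bool.rec (motive := fun _ => Nat) (0xa000106000119) (Bool.rec (motive := fun _ => Nat) (0x60001070001bc) (0xa0001070001bd) (Nat.ble 417 i)) (Nat.ble 416 i)) (Bool.rec (motive := fun _ => Nat) (0xb0001070001be) (Bool.rec (motive := fun _ => Nat) (0x80001080001bf) (0xb0001090001c1) (Nat.ble 420 i)) (Nat.ble 419 i)) (Nat.ble 418 i)) (Nat.ble 415 i)) (Bool.rec (motive := fun _ => Nat) (Bool.rec (motive := fun _ => Nat) (Bool.rec (motive := fun _ => Nat) (0x800010a0001c2)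 (Bool.rec (motive := fun _ => Nat) (0xa00010a000173) (0xb00010c0001c3) (Nat.ble 423 i)) (Nat.ble 422 i)) (Bool.rec (motive := fun _ => Nat) (0x400010e0001bb) (Bool.rec (motive := fun _ => Nat) (0xb00010e0001c4) (0xa00010f00016b) (Nat.ble 426 i)) (Nat.ble 425 i)) (Nat.ble 424 i)) (Bool.rec (motive := fun _ => Nat) (Bool.rec (motive := fun _ => Nat) (0x80001100001c5) (Bool.rec (motive := fun _ => Nat) (0x20001110001b3) (0x60001110001a6) (Nat.ble 429 i)) (Nat.ble 428 i)) (Bool.rec (motive := fun _ => Nat) (Bool.rec (motive := fun _ => Nat) (0x80001120001c7) (0xa0001120001c8) (Nat.ble 431 i)) (Bool.rec (motive := fun _ => Nat) (0x80001130001ca) (0xb0001130001cb) (Nat.ble 433 i)) (Nat.ble 432 i)) (Nat.ble 430 i)) (Nat.ble 427 i)) (Nat.ble 421 i)) (Bool.rec (motive := fun _ => Nat) (Bool.rec (motive := fun _ => Nat) (Bool.rec (motive := fun _ => Nat) (Bool.rec (motive := fun _ => Nat) (0x60001140001cd) (Bool.rec (motive := fun _ => Nat) (0xa0001140001ce) (0xb0001140001cf) (Nat.ble 436 i)) (Nat.ble 435 i)) (Bool.rec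 (motive := fun _ => Nat) (0x80001150001d0) (Bool.rec (motive := fun _ => Nat) (0xa0001160001d2) (0x80001170001d3) (Nat.ble 439 i)) (Nat.ble 438 i)) (Nat.ble 437 i)) (Bool.rec (motive := fun _ => Nat) (Bool.rec (motive := fun _ => Nat) (0x40001180001d5) (Bool.rec (motive := fun _ => Nat) (0xa0001180001d6) (0xb0001180001d7) (Nat.ble 442 i)) (Nat.ble 441 i)) (Bool.rec (motive := fun _ => Nat) (Bool.rec (motive := fun _ => Nat) (0x80001190001da) (0xa000119000199) (Nat.ble 444 i)) (Bool.rec (motive := fun _ => Nat) (0x600011b0001d8) (0xb00011b0001db) (Nat.ble 446 i)) (Nat.ble 445 i)) (Nat.ble 443 i)) (Nat.ble 440 i)) (Bool.rec (motive := fun _ => Nat) (Bool.rec (motive := fun _ => Nat) (Bool.rec (motive := fun _ => Nat) (0x400011c0001dd) (Bool.rec (motive := fun _ => Nat) (0xb00011c0001de) (0xa00011d00018c) (Nat.ble 449 i)) (Nat.ble 448 i)) (Bool.rec (motive := fun _ => Nat) (0x800011e0001e1) (Bool.rec (motive := fun _ => Nat) (0x600011f0001df) (0xb00011f0001e3) (Nat.ble 452 i)) (Nat.ble 451 i)) (Nat.ble 450 i))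 (Bool.rec (motive := fun _ => Nat) (Bool.rec (motive := fun _ => Nat) (0xb0001230000ff) (Bool.rec (motive := fun _ => Nat) (0x20001240001d1) (0x60001240001d9) (Nat.ble 455 i)) (Nat.ble 454 i)) (Bool.rec (motive := fun _ => Nat) (Bool.rec (motive := fun _ => Nat) (0xb0001240001dc) (0x1280001c9) (Nat.ble 457 i)) (Bool.rec (motive := fun _ => Nat) (0xa0001290001e4) (0xb0001290001e5) (Nat.ble 459 i)) (Nat.ble 458 i)) (Nat.ble 456 i)) (Nat.ble 453 i)) (Nat.ble 447 i)) (Nat.ble 434 i))
noncomputable def SAP_9 (i : Nat) : Nat := (Bool.rec (motive := fun _ => Nat) (Bool.rec (motive := fun _ => Nat) (Bool.rec (motive := fun _ => Nat) (Bool.rec (motive := fun _ => Nat) (Bool.rec (motive := fun _ => Nat) (0xa00012a0001e6) (Bool.rec (motive := fun _ => Nat) (0xb00012a0001e7) (0x800012b0001e8) (Nat.ble 462 i)) (Nat.ble 461 i)) (Bool.rec (motive := fun _ => Nat) (0xa00012b0001e9) (Bool.rec (motive := fun _ => Nat) (0x800012c0001eb) (0xb00012c0001ec) (Nat.ble 465 i)) (Nat.ble 464 i)) (Nat.ble 463 i)) (Bool.rec (motive :=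 fun _ => Nat) (Bool.rec (motive := fun _ => Nat) (0xa00012d0001ee) (Bool.rec (motive := fun _ => Nat) (0xb00012e0001f0) (0xa00012f0001f2) (Nat.ble 468 i)) (Nat.ble 467 i)) (Bool.rec (motive := fun _ => Nat) (0xb00012f0001f3) (Bool.rec (motive := fun _ => Nat) (0x80001300001f4) (0xa000130000145) (Nat.ble 471 i)) (Nat.ble 470 i)) (Nat.ble 469 i)) (Nat.ble 466 i)) (Bool.rec (motive := fun _ => Nat) (Bool.rec (motive := fun _ => Nat) (Bool.rec (motive := fun _ => Nat) (0xa0001310001f6) (Bool.rec (motive := fun _ => Nat) (0xb0001310001f7) (0x80001320001f8) (Nat.ble 474 i)) (Nat.ble 473 i)) (Bool.rec (motive := fun _ => Nat) (0xa0001330001fa) (Bool.rec (motive := fun _ => Nat) (0xb0001330001fb) (0x80001340001fc) (Nat.ble 477 i)) (Nat.ble 476 i)) (Nat.ble 475 i)) (Bool.rec (motive := fun _ => Nat) (Bool.rec (motive := fun _ => Nat) (0xa0001340001fd) (Bool.rec (motive := fun _ => Nat) (0xb000135000200) (0x600013600014d) (Nat.ble 480 i)) (Nat.ble 479 i)) (Bool.rec (motive := fun _ => Nat) (Bool.rec (motive := fun _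 => Nat) (0xa0001360001ae) (0xb000136000202) (Nat.ble 482 i)) (Bool.rec (motive := fun _ => Nat) (0x40001380001f5) (0xb000138000203) (Nat.ble 484 i)) (Nat.ble 483 i)) (Nat.ble 481 i)) (Nat.ble 478 i)) (Nat.ble 472 i)) (Bool.rec (motive := fun _ => Nat) (Bool.rec (motive := fun _ => Nat) (Bool.rec (motive := fun _ => Nat) (Bool.rec (motive := fun _ => Nat) (0xa000139000204) (Bool.rec (motive := fun _ => Nat) (0x800013a000206) (0x200013b0001ea) (Nat.ble 487 i)) (Nat.ble 486 i)) (Bool.rec (motive := fun _ => Nat) (0x600013b0001f1) (Bool.rec (motive := fun _ => Nat) (0xa00013c00020a) (0xb00013c00020b) (Nat.ble 490 i)) (Nat.ble 489 i)) (Nat.ble 488 i)) (Bool.rec (motive := fun _ => Nat) (Bool.rec (motive := fun _ => Nat) (0x800013d00020c) (Bool.rec (motive := fun _ => Nat) (0xa00013d00020d) (0x800013e00020f) (Nat.ble 493 i)) (Nat.ble 492 i)) (Bool.rec (motive := fun _ => Nat) (Bool.rec (motive := fun _ => Nat) (0xb00013e000210) (0xa00013f000212) (Nat.ble 495 i)) (Bool.rec (motive := fun _ => Nat) (0xb00013f000213)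 (0xa000140000214) (Nat.ble 497 i)) (Nat.ble 496 i)) (Nat.ble 494 i)) (Nat.ble 491 i)) (Bool.rec (motive := fun _ => Nat) (Bool.rec (motive := fun _ => Nat) (Bool.rec (motive := fun _ => Nat) (0xb000141000216) (Bool.rec (motive := fun _ => Nat) (0xa000142000218) (0xb000142000219) (Nat.ble 500 i)) (Nat.ble 499 i)) (Bool.rec (motive := fun _ => Nat) (0x800014300021a) (Bool.rec (motive := fun _ => Nat) (0xa000143000159) (0xa00014400021c) (Nat.ble 503 i)) (Nat.ble 502 i)) (Nat.ble 501 i)) (Bool.rec (motive := fun _ => Nat) (Bool.rec (motive := fun _ => Nat) (0xb00014400021d) (Bool.rec (motive := fun _ => Nat) (0x800014500021e) (0xb00014700015b) (Nat.ble 506 i)) (Nat.ble 505 i)) (Bool.rec (motive := fun _ => Nat) (Bool.rec (motive := fun _ => Nat) (0x8000148000220) (0xa000148000221) (Nat.ble 508 i)) (Bool.rec (motive := fun _ => Nat) (0xb000149000224) (0xa00014a0001c0) (Nat.ble 510 i)) (Nat.ble 509 i)) (Nat.ble 507 i)) (Nat.ble 504 i)) (Nat.ble 498 i)) (Nat.ble 485 i))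
noncomputable def SAP_10 (i : Nat) : Nat := (Bool.rec (motive := fun _ => Nat) (Bool.rec (motive := fun _ => Nat) (Bool.rec (motive := fun _ => Nat) (Bool.rec (motive := fun _ => Nat) (Bool.rec (motive := fun _ => Nat) (0xb00014a000226) (Bool.rec (motive := fun _ => Nat) (0x800014b000165) (0xa00014c000228) (Nat.ble 513 i)) (Nat.ble 512 i)) (Bool.rec (motive := fun _ => Nat) (0x800014d00022a) (Bool.rec (motive := fun _ => Nat) (0xa00014e00022d) (0xb00014e00022e) (Nat.ble 516 i)) (Nat.ble 515 i)) (Nat.ble 514 i)) (Bool.rec (motive := fun _ => Nat) (Bool.rec (motive := fun _ => Nat) (0x800014f000174) (Bool.rec (motive := fun _ => Nat) (0x800015000016a) (0x80001530001c6) (Nat.ble 519 i)) (Nat.ble 518 i)) (Bool.rec (motive := fun _ => Nat) (0xa000154000175) (Bool.rec (motive := fun _ => Nat) (0xb00015600016d) (0x200015700021b) (Nat.ble 522 i)) (Nat.ble 521 i)) (Nat.ble 520 i)) (Nat.ble 517 i)) (Bool.rec (motive := fun _ => Nat) (Bool.rec (motive := fun _ => Nat) (Bool.rec (motive := fun _ => Nat) (0xb000157000227)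 (Bool.rec (motive := fun _ => Nat) (0x15b00020e) (0x600015b000217) (Nat.ble 525 i)) (Nat.ble 524 i)) (Bool.rec (motive := fun _ => Nat) (0xb00015d000230) (Bool.rec (motive := fun _ => Nat) (0x800015e000231) (0xa00015e00017b) (Nat.ble 528 i)) (Nat.ble 527 i)) (Nat.ble 526 i)) (Bool.rec (motive := fun _ => Nat) (Bool.rec (motive := fun _ => Nat) (0x600015f000232) (Bool.rec (motive := fun _ => Nat) (0xa00015f000233) (0xb00015f000234) (Nat.ble 531 i)) (Nat.ble 530 i)) (Bool.rec (motive := fun _ => Nat) (Bool.rec (motive := fun _ => Nat) (0x8000160000235) (0x8000162000237) (Nat.ble 533 i)) (Bool.rec (motive := fun _ => Nat) (0x60001640001e2) (0xa0001640001d4) (Nat.ble 535 i)) (Nat.ble 534 i)) (Nat.ble 532 i)) (Nat.ble 529 i)) (Nat.ble 523 i)) (Bool.rec (motive := fun _ => Nat) (Bool.rec (motive := fun _ => Nat) (Bool.rec (motive := fun _ => Nat) (Bool.rec (motive := fun _ => Nat) (0xb00016400023b) (Bool.rec (motive := fun _ => Nat) (0x8000165000185) (0x400016600023c) (Nat.ble 538 i)) (Nat.ble 537 i)) (Bool.rec (motive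 := fun _ => Nat) (0xa00016600023d) (Bool.rec (motive := fun _ => Nat) (0xb00016600023e) (0xa000167000241) (Nat.ble 541 i)) (Nat.ble 540 i)) (Nat.ble 539 i)) (Bool.rec (motive := fun _ => Nat) (Bool.rec (motive := fun _ => Nat) (0x8000168000243) (Bool.rec (motive := fun _ => Nat) (0x600016900023f) (0xa000169000246) (Nat.ble 544 i)) (Nat.ble 543 i)) (Bool.rec (motive := fun _ => Nat) (Bool.rec (motive := fun _ => Nat) (0xb000169000247) (0x600016a000249) (Nat.ble 546 i)) (Bool.rec (motive := fun _ => Nat) (0xa00016a00024a) (0x800016b000248) (Nat.ble 548 i)) (Nat.ble 547 i)) (Nat.ble 545 i)) (Nat.ble 542 i)) (Bool.rec (motive := fun _ => Nat) (Bool.rec (motive := fun _ => Nat) (Bool.rec (motive := fun _ => Nat) (0x600016c00024d) (Bool.rec (motive := fun _ => Nat) (0x400016e00024b) (0xa00016e00023a) (Nat.ble 551 i)) (Nat.ble 550 i)) (Bool.rec (motive := fun _ => Nat) (0xb00016e0001e0) (Bool.rec (motive := fun _ => Nat) (0xa00016f00018b) (0xb00017000018e) (Nat.ble 554 i)) (Nat.ble 553 i)) (Nat.ble 552 i)) (Bool.rec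 (motive := fun _ => Nat) (Bool.rec (motive := fun _ => Nat) (0x6000171000195) (Bool.rec (motive := fun _ => Nat) (0xa00017100019d) (0x200017200024e) (Nat.ble 557 i)) (Nat.ble 556 i)) (Bool.rec (motive := fun _ => Nat) (Bool.rec (motive := fun _ => Nat) (0x600017200024f) (0xa000172000250) (Nat.ble 559 i)) (Bool.rec (motive := fun _ => Nat) (0xb000172000251) (0x8000174000254) (Nat.ble 561 i)) (Nat.ble 560 i)) (Nat.ble 558 i)) (Nat.ble 555 i)) (Nat.ble 549 i)) (Nat.ble 536 i))
noncomputable def SAP_11 (i : Nat) : Nat := (Bool.rec (motive := fun _ => Nat) (Bool.rec (motive := fun _ => Nat) (Bool.rec (motive := fun _ => Nat) (Bool.rec (motive := fun _ => Nat) (Bool.rec (motive := fun _ => Nat) (0xb000174000255) (Bool.rec (motive := fun _ => Nat) (0x6000176000259) (0xa00017600019a) (Nat.ble 564 i)) (Nat.ble 563 i)) (Bool.rec (motive := fun _ => Nat) (0x4000177000252) (Bool.rec (motive := fun _ => Nat) (0xb000177000257) (0x400018000024c) (Nat.ble 567 i)) (Nat.ble 566 i)) (Nat.ble 565 i)) (Bool.rec (motive := fun _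 => Nat) (Bool.rec (motive := fun _ => Nat) (0x60001820001cc) (Bool.rec (motive := fun _ => Nat) (0x40001830001b6) (0xa00018500025a) (Nat.ble 570 i)) (Nat.ble 569 i)) (Bool.rec (motive := fun _ => Nat) (Bool.rec (motive := fun _ => Nat) (0xb00018500025b) (0x800018600025c) (Nat.ble 572 i)) (Bool.rec (motive := fun _ => Nat) (0xa00018600025d) (0x800018700025f) (Nat.ble 574 i)) (Nat.ble 573 i)) (Nat.ble 571 i)) (Nat.ble 568 i)) (Bool.rec (motive := fun _ => Nat) (Bool.rec (motive := fun _ => Nat) (Bool.rec (motive := fun _ => Nat) (0xb000187000260) (Bool.rec (motive := fun _ => Nat) (0xb000188000262) (0x8000189000263) (Nat.ble 577 i)) (Nat.ble 576 i)) (Bool.rec (motive := fun _ => Nat) (0x600018a000265) (Bool.rec (motive := fun _ => Nat) (0xa00018a000266) (0xb00018a000267) (Nat.ble 580 i)) (Nat.ble 579 i)) (Nat.ble 578 i)) (Bool.rec (motive := fun _ => Nat) (Bool.rec (motive := fun _ => Nat) (0x800018b000268) (Bool.rec (motive := fun _ => Nat) (0xb00018c00026a) (0x800018d00026b) (Nat.ble 583 i)) (Nat.ble 582 i))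 (Bool.rec (motive := fun _ => Nat) (Bool.rec (motive := fun _ => Nat) (0xa00018d000207) (0xb00018f00026c) (Nat.ble 585 i)) (Bool.rec (motive := fun _ => Nat) (0x4000191000264) (0xb00019100026d) (Nat.ble 587 i)) (Nat.ble 586 i)) (Nat.ble 584 i)) (Nat.ble 581 i)) (Nat.ble 575 i)) (Bool.rec (motive := fun _ => Nat) (Bool.rec (motive := fun _ => Nat) (Bool.rec (motive := fun _ => Nat) (Bool.rec (motive := fun _ => Nat) (0xa0001920001ff) (Bool.rec (motive := fun _ => Nat) (0x800019300026e) (0x200019400025e) (Nat.ble 590 i)) (Nat.ble 589 i)) (Bool.rec (motive := fun _ => Nat) (0x8000195000270) (Bool.rec (motive := fun _ => Nat) (0xa000195000271) (0x8000196000273) (Nat.ble 593 i)) (Nat.ble 592 i)) (Nat.ble 591 i)) (Bool.rec (motive := fun _ => Nat) (Bool.rec (motive := fun _ => Nat) (0xb000196000274) (Bool.rec (motive := fun _ => Nat) (0x6000197000276) (0xa000197000277) (Nat.ble 596 i)) (Nat.ble 595 i)) (Bool.rec (motive := fun _ => Nat) (Bool.rec (motive := fun _ => Nat) (0xb000197000278) (0x8000198000279) (Nat.ble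 598 i)) (Bool.rec (motive := fun _ => Nat) (0x600019900027b) (0xa00019900027c) (Nat.ble 600 i)) (Nat.ble 599 i)) (Nat.ble 597 i)) (Nat.ble 594 i)) (Bool.rec (motive := fun _ => Nat) (Bool.rec (motive := fun _ => Nat) (Bool.rec (motive := fun _ => Nat) (0x800019a00027d) (Bool.rec (motive := fun _ => Nat) (0xa00019b00027f) (0xa00019c00022b) (Nat.ble 603 i)) (Nat.ble 602 i)) (Bool.rec (motive := fun _ => Nat) (0x600019e000280) (Bool.rec (motive := fun _ => Nat) (0xb00019e000282) (0xb0001a0000223) (Nat.ble 606 i)) (Nat.ble 605 i)) (Nat.ble 604 i)) (Bool.rec (motive := fun _ => Nat) (Bool.rec (motive := fun _ => Nat) (0x80001a2000285) (Bool.rec (motive := fun _ => Nat) (0x60001a3000284) (0xb0001a7000171) (Nat.ble 609 i)) (Nat.ble 608 i)) (Bool.rec (motive := fun _ => Nat) (Bool.rec (motive := fun _ => Nat) (0x20001a800027a) (0x60001a8000281) (Nat.ble 611 i)) (Bool.rec (motive := fun _ => Nat) (0xb0001a8000283) (0x1ac000272) (Nat.ble 613 i)) (Nat.ble 612 i)) (Nat.ble 610 i)) (Nat.ble 607 i)) (Nat.ble 601 i)) (Nat.ble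 588 i))
noncomputable def SAP_12 (i : Nat) : Nat := (Bool.rec (motive := fun _ => Nat) (Bool.rec (motive := fun _ => Nat) (Bool.rec (motive := fun _ => Nat) (Bool.rec (motive := fun _ => Nat) (Bool.rec (motive := fun _ => Nat) (0x60001ac000261) (Bool.rec (motive := fun _ => Nat) (0x80001ad000269) (0x60001ae000244) (Nat.ble 616 i)) (Nat.ble 615 i)) (Bool.rec (motive := fun _ => Nat) (0xb0001ae000287) (Bool.rec (motive := fun _ => Nat) (0x80001af000288) (0x40001b2000289) (Nat.ble 619 i)) (Nat.ble 618 i)) (Nat.ble 617 i)) (Bool.rec (motive := fun _ => Nat) (Bool.rec (motive := fun _ => Nat) (0xa0001b200028a) (Bool.rec (motive := fun _ => Nat) (0x60001b500028b) (0xb0001b500028c) (Nat.ble 622 i)) (Nat.ble 621 i)) (Bool.rec (motive := fun _ => Nat) (0xa0001b6000239) (Bool.rec (motive := fun _ => Nat) (0x20001b800028d) (0xa0001b800028e) (Nat.ble 625 i)) (Nat.ble 624 i)) (Nat.ble 623 i)) (Nat.ble 620 i)) (Bool.rec (motive := fun _ => Nat) (Bool.rec (motive := fun _ => Nat) (Bool.rec (motive := fun _ => Nat) (0xb0001b800028f)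 (Bool.rec (motive := fun _ => Nat) (0x80001b9000291) (0x40001bd000290) (Nat.ble 628 i)) (Nat.ble 627 i)) (Bool.rec (motive := fun _ => Nat) (0xa0001bd000292) (Bool.rec (motive := fun _ => Nat) (0xb0001be000197) (0x80001ca000294) (Nat.ble 631 i)) (Nat.ble 630 i)) (Nat.ble 629 i)) (Bool.rec (motive := fun _ => Nat) (Bool.rec (motive := fun _ => Nat) (0xa0001ca000295) (Bool.rec (motive := fun _ => Nat) (0x80001cb000297) (0xb0001cb000298) (Nat.ble 634 i)) (Nat.ble 633 i)) (Bool.rec (motive := fun _ => Nat) (Bool.rec (motive := fun _ => Nat) (0xa0001cc00029a) (0xb0001cd00029c) (Nat.ble 636 i)) (Bool.rec (motive := fun _ => Nat) (0xa0001ce00029e) (0xb0001ce00029f) (Nat.ble 638 i)) (Nat.ble 637 i)) (Nat.ble 635 i)) (Nat.ble 632 i)) (Nat.ble 626 i)) (Bool.rec (motive := fun _ => Nat) (Bool.rec (motive := fun _ => Nat) (Bool.rec (motive := fun _ => Nat) (Bool.rec (motive := fun _ => Nat) (0x80001cf0002a0) (Bool.rec (motive := fun _ => Nat) (0xa0001cf0001ed) (0xa0001d00002a2) (Nat.ble 641 i)) (Nat.ble 640 i)) (Bool.rec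 (motive := fun _ => Nat) (0xb0001d00002a3) (Bool.rec (motive := fun _ => Nat) (0x80001d10002a4) (0xb0001d30001ef) (Nat.ble 644 i)) (Nat.ble 643 i)) (Nat.ble 642 i)) (Bool.rec (motive := fun _ => Nat) (Bool.rec (motive := fun _ => Nat) (0x80001d40002a6) (Bool.rec (motive := fun _ => Nat) (0xa0001d40002a7) (0xb0001d50002aa) (Nat.ble 647 i)) (Nat.ble 646 i)) (Bool.rec (motive := fun _ => Nat) (Bool.rec (motive := fun _ => Nat) (0xb0001d60002ac) (0x80001d70001f9) (Nat.ble 649 i)) (Bool.rec (motive := fun _ => Nat) (0x80001d90002af) (0xa0001da0002b1) (Nat.ble 651 i)) (Nat.ble 650 i)) (Nat.ble 648 i)) (Nat.ble 645 i)) (Bool.rec (motive := fun _ => Nat) (Bool.rec (motive := fun _ => Nat) (Bool.rec (motive := fun _ => Nat) (0xb0001da0002b2) (Bool.rec (motive := fun _ => Nat) (0x80001db000208) (0x80001dc0001fe) (Nat.ble 654 i)) (Nat.ble 653 i)) (Bool.rec (motive := fun _ => Nat) (0x80001df00026f) (Bool.rec (motive := fun _ => Nat) (0xa0001e0000209) (0xb0001e2000201) (Nat.ble 657 i)) (Nat.ble 656 i)) (Nat.ble 655 i))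 (Bool.rec (motive := fun _ => Nat) (Bool.rec (motive := fun _ => Nat) (0x20001e30002a1) (Bool.rec (motive := fun _ => Nat) (0xb0001e30002ad) (0x1e7000296) (Nat.ble 660 i)) (Nat.ble 659 i)) (Bool.rec (motive := fun _ => Nat) (Bool.rec (motive := fun _ => Nat) (0x60001e700029d) (0xa0001e90002b3) (Nat.ble 662 i)) (Bool.rec (motive := fun _ => Nat) (0xb0001ea0002b5) (0xb0001eb0002b7) (Nat.ble 664 i)) (Nat.ble 663 i)) (Nat.ble 661 i)) (Nat.ble 658 i)) (Nat.ble 652 i)) (Nat.ble 639 i))
noncomputable def SAP_13 (i : Nat) : Nat := (Bool.rec (motive := fun _ => Nat) (Bool.rec (motive := fun _ => Nat) (Bool.rec (motive := fun _ => Nat) (Bool.rec (motive := fun _ => Nat) (Bool.rec (motive := fun _ => Nat) (0x80001ec0002b8) (Bool.rec (motive := fun _ => Nat) (0xa0001ec000211) (0xa0001ed0002b9) (Nat.ble 667 i)) (Nat.ble 666 i)) (Bool.rec (motive := fun _ => Nat) (0xb0001ed0002ba) (Bool.rec (motive := fun _ => Nat) (0x80001ee0002bb) (0xa0001ef0002bd) (Nat.ble 670 i)) (Nat.ble 669 i)) (Nat.ble 668 i)) (Bool.rec (motive :=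 fun _ => Nat) (Bool.rec (motive := fun _ => Nat) (0xb0001f00002bf) (Bool.rec (motive := fun _ => Nat) (0xb0001f2000215) (0x80001f30002c1) (Nat.ble 673 i)) (Nat.ble 672 i)) (Bool.rec (motive := fun _ => Nat) (0xa0001f500027e) (Bool.rec (motive := fun _ => Nat) (0xb0001f50002c5) (0x80001f600021f) (Nat.ble 676 i)) (Nat.ble 675 i)) (Nat.ble 674 i)) (Nat.ble 671 i)) (Bool.rec (motive := fun _ => Nat) (Bool.rec (motive := fun _ => Nat) (Bool.rec (motive := fun _ => Nat) (0xa0001f70002c6) (Bool.rec (motive := fun _ => Nat) (0x80001f80002c8) (0xa0001f90002cb) (Nat.ble 679 i)) (Nat.ble 678 i)) (Bool.rec (motive := fun _ => Nat) (0xb0001f90002cc) (Bool.rec (motive := fun _ => Nat) (0x60001fb0002ce) (0x80001fd000286) (Nat.ble 682 i)) (Nat.ble 681 i)) (Nat.ble 680 i)) (Bool.rec (motive := fun _ => Nat) (Bool.rec (motive := fun _ => Nat) (0xa0001fe000222) (Bool.rec (motive := fun _ => Nat) (0xb0001ff000225) (0xa00020000022f) (Nat.ble 685 i)) (Nat.ble 684 i)) (Bool.rec (motive := fun _ => Nat) (Bool.rec (motive := fun _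 => Nat) (0x60002020002cf) (0xa00020200022c) (Nat.ble 687 i)) (Bool.rec (motive := fun _ => Nat) (0x600020c0002b6) (0x400020d0002c0) (Nat.ble 689 i)) (Nat.ble 688 i)) (Nat.ble 686 i)) (Nat.ble 683 i)) (Nat.ble 677 i)) (Bool.rec (motive := fun _ => Nat) (Bool.rec (motive := fun _ => Nat) (Bool.rec (motive := fun _ => Nat) (Bool.rec (motive := fun _ => Nat) (0xb00020f000256) (Bool.rec (motive := fun _ => Nat) (0x8000210000236) (0x40002110002d0) (Nat.ble 692 i)) (Nat.ble 691 i)) (Bool.rec (motive := fun _ => Nat) (0xa0002120002d1) (Bool.rec (motive := fun _ => Nat) (0x8000213000240) (0xa000217000238) (Nat.ble 695 i)) (Nat.ble 694 i)) (Nat.ble 693 i)) (Bool.rec (motive := fun _ => Nat) (Bool.rec (motive := fun _ => Nat) (0x200021a0002d3) (Bool.rec (motive := fun _ => Nat) (0x600021a0002d4) (0xa00021a0002d5) (Nat.ble 698 i)) (Nat.ble 697 i)) (Bool.rec (motive := fun _ => Nat) (Bool.rec (motive := fun _ => Nat) (0xb00021a0002d6) (0xa00021e000245) (Nat.ble 700 i)) (Bool.rec (motive := fun _ => Nat) (0x400021f0002d7)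 (0x80002230002cd) (Nat.ble 702 i)) (Nat.ble 701 i)) (Nat.ble 699 i)) (Nat.ble 696 i)) (Bool.rec (motive := fun _ => Nat) (Bool.rec (motive := fun _ => Nat) (Bool.rec (motive := fun _ => Nat) (0x40002250002da) (Bool.rec (motive := fun _ => Nat) (0x6000226000293) (0xa0002260002c4) (Nat.ble 705 i)) (Nat.ble 704 i)) (Bool.rec (motive := fun _ => Nat) (0x8000227000242) (Bool.rec (motive := fun _ => Nat) (0x400022b000253) (0xb00022b000258) (Nat.ble 708 i)) (Nat.ble 707 i)) (Nat.ble 706 i)) (Bool.rec (motive := fun _ => Nat) (Bool.rec (motive := fun _ => Nat) (0x22d0002db) (Bool.rec (motive := fun _ => Nat) (0x600022d0002dc) (0xa00022d0002dd) (Nat.ble 711 i)) (Nat.ble 710 i)) (Bool.rec (motive := fun _ => Nat) (Bool.rec (motive := fun _ => Nat) (0xb00022d0002de) (0x80002300002e1) (Nat.ble 713 i)) (Bool.rec (motive := fun _ => Nat) (0xb0002300002e2) (0x80002320002d9) (Nat.ble 715 i)) (Nat.ble 714 i)) (Nat.ble 712 i)) (Nat.ble 709 i)) (Nat.ble 703 i)) (Nat.ble 690 i))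
noncomputable def SAP_14 (i : Nat) : Nat := (Bool.rec (motive := fun _ => Nat) (Bool.rec (motive := fun _ => Nat) (Bool.rec (motive := fun _ => Nat) (Bool.rec (motive := fun _ => Nat) (Bool.rec (motive := fun _ => Nat) (0x40002330002e6) (Bool.rec (motive := fun _ => Nat) (0x20002350002df) (0xb0002350002e4) (Nat.ble 718 i)) (Nat.ble 717 i)) (Bool.rec (motive := fun _ => Nat) (0x4000238000275) (Bool.rec (motive := fun _ => Nat) (0x800023a0002e7) (0xa00023a0002e8) (Nat.ble 721 i)) (Nat.ble 720 i)) (Nat.ble 719 i)) (Bool.rec (motive := fun _ => Nat) (Bool.rec (motive := fun _ => Nat) (0x800023b0002ea) (Bool.rec (motive := fun _ => Nat) (0xb00023b0002eb) (0xb00023c0002ed) (Nat.ble 724 i)) (Nat.ble 723 i)) (Bool.rec (motive := fun _ => Nat) (0x800023d0002ee) (Bool.rec (motive := fun _ => Nat) (0x600023e0002f0) (0xa00023e0002f1) (Nat.ble 727 i)) (Nat.ble 726 i)) (Nat.ble 725 i)) (Nat.ble 722 i)) (Bool.rec (motive := fun _ => Nat) (Bool.rec (motive := fun _ => Nat) (Bool.rec (motive := fun _ => Nat) (0xb00023e0002f2)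 (Bool.rec (motive := fun _ => Nat) (0x800023f0002f3) (0xb0002420002a9) (Nat.ble 730 i)) (Nat.ble 729 i)) (Bool.rec (motive := fun _ => Nat) (0x80002440002f6) (Bool.rec (motive := fun _ => Nat) (0x60002450002f5) (0xb000249000205) (Nat.ble 733 i)) (Nat.ble 732 i)) (Nat.ble 731 i)) (Bool.rec (motive := fun _ => Nat) (Bool.rec (motive := fun _ => Nat) (0x200024a0002ef) (Bool.rec (motive := fun _ => Nat) (0x24e0002e9) (0x600024f0002f8) (Nat.ble 736 i)) (Nat.ble 735 i)) (Bool.rec (motive := fun _ => Nat) (Bool.rec (motive := fun _ => Nat) (0xb00024f0002f9) (0x80002500002fa) (Nat.ble 738 i)) (Bool.rec (motive := fun _ => Nat) (0xa0002530002fb) (0xa0002540002c9) (Nat.ble 740 i)) (Nat.ble 739 i)) (Nat.ble 737 i)) (Nat.ble 734 i)) (Nat.ble 728 i)) (Bool.rec (motive := fun _ => Nat) (Bool.rec (motive := fun _ => Nat) (Bool.rec (motive := fun _ => Nat) (Bool.rec (motive := fun _ => Nat) (0x60002560002fc) (Bool.rec (motive := fun _ => Nat) (0xb0002560002fe) (0xb0002570002c3) (Nat.ble 743 i)) (Nat.ble 742 i)) (Bool.rec (motive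 := fun _ => Nat) (0xb00025d000229) (Bool.rec (motive := fun _ => Nat) (0x60002620002fd) (0x60002650002ec) (Nat.ble 746 i)) (Nat.ble 745 i)) (Nat.ble 744 i)) (Bool.rec (motive := fun _ => Nat) (Bool.rec (motive := fun _ => Nat) (0x80002660002f4) (Bool.rec (motive := fun _ => Nat) (0xa0002670002a8) (0x200026b0002ff) (Nat.ble 749 i)) (Nat.ble 748 i)) (Bool.rec (motive := fun _ => Nat) (Bool.rec (motive := fun _ => Nat) (0x600026b000300) (0xa00026b000301) (Nat.ble 751 i)) (Bool.rec (motive := fun _ => Nat) (0x400026d000302) (0xa00026d0002d2) (Nat.ble 753 i)) (Nat.ble 752 i)) (Nat.ble 750 i)) (Nat.ble 747 i)) (Bool.rec (motive := fun _ => Nat) (Bool.rec (motive := fun _ => Nat) (Bool.rec (motive := fun _ => Nat) (0x270000303) (Bool.rec (motive := fun _ => Nat) (0xa000270000304) (0xb000270000305) (Nat.ble 756 i)) (Nat.ble 755 i)) (Bool.rec (motive := fun _ => Nat) (0x8000271000307) (Bool.rec (motive := fun _ => Nat) (0x2000274000306) (0xa000274000308) (Nat.ble 759 i)) (Nat.ble 758 i)) (Nat.ble 757 i)) (Bool.rec (motive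 := fun _ => Nat) (Bool.rec (motive := fun _ => Nat) (0xb000277000309) (Bool.rec (motive := fun _ => Nat) (0x800027800030a) (0xa000278000299) (Nat.ble 762 i)) (Nat.ble 761 i)) (Bool.rec (motive := fun _ => Nat) (Bool.rec (motive := fun _ => Nat) (0xa00027900030b) (0xb00027900030c) (Nat.ble 764 i)) (Bool.rec (motive := fun _ => Nat) (0x800027a00030d) (0xb00027c00029b) (Nat.ble 766 i)) (Nat.ble 765 i)) (Nat.ble 763 i)) (Nat.ble 760 i)) (Nat.ble 754 i)) (Nat.ble 741 i))
noncomputable def SAP_15 (i : Nat) : Nat := (Bool.rec (motive := fun _ => Nat) (Bool.rec (motive := fun _ => Nat) (Bool.rec (motive := fun _ => Nat) (Bool.rec (motive := fun _ => Nat) (Bool.rec (motive := fun _ => Nat) (0x800027d00030f) (Bool.rec (motive := fun _ => Nat) (0xb00027e000312) (0xb00027f000314) (Nat.ble 769 i)) (Nat.ble 768 i)) (Bool.rec (motive := fun _ => Nat) (0x80002800002a5) (Bool.rec (motive := fun _ => Nat) (0x8000282000316) (0xa000283000318) (Nat.ble 772 i)) (Nat.ble 771 i)) (Nat.ble 770 i)) (Bool.rec (motive := fun _ => Nat)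 (Bool.rec (motive := fun _ => Nat) (0xb000283000319) (Bool.rec (motive := fun _ => Nat) (0x80002870002f7) (0xb0002880002ab) (Nat.ble 775 i)) (Nat.ble 774 i)) (Bool.rec (motive := fun _ => Nat) (Bool.rec (motive := fun _ => Nat) (0xa00028a0002b0) (0xb0002970002b4) (Nat.ble 777 i)) (Bool.rec (motive := fun _ => Nat) (0xb0002990002e3) (0x800029a0002bc) (Nat.ble 779 i)) (Nat.ble 778 i)) (Nat.ble 776 i)) (Nat.ble 773 i)) (Bool.rec (motive := fun _ => Nat) (Bool.rec (motive := fun _ => Nat) (Bool.rec (motive := fun _ => Nat) (0xa00029b00031a) (Bool.rec (motive := fun _ => Nat) (0x800029c0002d8) (0xb00029f0002be) (Nat.ble 782 i)) (Nat.ble 781 i)) (Bool.rec (motive := fun _ => Nat) (0x60002a100031c) (Bool.rec (motive := fun _ => Nat) (0xa0002a20002c2) (0x60002a600031d) (Nat.ble 785 i)) (Nat.ble 784 i)) (Nat.ble 783 i)) (Bool.rec (motive := fun _ => Nat) (Bool.rec (motive := fun _ => Nat) (0xa0002a60002ca) (Bool.rec (motive := fun _ => Nat) (0xb0002ae0002ae) (0xa0002b800031e) (Nat.ble 788 i)) (Nat.ble 787 i)) (Bool.rec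 (motive := fun _ => Nat) (Bool.rec (motive := fun _ => Nat) (0xb0002b9000321) (0x20002bd00031f) (Nat.ble 790 i)) (Bool.rec (motive := fun _ => Nat) (0x60002bd000322) (0x20002bf000325) (Nat.ble 792 i)) (Nat.ble 791 i)) (Nat.ble 789 i)) (Nat.ble 786 i)) (Nat.ble 780 i)) (Bool.rec (motive := fun _ => Nat) (Bool.rec (motive := fun _ => Nat) (Bool.rec (motive := fun _ => Nat) (Bool.rec (motive := fun _ => Nat) (0x80002c10002c7) (Bool.rec (motive := fun _ => Nat) (0x20002c30002e0) (0xb0002c30002e5) (Nat.ble 795 i)) (Nat.ble 794 i)) (Bool.rec (motive := fun _ => Nat) (0xb0002c8000327) (Bool.rec (motive := fun _ => Nat) (0x80002ca000324) (0x20002cc00032b) (Nat.ble 798 i)) (Nat.ble 797 i)) (Nat.ble 796 i)) (Bool.rec (motive := fun _ => Nat) (Bool.rec (motive := fun _ => Nat) (0xb0002cd000329) (Bool.rec (motive := fun _ => Nat) (0x80002d100032c) (0xb0002d6000311) (Nat.ble 801 i)) (Nat.ble 800 i)) (Bool.rec (motive := fun _ => Nat) (Bool.rec (motive := fun _ => Nat) (0x80002d8000326) (0x60002d900032d) (Nat.ble 803 i))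 (Bool.rec (motive := fun _ => Nat) (0x60002e200032f) (0x40002e5000310) (Nat.ble 805 i)) (Nat.ble 804 i)) (Nat.ble 802 i)) (Nat.ble 799 i)) (Bool.rec (motive := fun _ => Nat) (Bool.rec (motive := fun _ => Nat) (Bool.rec (motive := fun _ => Nat) (0x20002f0000330) (Bool.rec (motive := fun _ => Nat) (0x60002f0000331) (0xa0002f000031b) (Nat.ble 808 i)) (Nat.ble 807 i)) (Bool.rec (motive := fun _ => Nat) (0x2f600032e) (Bool.rec (motive := fun _ => Nat) (0xa0002f6000332) (0xb0002f9000328) (Nat.ble 811 i)) (Nat.ble 810 i)) (Nat.ble 809 i)) (Bool.rec (motive := fun _ => Nat) (Bool.rec (motive := fun _ => Nat) (0x80002fa00030e) (Bool.rec (motive := fun _ => Nat) (0x80002fc000320) (0xb000301000313) (Nat.ble 814 i)) (Nat.ble 813 i)) (Bool.rec (motive := fun _ => Nat) (Bool.rec (motive := fun _ => Nat) (0xa000303000317) (0x600030d000323) (Nat.ble 816 i)) (Bool.rec (motive := fun _ => Nat) (0xb000311000315) (0x800031700032a) (Nat.ble 818 i)) (Nat.ble 817 i)) (Nat.ble 815 i)) (Nat.ble 812 i)) (Nat.ble 806 i)) (Nat.ble 793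 i))
noncomputable def SAP (i : Nat) : Nat := (Bool.rec (motive := fun _ => Nat) (Bool.rec (motive := fun _ => Nat) (Bool.rec (motive := fun _ => Nat) (Bool.rec (motive := fun _ => Nat) (SAP_0 i) (SAP_1 i) (Nat.ble 51 i)) (Bool.rec (motive := fun _ => Nat) (SAP_2 i) (SAP_3 i) (Nat.ble 153 i)) (Nat.ble 102 i)) (Bool.rec (motive := fun _ => Nat) (Bool.rec (motive := fun _ => Nat) (SAP_4 i) (SAP_5 i) (Nat.ble 255 i)) (Bool.rec (motive := fun _ => Nat) (SAP_6 i) (SAP_7 i) (Nat.ble 357 i)) (Nat.ble 306 i)) (Nat.ble 204 i)) (Bool.rec (motive := fun _ => Nat) (Bool.rec (motive := fun _ => Nat) (Bool.rec (motive := fun _ => Nat) (SAP_8 i) (SAP_9 i) (Nat.ble 460 i)) (Bool.rec (motive := fun _ => Nat) (SAP_10 i) (SAP_11 i) (Nat.ble 562 i)) (Nat.ble 511 i)) (Bool.rec (motive := fun _ => Nat) (Bool.rec (motive := fun _ => Nat) (SAP_12 i) (SAP_13 i) (Nat.ble 665 i)) (Bool.rec (motive := fun _ => Nat) (SAP_14 i) (SAP_15 i) (Nat.ble 767 i)) (Nat.ble 716 i)) (Nat.ble 614 i)) (Nat.ble 409 i))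
noncomputable def SAInvB_0 (i : Nat) : Nat := (Bool.rec (motive := fun _ => Nat) (Bool.rec (motive := fun _ => Nat) (Bool.rec (motive := fun _ => Nat) (0x3d00003c00003b00003a00003900003800003700003500005b00003400003300003200003100003000002f00002e00002d00002c00002b00004900002a00002900002800002700002600002500002400002300002200002100002000001f00001e00003600001d00001c00001b00001a00001900001800001700001600001500001400001300001200001100001000000f00000e00000d00000c00000b00000a000009000008000007000006000005000004000003000002000001000000) (Bool.rec (motive := fun _ => Nat) (0x7a0000790000780000770000760000b600007300007200007400007100007000006f00006e00006d00006c0000aa00006b00006a00006900006800006700006600006500006400006200009b00006100006000005f00005e00005d00005c00009100005900005800005a00005700005600005500005400005300005200008500005100005000004f00004e00004d00004c00004b00004a00004800007500004700004600004500004400004300004200004100004000003f00003e000063) (0xb50000b40000b30000b20000f40000b10000b00000ba0000af0000ae0000ad0000ac0000ab00010d0000a80000a70000a90000a60000a50000a40000a30000a20000a10001010000a000009f00009e00009d00009c00009a0000f80000990000980000970000960000ec00009400009300009200009000008f00008e00008d0000e200008c00008b00009500008a0000890000880000870000860000d300008300008200008400008100008000007f00007e00007d00007c00007b0000c4)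 (Nat.ble 2 i)) (Nat.ble 1 i)) (Bool.rec (motive := fun _ => Nat) (0x1c50000f10000f00000ee00017e0000eb00012600017b0000ea0000e90000e80000e70001710000e60000e50000e40000e30000ef0000e10000e00000df0000de0001650000dd0000dc0000f30000db0000da0000d90000d80001540000d60000d50000d40000d20000d10000d00000cf00014b0000ce0000cd0000d70000cc0000cb0000ca0000c90000c80000c70000c60000c50001370000c20000c10000c30000c00000bf0000be0000bd0000bc0000bb0000ed0000b90000b80000b7) (Bool.rec (motive := fun _ => Nat) (0x12e00012d00012c00012b00012a00012900017c00012700012500012300012100012000016f00011f00011e00011d00011c00012400011b00011a00011900011800018300011700011600012800011500011400011300011200015500011000010f00010e00010c00010b00010a00010900019f0001080001070001110001060001050001040001030001020001900000ff0000fe0001000000fd0000fc0000fb0000fa0000f90000f70001840000f60000f500017d00017a0001220000f2) (0x16400016300016200016100021000016000015f00018200015e00015d0002080002050001a600015a0002610001590001580001560002090001530001aa00020600015200015100015000014f00020000014e00014d00014c00015700014a00014900014800015c0001470001fa0001460001f600014500014400015b00014300014200014100014000013f00013e00013d00013c0001e000013a0001390001380001360001350001340001330001d700013200013100013b00013000012f)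 (Nat.ble 5 i)) (Nat.ble 4 i)) (Nat.ble 3 i)) (Bool.rec (motive := fun _ => Nat) (Bool.rec (motive := fun _ => Nat) (0x1a30001a20001a10001a00001a800019e00019d00019c00019b00023900019a0001990001ac0001980001970001960001950001e100019300019200019100018f00018e00018d00018c0001ad00018b00018a00019400018900018800018700018600018500022c0001790001780002340001bc00017600027600017500022b00017700017400017300017200018100017000022a00016d0001c100022900016c00018000016e00016b00016a00021900016900016800016700016600017f) (Bool.rec (motive := fun _ => Nat) (0x24c00028e0001de0001dd0001dc0001db0002890001da0001d90001d80001e30001d60001d50001d40001e80001d30002840001d20002800001d10001d00001e70001cf0001ce0001cd0001cc0001cb0001ca0001c40002160001c20002280001c30001c00001bf0001c80001be0001bb0001c70001bd0001ba0001b90001b80002170001b70001b60001c60001b50001b40001b30001b20002380001b10001b00001c90001af0001ae0002070001ab0001a90001a70001a50001a40001fe) (0x21f00021c00021b00021a00021800022700026f0002b70002150002b300021400021300021200021100020f00020e0002ad0002040002030002af00025b0002020002e800020100020b0001ff0002ac0001fd00025e0002ab0001fc0001fb0002a40001f90001f80001f700020a0001f50001f40001f300020d0001f20002a00001f10001f00001ef00029a0001ee0001ed00020c0001ec0001eb0001ea0001e900029000028d0002480001e60002dd0001e50001e40001e20002910001df)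 (Nat.ble 8 i)) (Nat.ble 7 i)) (Bool.rec (motive := fun _ => Nat) (Bool.rec (motive := fun _ => Nat) (0x25a0002a20002590002580002570002620002560002550002540002530002cf00025200025100026500025000024f00028f00024d00024b00024900024700024600026700024500024400024300024200024a00024100024000026600023f00023e00024e00023d00023c00023b00023a0002330002c40002360002b20002320002310002c300023500023000022f00022e00022d0002250002370002260002230002220002240002210002200002bc00026800021e0002c200021d0002b6) (0x29f00030e00029e00030b00029d00029c00029b0002990002980002b000029700030900029600028c00028b00030800028a0003130002930002880003070002870002da0002ec00028600028500030200028300028200028100029200027f00027e00027d00029500027c0002fe00027b0002fa00027a0002790002940002780002770002c000027500027300027400027200027100027000026e00026d00026c00026b00026a0002690002aa00025f00026000026400025d00026300025c) (Nat.ble 10 i)) (Bool.rec (motive := fun _ => Nat) (0x2ed0002e60002e90002e50002e30002e20002e10002e00003060002db0002dc0002eb0002d90002d80002d70002d60002de0002d50002d40002ea0002d30002d20002df0002d10002d00002cc00031b0002ce00030a0002ca0002c900031a0002cd0002c80002c70002c60002c50002bf0002cb00030d0002bd0002bb0002ba0002b90002b80002f10002b50002b40002ae0002a90002be0002a80002a70003120002e40002a60003190002a50002a30002c10002e70003100002a10002b1)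 (0x32a00032700032600032400032900032300032000031e00033200031f00032b00031c00032200031800031d00033000031700031500032d00031600031400031100030f00032800030c00030500030400032f00030300033100030100032e0003000003210003250002ff00032c0002fd0002fc0002fb0002f90002f80002f70002f50002f60002f40002f30002f20002f00002ef0002ee) (Nat.ble 12 i)) (Nat.ble 11 i)) (Nat.ble 9 i)) (Nat.ble 6 i))
noncomputable def SAInvB (i : Nat) : Nat := (SAInvB_0 i)
noncomputable def SAInv (i : Nat) : Nat := Nat.land (Nat.shiftRight (SAInvB (Nat.shiftRight i 6)) (Nat.mul 24 (Nat.land i 63))) 16777215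
noncomputable def SO0P_0 (i : Nat) : Nat := (Bool.rec (motive := fun _ => Nat) (Bool.rec (motive := fun _ => Nat) (Bool.rec (motive := fun _ => Nat) (Bool.rec (motive := fun _ => Nat) (Bool.rec (motive := fun _ => Nat) (Bool.rec (motive := fun _ => Nat) (1) (3) (Nat.ble 1 i)) (Bool.rec (motive := fun _ => Nat) (0x1000001000005) (0x2000008) (Nat.ble 3 i)) (Nat.ble 2 i)) (Bool.rec (motive := fun _ => Nat) (Bool.rec (motive := fun _ => Nat) (0x2000002000009) (0x100000300000b) (Nat.ble 5 i)) (Bool.rec (motive := fun _ => Nat) (0x200000300000e) (0x300000400000f) (Nat.ble 7 i)) (Nat.ble 6 i)) (Nat.ble 4 i)) (Bool.rec (motive := fun _ => Nat) (Bool.rec (motive := fun _ => Nat) (Bool.rec (motive := fun _ => Nat) (0x5000007) (0x2000005000014) (Nat.ble 9 i)) (Bool.rec (motive := fun _ => Nat) (0x1000006000019) (0x300000600001a) (Nat.ble 11 i)) (Nat.ble 10 i)) (Bool.rec (motive := fun _ => Nat) (Bool.rec (motive := fun _ => Nat) (0x1000007000010) (0x200000700001c) (Nat.ble 13 i)) (Bool.rec (motive := fun _ => Nat) (0x300000700001d)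 (0x1000008000004) (Nat.ble 15 i)) (Nat.ble 14 i)) (Nat.ble 12 i)) (Nat.ble 8 i)) (Bool.rec (motive := fun _ => Nat) (Bool.rec (motive := fun _ => Nat) (Bool.rec (motive := fun _ => Nat) (Bool.rec (motive := fun _ => Nat) (0x200000800000c) (0x1000009000027) (Nat.ble 17 i)) (Bool.rec (motive := fun _ => Nat) (0x3000009000028) (0xa000032) (Nat.ble 19 i)) (Nat.ble 18 i)) (Bool.rec (motive := fun _ => Nat) (Bool.rec (motive := fun _ => Nat) (0x300000a000033) (0x100000b000034) (Nat.ble 21 i)) (Bool.rec (motive := fun _ => Nat) (0x200000b000035) (0x300000b000036) (Nat.ble 23 i)) (Nat.ble 22 i)) (Nat.ble 20 i)) (Bool.rec (motive := fun _ => Nat) (Bool.rec (motive := fun _ => Nat) (Bool.rec (motive := fun _ => Nat) (0xc00001b) (0x100000d00001e) (Nat.ble 25 i)) (Bool.rec (motive := fun _ => Nat) (0x100000e00001f) (0xf000002) (Nat.ble 27 i)) (Nat.ble 26 i)) (Bool.rec (motive := fun _ => Nat) (Bool.rec (motive := fun _ => Nat) (0x3000010000015) (0x11000046) (Nat.ble 29 i)) (Bool.rec (motive := fun _ => Nat) (0x3000011000047)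 (0x1000012000048) (Nat.ble 31 i)) (Nat.ble 30 i)) (Nat.ble 28 i)) (Nat.ble 24 i)) (Nat.ble 16 i)) (Bool.rec (motive := fun _ => Nat) (Bool.rec (motive := fun _ => Nat) (Bool.rec (motive := fun _ => Nat) (Bool.rec (motive := fun _ => Nat) (Bool.rec (motive := fun _ => Nat) (0x2000012000049) (0x300001200004a) (Nat.ble 33 i)) (Bool.rec (motive := fun _ => Nat) (0x3000013000058) (0x200001400005a) (Nat.ble 35 i)) (Nat.ble 34 i)) (Bool.rec (motive := fun _ => Nat) (Bool.rec (motive := fun _ => Nat) (0x300001400005b) (0x15000059) (Nat.ble 37 i)) (Bool.rec (motive := fun _ => Nat) (0x200001500005d) (0x100001600005c) (Nat.ble 39 i)) (Nat.ble 38 i)) (Nat.ble 36 i)) (Bool.rec (motive := fun _ => Nat) (Bool.rec (motive := fun _ => Nat) (Bool.rec (motive := fun _ => Nat) (0x3000016000037) (0x100001700005e) (Nat.ble 41 i)) (Bool.rec (motive := fun _ => Nat) (0x1a000038) (0x100001c000016) (Nat.ble 43 i)) (Nat.ble 42 i)) (Bool.rec (motive := fun _ => Nat) (Bool.rec (motive := fun _ => Nat) (0x200001c00002a) (0x300001c00002b)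 (Nat.ble 45 i)) (Bool.rec (motive := fun _ => Nat) (0x300001d000073) (0x100001e000029) (Nat.ble 47 i)) (Nat.ble 46 i)) (Nat.ble 44 i)) (Nat.ble 40 i)) (Bool.rec (motive := fun _ => Nat) (Bool.rec (motive := fun _ => Nat) (Bool.rec (motive := fun _ => Nat) (Bool.rec (motive := fun _ => Nat) (0x200001e000075) (0x300001e000076) (Nat.ble 49 i)) (Bool.rec (motive := fun _ => Nat) (0x1f000074) (0x200001f000078) (Nat.ble 51 i)) (Nat.ble 50 i)) (Bool.rec (motive := fun _ => Nat) (Bool.rec (motive := fun _ => Nat) (0x1000020000077) (0x300002000004b) (Nat.ble 53 i)) (Bool.rec (motive := fun _ => Nat) (0x1000021000079) (0x200002200008f) (Nat.ble 55 i)) (Nat.ble 54 i)) (Nat.ble 52 i)) (Bool.rec (motive := fun _ => Nat) (Bool.rec (motive := fun _ => Nat) (Bool.rec (motive := fun _ => Nat) (0x3000022000090) (0x1000023000095) (Nat.ble 57 i)) (Bool.rec (motive := fun _ => Nat) (0x3000023000096) (0x2000024000098) (Nat.ble 59 i)) (Nat.ble 58 i)) (Bool.rec (motive := fun _ => Nat) (Bool.rec (motive := fun _ => Nat) (0x300002400005f)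 (0x2000025000092) (Nat.ble 61 i)) (Bool.rec (motive := fun _ => Nat) (0x1000026000099) (0x300002600009a) (Nat.ble 63 i)) (Nat.ble 62 i)) (Nat.ble 60 i)) (Nat.ble 56 i)) (Nat.ble 48 i)) (Nat.ble 32 i))
noncomputable def SO0P_1 (i : Nat) : Nat := (Bool.rec (motive := fun _ => Nat) (Bool.rec (motive := fun _ => Nat) (Bool.rec (motive := fun _ => Nat) (Bool.rec (motive := fun _ => Nat) (Bool.rec (motive := fun _ => Nat) (Bool.rec (motive := fun _ => Nat) (0x27000091) (0x29000093) (Nat.ble 65 i)) (Bool.rec (motive := fun _ => Nat) (0x100002c00002c) (0x100002d00002d) (Nat.ble 67 i)) (Nat.ble 66 i)) (Bool.rec (motive := fun _ => Nat) (Bool.rec (motive := fun _ => Nat) (0x200002e0000b6) (0x300002e0000b7) (Nat.ble 69 i)) (Bool.rec (motive := fun _ => Nat) (0x10000300000bc) (0x30000300000bd) (Nat.ble 71 i)) (Nat.ble 70 i)) (Nat.ble 68 i)) (Bool.rec (motive := fun _ => Nat) (Bool.rec (motive := fun _ => Nat) (Bool.rec (motive := fun _ => Nat) (0x100003100004c) (0x20000310000bf) (Nat.ble 73 i)) (Bool.rec (motive := fun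 _ => Nat) (0x300003100007a) (0x20000320000b9) (Nat.ble 75 i)) (Nat.ble 74 i)) (Bool.rec (motive := fun _ => Nat) (Bool.rec (motive := fun _ => Nat) (0x10000330000c0) (0x30000330000c1) (Nat.ble 77 i)) (Bool.rec (motive := fun _ => Nat) (0x340000b8) (0x360000ba) (Nat.ble 79 i)) (Nat.ble 78 i)) (Nat.ble 76 i)) (Nat.ble 72 i)) (Bool.rec (motive := fun _ => Nat) (Bool.rec (motive := fun _ => Nat) (Bool.rec (motive := fun _ => Nat) (Bool.rec (motive := fun _ => Nat) (0x10000370000ea) (0x30000370000eb) (Nat.ble 81 i)) (Bool.rec (motive := fun _ => Nat) (0x20000380000ed) (0x3000038000094) (Nat.ble 83 i)) (Nat.ble 82 i)) (Bool.rec (motive := fun _ => Nat) (Bool.rec (motive := fun _ => Nat) (0x390000f2) (0x30000390000f4) (Nat.ble 85 i)) (Bool.rec (motive := fun _ => Nat) (0x100003a0000f5) (0x200003a0000f6) (Nat.ble 87 i)) (Nat.ble 86 i)) (Nat.ble 84 i)) (Bool.rec (motive := fun _ => Nat) (Bool.rec (motive := fun _ => Nat) (Bool.rec (motive := fun _ => Nat) (0x300003a0000f7) (0x100003b00009c) (Nat.ble 89 i)) (Bool.rec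 (motive := fun _ => Nat) (0x300003b0000c3) (0x100003d0000ef) (Nat.ble 91 i)) (Nat.ble 90 i)) (Bool.rec (motive := fun _ => Nat) (Bool.rec (motive := fun _ => Nat) (0x300003d0000f0) (0x3e0000ee) (Nat.ble 93 i)) (Bool.rec (motive := fun _ => Nat) (0x300003e0000c2) (0x100003f0000fd) (Nat.ble 95 i)) (Nat.ble 94 i)) (Nat.ble 92 i)) (Nat.ble 88 i)) (Nat.ble 80 i)) (Bool.rec (motive := fun _ => Nat) (Bool.rec (motive := fun _ => Nat) (Bool.rec (motive := fun _ => Nat) (Bool.rec (motive := fun _ => Nat) (Bool.rec (motive := fun _ => Nat) (0x300003f0000fe) (0x10000400000bb) (Nat.ble 97 i)) (Bool.rec (motive := fun _ => Nat) (0x100004400012a) (0x300004400012b) (Nat.ble 99 i)) (Nat.ble 98 i)) (Bool.rec (motive := fun _ => Nat) (Bool.rec (motive := fun _ => Nat) (0x200004500012d) (0x46000132) (Nat.ble 101 i)) (Bool.rec (motive := fun _ => Nat) (0x30000460000fa) (0x1000047000134) (Nat.ble 103 i)) (Nat.ble 102 i)) (Nat.ble 100 i)) (Bool.rec (motive := fun _ => Nat) (Bool.rec (motive := fun _ => Nat) (Bool.rec (motive :=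 fun _ => Nat) (0x2000047000135) (0x3000047000101) (Nat.ble 105 i)) (Bool.rec (motive := fun _ => Nat) (0x100004b00012f) (0x300004b000130) (Nat.ble 107 i)) (Nat.ble 106 i)) (Bool.rec (motive := fun _ => Nat) (Bool.rec (motive := fun _ => Nat) (0x4c00012e) (0x300004c00009b) (Nat.ble 109 i)) (Bool.rec (motive := fun _ => Nat) (0x100004d000137) (0x300004d0000f9) (Nat.ble 111 i)) (Nat.ble 110 i)) (Nat.ble 108 i)) (Nat.ble 104 i)) (Bool.rec (motive := fun _ => Nat) (Bool.rec (motive := fun _ => Nat) (Bool.rec (motive := fun _ => Nat) (Bool.rec (motive := fun _ => Nat) (0x50000186) (0x3000050000187) (Nat.ble 113 i)) (Bool.rec (motive := fun _ => Nat) (0x100005100017d) (0x200005100018a) (Nat.ble 115 i)) (Nat.ble 114 i)) (Bool.rec (motive := fun _ => Nat) (Bool.rec (motive := fun _ => Nat) (0x300005100017c) (0x1000052000188) (Nat.ble 117 i)) (Bool.rec (motive := fun _ => Nat) (0x3000052000133) (0x20000530000f3) (Nat.ble 119 i)) (Nat.ble 118 i)) (Nat.ble 116 i)) (Bool.rec (motive := fun _ => Nat) (Bool.rec (motive :=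 fun _ => Nat) (Bool.rec (motive := fun _ => Nat) (0x1000054000194) (0x300005400019b) (Nat.ble 121 i)) (Bool.rec (motive := fun _ => Nat) (0x1000055000097) (0x2000055000102) (Nat.ble 123 i)) (Nat.ble 122 i)) (Bool.rec (motive := fun _ => Nat) (Bool.rec (motive := fun _ => Nat) (0x30000550000be) (0x5600019c) (Nat.ble 125 i)) (Bool.rec (motive := fun _ => Nat) (0x20000560000f8) (0x3000059000103) (Nat.ble 127 i)) (Nat.ble 126 i)) (Nat.ble 124 i)) (Nat.ble 120 i)) (Nat.ble 112 i)) (Nat.ble 96 i))
noncomputable def SO0P_2 (i : Nat) : Nat := (Bool.rec (motive := fun _ => Nat) (Bool.rec (motive := fun _ => Nat) (Bool.rec (motive := fun _ => Nat) (Bool.rec (motive := fun _ => Nat) (Bool.rec (motive := fun _ => Nat) (Bool.rec (motive := fun _ => Nat) (0x5b000191) (0x300005b000192) (Nat.ble 129 i)) (Bool.rec (motive := fun _ => Nat) (0x100005c000193) (0x300005c000196) (Nat.ble 131 i)) (Nat.ble 130 i)) (Bool.rec (motive := fun _ => Nat) (Bool.rec (motive := fun _ => Nat) (0x100005d000189) (0x300005d000131) (Nat.ble 133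 i)) (Bool.rec (motive := fun _ => Nat) (0x200005e000138) (0x5f000190) (Nat.ble 135 i)) (Nat.ble 134 i)) (Nat.ble 132 i)) (Bool.rec (motive := fun _ => Nat) (Bool.rec (motive := fun _ => Nat) (Bool.rec (motive := fun _ => Nat) (0x20000600000fc) (0x620001d5) (Nat.ble 137 i)) (Bool.rec (motive := fun _ => Nat) (0x30000620001d6) (0x10000630001d7) (Nat.ble 139 i)) (Nat.ble 138 i)) (Bool.rec (motive := fun _ => Nat) (Bool.rec (motive := fun _ => Nat) (0x20000630001da) (0x3000063000199) (Nat.ble 141 i)) (Bool.rec (motive := fun _ => Nat) (0x10000640001d8) (0x10000650001df) (Nat.ble 143 i)) (Nat.ble 142 i)) (Nat.ble 140 i)) (Nat.ble 136 i)) (Bool.rec (motive := fun _ => Nat) (Bool.rec (motive := fun _ => Nat) (Bool.rec (motive := fun _ => Nat) (Bool.rec (motive := fun _ => Nat) (0x300006500018d) (0x2000066000139) (Nat.ble 145 i)) (Bool.rec (motive := fun _ => Nat) (0x670001e3) (0x6a0001dd) (Nat.ble 147 i)) (Nat.ble 146 i)) (Bool.rec (motive := fun _ => Nat) (Bool.rec (motive := fun _ => Nat) (0x300006a000180) (0x100006b0001de)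 (Nat.ble 149 i)) (Bool.rec (motive := fun _ => Nat) (0x300006b00018c) (0x100006c0001d9) (Nat.ble 151 i)) (Nat.ble 150 i)) (Nat.ble 148 i)) (Bool.rec (motive := fun _ => Nat) (Bool.rec (motive := fun _ => Nat) (Bool.rec (motive := fun _ => Nat) (0x300006c0000f1) (0x200006d000100) (Nat.ble 153 i)) (Bool.rec (motive := fun _ => Nat) (0x6e0001dc) (0x200006f000136) (Nat.ble 155 i)) (Nat.ble 154 i)) (Bool.rec (motive := fun _ => Nat) (Bool.rec (motive := fun _ => Nat) (0x1000070000249) (0x300007000024a) (Nat.ble 157 i)) (Bool.rec (motive := fun _ => Nat) (0x10000710000ec) (0x2000071000248) (Nat.ble 159 i)) (Nat.ble 158 i)) (Nat.ble 156 i)) (Nat.ble 152 i)) (Nat.ble 144 i)) (Bool.rec (motive := fun _ => Nat) (Bool.rec (motive := fun _ => Nat) (Bool.rec (motive := fun _ => Nat) (Bool.rec (motive := fun _ => Nat) (Bool.rec (motive := fun _ => Nat) (0x30000710001d3) (0x72000218) (Nat.ble 161 i)) (Bool.rec (motive := fun _ => Nat) (0x2000072000237) (0x100007300024d) (Nat.ble 163 i)) (Nat.ble 162 i)) (Bool.rec (motive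 := fun _ => Nat) (Bool.rec (motive := fun _ => Nat) (0x10000740000e4) (0x7500024b) (Nat.ble 165 i)) (Bool.rec (motive := fun _ => Nat) (0x300007500023a) (0x10000760001e0) (Nat.ble 167 i)) (Nat.ble 166 i)) (Nat.ble 164 i)) (Bool.rec (motive := fun _ => Nat) (Bool.rec (motive := fun _ => Nat) (Bool.rec (motive := fun _ => Nat) (0x300007600018b) (0x1000077000195) (Nat.ble 169 i)) (Bool.rec (motive := fun _ => Nat) (0x300007700019d) (0x78000252) (Nat.ble 171 i)) (Nat.ble 170 i)) (Bool.rec (motive := fun _ => Nat) (Bool.rec (motive := fun _ => Nat) (0x3000078000230) (0x1000079000257) (Nat.ble 173 i)) (Bool.rec (motive := fun _ => Nat) (0x200007900019a) (0x300007900012c) (Nat.ble 175 i)) (Nat.ble 174 i)) (Nat.ble 172 i)) (Nat.ble 168 i)) (Bool.rec (motive := fun _ => Nat) (Bool.rec (motive := fun _ => Nat) (Bool.rec (motive := fun _ => Nat) (Bool.rec (motive := fun _ => Nat) (0x300007b0000ff) (0x100008000024f) (Nat.ble 177 i)) (Bool.rec (motive := fun _ => Nat) (0x3000080000250) (0x2000081000178) (Nat.ble 179 i))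 (Nat.ble 178 i)) (Bool.rec (motive := fun _ => Nat) (Bool.rec (motive := fun _ => Nat) (0x82000251) (0x2000082000254) (Nat.ble 181 i)) (Bool.rec (motive := fun _ => Nat) (0x1000083000255) (0x200008300018f) (Nat.ble 183 i)) (Nat.ble 182 i)) (Nat.ble 180 i)) (Bool.rec (motive := fun _ => Nat) (Bool.rec (motive := fun _ => Nat) (Bool.rec (motive := fun _ => Nat) (0x8400024c) (0x3000084000127) (Nat.ble 185 i)) (Bool.rec (motive := fun _ => Nat) (0x20000850001e1) (0x300008900028e) (Nat.ble 187 i)) (Nat.ble 186 i)) (Bool.rec (motive := fun _ => Nat) (Bool.rec (motive := fun _ => Nat) (0x200008a000291) (0x8b00028f) (Nat.ble 189 i)) (Bool.rec (motive := fun _ => Nat) (0x200008b00023e) (0x100008c0001d2) (Nat.ble 191 i)) (Nat.ble 190 i)) (Nat.ble 188 i)) (Nat.ble 184 i)) (Nat.ble 176 i)) (Nat.ble 160 i))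
noncomputable def SO0P_3 (i : Nat) : Nat := (Bool.rec (motive := fun _ => Nat) (Bool.rec (motive := fun _ => Nat) (Bool.rec (motive := fun _ => Nat) (Bool.rec (motive := fun _ => Nat) (Bool.rec (motive := fun _ => Nat) (Bool.rec (motive := fun _ => Nat) (0x100008d000176) (0x8e000290) (Nat.ble 193 i)) (Bool.rec (motive := fun _ => Nat) (0x300008e000292) (0x300008f00017e) (Nat.ble 195 i)) (Nat.ble 194 i)) (Bool.rec (motive := fun _ => Nat) (Bool.rec (motive := fun _ => Nat) (0x20000900001e2) (0x30000910000fb) (Nat.ble 197 i)) (Bool.rec (motive := fun _ => Nat) (0x300009300021b) (0x20000940000e6) (Nat.ble 199 i)) (Nat.ble 198 i)) (Nat.ble 196 i)) (Bool.rec (motive := fun _ => Nat) (Bool.rec (motive := fun _ => Nat) (Bool.rec (motive := fun _ => Nat) (0x9500027b) (0x20000950001ce) (Nat.ble 201 i)) (Bool.rec (motive := fun _ => Nat) (0x1000096000239) (0x20000960001db) (Nat.ble 203 i)) (Nat.ble 202 i)) (Bool.rec (motive := fun _ => Nat) (Bool.rec (motive := fun _ => Nat) (0x30000970001ca) (0x2000098000198) (Nat.ble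 205 i)) (Bool.rec (motive := fun _ => Nat) (0x300009c000219) (0x100009d00027d) (Nat.ble 207 i)) (Nat.ble 206 i)) (Nat.ble 204 i)) (Nat.ble 200 i)) (Bool.rec (motive := fun _ => Nat) (Bool.rec (motive := fun _ => Nat) (Bool.rec (motive := fun _ => Nat) (Bool.rec (motive := fun _ => Nat) (0x200009d0002cd) (0x300009f000243) (Nat.ble 209 i)) (Bool.rec (motive := fun _ => Nat) (0x20000a0000128) (0x20000a10002c1) (Nat.ble 211 i)) (Nat.ble 210 i)) (Bool.rec (motive := fun _ => Nat) (Bool.rec (motive := fun _ => Nat) (0x10000a2000233) (0x30000a2000232) (Nat.ble 213 i)) (Bool.rec (motive := fun _ => Nat) (0xa30002da) (0xa4000154) (Nat.ble 215 i)) (Nat.ble 214 i)) (Nat.ble 212 i)) (Bool.rec (motive := fun _ => Nat) (Bool.rec (motive := fun _ => Nat) (Bool.rec (motive := fun _ => Nat) (0x20000a400008d) (0x10000a5000293) (Nat.ble 217 i)) (Bool.rec (motive := fun _ => Nat) (0x30000a50002c4) (0x20000a6000242) (Nat.ble 219 i)) (Nat.ble 218 i)) (Bool.rec (motive := fun _ => Nat) (Bool.rec (motive := fun _ => Nat) (0x30000a600023b)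 (0x10000a8000238) (Nat.ble 221 i)) (Bool.rec (motive := fun _ => Nat) (0xa9000253) (0x10000aa000258) (Nat.ble 223 i)) (Nat.ble 222 i)) (Nat.ble 220 i)) (Nat.ble 216 i)) (Nat.ble 208 i)) (Bool.rec (motive := fun _ => Nat) (Bool.rec (motive := fun _ => Nat) (Bool.rec (motive := fun _ => Nat) (Bool.rec (motive := fun _ => Nat) (Bool.rec (motive := fun _ => Nat) (0x30000ab0002b7) (0x20000ac000287) (Nat.ble 225 i)) (Bool.rec (motive := fun _ => Nat) (0xad0002e4) (0x20000ad0001cb) (Nat.ble 227 i)) (Nat.ble 226 i)) (Bool.rec (motive := fun _ => Nat) (Bool.rec (motive := fun _ => Nat) (0x10000ae000231) (0x30000ae000197) (Nat.ble 229 i)) (Bool.rec (motive := fun _ => Nat) (0x30000b1000273) (0x20000b200020e) (Nat.ble 231 i)) (Nat.ble 230 i)) (Nat.ble 228 i)) (Bool.rec (motive := fun _ => Nat) (Bool.rec (motive := fun _ => Nat) (Bool.rec (motive := fun _ => Nat) (0x10000b30001cc) (0x30000b300017a) (Nat.ble 233 i)) (Bool.rec (motive := fun _ => Nat) (0x20000b40002e1) (0x30000b50001cd) (Nat.ble 235 i)) (Nat.ble 234 i))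 (Bool.rec (motive := fun _ => Nat) (Bool.rec (motive := fun _ => Nat) (0xb60002e2) (0x20000b60002d9) (Nat.ble 237 i)) (Bool.rec (motive := fun _ => Nat) (0x30000b80001b4) (0x20000b90000b5) (Nat.ble 239 i)) (Nat.ble 238 i)) (Nat.ble 236 i)) (Nat.ble 232 i)) (Bool.rec (motive := fun _ => Nat) (Bool.rec (motive := fun _ => Nat) (Bool.rec (motive := fun _ => Nat) (Bool.rec (motive := fun _ => Nat) (0x10000ba0001d4) (0x20000bb000307) (Nat.ble 241 i)) (Bool.rec (motive := fun _ => Nat) (0x30000bc000240) (0x20000bd0002d6) (Nat.ble 243 i)) (Nat.ble 242 i)) (Bool.rec (motive := fun _ => Nat) (Bool.rec (motive := fun _ => Nat) (0x10000be000182) (0x30000be000181) (Nat.ble 245 i)) (Bool.rec (motive := fun _ => Nat) (0xbf00027c) (0xc000020c) (Nat.ble 247 i)) (Nat.ble 246 i)) (Nat.ble 244 i)) (Bool.rec (motive := fun _ => Nat) (Bool.rec (motive := fun _ => Nat) (Bool.rec (motive := fun _ => Nat) (0x20000c00000e2) (0x30000c1000308) (Nat.ble 249 i)) (Bool.rec (motive := fun _ => Nat) (0x20000c20002d2) (0x30000c2000256) (Nat.ble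 251 i)) (Nat.ble 250 i)) (Bool.rec (motive := fun _ => Nat) (Bool.rec (motive := fun _ => Nat) (0x20000c30001cf) (0x10000c400017f) (Nat.ble 253 i)) (Bool.rec (motive := fun _ => Nat) (0x30000c400018e) (0x20000c6000156) (Nat.ble 255 i)) (Nat.ble 254 i)) (Nat.ble 252 i)) (Nat.ble 248 i)) (Nat.ble 240 i)) (Nat.ble 224 i))
noncomputable def SO0P_4 (i : Nat) : Nat := (Bool.rec (motive := fun _ => Nat) (Bool.rec (motive := fun _ => Nat) (Bool.rec (motive := fun _ => Nat) (Bool.rec (motive := fun _ => Nat) (Bool.rec (motive := fun _ => Nat) (Bool.rec (motive := fun _ => Nat) (0x10000c7000129) (0x30000c70000e8) (Nat.ble 257 i)) (Bool.rec (motive := fun _ => Nat) (0x20000c8000277) (0x30000c9000244) (Nat.ble 259 i)) (Nat.ble 258 i)) (Bool.rec (motive := fun _ => Nat) (Bool.rec (motive := fun _ => Nat) (0xca0002c3) (0x20000ca00028c) (Nat.ble 261 i)) (Bool.rec (motive := fun _ => Nat) (0x20000cc000123) (0x10000cd000259) (Nat.ble 263 i)) (Nat.ble 262 i)) (Nat.ble 260 i)) (Bool.rec (motive := fun _ => Nat) (Bool.rec (motive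 := fun _ => Nat) (Bool.rec (motive := fun _ => Nat) (0x20000ce000278) (0x20000cf0001b5) (Nat.ble 265 i)) (Bool.rec (motive := fun _ => Nat) (0x10000d00002ee) (0x30000d00002c8) (Nat.ble 267 i)) (Nat.ble 266 i)) (Bool.rec (motive := fun _ => Nat) (Bool.rec (motive := fun _ => Nat) (0x10000d1000236) (0x20000d1000183) (Nat.ble 269 i)) (Bool.rec (motive := fun _ => Nat) (0x30000d1000245) (0x10000d20000e5) (Nat.ble 271 i)) (Nat.ble 270 i)) (Nat.ble 268 i)) (Nat.ble 264 i)) (Bool.rec (motive := fun _ => Nat) (Bool.rec (motive := fun _ => Nat) (Bool.rec (motive := fun _ => Nat) (Bool.rec (motive := fun _ => Nat) (0x10000d300031c) (0x30000d30002d0) (Nat.ble 273 i)) (Bool.rec (motive := fun _ => Nat) (0xd40002b9) (0x30000d40002d1) (Nat.ble 275 i)) (Nat.ble 274 i)) (Bool.rec (motive := fun _ => Nat) (Bool.rec (motive := fun _ => Nat) (0x10000d5000179) (0x30000d50001d1) (Nat.ble 277 i)) (Bool.rec (motive := fun _ => Nat) (0x20000d70000d0) (0x10000da0002c2) (Nat.ble 279 i)) (Nat.ble 278 i)) (Nat.ble 276 i)) (Bool.rec (motive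 := fun _ => Nat) (Bool.rec (motive := fun _ => Nat) (Bool.rec (motive := fun _ => Nat) (0x20000da0002c7) (0x30000da0002c5) (Nat.ble 281 i)) (Bool.rec (motive := fun _ => Nat) (0x20000dc000241) (0x20000dd000247) (Nat.ble 283 i)) (Nat.ble 282 i)) (Bool.rec (motive := fun _ => Nat) (Bool.rec (motive := fun _ => Nat) (0xdf0002e5) (0x20000df00028a) (Nat.ble 285 i)) (Bool.rec (motive := fun _ => Nat) (0x20000e00002f9) (0x30000e10001c7) (Nat.ble 287 i)) (Nat.ble 286 i)) (Nat.ble 284 i)) (Nat.ble 280 i)) (Nat.ble 272 i)) (Bool.rec (motive := fun _ => Nat) (Bool.rec (motive := fun _ => Nat) (Bool.rec (motive := fun _ => Nat) (Bool.rec (motive := fun _ => Nat) (Bool.rec (motive := fun _ => Nat) (0x20000e2000274) (0x10000e3000177) (Nat.ble 289 i)) (Bool.rec (motive := fun _ => Nat) (0xe40002b8) (0x20000e60001b0) (Nat.ble 291 i)) (Nat.ble 290 i)) (Bool.rec (motive := fun _ => Nat) (Bool.rec (motive := fun _ => Nat) (0x10000e70002b6) (0x30000e7000210) (Nat.ble 293 i)) (Bool.rec (motive := fun _ => Nat) (0xe8000275) (0x30000e80001c9)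 (Nat.ble 295 i)) (Nat.ble 294 i)) (Nat.ble 292 i)) (Bool.rec (motive := fun _ => Nat) (Bool.rec (motive := fun _ => Nat) (Bool.rec (motive := fun _ => Nat) (0x10000e90001c8) (0x20000e9000235) (Nat.ble 297 i)) (Bool.rec (motive := fun _ => Nat) (0x30000e90000e3) (0x10000ea0002e7) (Nat.ble 299 i)) (Nat.ble 298 i)) (Bool.rec (motive := fun _ => Nat) (Bool.rec (motive := fun _ => Nat) (0x30000ea000289) (0x10000eb000124) (Nat.ble 301 i)) (Bool.rec (motive := fun _ => Nat) (0x20000ec000324) (0x30000ed000288) (Nat.ble 303 i)) (Nat.ble 302 i)) (Nat.ble 300 i)) (Nat.ble 296 i)) (Bool.rec (motive := fun _ => Nat) (Bool.rec (motive := fun _ => Nat) (Bool.rec (motive := fun _ => Nat) (Bool.rec (motive := fun _ => Nat) (0x20000ee000113) (0x30000ef000072) (Nat.ble 305 i)) (Bool.rec (motive := fun _ => Nat) (0xf000027e) (0x10000f100032c) (Nat.ble 307 i)) (Nat.ble 306 i)) (Bool.rec (motive := fun _ => Nat) (Bool.rec (motive := fun _ => Nat) (0x30000f10002d8) (0x10000f2000185) (Nat.ble 309 i)) (Bool.rec (motive := fun _ =>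 Nat) (0x20000f2000234) (0x30000f200028b) (Nat.ble 311 i)) (Nat.ble 310 i)) (Nat.ble 308 i)) (Bool.rec (motive := fun _ => Nat) (Bool.rec (motive := fun _ => Nat) (Bool.rec (motive := fun _ => Nat) (0x10000f30002d3) (0x30000f300023c) (Nat.ble 313 i)) (Bool.rec (motive := fun _ => Nat) (0xf400021c) (0x10000f50000e7) (Nat.ble 315 i)) (Nat.ble 314 i)) (Bool.rec (motive := fun _ => Nat) (Bool.rec (motive := fun _ => Nat) (0x30000f500023d) (0x20000f700014f) (Nat.ble 317 i)) (Bool.rec (motive := fun _ => Nat) (0x20000f900031b) (0x30000f90002e3) (Nat.ble 319 i)) (Nat.ble 318 i)) (Nat.ble 316 i)) (Nat.ble 312 i)) (Nat.ble 304 i)) (Nat.ble 288 i))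
noncomputable def SO0P_5 (i : Nat) : Nat := (Bool.rec (motive := fun _ => Nat) (Bool.rec (motive := fun _ => Nat) (Bool.rec (motive := fun _ => Nat) (Bool.rec (motive := fun _ => Nat) (Bool.rec (motive := fun _ => Nat) (Bool.rec (motive := fun _ => Nat) (0xfd00021a) (0x10000ff000217) (Nat.ble 321 i)) (Bool.rec (motive := fun _ => Nat) (0x30000ff000158) (0x1000001b6) (Nat.ble 323 i)) (Nat.ble 322 i)) (Bool.rec (motive := fun _ => Nat) (Bool.rec (motive := fun _ => Nat) (0x3000100000126) (0x1000101000125) (Nat.ble 325 i)) (Bool.rec (motive := fun _ => Nat) (0x2000101000184) (0x300010100008e) (Nat.ble 327 i)) (Nat.ble 326 i)) (Nat.ble 324 i)) (Bool.rec (motive := fun _ => Nat) (Bool.rec (motive := fun _ => Nat) (Bool.rec (motive := fun _ => Nat) (0x100010200025c) (0x30001020002c9) (Nat.ble 329 i)) (Bool.rec (motive := fun _ => Nat) (0x20001040002fe) (0x30001050001d0) (Nat.ble 331 i)) (Nat.ble 330 i)) (Bool.rec (motive := fun _ => Nat) (Bool.rec (motive := fun _ => Nat) (0x30001060000b3) (0x1070002e6) (Nat.ble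 333 i)) (Bool.rec (motive := fun _ => Nat) (0x10001080002fb) (0x30001080001b1) (Nat.ble 335 i)) (Nat.ble 334 i)) (Nat.ble 332 i)) (Nat.ble 328 i)) (Bool.rec (motive := fun _ => Nat) (Bool.rec (motive := fun _ => Nat) (Bool.rec (motive := fun _ => Nat) (Bool.rec (motive := fun _ => Nat) (0x100010900025d) (0x10a0002a0) (Nat.ble 337 i)) (Bool.rec (motive := fun _ => Nat) (0x300010a0002a5) (0x100010b00031d) (Nat.ble 339 i)) (Nat.ble 338 i)) (Bool.rec (motive := fun _ => Nat) (Bool.rec (motive := fun _ => Nat) (0x200010b00021d) (0x300010b0002ca) (Nat.ble 341 i)) (Bool.rec (motive := fun _ => Nat) (0x10c0002bc) (0x200010c00017b) (Nat.ble 343 i)) (Nat.ble 342 i)) (Nat.ble 340 i)) (Bool.rec (motive := fun _ => Nat) (Bool.rec (motive := fun _ => Nat) (Bool.rec (motive := fun _ => Nat) (0x200010e000246) (0x10f000155) (Nat.ble 345 i)) (Bool.rec (motive := fun _ => Nat) (0x300010f0000e9) (0x1100002db) (Nat.ble 347 i)) (Nat.ble 346 i)) (Bool.rec (motive := fun _ => Nat) (Bool.rec (motive := fun _ => Nat) (0x30001100002ef)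 (0x100011100030f) (Nat.ble 349 i)) (Bool.rec (motive := fun _ => Nat) (0x300011100027a) (0x100011200030c) (Nat.ble 351 i)) (Nat.ble 350 i)) (Nat.ble 348 i)) (Nat.ble 344 i)) (Nat.ble 336 i)) (Bool.rec (motive := fun _ => Nat) (Bool.rec (motive := fun _ => Nat) (Bool.rec (motive := fun _ => Nat) (Bool.rec (motive := fun _ => Nat) (Bool.rec (motive := fun _ => Nat) (0x300011200031a) (0x11400020f) (Nat.ble 353 i)) (Bool.rec (motive := fun _ => Nat) (0x1000116000153) (0x20001170002cc) (Nat.ble 355 i)) (Nat.ble 354 i)) (Bool.rec (motive := fun _ => Nat) (Bool.rec (motive := fun _ => Nat) (0x1000118000317) (0x20001190002c6) (Nat.ble 357 i)) (Bool.rec (motive := fun _ => Nat) (0x200011c000301) (0x100011e0002ff) (Nat.ble 359 i)) (Nat.ble 358 i)) (Nat.ble 356 i)) (Bool.rec (motive := fun _ => Nat) (Bool.rec (motive := fun _ => Nat) (Bool.rec (motive := fun _ => Nat) (0x300011e000270) (0x200011f000122) (Nat.ble 361 i)) (Bool.rec (motive := fun _ => Nat) (0x10001200002e8) (0x12100020d) (Nat.ble 363 i)) (Nat.ble 362 i))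 (Bool.rec (motive := fun _ => Nat) (Bool.rec (motive := fun _ => Nat) (0x100012300025a) (0x3000123000111) (Nat.ble 365 i)) (Bool.rec (motive := fun _ => Nat) (0x12400029d) (0x30001240002b4) (Nat.ble 367 i)) (Nat.ble 366 i)) (Nat.ble 364 i)) (Nat.ble 360 i)) (Bool.rec (motive := fun _ => Nat) (Bool.rec (motive := fun _ => Nat) (Bool.rec (motive := fun _ => Nat) (Bool.rec (motive := fun _ => Nat) (0x10001250002b3) (0x20001250002bb) (Nat.ble 369 i)) (Bool.rec (motive := fun _ => Nat) (0x3000125000150) (0x10001260002e9) (Nat.ble 371 i)) (Nat.ble 370 i)) (Bool.rec (motive := fun _ => Nat) (Bool.rec (motive := fun _ => Nat) (0x3000126000272) (0x128000271) (Nat.ble 373 i)) (Bool.rec (motive := fun _ => Nat) (0x300012900023f) (0x300012a00008c) (Nat.ble 375 i)) (Nat.ble 374 i)) (Nat.ble 372 i)) (Bool.rec (motive := fun _ => Nat) (Bool.rec (motive := fun _ => Nat) (Bool.rec (motive := fun _ => Nat) (0x12b000294) (0x300012b0002f8) (Nat.ble 377 i)) (Bool.rec (motive := fun _ => Nat) (0x100012c000300) (0x200012d0000b4)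 (Nat.ble 379 i)) (Nat.ble 378 i)) (Bool.rec (motive := fun _ => Nat) (Bool.rec (motive := fun _ => Nat) (0x100012e000320) (0x300012e0002fa) (Nat.ble 381 i)) (Bool.rec (motive := fun _ => Nat) (0x100013000019f) (0x30001300000aa) (Nat.ble 383 i)) (Nat.ble 382 i)) (Nat.ble 380 i)) (Nat.ble 376 i)) (Nat.ble 368 i)) (Nat.ble 352 i))
noncomputable def SO0P_6 (i : Nat) : Nat := (Bool.rec (motive := fun _ => Nat) (Bool.rec (motive := fun _ => Nat) (Bool.rec (motive := fun _ => Nat) (Bool.rec (motive := fun _ => Nat) (Bool.rec (motive := fun _ => Nat) (Bool.rec (motive := fun _ => Nat) (0x1000131000057) (0x13300030a) (Nat.ble 385 i)) (Bool.rec (motive := fun _ => Nat) (0x300013300030e) (0x1000134000323) (Nat.ble 387 i)) (Nat.ble 386 i)) (Bool.rec (motive := fun _ => Nat) (Bool.rec (motive := fun _ => Nat) (0x20001340002ba) (0x3000134000302) (Nat.ble 389 i)) (Bool.rec (motive := fun _ => Nat) (0x13500021f) (0x13800024e) (Nat.ble 391 i)) (Nat.ble 390 i)) (Nat.ble 388 i)) (Bool.rec (motive := fun _ => Nat) (Bool.rec (motive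 := fun _ => Nat) (Bool.rec (motive := fun _ => Nat) (0x300013800031e) (0x10001390002d4) (Nat.ble 393 i)) (Bool.rec (motive := fun _ => Nat) (0x30001390002d5) (0x100013a0002a3) (Nat.ble 395 i)) (Nat.ble 394 i)) (Bool.rec (motive := fun _ => Nat) (Bool.rec (motive := fun _ => Nat) (0x13b000157) (0x100013d00020b) (Nat.ble 397 i)) (Bool.rec (motive := fun _ => Nat) (0x100013e000330) (0x1410002c0) (Nat.ble 399 i)) (Nat.ble 398 i)) (Nat.ble 396 i)) (Nat.ble 392 i)) (Bool.rec (motive := fun _ => Nat) (Bool.rec (motive := fun _ => Nat) (Bool.rec (motive := fun _ => Nat) (Bool.rec (motive := fun _ => Nat) (0x3000141000215) (0x1000142000214) (Nat.ble 401 i)) (Bool.rec (motive := fun _ => Nat) (0x200014200021e) (0x30001420000d1) (Nat.ble 403 i)) (Nat.ble 402 i)) (Bool.rec (motive := fun _ => Nat) (Bool.rec (motive := fun _ => Nat) (0x100014300025e) (0x30001430001b3) (Nat.ble 405 i)) (Bool.rec (motive := fun _ => Nat) (0x1450001b2) (0x1480001e8) (Nat.ble 407 i)) (Nat.ble 406 i)) (Nat.ble 404 i)) (Bool.rec (motive := fun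 _ => Nat) (Bool.rec (motive := fun _ => Nat) (Bool.rec (motive := fun _ => Nat) (0x3000148000276) (0x10001490002ed) (Nat.ble 409 i)) (Bool.rec (motive := fun _ => Nat) (0x100014a000316) (0x300014a000279) (Nat.ble 411 i)) (Nat.ble 410 i)) (Bool.rec (motive := fun _ => Nat) (Bool.rec (motive := fun _ => Nat) (0x14e000303) (0x300014e000319) (Nat.ble 413 i)) (Bool.rec (motive := fun _ => Nat) (0x200014f000112) (0x1500001e9) (Nat.ble 415 i)) (Nat.ble 414 i)) (Nat.ble 412 i)) (Nat.ble 408 i)) (Nat.ble 400 i)) (Bool.rec (motive := fun _ => Nat) (Bool.rec (motive := fun _ => Nat) (Bool.rec (motive := fun _ => Nat) (Bool.rec (motive := fun _ => Nat) (Bool.rec (motive := fun _ => Nat) (0x3000150000261) (0x30001510002f4) (Nat.ble 417 i)) (Bool.rec (motive := fun _ => Nat) (0x20001520001ed) (0x30001520002fc) (Nat.ble 419 i)) (Nat.ble 418 i)) (Bool.rec (motive := fun _ => Nat) (Bool.rec (motive := fun _ => Nat) (0x153000314) (0x2000153000311) (Nat.ble 421 i)) (Bool.rec (motive := fun _ => Nat) (0x10001540002a2) (0x1000155000315)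 (Nat.ble 423 i)) (Nat.ble 422 i)) (Nat.ble 420 i)) (Bool.rec (motive := fun _ => Nat) (Bool.rec (motive := fun _ => Nat) (Bool.rec (motive := fun _ => Nat) (0x20001550002cb) (0x2000156000211) (Nat.ble 425 i)) (Bool.rec (motive := fun _ => Nat) (0x1000159000216) (0x3000159000159) (Nat.ble 427 i)) (Nat.ble 426 i)) (Bool.rec (motive := fun _ => Nat) (Bool.rec (motive := fun _ => Nat) (0x100015b0002f2) (0x300015b0002a1) (Nat.ble 429 i)) (Bool.rec (motive := fun _ => Nat) (0x15d0002f0) (0x200015d00029e) (Nat.ble 431 i)) (Nat.ble 430 i)) (Nat.ble 428 i)) (Nat.ble 424 i)) (Bool.rec (motive := fun _ => Nat) (Bool.rec (motive := fun _ => Nat) (Bool.rec (motive := fun _ => Nat) (Bool.rec (motive := fun _ => Nat) (0x100015e0002fd) (0x15f0002dc) (Nat.ble 433 i)) (Bool.rec (motive := fun _ => Nat) (0x300015f000297) (0x162000213) (Nat.ble 435 i)) (Nat.ble 434 i)) (Bool.rec (motive := fun _ => Nat) (Bool.rec (motive := fun _ => Nat) (0x30001620000cf) (0x1000163000318) (Nat.ble 437 i)) (Bool.rec (motive := fun _ => Nat) (0x16400032e)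 (0x100016600031f) (Nat.ble 439 i)) (Nat.ble 438 i)) (Nat.ble 436 i)) (Bool.rec (motive := fun _ => Nat) (Bool.rec (motive := fun _ => Nat) (Bool.rec (motive := fun _ => Nat) (0x16700028d) (0x3000167000322) (Nat.ble 441 i)) (Bool.rec (motive := fun _ => Nat) (0x20001680001af) (0x16a000295) (Nat.ble 443 i)) (Nat.ble 442 i)) (Bool.rec (motive := fun _ => Nat) (Bool.rec (motive := fun _ => Nat) (0x300016a0002ec) (0x100016b0002b5) (Nat.ble 445 i)) (Bool.rec (motive := fun _ => Nat) (0x16c0001e4) (0x100016d00019e) (Nat.ble 447 i)) (Nat.ble 446 i)) (Nat.ble 444 i)) (Nat.ble 440 i)) (Nat.ble 432 i)) (Nat.ble 416 i))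
noncomputable def SO0P_7 (i : Nat) : Nat := (Bool.rec (motive := fun _ => Nat) (Bool.rec (motive := fun _ => Nat) (Bool.rec (motive := fun _ => Nat) (Bool.rec (motive := fun _ => Nat) (Bool.rec (motive := fun _ => Nat) (Bool.rec (motive := fun _ => Nat) (0x200016d0000ce) (0x100016e0001ea) (Nat.ble 449 i)) (Bool.rec (motive := fun _ => Nat) (0x300016e00029b) (0x200016f0002be) (Nat.ble 451 i)) (Nat.ble 450 i)) (Bool.rec (motive := fun _ => Nat) (Bool.rec (motive := fun _ => Nat) (0x17000029a) (0x20001700002bd) (Nat.ble 453 i)) (Bool.rec (motive := fun _ => Nat) (0x100017100030d) (0x30001710002d7) (Nat.ble 455 i)) (Nat.ble 454 i)) (Nat.ble 452 i)) (Bool.rec (motive := fun _ => Nat) (Bool.rec (motive := fun _ => Nat) (Bool.rec (motive := fun _ => Nat) (0x100017200020a) (0x173000296) (Nat.ble 457 i)) (Bool.rec (motive := fun _ => Nat) (0x30001730002eb) (0x3000178000305) (Nat.ble 459 i)) (Nat.ble 458 i)) (Bool.rec (motive := fun _ => Nat) (Bool.rec (motive := fun _ => Nat) (0x20001790002de) (0x17a000309) (Nat.ble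 461 i)) (Bool.rec (motive := fun _ => Nat) (0x17c0002e0) (0x100017d00032f) (Nat.ble 463 i)) (Nat.ble 462 i)) (Nat.ble 460 i)) (Nat.ble 456 i)) (Bool.rec (motive := fun _ => Nat) (Bool.rec (motive := fun _ => Nat) (Bool.rec (motive := fun _ => Nat) (Bool.rec (motive := fun _ => Nat) (0x17e00013c) (0x100017f000108) (Nat.ble 465 i)) (Bool.rec (motive := fun _ => Nat) (0x200017f000082) (0x300018100032b) (Nat.ble 467 i)) (Nat.ble 466 i)) (Bool.rec (motive := fun _ => Nat) (Bool.rec (motive := fun _ => Nat) (0x2000182000299) (0x183000328) (Nat.ble 469 i)) (Bool.rec (motive := fun _ => Nat) (0x2000183000327) (0x100018400030b) (Nat.ble 471 i)) (Nat.ble 470 i)) (Nat.ble 468 i)) (Bool.rec (motive := fun _ => Nat) (Bool.rec (motive := fun _ => Nat) (Bool.rec (motive := fun _ => Nat) (0x1000185000331) (0x30001870002dd) (Nat.ble 473 i)) (Bool.rec (motive := fun _ => Nat) (0x100018a000321) (0x300018b0001eb) (Nat.ble 475 i)) (Nat.ble 474 i)) (Bool.rec (motive := fun _ => Nat) (Bool.rec (motive := fun _ => Nat) (0x18d0001e7)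 (0x300018d00014e) (Nat.ble 477 i)) (Bool.rec (motive := fun _ => Nat) (0x18e000306) (0x10001920002a4) (Nat.ble 479 i)) (Nat.ble 478 i)) (Nat.ble 476 i)) (Nat.ble 472 i)) (Nat.ble 464 i)) (Bool.rec (motive := fun _ => Nat) (Bool.rec (motive := fun _ => Nat) (Bool.rec (motive := fun _ => Nat) (Bool.rec (motive := fun _ => Nat) (Bool.rec (motive := fun _ => Nat) (0x1000193000152) (0x3000194000260) (Nat.ble 481 i)) (Bool.rec (motive := fun _ => Nat) (0x19900029f) (0x19a000326) (Nat.ble 483 i)) (Nat.ble 482 i)) (Bool.rec (motive := fun _ => Nat) (Bool.rec (motive := fun _ => Nat) (0x100019c000312) (0x300019c00032d) (Nat.ble 485 i)) (Bool.rec (motive := fun _ => Nat) (0x200019d000310) (0x100019e0001a0) (Nat.ble 487 i)) (Nat.ble 486 i)) (Nat.ble 484 i)) (Bool.rec (motive := fun _ => Nat) (Bool.rec (motive := fun _ => Nat) (Bool.rec (motive := fun _ => Nat) (0x100019f00029c) (0x10001a50002f1) (Nat.ble 489 i)) (Bool.rec (motive := fun _ => Nat) (0x1a7000313) (0x1aa0002bf) (Nat.ble 491 i)) (Nat.ble 490 i)) (Bool.rec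 (motive := fun _ => Nat) (Bool.rec (motive := fun _ => Nat) (0x30001ac00025f) (0x30001b10002ea) (Nat.ble 493 i)) (Bool.rec (motive := fun _ => Nat) (0x20001b20001e5) (0x30001b3000151) (Nat.ble 495 i)) (Nat.ble 494 i)) (Nat.ble 492 i)) (Nat.ble 488 i)) (Bool.rec (motive := fun _ => Nat) (Bool.rec (motive := fun _ => Nat) (Bool.rec (motive := fun _ => Nat) (Bool.rec (motive := fun _ => Nat) (0x20001b400013b) (0x1b70002df) (Nat.ble 497 i)) (Bool.rec (motive := fun _ => Nat) (0x30001b8000304) (0x20001b900032a) (Nat.ble 499 i)) (Nat.ble 498 i)) (Bool.rec (motive := fun _ => Nat) (Bool.rec (motive := fun _ => Nat) (0x10001ba00025b) (0x1bf00013a) (Nat.ble 501 i)) (Bool.rec (motive := fun _ => Nat) (0x30001c10001ec) (0x10001c5000298) (Nat.ble 503 i)) (Nat.ble 502 i)) (Nat.ble 500 i)) (Bool.rec (motive := fun _ => Nat) (Bool.rec (motive := fun _ => Nat) (Bool.rec (motive := fun _ => Nat) (0x1c6000329) (0x1c80001e6) (Nat.ble 505 i)) (Bool.rec (motive := fun _ => Nat) (0x20001c8000212) (0x1d10000c4) (Nat.ble 507 i)) (Nat.ble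 506 i)) (Bool.rec (motive := fun _ => Nat) (Bool.rec (motive := fun _ => Nat) (0x10001d6000325) (0x1d8000332) (Nat.ble 509 i)) (Bool.rec (motive := fun _ => Nat) (0x20001db00013d) (0x1df0002f3) (Nat.ble 511 i)) (Nat.ble 510 i)) (Nat.ble 508 i)) (Nat.ble 504 i)) (Nat.ble 496 i)) (Nat.ble 480 i))
noncomputable def SO0P (i : Nat) : Nat := (Bool.rec (motive := fun _ => Nat) (Bool.rec (motive := fun _ => Nat) (Bool.rec (motive := fun _ => Nat) (SO0P_0 i) (SO0P_1 i) (Nat.ble 64 i)) (Bool.rec (motive := fun _ => Nat) (SO0P_2 i) (SO0P_3 i) (Nat.ble 192 i)) (Nat.ble 128 i)) (Bool.rec (motive := fun _ => Nat) (Bool.rec (motive := fun _ => Nat) (SO0P_4 i) (SO0P_5 i) (Nat.ble 320 i)) (Bool.rec (motive := fun _ => Nat) (SO0P_6 i) (SO0P_7 i) (Nat.ble 448 i)) (Nat.ble 384 i)) (Nat.ble 256 i))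
noncomputable def SO0InvB_0 (i : Nat) : Nat := (Bool.rec (motive := fun _ => Nat) (Bool.rec (motive := fun _ => Nat) (Bool.rec (motive := fun _ => Nat) (0x20000020000020000020000020000020000020000002a00002800001700001600001500001400001300020000020000020000020000004300004200002d00002c00002f00001200001100020000020000020000020000020000020000020000001a00001900000e00000d00001800000b00000a00020000020000002b00001c00000900020000020000020000000c00000700000600020000001000000500020000000400000300000800020000000200000f00000100001b000000000200) (Bool.rec (motive := fun _ => Nat) (0x20000020000020000020000020000004a00003600003300003400003100003000003200002e00013100020000020000020000020000020000020000020000020000020000020000020000020000020000020000020000020000020000020000003c00002900002600002700002400002300002500002200018000020000020000020000020000020000020000020000020000020000020000004800003500002100002000001f00001e00001d000200000200000200000200000200000200) (0x4900007c00004700004600006100004f00004b00004e0000450000440000ef00017b00014c00020000020000020000020000020000020000020000020000017f00020000020000020000020000020000020000020000020000020000020000020000020000020000005900006d00003f00003e00003b00007a00003a00003900005300004100003d0000400000380000370001470000d80001770002000002000002000002000002000002000002000002000002000001d2000200000200)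 (Nat.ble 2 i)) (Nat.ble 1 i)) (Bool.rec (motive := fun _ => Nat) (0xb000006000005f0000880000c500006600006f00007e00005800005700005600005500007700005400009800005c00005b00005d00005200009e00005100005000015a00010100013b0000c700010f0000a400012a0000f80002000002000002000002000002000002000002000002000002000002000002000002000002000002000002000002000001930001160001b40001c00002000002000002000002000002000002000002000002000002000001fb00005a00005e00004d00004c) (Bool.rec (motive := fun _ => Nat) (0x2000002000001fe0001d00001f00001f500009100008600006e00009b00006800006700007600006500008500006b00006a00006c0000640000af0000630000620001000000d20000b900014400014500012d00010600016900020000020000020000020000020000020000020000020000020000020000020000020000020000020000013000019e00016d0002000002000002000002000002000002000002000002000001d100020000020000020000020000007f00007b000069000099) (0xfd0000c30000720000740001570000e90001140000b30001210000c00002000002000002000002000002000002000002000002000002000002000002000002000002000002000002000002000002000002000002000002000002000002000002000002000002000002000002000002000001ab00014200018c0000ff0001590000d70001620001e00001ef00017200013d0001dd000200000200000200000200000200000200000200000200000200000200000200000200000200000200)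 (Nat.ble 5 i)) (Nat.ble 4 i)) (Nat.ble 3 i)) (Bool.rec (motive := fun _ => Nat) (Bool.rec (motive := fun _ => Nat) (0x2000002000002000002000002000002000002000002000002000001430001090000ee00019500019600014f0001230001ba0002000002000002000002000002000002000002000002000002000002000002000002000002000002000001e700017e0001bf0000aa00007d0000790000ae00008d0000cd0000e50000830000a90000780000820000810000800000870000b70000fe0000900000960000a800007300008400007500007100007000013500014600010d0000f40000f5000094) (Bool.rec (motive := fun _ => Nat) (0x2000002000002000002000002000002000002000002000002000002000002000002000002000002000002000002000002000002000001a20001f60001db0001c100019f0001970001dc0001f90001ee0001be0000920000c40000ba0000a700008f00009500009300009a0000cb00008c00009700008e00008b00008a0000890000f00000a00000bf00011500014b0000fc0000c90000eb0000e80000e30000cc00012700012800011f000200000200000200000200000200000200000200) (0x1760000be00013c0001390000dc0000a60000ca0000dd0000a200010c0001290001360000d40000d50000e40000ac00020000020000020000020000020000020000020000020000020000020000020000020000020000020000020000020000018600019200015400013a0000c60001400000ce0000a10001410001aa0001900001910001b30001fa0001a90001250001610000e700016b0000f700018d0001c8000200000200000200000200000200000200000200000200000200000200)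 (Nat.ble 8 i)) (Nat.ble 7 i)) (Bool.rec (motive := fun _ => Nat) (Bool.rec (motive := fun _ => Nat) (0x2000001320000cf0000f60000c800015e00019b0001080001020001980001260001200000e60001740001750001680002000002000002000002000002000002000002000002000002000002000002000002000002000002000001a00001e10001ec0001940001500001480001f400016c0001070000df0000ad0000fb0000b60000b50000de0000ab0000b40000b20000b10001870000a30000b80000a500009d00009c00009f00011b00015800010e0001030000d10000db00011a0000f2) (0x1eb0001c30001c50001560001710001840001120001220000e00001240001bd00016f0001700002000002000002000002000002000002000002000002000002000002000002000002000002000001520001df00018b0001a60001ad0001510001e20001af00016e0001e80001c20001c40001d40001f70001b20001c90001bb0001780000d90000c20000bc0000c10000bd0000bb0001b800010500013700011d00012c00012f0000e1000200000200000200000200000200000200000200) (Nat.ble 10 i)) (Bool.rec (motive := fun _ => Nat) (0x16700014a0001b00001a300014e00017d00011e0001790002000002000002000001a10001ff0001ac0001e90001ae00015c00010a0001990001bc0001ca0001ed00017300016a00012b00014d00011c0000e200013f0000ec0000ea0001ce0001f10001cc0001d90001b100015b0000d60000ed0001340001c70000f300018a0001890001380000fa0001130001110002000002000000d00001630001a800015500014900010b0001180001650001190000da0001040001170000d300018f)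 (0x1fd0001d800018e0001cf0001b60001e50001330001d30001f30001f80001d50001d60001e30001fc00012e0001830001b90001da00017c0001b700018800015300011000013e00016000019d0001b500016400019a0001a70001a40001ea0001e40001a50001e600015d0001820001c600015f0001d70001810001cd0000f90000f10001de0001cb0001f200019c00018500016600017a) (Nat.ble 12 i)) (Nat.ble 11 i)) (Nat.ble 9 i)) (Nat.ble 6 i))
noncomputable def SO0InvB (i : Nat) : Nat := (SO0InvB_0 i)
noncomputable def SO0Inv (i : Nat) : Nat := Nat.land (Nat.shiftRight (SO0InvB (Nat.shiftRight i 6)) (Nat.mul 24 (Nat.land i 63))) 16777215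
noncomputable def SO1P_0 (i : Nat) : Nat := (Bool.rec (motive := fun _ => Nat) (Bool.rec (motive := fun _ => Nat) (Bool.rec (motive := fun _ => Nat) (Bool.rec (motive := fun _ => Nat) (6) (0x100000000000a) (Nat.ble 1 i)) (Bool.rec (motive := fun _ => Nat) (0x1000011) (0x2000001000012) (Nat.ble 3 i)) (Nat.ble 2 i)) (Bool.rec (motive := fun _ => Nat) (Bool.rec (motive := fun _ => Nat) (0x1000002000021) (0x2000002000022) (Nat.ble 5 i)) (Bool.rec (motive := fun _ => Nat) (0x3000003000023) (Bool.rec (motive := fun _ => Nat) (0x300000500003c) (0x1000006000024) (Nat.ble 8 i)) (Nat.ble 7 i)) (Nat.ble 6 i)) (Nat.ble 4 i)) (Bool.rec (motive := fun _ => Nat) (Bool.rec (motive := fun _ => Nat) (Bool.rec (motive := fun _ => Nat) (0x200000600003e) (0x300000600003f) (Nat.ble 10 i)) (Bool.rec (motive := fun _ => Nat) (0x100000700003d) (0x2000007000064) (Nat.ble 12 i)) (Nat.ble 11 i)) (Bool.rec (motive := fun _ => Nat) (Bool.rec (motive := fun _ => Nat) (0x3000007000065) (0x1000009000040) (Nat.ble 14 i)) (Bool.rec (motive :=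 fun _ => Nat) (0x100000a000041) (Bool.rec (motive := fun _ => Nat) (0x100000c000066) (0x100000d000067) (Nat.ble 17 i)) (Nat.ble 16 i)) (Nat.ble 15 i)) (Nat.ble 13 i)) (Nat.ble 9 i))
noncomputable def SO1P (i : Nat) : Nat := (SO1P_0 i)
noncomputable def SO1InvB_0 (i : Nat) : Nat := (Bool.rec (motive := fun _ => Nat) (Bool.rec (motive := fun _ => Nat) (Bool.rec (motive := fun _ => Nat) (0xa00000900000b000007000012000012000012000012000012000012000012000012000012000012000012000012000012000012000012000012000012000012000012000012000012000012000012000008000006000005000004000012000012000012000012000012000012000012000012000012000012000012000012000012000012000003000002000012000012000012000012000012000012000001000012000012000012000000000012000012000012000012000012000012) (Bool.rec (motive := fun _ => Nat) (0x1200001200001200001200001200001200001200001200001200001200001200001200001200001200001200001200001200001200001200001200001200001200001200001200001100001000000d00000c00001200001200001200001200001200001200001200001200001200001200001200001200001200001200001200001200001200001200001200001200001200001200001200001200001200001200001200001200001200001200001200001200001200001200000f00000e)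 (0x12000012000012000012000012000012000012000012000012000012000012000012000012000012000012000012000012000012000012000012000012000012000012000012000012000012000012000012000012000012000012000012000012000012000012000012000012000012000012000012000012000012000012000012000012000012000012000012000012000012000012000012000012000012000012000012000012000012000012000012000012000012000012000012) (Nat.ble 2 i)) (Nat.ble 1 i)) (Bool.rec (motive := fun _ => Nat) (0x12000012000012000012000012000012000012000012000012000012000012000012000012000012000012000012000012000012000012000012000012000012000012000012000012000012000012000012000012000012000012000012000012000012000012000012000012000012000012000012000012000012000012000012000012000012000012000012000012000012000012000012000012000012000012000012000012000012000012000012000012000012000012000012) (Bool.rec (motive := fun _ => Nat) (0x12000012000012000012000012000012000012000012000012000012000012000012000012000012000012000012000012000012000012000012000012000012000012000012000012000012000012000012000012000012000012000012000012000012000012000012000012000012000012000012000012000012000012000012000012000012000012000012000012000012000012000012000012000012000012000012000012000012000012000012000012000012000012000012)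 (0x12000012000012000012000012000012000012000012000012000012000012000012000012000012000012000012000012000012000012000012000012000012000012000012000012000012000012000012000012000012000012000012000012000012000012000012000012000012000012000012000012000012000012000012000012000012000012000012000012000012000012000012000012000012000012000012000012000012000012000012000012000012000012000012) (Nat.ble 5 i)) (Nat.ble 4 i)) (Nat.ble 3 i)) (Bool.rec (motive := fun _ => Nat) (Bool.rec (motive := fun _ => Nat) (0x12000012000012000012000012000012000012000012000012000012000012000012000012000012000012000012000012000012000012000012000012000012000012000012000012000012000012000012000012000012000012000012000012000012000012000012000012000012000012000012000012000012000012000012000012000012000012000012000012000012000012000012000012000012000012000012000012000012000012000012000012000012000012000012) (Bool.rec (motive := fun _ => Nat) (0x12000012000012000012000012000012000012000012000012000012000012000012000012000012000012000012000012000012000012000012000012000012000012000012000012000012000012000012000012000012000012000012000012000012000012000012000012000012000012000012000012000012000012000012000012000012000012000012000012000012000012000012000012000012000012000012000012000012000012000012000012000012000012000012)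 (0x12000012000012000012000012000012000012000012000012000012000012000012000012000012000012000012000012000012000012000012000012000012000012000012000012000012000012000012000012000012000012000012000012000012000012000012000012000012000012000012000012000012000012000012000012000012000012000012000012000012000012000012000012000012000012000012000012000012000012000012000012000012000012000012) (Nat.ble 8 i)) (Nat.ble 7 i)) (Bool.rec (motive := fun _ => Nat) (Bool.rec (motive := fun _ => Nat) (0x12000012000012000012000012000012000012000012000012000012000012000012000012000012000012000012000012000012000012000012000012000012000012000012000012000012000012000012000012000012000012000012000012000012000012000012000012000012000012000012000012000012000012000012000012000012000012000012000012000012000012000012000012000012000012000012000012000012000012000012000012000012000012000012) (0x12000012000012000012000012000012000012000012000012000012000012000012000012000012000012000012000012000012000012000012000012000012000012000012000012000012000012000012000012000012000012000012000012000012000012000012000012000012000012000012000012000012000012000012000012000012000012000012000012000012000012000012000012000012000012000012000012000012000012000012000012000012000012000012)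 (Nat.ble 10 i)) (Bool.rec (motive := fun _ => Nat) (0x12000012000012000012000012000012000012000012000012000012000012000012000012000012000012000012000012000012000012000012000012000012000012000012000012000012000012000012000012000012000012000012000012000012000012000012000012000012000012000012000012000012000012000012000012000012000012000012000012000012000012000012000012000012000012000012000012000012000012000012000012000012000012000012) (0x12000012000012000012000012000012000012000012000012000012000012000012000012000012000012000012000012000012000012000012000012000012000012000012000012000012000012000012000012000012000012000012000012000012000012000012000012000012000012000012000012000012000012000012000012000012000012000012000012000012000012) (Nat.ble 12 i)) (Nat.ble 11 i)) (Nat.ble 9 i)) (Nat.ble 6 i))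
noncomputable def SO1InvB (i : Nat) : Nat := (SO1InvB_0 i)
noncomputable def SO1Inv (i : Nat) : Nat := Nat.land (Nat.shiftRight (SO1InvB (Nat.shiftRight i 6)) (Nat.mul 24 (Nat.land i 63))) 16777215
noncomputable def SO2P_0 (i : Nat) : Nat := (Bool.rec (motive := fun _ => Nat) (Bool.rec (motive := fun _ => Nat) (Bool.rec (motive := fun _ => Nat) (Bool.rec (motive := fun _ => Nat) (Bool.rec (motive := fun _ => Nat) (0xd) (0x1000000000013) (Nat.ble 1 i)) (Bool.rec (motive := fun _ => Nat) (0x2000000000018) (0x1000020) (Nat.ble 3 i)) (Nat.ble 2 i)) (Bool.rec (motive := fun _ => Nat) (Bool.rec (motive := fun _ => Nat) (0x2000001000026) (0x100000200002f) (Nat.ble 5 i)) (Bool.rec (motive := fun _ => Nat) (0x3000002000030) (Bool.rec (motive := fun _ => Nat) (0x100000300003a) (0x200000300003b) (Nat.ble 8 i)) (Nat.ble 7 i)) (Nat.ble 6 i)) (Nat.ble 4 i)) (Bool.rec (motive := fun _ => Nat) (Bool.rec (motive := fun _ => Nat) (Bool.rec (motive := fun _ => Nat) (0x1000004000043) (0x3000004000044) (Nat.ble 10 i)) (Bool.rec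 (motive := fun _ => Nat) (0x5000050) (0x3000005000051) (Nat.ble 12 i)) (Nat.ble 11 i)) (Bool.rec (motive := fun _ => Nat) (Bool.rec (motive := fun _ => Nat) (0x1000006000052) (0x2000006000053) (Nat.ble 14 i)) (Bool.rec (motive := fun _ => Nat) (0x3000006000054) (Bool.rec (motive := fun _ => Nat) (0x7000060) (0x3000008000062) (Nat.ble 17 i)) (Nat.ble 16 i)) (Nat.ble 15 i)) (Nat.ble 13 i)) (Nat.ble 9 i)) (Bool.rec (motive := fun _ => Nat) (Bool.rec (motive := fun _ => Nat) (Bool.rec (motive := fun _ => Nat) (Bool.rec (motive := fun _ => Nat) (0x900006b) (0x300000900006c) (Nat.ble 19 i)) (Bool.rec (motive := fun _ => Nat) (0x100000a00006d) (0x200000a00006e) (Nat.ble 21 i)) (Nat.ble 20 i)) (Bool.rec (motive := fun _ => Nat) (Bool.rec (motive := fun _ => Nat) (0x300000a00006f) (0x100000b000083) (Nat.ble 23 i)) (Bool.rec (motive := fun _ => Nat) (0x300000b000084) (Bool.rec (motive := fun _ => Nat) (0x100000c000031) (0x200000c000086) (Nat.ble 26 i)) (Nat.ble 25 i)) (Nat.ble 24 i)) (Nat.ble 22 i)) (Bool.rec (motive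 := fun _ => Nat) (Bool.rec (motive := fun _ => Nat) (Bool.rec (motive := fun _ => Nat) (0x300000c000087) (0xd000085) (Nat.ble 28 i)) (Bool.rec (motive := fun _ => Nat) (0x200000d000089) (0x100000e000088) (Nat.ble 30 i)) (Nat.ble 29 i)) (Bool.rec (motive := fun _ => Nat) (Bool.rec (motive := fun _ => Nat) (0x300000e000055) (0x100000f00008a) (Nat.ble 32 i)) (Bool.rec (motive := fun _ => Nat) (0x1000010000039) (Bool.rec (motive := fun _ => Nat) (0x1000011000063) (0x200001100009f) (Nat.ble 35 i)) (Nat.ble 34 i)) (Nat.ble 33 i)) (Nat.ble 31 i)) (Nat.ble 27 i)) (Nat.ble 18 i))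
noncomputable def SO2P_1 (i : Nat) : Nat := (Bool.rec (motive := fun _ => Nat) (Bool.rec (motive := fun _ => Nat) (Bool.rec (motive := fun _ => Nat) (Bool.rec (motive := fun _ => Nat) (Bool.rec (motive := fun _ => Nat) (0x30000110000a0) (0x10000120000a3) (Nat.ble 37 i)) (Bool.rec (motive := fun _ => Nat) (0x30000120000ab) (0x1000013000045) (Nat.ble 39 i)) (Nat.ble 38 i)) (Bool.rec (motive := fun _ => Nat) (Bool.rec (motive := fun _ => Nat) (0x20000130000ad) (0x30000130000ae) (Nat.ble 41 i)) (Bool.rec (motive := fun _ => Nat) (0x140000ac) (Bool.rec (motive := fun _ => Nat) (0x20000140000b0) (0x10000150000af) (Nat.ble 44 i)) (Nat.ble 43 i)) (Nat.ble 42 i)) (Nat.ble 40 i)) (Bool.rec (motive := fun _ => Nat) (Bool.rec (motive := fun _ => Nat) (Bool.rec (motive := fun _ => Nat) (0x3000015000070) (0x10000160000b1) (Nat.ble 46 i)) (Bool.rec (motive := fun _ => Nat) (0x170000c5) (0x30000170000d2) (Nat.ble 48 i)) (Nat.ble 47 i)) (Bool.rec (motive := fun _ => Nat) (Bool.rec (motive := fun _ => Nat) (0x10000180000d3)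 (0x20000180000d4) (Nat.ble 50 i)) (Bool.rec (motive := fun _ => Nat) (0x30000180000d5) (Bool.rec (motive := fun _ => Nat) (0x100001a0000da) (0x300001a0000db) (Nat.ble 53 i)) (Nat.ble 52 i)) (Nat.ble 51 i)) (Nat.ble 49 i)) (Nat.ble 45 i)) (Bool.rec (motive := fun _ => Nat) (Bool.rec (motive := fun _ => Nat) (Bool.rec (motive := fun _ => Nat) (Bool.rec (motive := fun _ => Nat) (0x100001b000056) (0x200001b0000dd) (Nat.ble 55 i)) (Bool.rec (motive := fun _ => Nat) (0x300001b00008b) (0x200001c0000d7) (Nat.ble 57 i)) (Nat.ble 56 i)) (Bool.rec (motive := fun _ => Nat) (Bool.rec (motive := fun _ => Nat) (0x100001d0000de) (0x300001d0000df) (Nat.ble 59 i)) (Bool.rec (motive := fun _ => Nat) (0x1e0000d6) (Bool.rec (motive := fun _ => Nat) (0x200000d8) (0x21000025) (Nat.ble 62 i)) (Nat.ble 61 i)) (Nat.ble 60 i)) (Nat.ble 58 i)) (Bool.rec (motive := fun _ => Nat) (Bool.rec (motive := fun _ => Nat) (Bool.rec (motive := fun _ => Nat) (0x2000021000061) (0x10000230000a1) (Nat.ble 64 i)) (Bool.rec (motive := fun _ => Nat) (0x10000240000a2)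 (0x25000068) (Nat.ble 66 i)) (Nat.ble 65 i)) (Bool.rec (motive := fun _ => Nat) (Bool.rec (motive := fun _ => Nat) (0x200002500007b) (0x3000025000109) (Nat.ble 68 i)) (Bool.rec (motive := fun _ => Nat) (0x100002600010a) (Bool.rec (motive := fun _ => Nat) (0x2000026000114) (0x3000026000115) (Nat.ble 71 i)) (Nat.ble 70 i)) (Nat.ble 69 i)) (Nat.ble 67 i)) (Nat.ble 63 i)) (Nat.ble 54 i))
noncomputable def SO2P_2 (i : Nat) : Nat := (Bool.rec (motive := fun _ => Nat) (Bool.rec (motive := fun _ => Nat) (Bool.rec (motive := fun _ => Nat) (Bool.rec (motive := fun _ => Nat) (Bool.rec (motive := fun _ => Nat) (0x100002800011a) (0x300002800011b) (Nat.ble 73 i)) (Bool.rec (motive := fun _ => Nat) (0x1000029000071) (0x200002900011d) (Nat.ble 75 i)) (Nat.ble 74 i)) (Bool.rec (motive := fun _ => Nat) (Bool.rec (motive := fun _ => Nat) (0x30000290000b2) (0x200002a000117) (Nat.ble 77 i)) (Bool.rec (motive := fun _ => Nat) (0x100002b00011e) (Bool.rec (motive := fun _ => Nat) (0x300002b00011f) (0x2c000116) (Nat.ble 80 i)) (Nat.ble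 79 i)) (Nat.ble 78 i)) (Nat.ble 76 i)) (Bool.rec (motive := fun _ => Nat) (Bool.rec (motive := fun _ => Nat) (Bool.rec (motive := fun _ => Nat) (0x2e000118) (0x300002f00013e) (Nat.ble 82 i)) (Bool.rec (motive := fun _ => Nat) (0x300003000015a) (0x3100013f) (Nat.ble 84 i)) (Nat.ble 83 i)) (Bool.rec (motive := fun _ => Nat) (Bool.rec (motive := fun _ => Nat) (0x300003200015e) (0x100003300015c) (Nat.ble 86 i)) (Bool.rec (motive := fun _ => Nat) (0x2000033000160) (Bool.rec (motive := fun _ => Nat) (0x30000330000d9) (0x34000164) (Nat.ble 89 i)) (Nat.ble 88 i)) (Nat.ble 87 i)) (Nat.ble 85 i)) (Nat.ble 81 i)) (Bool.rec (motive := fun _ => Nat) (Bool.rec (motive := fun _ => Nat) (Bool.rec (motive := fun _ => Nat) (Bool.rec (motive := fun _ => Nat) (0x3000034000166) (0x1000035000167) (Nat.ble 91 i)) (Bool.rec (motive := fun _ => Nat) (0x2000035000168) (0x3000035000169) (Nat.ble 93 i)) (Nat.ble 92 i)) (Bool.rec (motive := fun _ => Nat) (Bool.rec (motive := fun _ => Nat) (0x10000370000e1) (0x3000037000121) (Nat.ble 95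 i)) (Bool.rec (motive := fun _ => Nat) (0x1000039000143) (Bool.rec (motive := fun _ => Nat) (0x3000039000162) (0x3a000161) (Nat.ble 98 i)) (Nat.ble 97 i)) (Nat.ble 96 i)) (Nat.ble 94 i)) (Bool.rec (motive := fun _ => Nat) (Bool.rec (motive := fun _ => Nat) (Bool.rec (motive := fun _ => Nat) (0x300003a000120) (0x100003b00016f) (Nat.ble 100 i)) (Bool.rec (motive := fun _ => Nat) (0x300003b000170) (0x100003c00015d) (Nat.ble 102 i)) (Nat.ble 101 i)) (Bool.rec (motive := fun _ => Nat) (Bool.rec (motive := fun _ => Nat) (0x100003e000017) (0x200003e000042) (Nat.ble 104 i)) (Bool.rec (motive := fun _ => Nat) (0x300003f00009d) (Bool.rec (motive := fun _ => Nat) (0x200004200004d) (0x30000420000a4) (Nat.ble 107 i)) (Nat.ble 106 i)) (Nat.ble 105 i)) (Nat.ble 103 i)) (Nat.ble 99 i)) (Nat.ble 90 i))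
noncomputable def SO2P_3 (i : Nat) : Nat := (Bool.rec (motive := fun _ => Nat) (Bool.rec (motive := fun _ => Nat) (Bool.rec (motive := fun _ => Nat) (Bool.rec (motive := fun _ => Nat) (Bool.rec (motive := fun _ => Nat) (0x30000430000c6) (0x20000440001a1) (Nat.ble 109 i)) (Bool.rec (motive := fun _ => Nat) (0x30000440001a2) (0x450000a5) (Nat.ble 111 i)) (Nat.ble 110 i)) (Bool.rec (motive := fun _ => Nat) (Bool.rec (motive := fun _ => Nat) (0x20000450001a4) (0x10000460001b7) (Nat.ble 113 i)) (Bool.rec (motive := fun _ => Nat) (0x30000460001b8) (Bool.rec (motive := fun _ => Nat) (0x10000470001a5) (0x20000470001ba) (Nat.ble 116 i)) (Nat.ble 115 i)) (Nat.ble 114 i)) (Nat.ble 112 i)) (Bool.rec (motive := fun _ => Nat) (Bool.rec (motive := fun _ => Nat) (Bool.rec (motive := fun _ => Nat) (0x3000047000119) (0x480001bf) (Nat.ble 118 i)) (Bool.rec (motive := fun _ => Nat) (0x300004800016c) (0x10000490001c1) (Nat.ble 120 i)) (Nat.ble 119 i)) (Bool.rec (motive := fun _ => Nat) (Bool.rec (motive := fun _ => Nat) (0x20000490001c2)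 (0x3000049000173) (Nat.ble 122 i)) (Bool.rec (motive := fun _ => Nat) (0x100004d0001bc) (Bool.rec (motive := fun _ => Nat) (0x300004d0001bd) (0x4e0001bb) (Nat.ble 125 i)) (Nat.ble 124 i)) (Nat.ble 123 i)) (Nat.ble 121 i)) (Nat.ble 117 i)) (Bool.rec (motive := fun _ => Nat) (Bool.rec (motive := fun _ => Nat) (Bool.rec (motive := fun _ => Nat) (Bool.rec (motive := fun _ => Nat) (0x300004e0000e0) (0x100004f0001c4) (Nat.ble 127 i)) (Bool.rec (motive := fun _ => Nat) (0x300004f00016b) (0x10000500001a6) (Nat.ble 129 i)) (Nat.ble 128 i)) (Bool.rec (motive := fun _ => Nat) (Bool.rec (motive := fun _ => Nat) (0x10000520000c7) (0x30000520001ee) (Nat.ble 131 i)) (Bool.rec (motive := fun _ => Nat) (0x100005500015f) (Bool.rec (motive := fun _ => Nat) (0x2000055000220) (0x3000055000221) (Nat.ble 134 i)) (Nat.ble 133 i)) (Nat.ble 132 i)) (Nat.ble 130 i)) (Bool.rec (motive := fun _ => Nat) (Bool.rec (motive := fun _ => Nat) (Bool.rec (motive := fun _ => Nat) (0x560001f0) (0x30000570001c0) (Nat.ble 136 i)) (Bool.rec (motive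 := fun _ => Nat) (0x100005800015b) (0x2000058000165) (Nat.ble 138 i)) (Nat.ble 137 i)) (Bool.rec (motive := fun _ => Nat) (Bool.rec (motive := fun _ => Nat) (0x10000590001f8) (0x300005900022d) (Nat.ble 140 i)) (Bool.rec (motive := fun _ => Nat) (0x100005a0000dc) (Bool.rec (motive := fun _ => Nat) (0x200005a000174) (0x300005a00011c) (Nat.ble 143 i)) (Nat.ble 142 i)) (Nat.ble 141 i)) (Nat.ble 139 i)) (Nat.ble 135 i)) (Nat.ble 126 i))
noncomputable def SO2P_4 (i : Nat) : Nat := (Bool.rec (motive := fun _ => Nat) (Bool.rec (motive := fun _ => Nat) (Bool.rec (motive := fun _ => Nat) (Bool.rec (motive := fun _ => Nat) (Bool.rec (motive := fun _ => Nat) (0x5b00022e) (0x200005b00016a) (Nat.ble 145 i)) (Bool.rec (motive := fun _ => Nat) (0x300005e000175) (0x600000cb) (Nat.ble 147 i)) (Nat.ble 146 i)) (Bool.rec (motive := fun _ => Nat) (Bool.rec (motive := fun _ => Nat) (0x30000600001f6) (0x10000610001f7) (Nat.ble 149 i)) (Bool.rec (motive := fun _ => Nat) (0x3000061000228) (Bool.rec (motive := fun _ => Nat) (0x30000620001be)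 (0x20000630001c5) (Nat.ble 152 i)) (Nat.ble 151 i)) (Nat.ble 150 i)) (Nat.ble 148 i)) (Bool.rec (motive := fun _ => Nat) (Bool.rec (motive := fun _ => Nat) (Bool.rec (motive := fun _ => Nat) (0x64000227) (0x200006500016e) (Nat.ble 154 i)) (Bool.rec (motive := fun _ => Nat) (0x660001f1) (0x200006700002e) (Nat.ble 156 i)) (Nat.ble 155 i)) (Bool.rec (motive := fun _ => Nat) (Bool.rec (motive := fun _ => Nat) (0x3000068000069) (0x100006900009e) (Nat.ble 158 i)) (Bool.rec (motive := fun _ => Nat) (0x2000069000104) (Bool.rec (motive := fun _ => Nat) (0x3000069000105) (0x300006a00007c) (Nat.ble 161 i)) (Nat.ble 160 i)) (Nat.ble 159 i)) (Nat.ble 157 i)) (Nat.ble 153 i)) (Bool.rec (motive := fun _ => Nat) (Bool.rec (motive := fun _ => Nat) (Bool.rec (motive := fun _ => Nat) (Bool.rec (motive := fun _ => Nat) (0x100006b00006a) (0x200006b00010b) (Nat.ble 163 i)) (Bool.rec (motive := fun _ => Nat) (0x300006b00010c) (0x200006c000140) (Nat.ble 165 i)) (Nat.ble 164 i)) (Bool.rec (motive := fun _ => Nat) (Bool.rec (motive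 := fun _ => Nat) (0x300006c000141) (0x200006e000263) (Nat.ble 167 i)) (Bool.rec (motive := fun _ => Nat) (0x200006f00010e) (Bool.rec (motive := fun _ => Nat) (0x1000070000265) (0x3000070000266) (Nat.ble 170 i)) (Nat.ble 169 i)) (Nat.ble 168 i)) (Nat.ble 166 i)) (Bool.rec (motive := fun _ => Nat) (Bool.rec (motive := fun _ => Nat) (Bool.rec (motive := fun _ => Nat) (0x710001a8) (0x300007100027f) (Nat.ble 172 i)) (Bool.rec (motive := fun _ => Nat) (0x300007200022b) (0x7300010f) (Nat.ble 174 i)) (Nat.ble 173 i)) (Bool.rec (motive := fun _ => Nat) (Bool.rec (motive := fun _ => Nat) (0x2000073000268) (0x1000074000280) (Nat.ble 176 i)) (Bool.rec (motive := fun _ => Nat) (0x10000750001a3) (Bool.rec (motive := fun _ => Nat) (0x1000076000284) (0x3000076000224) (Nat.ble 179 i)) (Nat.ble 178 i)) (Nat.ble 177 i)) (Nat.ble 175 i)) (Nat.ble 171 i)) (Nat.ble 162 i))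
noncomputable def SO2P_5 (i : Nat) : Nat := (Bool.rec (motive := fun _ => Nat) (Bool.rec (motive := fun _ => Nat) (Bool.rec (motive := fun _ => Nat) (Bool.rec (motive := fun _ => Nat) (Bool.rec (motive := fun _ => Nat) (0x20000770001c6) (0x100007c000223) (Nat.ble 181 i)) (Bool.rec (motive := fun _ => Nat) (0x100007d000281) (0x300007d000163) (Nat.ble 183 i)) (Nat.ble 182 i)) (Bool.rec (motive := fun _ => Nat) (Bool.rec (motive := fun _ => Nat) (0x200007e000172) (0x7f000283) (Nat.ble 185 i)) (Bool.rec (motive := fun _ => Nat) (0x20000800001c3) (Bool.rec (motive := fun _ => Nat) (0x81000110) (0x2000081000269) (Nat.ble 188 i)) (Nat.ble 187 i)) (Nat.ble 186 i)) (Nat.ble 184 i)) (Bool.rec (motive := fun _ => Nat) (Bool.rec (motive := fun _ => Nat) (Bool.rec (motive := fun _ => Nat) (0x8200007d) (0x1000083000144) (Nat.ble 190 i)) (Bool.rec (motive := fun _ => Nat) (0x20000840001b9) (0x10000850002ce) (Nat.ble 192 i)) (Nat.ble 191 i)) (Bool.rec (motive := fun _ => Nat) (Bool.rec (motive := fun _ => Nat) (0x1000088000226)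 (0x3000088000222) (Nat.ble 194 i)) (Bool.rec (motive := fun _ => Nat) (0x890001ef) (Bool.rec (motive := fun _ => Nat) (0x100008a0001f9) (0x300008a00022f) (Nat.ble 197 i)) (Nat.ble 196 i)) (Nat.ble 195 i)) (Nat.ble 193 i)) (Nat.ble 189 i)) (Bool.rec (motive := fun _ => Nat) (Bool.rec (motive := fun _ => Nat) (Bool.rec (motive := fun _ => Nat) (Bool.rec (motive := fun _ => Nat) (0x8b000146) (0x300008b0002b1) (Nat.ble 199 i)) (Bool.rec (motive := fun _ => Nat) (0x100008c0002b2) (0x200008c00022c) (Nat.ble 201 i)) (Nat.ble 200 i)) (Bool.rec (motive := fun _ => Nat) (Bool.rec (motive := fun _ => Nat) (0x300008e000171) (0x100009300014a) (Nat.ble 203 i)) (Bool.rec (motive := fun _ => Nat) (0x300009300014b) (Bool.rec (motive := fun _ => Nat) (0x9500014c) (0x20000950002af) (Nat.ble 206 i)) (Nat.ble 205 i)) (Nat.ble 204 i)) (Nat.ble 202 i)) (Bool.rec (motive := fun _ => Nat) (Bool.rec (motive := fun _ => Nat) (Bool.rec (motive := fun _ => Nat) (0x1000096000264) (0x2000097000285) (Nat.ble 208 i)) (Bool.rec (motive := fun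 _ => Nat) (0x100009b000142) (0x300009c00004e) (Nat.ble 210 i)) (Nat.ble 209 i)) (Bool.rec (motive := fun _ => Nat) (Bool.rec (motive := fun _ => Nat) (0x200009d0000a6) (0x300009d0000a7) (Nat.ble 212 i)) (Bool.rec (motive := fun _ => Nat) (0x100009f000106) (Bool.rec (motive := fun _ => Nat) (0x10000a0000107) (0x10000a100004f) (Nat.ble 215 i)) (Nat.ble 214 i)) (Nat.ble 213 i)) (Nat.ble 211 i)) (Nat.ble 207 i)) (Nat.ble 198 i))
noncomputable def SO2P_6 (i : Nat) : Nat := (Bool.rec (motive := fun _ => Nat) (Bool.rec (motive := fun _ => Nat) (Bool.rec (motive := fun _ => Nat) (Bool.rec (motive := fun _ => Nat) (Bool.rec (motive := fun _ => Nat) (0x20000a10000c8) (0x30000a10000c9) (Nat.ble 217 i)) (Bool.rec (motive := fun _ => Nat) (0x10000a30001a7) (0x10000a40000a9) (Nat.ble 219 i)) (Nat.ble 218 i)) (Bool.rec (motive := fun _ => Nat) (Bool.rec (motive := fun _ => Nat) (0x20000a40001aa) (0x30000a50001f2) (Nat.ble 221 i)) (Bool.rec (motive := fun _ => Nat) (0x20000a60001f4) (Bool.rec (motive := fun _ => Nat) (0x30000a6000145)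 (0x10000a80001ab) (Nat.ble 224 i)) (Nat.ble 223 i)) (Nat.ble 222 i)) (Nat.ble 220 i)) (Bool.rec (motive := fun _ => Nat) (Bool.rec (motive := fun _ => Nat) (Bool.rec (motive := fun _ => Nat) (0x30000a80001ac) (0xa900026b) (Nat.ble 226 i)) (Bool.rec (motive := fun _ => Nat) (0x30000a90002ad) (0x10000aa0002a9) (Nat.ble 228 i)) (Nat.ble 227 i)) (Bool.rec (motive := fun _ => Nat) (Bool.rec (motive := fun _ => Nat) (0x10000ab00026a) (0x30000ab000207) (Nat.ble 230 i)) (Bool.rec (motive := fun _ => Nat) (0x10000ad000262) (Bool.rec (motive := fun _ => Nat) (0x10000af0002f5) (0x30000af0002aa) (Nat.ble 233 i)) (Nat.ble 232 i)) (Nat.ble 231 i)) (Nat.ble 229 i)) (Nat.ble 225 i)) (Bool.rec (motive := fun _ => Nat) (Bool.rec (motive := fun _ => Nat) (Bool.rec (motive := fun _ => Nat) (Bool.rec (motive := fun _ => Nat) (0xb0000209) (0xb100010d) (Nat.ble 235 i)) (Bool.rec (motive := fun _ => Nat) (0x20000b3000286) (0x30000b400016d) (Nat.ble 237 i)) (Nat.ble 236 i)) (Bool.rec (motive := fun _ => Nat) (Bool.rec (motive := fun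 _ => Nat) (0x20000b5000282) (0xb6000204) (Nat.ble 239 i)) (Bool.rec (motive := fun _ => Nat) (0x20000b60002ac) (Bool.rec (motive := fun _ => Nat) (0x30000b60002a6) (0x20000b700022a) (Nat.ble 242 i)) (Nat.ble 241 i)) (Nat.ble 240 i)) (Nat.ble 238 i)) (Bool.rec (motive := fun _ => Nat) (Bool.rec (motive := fun _ => Nat) (Bool.rec (motive := fun _ => Nat) (0x10000bb0000a8) (0x20000bb0001ae) (Nat.ble 244 i)) (Bool.rec (motive := fun _ => Nat) (0x30000bc0002a8) (0xbe0000cc) (Nat.ble 246 i)) (Nat.ble 245 i)) (Bool.rec (motive := fun _ => Nat) (Bool.rec (motive := fun _ => Nat) (0xc000026d) (0x10000c2000225) (Nat.ble 248 i)) (Bool.rec (motive := fun _ => Nat) (0xc400014d) (Bool.rec (motive := fun _ => Nat) (0x30000c60001fa) (0x20000c70002b0) (Nat.ble 251 i)) (Nat.ble 250 i)) (Nat.ble 249 i)) (Nat.ble 247 i)) (Nat.ble 243 i)) (Nat.ble 234 i))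
noncomputable def SO2P_7 (i : Nat) : Nat := (Bool.rec (motive := fun _ => Nat) (Bool.rec (motive := fun _ => Nat) (Bool.rec (motive := fun _ => Nat) (Bool.rec (motive := fun _ => Nat) (Bool.rec (motive := fun _ => Nat) (0xc80001fb) (0x10000c90002ae) (Nat.ble 253 i)) (Bool.rec (motive := fun _ => Nat) (0x30000c9000229) (0xcb0001f5) (Nat.ble 255 i)) (Nat.ble 254 i)) (Bool.rec (motive := fun _ => Nat) (Bool.rec (motive := fun _ => Nat) (0x20000cb0000ca) (0x30000cb0001ad) (Nat.ble 257 i)) (Bool.rec (motive := fun _ => Nat) (0x10000cc000203) (Bool.rec (motive := fun _ => Nat) (0x20000cd000206) (0x20000d200007e) (Nat.ble 260 i)) (Nat.ble 259 i)) (Nat.ble 258 i)) (Nat.ble 256 i)) (Bool.rec (motive := fun _ => Nat) (Bool.rec (motive := fun _ => Nat) (Bool.rec (motive := fun _ => Nat) (0x30000d200007f) (0x30000d8000147) (Nat.ble 262 i)) (Bool.rec (motive := fun _ => Nat) (0x10000d9000081) (0x20000d9000149) (Nat.ble 264 i)) (Nat.ble 263 i)) (Bool.rec (motive := fun _ => Nat) (Bool.rec (motive := fun _ => Nat) (0x30000d90000cd)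 (0x30000da000200) (Nat.ble 266 i)) (Bool.rec (motive := fun _ => Nat) (0x10000dd0001f3) (Bool.rec (motive := fun _ => Nat) (0x30000dd0002a7) (0x30000e10001ff) (Nat.ble 269 i)) (Nat.ble 268 i)) (Nat.ble 267 i)) (Nat.ble 265 i)) (Nat.ble 261 i)) (Bool.rec (motive := fun _ => Nat) (Bool.rec (motive := fun _ => Nat) (Bool.rec (motive := fun _ => Nat) (Bool.rec (motive := fun _ => Nat) (0x10000e3000267) (0x20000e40002cf) (Nat.ble 271 i)) (Bool.rec (motive := fun _ => Nat) (0x10000e60001fd) (0xe70001a9) (Nat.ble 273 i)) (Nat.ble 272 i)) (Bool.rec (motive := fun _ => Nat) (Bool.rec (motive := fun _ => Nat) (0x20000e90002f7) (0x10000ea000202) (Nat.ble 275 i)) (Bool.rec (motive := fun _ => Nat) (0x30000ef0001fc) (Bool.rec (motive := fun _ => Nat) (0x30000f40001fe) (0x10000f50002ab) (Nat.ble 278 i)) (Nat.ble 277 i)) (Nat.ble 276 i)) (Nat.ble 274 i)) (Bool.rec (motive := fun _ => Nat) (Bool.rec (motive := fun _ => Nat) (Bool.rec (motive := fun _ => Nat) (0x30000f50002f6) (0x10000fa000148) (Nat.ble 280 i)) (Bool.rec (motive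 := fun _ => Nat) (0x20000fa000208) (0xfd000205) (Nat.ble 282 i)) (Nat.ble 281 i)) (Bool.rec (motive := fun _ => Nat) (Bool.rec (motive := fun _ => Nat) (0x200010100026e) (0x1000103000201) (Nat.ble 284 i)) (Bool.rec (motive := fun _ => Nat) (0x3000104000080) (Bool.rec (motive := fun _ => Nat) (0x200010a00026f) (0x200010d00026c) (Nat.ble 287 i)) (Nat.ble 286 i)) (Nat.ble 285 i)) (Nat.ble 283 i)) (Nat.ble 279 i)) (Nat.ble 270 i))
noncomputable def SO2P (i : Nat) : Nat := (Bool.rec (motive := fun _ => Nat) (Bool.rec (motive := fun _ => Nat) (Bool.rec (motive := fun _ => Nat) (SO2P_0 i) (SO2P_1 i) (Nat.ble 36 i)) (Bool.rec (motive := fun _ => Nat) (SO2P_2 i) (SO2P_3 i) (Nat.ble 108 i)) (Nat.ble 72 i)) (Bool.rec (motive := fun _ => Nat) (Bool.rec (motive := fun _ => Nat) (SO2P_4 i) (SO2P_5 i) (Nat.ble 180 i)) (Bool.rec (motive := fun _ => Nat) (SO2P_6 i) (SO2P_7 i) (Nat.ble 252 i)) (Nat.ble 216 i)) (Nat.ble 144 i))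
noncomputable def SO2InvB_0 (i : Nat) : Nat := (Bool.rec (motive := fun _ => Nat) (Bool.rec (motive := fun _ => Nat) (Bool.rec (motive := fun _ => Nat) (0x12000012000012000012000000800000700002100012000012000012000012000012000012000012000001900000600000500009c00012000012000012000012000012000012000012000000400003e000120000120000120000120000003000120000120000120000120000120000120000120000002000067000120000120000120000001000120000120000120000120000120000000000120000120000120000120000120000120000120000120000120000120000120000120000120) (Bool.rec (motive := fun _ => Nat) (0x1050001040000bd0000a100004300012000012000012000012000012000012000012000012000012000004a00002d0000160000150000140000130000120000a200009d00004200012000012000012000012000002200001100003f00001000012000012000012000012000012000012000012000012000012000003600001f00000f00000e00000d00000c00000b0000d70000d200006a00012000012000012000012000012000012000012000002700000a000009000068000120000120) (0x12000012000012000012000012000012000012000012000012000012000012000012000012000004c00002e00002b00002c00002900002800002a0000260001200000db0000f30000d40000d300006f00006b00002500004100004000002400002300009e00006900012000012000012000012000012000012000012000012000012000012000012000012000012000012000012000012000012000003800002000001d00001e00001b00001a00001c00001800001700012000010700011d)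 (Nat.ble 2 i)) (Nat.ble 1 i)) (Bool.rec (motive := fun _ => Nat) (0x12000012000012000012000012000012000012000012000012000012000012000012000012000012000012000012000012000012000012000012000012000012000012000012000012000012000012000012000012000012000005e00007e00003b00003a00003700008d00003500003400005800003d00003900003c0000330000320000310000300001200001200001200001200001090000f60000930001000000d90000d800008200006c00002f000120000120000120000120000120) (Bool.rec (motive := fun _ => Nat) (0x5400005200012000012000012000012000012000012000012000012000012000012000012000012000012000012000012000012000012000012000012000012000012000012000012000012000012000012000012000012000005f00006300004f00004e00004b00008f00004900004800007500005100004d0000500000470000460001200001200001200000bb0000ae0000a80000eb0000a40000a30000450000440001200000d60000d50000a000009f000120000120000120000120) (0x12000012000012000012000012000012000012000012000012000012000009200008e00007a0000b80000ca00006500006400009a0000ed00007700008000009100005d00005c00005b00005a00008a0000590000b70000610000620000570000840000550000660000560000890000530001200001200001200001200001200001200001200001200001200001200001200001200000f90000cd0000cc0000cb0001080001180001060000c60000df0000be0000600000d10000a60000a5)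 (Nat.ble 5 i)) (Nat.ble 4 i)) (Nat.ble 3 i)) (Bool.rec (motive := fun _ => Nat) (Bool.rec (motive := fun _ => Nat) (0x7600009700007c00007b00007d0000740000bf0000720000710001200001200001200001200001200001200001200001200000f40001010000e10000e00000dc0001110000ab0000da0000810000730000700000b100006e00006d000120000120000120000120000120000120000120000120000120000120000120000120000120000120000120000120000120000120000120000120000120000120000120000120000120000120000120000120000120000120000120000120000120) (Bool.rec (motive := fun _ => Nat) (0x10d0001150001100001140000fc0000fa0000c400008b0000950000940000ff0000de00010b0000dd00009b0000870000c30000830001200001200001200001200001200001200001200001200001200001200001200001200001200001200001200001200001200001200001200001200001200001200001200001200001200001200001200001200001200001200001200001200001200001200001200001200001200001200001200000b400009800007f0000ba000079000078000088) (0x1200001200001200001200001200001200001200001200001200001200001200001200001200001200001200001200000c500009000008c0000c90000ad0000f20000fe0000960000990000c10000f80000b30000b50000c20000860000850001200001200001200001200001200001200001200001200001200001200001200001200001200001200001200001200001200001200001200001200001200001200000ea0001190000e600010300011a0000ef00010200011300011c00010a)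 (Nat.ble 8 i)) (Nat.ble 7 i)) (Bool.rec (motive := fun _ => Nat) (Bool.rec (motive := fun _ => Nat) (0xac00012000012000012000012000012000012000012000012000012000012000012000012000012000012000012000011e00011b0000f700011f0000e20000e50000bc0000af00010e0000aa0000a90000cf0000a70000e7000120000120000120000120000120000120000120000120000120000120000120000120000120000120000120000120000120000120000120000120000120000120000120000120000120000120000120000120000120000120000120000120000120000120) (0x1200001200001200001200001200001200001200001200001200001200001200001200001200000c80000c70000fb0000ce0000fd0000e30000f00001160000e90000e40000f500010c0000f10001200001200001200001200001200001200001200001200001200001200001200001200001200001200001200001200001200001200001200001200001200001200001200001200001200001200001200001200001200001200001200000ec0000d00000b20000b90000ee0000b60000b0) (Nat.ble 10 i)) (Bool.rec (motive := fun _ => Nat) (0x1200001200001200001200001200001200001200001200001120001170000e800012000012000012000012000012000012000012000012000012000012000012000012000012000012000012000012000012000012000012000012000012000012000012000012000012000012000012000012000012000012000012000012000012000012000012000012000012000010f0000c0000120000120000120000120000120000120000120000120000120000120000120000120000120000120)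 (0x120000120000120000120000120000120000120000120000120000120000120000120000120000120000120000120000120000120000120000120000120000120000120000120000120000120000120000120000120000120000120000120000120000120000120000120000120000120000120000120000120000120000120000120000120000120000120000120000120000120000120) (Nat.ble 12 i)) (Nat.ble 11 i)) (Nat.ble 9 i)) (Nat.ble 6 i))
noncomputable def SO2InvB (i : Nat) : Nat := (SO2InvB_0 i)
noncomputable def SO2Inv (i : Nat) : Nat := Nat.land (Nat.shiftRight (SO2InvB (Nat.shiftRight i 6)) (Nat.mul 24 (Nat.land i 63))) 16777215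
/-- The element of order thirteen. -/
def uW : List Nat := [1, 9, 11, 7, 4, 2]
/-- Each letter as a product of two conjugates of the element or its inverse. -/
def conjC : List (Nat × (List Nat × Bool) × (List Nat × Bool)) := [(0, ([2, 0, 4, 6, 4], false), ([0, 2, 4, 2, 0, 6, 4], true)), (2, ([4, 6, 4], false), ([2, 0, 4, 2, 0, 6, 4], true)), (4, ([2, 6, 4], false), ([0, 4, 2, 6, 4], true)), (6, ([11], false), ([8, 10, 8, 11], true)), (8, ([6, 8, 11], false), ([6, 10, 8, 11], true)), (10, ([8, 11], false), ([8, 10, 10], true))]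

end CfsgLib.Coset.Th
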