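import Cfsg.Agent.Coset.Th.A
import Cfsg.Agent.Coset.Th.SimpleData
import Cfsg.Agent.Coset.Th.Y0Data
import Mathlib.GroupTheory.Abelianization.Defs

/-!
The derived subgroup of the group on fourteen letters: it has index three, is simple, and has
trivial centraliser.
-/

set_option autoImplicit false
set_option maxRecDepth 100000
set_option Elab.async false

namespace CfsgLib.Coset.Th

open CfsgLib.Coset.Ly (iv)

namespace Y0

theorem hR : checkRules rels subs R = true := by decide +kernel
theorem hdefs : checkDefs E 14 2 3 = true := by decide +kernel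
theorem hsteps : checkChunks E (iv 14) R 14 0 3 1 C = true := by decide +kernel
theorem htable : checkTable E (iv 14) (3 + chunk * 1) 3 14 2 4 Rep Ref Tb = true := by decide +kernel

end Y0

/-- The subgroup on the first twelve letters. -/
noncomputable abbrev S : Subgroup A := genBy LA (List.range 12)

theorem fl_mem_S {l : Nat} (hl : l < 12) : fl LA l ∈ S :=
  Subgroup.subset_closure (List.mem_map.mpr ⟨l, List.mem_range.mpr hl, rfl⟩)

theorem ev_mem_S {w : List Nat} (hw : ∀ l ∈ w, l < 12) : ev LA w ∈ S :=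
  ev_mem_genBy _ fun l hl => List.mem_range.mpr (hw l hl)

theorem relIndex_le : Nat.card A ≤ 3 * Nat.card S := by
  have h : TableOK LA S Y0.E (iv 14) 3 Y0.Rep Y0.Tb :=
    tableOK_of_check inv_LA Y0.hR (len_LA.symm ▸ Y0.hdefs) (len_LA.symm ▸ Y0.hsteps)
      (len_LA.symm ▸ Y0.htable)
      (fun w hw => ev_relsA w ((by decide +kernel : ∀ w ∈ Y0.rels, w ∈ relsA) w hw))
      (fun w hw => ev_mem_S ((by decide +kernel : ∀ w ∈ Y0.subs, ∀ l ∈ w, l < 12) w hw))
  obtain ⟨_, hc⟩ := h.finite_card_le (by decide) (closure_LA ▸ le_top) inferInstance le_rfl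
  rwa [closure_LA, Subgroup.card_top] at hc

/-- The quotient of order three. -/
def LZ : List (Multiplicative (ZMod 3)) :=
  List.replicate 12 1 ++ [Multiplicative.ofAdd 1, Multiplicative.ofAdd 2]

theorem LZ_rels : ∀ w ∈ relsA, ev LZ w = 1 := by decide +kernel

/-- The homomorphism onto the group of order three. -/
noncomputable def ψ : A →* Multiplicative (ZMod 3) := numHom (by rfl) LZ_rels

theorem ψ_surjective : Function.Surjective ψ := by
  intro x
  have h : ψ (fl LA 12) = Multiplicative.ofAdd 1 := (numHom_fl _ LZ_rels 12).trans rfl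
  refine ⟨fl LA 12 ^ (Multiplicative.toAdd x).val, ?_⟩
  rw [map_pow, h, ← ofAdd_nsmul, nsmul_eq_mul, mul_one, ZMod.natCast_val, ZMod.cast_id]
  rfl

theorem card_ker_ψ : Nat.card ψ.ker = 211341312 := by
  have h := ψ.ker.card_mul_index
  rw [Subgroup.index_ker, MonoidHom.range_eq_top.mpr ψ_surjective, Subgroup.card_top,
    Nat.card_congr Multiplicative.toAdd, Nat.card_zmod, card_and_injective.1] at h
  omega

theorem S_le_commutator : S ≤ commutator A := by
  have key : ∀ l < 12, (QuotientGroup.mk (fl LA l) : A ⧸ commutator A) = 1 := by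
    let f : A →* Abelianization A := Abelianization.of
    let q : Nat → Abelianization A := fun l => f (fl LA l)
    have hr : ∀ w ∈ relsA, (w.map q).prod = 1 := by
      intro w hw
      have h1 : ∀ v : List Nat, (v.map q).prod = f (ev LA v) := by
        intro v
        induction v with
        | nil => simp
        | cons l v ih => rw [List.map_cons, List.prod_cons, ih, ev_cons, map_mul]
      rw [h1, ev_relsA w hw, map_one]
    have p : ∀ l, l < 14 → q (Nat.xor l 1) = (q l)⁻¹ := fun l hl => by
      refine eq_inv_of_mul_eq_one_right ?_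
      rw [← map_mul, (pairsA l hl).2, map_one]
    have e1 : q 1 = (q 0)⁻¹ := p 0 (by norm_num)
    have e3 : q 3 = (q 2)⁻¹ := p 2 (by norm_num)
    have e5 : q 5 = (q 4)⁻¹ := p 4 (by norm_num)
    have e7 : q 7 = (q 6)⁻¹ := p 6 (by norm_num)
    have e9 : q 9 = (q 8)⁻¹ := p 8 (by norm_num)
    have e11 : q 11 = (q 10)⁻¹ := p 10 (by norm_num)
    have e13 : q 13 = (q 12)⁻¹ := p 12 (by norm_num)
    have h0 : q 0 * q 0 = 1 := by
      simpa using hr [0, 0] (by decide +kernel)
    have h2 : q 2 * q 2 = 1 := by simpa using hr [2, 2] (by decide +kernel)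
    have h4 : q 4 * q 4 = 1 := by simpa using hr [4, 4] (by decide +kernel)
    have h6 : q 6 * q 6 = 1 := by simpa using hr [6, 6] (by decide +kernel)
    have s2 : q 12 * (q 12)⁻¹ = 1 := mul_inv_cancel _
    have hs : q 10 = 1 := by
      have := hr [13, 10, 12, 11, 11] (by decide +kernel)
      simp only [List.map_cons, List.map_nil, List.prod_cons, List.prod_nil, mul_one, e13, e11] at this
      rw [mul_left_comm (q 10) (q 12), inv_mul_cancel_left, mul_inv_cancel_left] at this
      exact inv_eq_one.mp this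
    have he : q 8 = 1 := by
      have := hr [9, 11, 8, 11, 11, 9, 10, 10, 10] (by decide +kernel)
      simpa [e9, e11, hs] using this
    have hd : q 6 = 1 := by
      have := hr [6, 8, 6, 8, 6, 8] (by decide +kernel)
      simpa [he, h6] using this
    have ha : q 0 = 1 := by
      have := hr [0, 7, 5, 7, 5, 7, 5, 7, 5] (by decide +kernel)
      simp only [List.map_cons, List.map_nil, List.prod_cons, List.prod_nil, mul_one, e7, hd,
        e5, inv_eq_of_mul_eq_one_right h4, inv_one, one_mul] at this
      simpa [h4, mul_assoc] using this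
    have hb : q 2 = 1 := by
      have := hr [0, 2, 0, 2, 0, 2] (by decide +kernel)
      simpa [ha, h2] using this
    have hc : q 4 = 1 := by
      have := hr [2, 4, 2, 4, 2, 4] (by decide +kernel)
      simpa [hb, h4] using this
    intro l hl
    interval_cases l
    all_goals first
      | exact ha | exact hb | exact hc | exact hd | exact he | exact hs
      | exact e1.trans (inv_eq_one.mpr ha) | exact e3.trans (inv_eq_one.mpr hb)
      | exact e5.trans (inv_eq_one.mpr hc) | exact e7.trans (inv_eq_one.mpr hd)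
      | exact e9.trans (inv_eq_one.mpr he) | exact e11.trans (inv_eq_one.mpr hs)
  refine (Subgroup.closure_le _).mpr ?_
  intro x hx
  obtain ⟨l, hl, rfl⟩ := List.mem_map.mp hx
  exact (QuotientGroup.eq_one_iff _).mp (key l (List.mem_range.mp hl))

theorem commutator_eq : commutator A = S := by
  refine (Subgroup.eq_of_le_of_card_ge S_le_commutator ?_).symm
  have h1 : Nat.card (commutator A) ≤ Nat.card ψ.ker :=
    Subgroup.card_le_of_le (Abelianization.commutator_subset_ker ψ)
  have h2 := relIndex_le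
  rw [card_and_injective.1] at h2
  rw [card_ker_ψ] at h1
  omega

theorem card_S : Nat.card S = 211341312 := by
  have h1 : Nat.card (commutator A) ≤ Nat.card ψ.ker :=
    Subgroup.card_le_of_le (Abelianization.commutator_subset_ker ψ)
  have h2 := relIndex_le
  rw [card_and_injective.1] at h2
  rw [card_ker_ψ, commutator_eq] at h1
  omega

theorem card_A' : Nat.card (commutator A) = 211341312 := by rw [commutator_eq, card_S]

/-- The generators of `S`. -/
noncomputable def LS : List S := List.ofFn fun i : Fin 12 => ⟨fl LA i, fl_mem_S i.2⟩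

theorem len_LS : LS.length = 12 := by simp [LS]

theorem coe_fl_LS {l : Nat} (hl : l < 12) : ((fl LS l : S) : A) = fl LA l := by
  rw [fl, List.getD_eq_getElem _ _ (by simpa [LS] using hl)]
  simp only [LS, List.getElem_ofFn]

theorem coe_ev_LS : ∀ w : List Nat, (∀ l ∈ w, l < 12) → ((ev LS w : S) : A) = ev LA w
  | [], _ => by simp
  | l :: w, h => by
    rw [ev_cons, ev_cons, Subgroup.coe_mul, coe_fl_LS (h l (by simp)),
      coe_ev_LS w fun x hx => h x (by simp [hx])]

theorem closure_LS : Subgroup.closure {x | x ∈ LS} = ⊤ := by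
  refine Subgroup.map_injective S.subtype_injective ?_
  rw [MonoidHom.map_closure, ← MonoidHom.range_eq_map, Subgroup.range_subtype]
  show Subgroup.closure _ = Subgroup.closure {x | x ∈ lv LA (List.range 12)}
  congr 1
  ext x
  constructor
  · rintro ⟨y, hy, rfl⟩
    obtain ⟨i, rfl⟩ := List.mem_ofFn.mp hy
    exact List.mem_map.mpr ⟨i, List.mem_range.mpr i.2, rfl⟩
  · intro hx
    obtain ⟨l, hl, rfl⟩ := List.mem_map.mp hx
    exact ⟨⟨fl LA l, fl_mem_S (List.mem_range.mp hl)⟩,
      List.mem_ofFn.mpr ⟨⟨l, List.mem_range.mp hl⟩, rfl⟩, rfl⟩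

/-- The action of `S`. -/
noncomputable def ρS : S →* Equiv.Perm (Fin 819) := ρ.comp S.subtype

theorem matches_ρS : Matches LS ρS TP.Tb := by
  intro l hl i
  rw [len_LS] at hl
  rw [ρS, MonoidHom.comp_apply, S.coe_subtype, coe_fl_LS hl]
  exact matches_ρ l (len_LA.symm ▸ (by omega)) i

theorem ρS_injective : Function.Injective ρS :=
  card_and_injective.2.comp S.subtype_injective

theorem transitiveS (i : Fin 819) : ∃ g, ρS g ⟨0, by decide⟩ = i := by
  have h := matches_ρS.orbit_le (β := (⟨0, by decide⟩ : Fin 819)) (m := 819) (dm := 10)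
    (gens := (List.range 12).map fun l => [l]) (P := SAP) (Inv := SAInv) (by decide +kernel)
    (by rw [len_LS]; decide +kernel) (S := ⊤) (fun w _ => Subgroup.mem_top _)
  have hu : orb ρS (⊤ : Subgroup S) ⟨0, by decide⟩ = Set.univ :=
    Set.eq_of_subset_of_ncard_le (Set.subset_univ _)
      (by rw [Set.ncard_univ, Nat.card_fin]; exact h.1) (Set.toFinite _)
  have hi : i ∈ orb ρS (⊤ : Subgroup S) ⟨0, by decide⟩ := hu ▸ Set.mem_univ i
  obtain ⟨g, -, hg⟩ := hi
  exact ⟨g, hg⟩

/-- Generators of the stabiliser of the first point in `S`. -/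
def stW : List (List Nat) := [[4], [6], [8], [10]]

/-- The suborbits. -/
noncomputable def cs : List OrbitCert := [⟨1, 512, SO0P, SO0Inv⟩, ⟨6, 18, SO1P, SO1Inv⟩,
  ⟨13, 288, SO2P, SO2Inv⟩]

theorem stW_le : genW LS stW ≤ pstab ρS ⟨0, by decide⟩ := by
  refine (Subgroup.closure_le _).mpr ?_
  rintro _ ⟨w, hw, rfl⟩
  refine (matches_ρS.fix_iff ?_).mpr ?_
  · rw [len_LS]; exact (by decide +kernel : ∀ w ∈ stW, ∀ l ∈ w, l < 12) w hw
  · exact (by decide +kernel : ∀ w ∈ stW, follow (tget TP.Tb) 0 w = 0) w hw

theorem cs_ok : checkOrbits TP.Tb 10 stW cs = true := by decide +kernel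

theorem cs_cover : checkCover 819 10 cs = true := by decide +kernel

theorem cs_pt : ∀ c ∈ cs, c.pt < 819 := by
  intro c hc
  simp only [cs, List.mem_cons, List.not_mem_nil, or_false] at hc
  rcases hc with rfl | rfl | rfl <;> norm_num

theorem maximal : IsCoatom (pstab ρS ⟨0, by decide⟩) := by
  refine pstab_isCoatom_of_orbits matches_ρS (by decide) cs_ok
    (by rw [len_LS]; decide +kernel) cs_cover transitiveS cs_pt stW_le ?_ ?_
  · show 1 + ∑ j : Fin 3, (cs[j.val]'(by have := j.2; simp [cs])).size = 819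
    rw [Fin.sum_univ_three]
    rfl
  · decide +kernel

theorem sign_letters : ∀ l < 12, l % 2 = 0 → (Nat.xor l 1) = l + 1 := by decide +kernel

/-- The conjugate of `uW` or its inverse. -/
def cw (p : List Nat × Bool) : List Nat :=
  p.1 ++ (if p.2 then invW uW else uW) ++ invW p.1

theorem conjC_ok : ∀ e ∈ conjC, (∀ l ∈ e.2.1.1 ++ e.2.2.1 ++ uW, l < 12) ∧ e.1 < 12 ∧
    eqA [e.1] (cw e.2.1 ++ cw e.2.2) = true := by
  decide +kernel

theorem invW_lt {w : List Nat} (hw : ∀ l ∈ w, l < 12) : ∀ l ∈ invW w, l < 12 := by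
  intro l hl
  obtain ⟨m, hm, rfl⟩ := List.mem_map.mp hl
  exact (by decide +kernel : ∀ m < 12, Nat.xor m 1 < 12) m (hw m (List.mem_reverse.mp hm))

theorem collapse (N : Subgroup S) (hN : N.Normal) (hu : ev LS uW ∈ N) : N = ⊤ := by
  have huW : ∀ l ∈ uW, l < 12 := by decide +kernel
  have hinv : ∀ w : List Nat, (∀ l ∈ w, l < 12) → ev LS (invW w) = (ev LS w)⁻¹ := fun w hw => by
    refine Subtype.ext ?_
    rw [Subgroup.coe_inv, coe_ev_LS w hw, coe_ev_LS _ (invW_lt hw),
      ev_invW w fun l hl => (hw l hl).trans (by norm_num)]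
  have hcw : ∀ p : List Nat × Bool, (∀ l ∈ p.1, l < 12) → ev LS (cw p) ∈ N := by
    intro p hp
    rw [cw, ev_append, ev_append, hinv _ hp]
    refine hN.conj_mem _ ?_ _
    split
    · rw [hinv _ huW]; exact N.inv_mem hu
    · exact hu
  have heven : ∀ e ∈ conjC, fl LS e.1 ∈ N := by
    intro e he
    obtain ⟨hl, h1, h2⟩ := conjC_ok e he
    have hp : ∀ l ∈ e.2.1.1, l < 12 := fun l h => hl l (by simp [h])
    have hq : ∀ l ∈ e.2.2.1, l < 12 := fun l h => hl l (by simp [h])
    have hc : ∀ p : List Nat × Bool, (∀ l ∈ p.1, l < 12) → ∀ l ∈ cw p, l < 12 := by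
      intro p hp l hl
      simp only [cw, List.mem_append] at hl
      rcases hl with (hl | hl) | hl
      · exact hp l hl
      · split at hl
        · exact invW_lt huW l hl
        · exact huW l hl
      · exact invW_lt hp l hl
    have : fl LS e.1 = ev LS (cw e.2.1 ++ cw e.2.2) := by
      refine Subtype.ext ?_
      rw [coe_fl_LS h1, coe_ev_LS _ fun l hl => (List.mem_append.mp hl).elim (hc _ hp l) (hc _ hq l),
        ← eqA_sound h2, ev_cons, ev_nil, mul_one]
    rw [this, ev_append]
    exact N.mul_mem (hcw _ hp) (hcw _ hq)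
  have hall : ∀ l < 12, fl LS l ∈ N := by
    intro l hl
    by_cases hev : l % 2 = 0
    · obtain ⟨e, he, rfl⟩ : ∃ e ∈ conjC, e.1 = l :=
        (by decide +kernel : ∀ l < 12, l % 2 = 0 → ∃ e ∈ conjC, e.1 = l) l hl hev
      exact heven e he
    · obtain ⟨e, he, hel⟩ : ∃ e ∈ conjC, e.1 = l - 1 :=
        (by decide +kernel : ∀ l < 12, l % 2 ≠ 0 → ∃ e ∈ conjC, e.1 = l - 1) l hl hev
      have hl1 : Nat.xor (l - 1) 1 = l := by
        rw [sign_letters (l - 1) (by omega) (by omega)]; omega
      have h3 : fl LS l = (fl LS (l - 1))⁻¹ := by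
        refine Subtype.ext ?_
        rw [Subgroup.coe_inv, coe_fl_LS hl, coe_fl_LS (by omega)]
        have := (pairsA (l - 1) (by omega)).2
        rw [hl1] at this
        exact eq_inv_of_mul_eq_one_right this
      rw [h3, ← hel]
      exact N.inv_mem (heven e he)
  rw [eq_top_iff, ← closure_LS, Subgroup.closure_le]
  intro x hx
  obtain ⟨i, rfl⟩ := List.mem_ofFn.mp hx
  have := hall i i.2
  have he : (⟨fl LA i, fl_mem_S i.2⟩ : S) = fl LS i := Subtype.ext (coe_fl_LS i.2).symm
  rwa [he]

theorem uW_pow : (ev LS uW) ^ 13 = 1 := by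
  rw [pow_ev]
  refine Subtype.ext ?_
  rw [coe_ev_LS _ (by decide +kernel), Subgroup.coe_one,
    eqA_sound (v := (List.replicate 13 uW).flatten) (w := []) (by decide +kernel), ev_nil]

theorem simple_S : IsSimpleGroup S := by
  have : Fact (Nat.Prime 13) := ⟨by norm_num⟩
  refine isSimpleGroup_of_action (by decide) ρS_injective transitiveS maximal
    (p := 13) (a := 1) (by norm_num) ?_ (ev LS uW) (by rw [pow_one]; exact uW_pow) collapse
  rw [card_S]; norm_num

theorem simple_A' : IsSimpleGroup (commutator A) := by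
  rw [commutator_eq]; exact simple_S

/-- Nothing but the identity centralises the derived subgroup. -/
theorem centralizer_A' : Subgroup.centralizer ((commutator A : Subgroup A) : Set A) = ⊥ := by
  rw [commutator_eq, Subgroup.eq_bot_iff_forall]
  intro c hc
  have hcomm : ∀ g : S, ∀ i, ρ c (ρS g i) = ρS g (ρ c i) := fun g i => by
    have := Subgroup.mem_centralizer_iff.mp hc g g.2
    calc ρ c (ρS g i) = ρ (c * g) i := by simp [ρS]
      _ = ρ ((g : A) * c) i := by rw [this]
      _ = ρS g (ρ c i) := by simp [ρS]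
  have h0 : ρ c ⟨0, by decide⟩ = ⟨0, by decide⟩ := by
    by_contra hne
    set j := ρ c ⟨0, by decide⟩
    obtain ⟨e, he, hmem⟩ := orbits_cover matches_ρS cs_ok
      (show checkLetters LS.length stW = true by rw [len_LS]; decide +kernel) cs_cover j
      (fun h => hne (Fin.ext h))
    have hcard := orbits_ncard matches_ρS cs_ok
      (show checkLetters LS.length stW = true by rw [len_LS]; decide +kernel) he
      ⟨e.pt, cs_pt e he⟩ rfl
    have hfix : ∀ g ∈ genW LS stW, ρS g j = j := fun g hg => by
      rw [← hcomm, mem_pstab.mp (stW_le hg)]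
    have hj := hmem ⟨e.pt, cs_pt e he⟩ rfl
    obtain ⟨g, hg, hgj⟩ := hj
    have hpt : (⟨e.pt, cs_pt e he⟩ : Fin 819) = j := by
      have := hfix g⁻¹ (inv_mem hg)
      rw [← hgj, map_inv, Equiv.Perm.inv_def, Equiv.symm_apply_apply] at this
      rw [this, hgj]
    have hsub : orb ρS (genW LS stW) ⟨e.pt, cs_pt e he⟩ ⊆ {j} := by
      rintro _ ⟨k, hk, rfl⟩
      rw [hpt]; exact hfix k hk
    have h1 := Set.ncard_le_ncard hsub (Set.toFinite _)
    rw [hcard, Set.ncard_singleton] at h1
    simp only [cs, List.mem_cons, List.not_mem_nil, or_false] at he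
    rcases he with rfl | rfl | rfl <;> simp at h1
  refine (map_eq_one_iff ρ card_and_injective.2).mp (Equiv.ext fun i => ?_)
  obtain ⟨g, rfl⟩ := transitiveS i
  rw [hcomm, h0]; rfl

/-- A nontrivial normal subgroup contains the derived subgroup. -/
theorem commutator_le_of_normal (N : Subgroup A) [hN : N.Normal] (h : N ≠ ⊥) :
    commutator A ≤ N := by
  have := simple_A'
  have hsn : ((N ⊓ commutator A).subgroupOf (commutator A)).Normal :=
    Subgroup.Normal.subgroupOf inferInstance _
  rcases hsn.eq_bot_or_eq_top with hb | ht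
  · exfalso
    refine h (le_bot_iff.mp ?_)
    rw [← centralizer_A']
    intro x hx
    refine Subgroup.mem_centralizer_iff.mpr fun y hy => ?_
    have hm : x * y * x⁻¹ * y⁻¹ ∈ N ⊓ commutator A := by
      refine ⟨?_, Subgroup.commutator_mem_commutator (Subgroup.mem_top x) (Subgroup.mem_top y)⟩
      rw [mul_assoc x y, mul_assoc x]
      exact N.mul_mem hx (hN.conj_mem _ (N.inv_mem hx) y)
    have : (N ⊓ commutator A) = ⊥ := by
      rw [Subgroup.subgroupOf_eq_bot] at hb
      exact hb.eq_bot_of_le inf_le_right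
    rw [this, Subgroup.mem_bot, mul_inv_eq_one, mul_inv_eq_iff_eq_mul] at hm
    exact hm.symm
  · exact (Subgroup.subgroupOf_eq_top.mp ht).trans inf_le_left

end CfsgLib.Coset.Th
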