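import Cfsg.Agent.Coset.Th.Rep
import Cfsg.Agent.Coset.Th.Conj
import Cfsg.Agent.Coset.Th.Simple
import Cfsg.Agent.Coset.Th.CentQ
import Cfsg.Agent.Coset.Th.CentUData

/-!
The model of the subgroup inside the presented Thompson group, seen through the representation of
degree 248.
-/

set_option autoImplicit false
set_option maxRecDepth 100000
set_option Elab.async false

namespace CfsgLib.Coset.Th.Cent

open Cfsg.Spor (Th)

theorem len_LG : LG.length = 16 := rfl

theorem pair_LG : ∀ l < 16, fl LG l * fl LG (Nat.xor l 1) = 1 := by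
  intro l hl
  interval_cases l
  all_goals first
    | exact mul_inv_cancel _
    | exact inv_mul_cancel _

theorem relW_LG : ∀ w ∈ relW, ev LG w = 1 := by
  intro w hw
  rw [← relW_eq] at hw
  obtain ⟨r, hr, rfl⟩ := List.mem_map.mp hw
  have h : FreeGroup.lift (fun x => mkTh (FreeGroup.of x)) r = mkTh r := by
    have : FreeGroup.lift (fun x => mkTh (FreeGroup.of x)) = mkTh :=
      FreeGroup.ext_hom _ _ fun x => by simp
    rw [this]
  rw [← lift_eq_ev_gen (fun x => mkTh (FreeGroup.of x)) LG (fun x => by cases x <;> rfl)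
    (fun x => by cases x <;> rfl) r, h, mkTh_extra r hr]

theorem relsA_LG : ∀ w ∈ relsA, ev LG w = 1 := by
  intro w hw
  have h : ∀ w ∈ relsA, (∃ l < 14, w = [l, Nat.xor l 1]) ∨ w ∈ relW := by decide +kernel
  rcases h w hw with ⟨l, hl, rfl⟩ | h
  · simpa [ev_cons] using pair_LG l (by omega)
  · exact relW_LG w h

theorem len_take : (LG.take 14).length = 14 := rfl

/-- The map from the model. -/
noncomputable def ΨT : A →* Th :=
  numHom (L := LG.take 14) len_take fun w hw => by
    rw [ev_take_fourteen LG w ((by decide +kernel : ∀ w ∈ relsA, ∀ l ∈ w, l < 14) w hw)]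
    exact relsA_LG w hw

theorem ΨT_ev (w : List Nat) (hw : ∀ l ∈ w, l < 14) : ΨT (ev LA w) = ev LG w := by
  rw [ΨT, numHom_ev, ev_take_fourteen LG w hw]

theorem ev_invW_LG (w : List Nat) : ev LG (invW w) = (ev LG w)⁻¹ := ev_invW16 len_LG pair_LG w

theorem conj_LG {i : Nat} (hi : i < 6) :
    ev LG (kgW.getD i []) * fl LG 14 = fl LG 14 * ev LG (kmW.getD i []) :=
  conj_kg len_LG pair_LG (fun w hw => (List.mem_append.mp hw).elim (relW_LG w) (relsA_LG w)) hi

/-- Concatenation of listed words. -/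
def flatT (ws : List (List Nat)) : List Nat → List Nat
  | [] => []
  | i :: ids => ws.getD i [] ++ flatT ws ids

theorem conj_flat : ∀ ids : List Nat, (∀ i ∈ ids, i < 6) →
    ev LG (flatT kgW ids) * fl LG 14 = fl LG 14 * ev LG (flatT kmW ids) := by
  intro ids
  induction ids with
  | nil => simp [flatT]
  | cons i ids ih =>
    intro h
    rw [flatT, flatT, ev_append, ev_append, mul_assoc, ih fun j hj => h j (by simp [hj]),
      ← mul_assoc, conj_LG (h i (by simp)), mul_assoc]

theorem flatT_lt {ws : List (List Nat)} (hws : ∀ i, ∀ l ∈ ws.getD i [], l < 14) :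
    ∀ ids : List Nat, ∀ l ∈ flatT ws ids, l < 14 := by
  intro ids
  induction ids with
  | nil => simp [flatT]
  | cons i ids ih =>
    intro l hl
    rcases List.mem_append.mp hl with h | h
    · exact hws i l h
    · exact ih l h

theorem kgW_lt (i : Nat) : ∀ l ∈ kgW.getD i [], l < 14 := by
  rcases lt_or_ge i 6 with hi | hi
  · exact (by decide +kernel : ∀ i < 6, ∀ l ∈ kgW.getD i [], l < 14) i hi
  · rw [List.getD_eq_default _ _ (show kgW.length ≤ i from hi)]; simp

theorem kmW_lt (i : Nat) : ∀ l ∈ kmW.getD i [], l < 14 := by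
  rcases lt_or_ge i 6 with hi | hi
  · exact (by decide +kernel : ∀ i < 6, ∀ l ∈ kmW.getD i [], l < 14) i hi
  · rw [List.getD_eq_default _ _ (show kmW.length ≤ i from hi)]; simp

theorem rep_moves {w : List Nat} (hw : ∀ l ∈ w, l < 16) {n : Nat}
    (h : Nat.beq (vrun K1 matL (2 ^ (10 * n)) w) (2 ^ (10 * n)) = false) (hn : n < 248) :
    ev LG w ≠ 1 := by
  intro he
  have := vrun_rep w hw (Pi.single (⟨n, hn⟩ : Fin 248) 1)
  rw [he, map_one, Units.val_one, Matrix.vecMul_one, code_single] at this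
  rw [show ((⟨n, hn⟩ : Fin 248) : ℕ) = n from rfl] at this
  rw [this, Nat.beq_refl] at h
  exact Bool.noConfusion h

theorem rep_one {w : List Nat} (hinj : Function.Injective repTh) (hw : ∀ l ∈ w, l < 16)
    (h0 : fixB K124 matL 248 124 w 0 = true) (h1 : fixB K124 matL 248 124 w 1 = true) :
    ev LG w = 1 := by
  refine hinj ?_
  rw [map_one, repTh_ev w hw]
  refine Units.ext ?_
  rw [val_ev_LR w hw, Units.val_one]
  refine matWord_eq_one (B := 2) (by norm_num) (by norm_num) K1_eq K124_eq matL_ok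
    (fun l hl => (hw l hl).trans_eq len_matL.symm) rfl fun b hb => ?_
  interval_cases b
  exacts [h0, h1]

theorem ΨT_injective : Function.Injective ΨT := by
  rw [← MonoidHom.ker_eq_bot_iff]
  by_contra h
  have hle := commutator_le_of_normal ΨT.ker h
  have hmem : ev LA [0] ∈ ΨT.ker := hle (by
    rw [commutator_eq]
    exact ev_mem_S (by simp))
  rw [MonoidHom.mem_ker, ΨT_ev [0] (by simp)] at hmem
  exact rep_moves (w := [0]) (n := 1) (by simp) (by decide +kernel) (by norm_num) hmem

/-- The involution. -/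
noncomputable def zT : Th := ΨT aA

theorem zT_eq : zT = ev LG [0] := ΨT_ev [0] (by simp)

theorem orderOf_zT : orderOf zT = 2 := by
  rw [zT, orderOf_injective ΨT ΨT_injective, orderOf_aA]

/-- The normal subgroup of the centralizer. -/
noncomputable def QT : Subgroup Th := QA.map ΨT

theorem card_QT : Nat.card QT = 512 := by
  rw [QT, Subgroup.card_map_of_injective ΨT_injective, card_QA]

theorem extraspecial_QT : Cfsg.IsExtraspecial 2 QT :=
  CfsgLib.LargeExtra.isExtraspecial_equiv (QA.equivMapOfInjective ΨT ΨT_injective) extraspecial_QA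

theorem QT_le : QT ≤ Subgroup.centralizer {zT} := by
  rintro _ ⟨q, hq, rfl⟩
  rw [Subgroup.mem_centralizer_singleton_iff, zT, ← map_mul, ← map_mul, QA_comm hq]

/-- The checks for one generator: its factorisation, and the conjugate in the subgroup. -/
noncomputable def qUOK (i : Nat) : Bool :=
  cond (allList (fun x => Nat.ble (Nat.add x 1) 6) (qUids.getD i []))
    (cond (eqA (qBas.getD i []) (flatT kgW (qUids.getD i [])))
      (cond (Nat.ble (Nat.add (qU.getD i 0) 1) 512)
        (eqA (flatT kmW (qUids.getD i [])) (qW (qU.getD i 0))) false) false) false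

theorem qUOK_all : allBelow 4 9 qUOK = true := by decide +kernel

theorem conj_QT_of (g : Th) (h : ∀ i < 9, g⁻¹ * ΨT (ev LA (qBas.getD i [])) * g ∈ QT) :
    ∀ q ∈ QT, g⁻¹ * q * g ∈ QT := by
  rintro _ ⟨q, hq, rfl⟩
  induction hq using Subgroup.closure_induction with
  | mem x hx =>
    obtain ⟨w, hw, rfl⟩ := hx
    obtain ⟨i, hi, rfl⟩ := List.getElem_of_mem hw
    rw [← List.getD_eq_getElem qBas [] hi]
    exact h i (qBas_length ▸ hi)
  | one => simp
  | mul x y _ _ hx hy =>
    have := mul_mem hx hy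
    rw [map_mul]
    convert this using 1
    group
  | inv x _ hx =>
    have := inv_mem hx
    rw [map_inv]
    convert this using 1
    group

theorem conj_QT_u : ∀ q ∈ QT, (fl LG 14)⁻¹ * q * fl LG 14 ∈ QT := by
  refine conj_QT_of _ fun i hi => ?_
  have h := of_allBelow qUOK_all i hi
  rw [qUOK, cond_false_eq_true, cond_false_eq_true, cond_false_eq_true] at h
  obtain ⟨hid, he, -, he2⟩ := h
  have hids : ∀ x ∈ qUids.getD i [], x < 6 := fun x hx => Nat.ble_eq.mp (allList_iff.mp hid x hx)
  rw [eqA_sound he, ΨT_ev _ (flatT_lt kgW_lt _), mul_assoc, conj_flat _ hids, inv_mul_cancel_left,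
    ← ΨT_ev _ (flatT_lt kmW_lt _), eqA_sound he2]
  exact ⟨_, qW_mem _, rfl⟩

theorem conj_QT_letter {l : Nat} (hl : l = 6 ∨ l = 8 ∨ l = 10 ∨ l = 11) :
    ∀ q ∈ QT, (fl LG l)⁻¹ * q * fl LG l ∈ QT := by
  have hk : ∀ l, (l = 6 ∨ l = 8 ∨ l = 10 ∨ l = 11) → ∃ p ∈ qConj, p.1 = l := by
    rintro l (rfl | rfl | rfl | rfl) <;> decide +kernel
  obtain ⟨p, hp, hpl⟩ := hk l hl
  have hl14 : l < 14 := by omega
  intro q hq
  obtain ⟨x, hx, rfl⟩ := hq
  have := conj_QA hp hx
  rw [hpl] at this
  refine ⟨_, this, ?_⟩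
  have h1 : ev LG [Nat.xor l 1] = (fl LG l)⁻¹ := by
    rw [ev_cons, ev_nil, mul_one, fl_xor16 len_LG pair_LG]
  rw [map_mul, map_mul, ΨT_ev [Nat.xor l 1] (by simpa using (pairsA l hl14).1),
    ΨT_ev [l] (by simpa using hl14), h1, ev_cons, ev_nil, mul_one]

theorem conj_QT_word : ∀ w : List Nat, (∀ l ∈ w, l = 6 ∨ l = 8 ∨ l = 10 ∨ l = 11 ∨ l = 14) →
    ∀ q ∈ QT, (ev LG w)⁻¹ * q * ev LG w ∈ QT := by
  intro w
  induction w with
  | nil => intro _ q hq; simpa using hq
  | cons l w ih =>
    intro hw q hq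
    have h1 : (fl LG l)⁻¹ * q * fl LG l ∈ QT := by
      rcases hw l (by simp) with h | h | h | h | h
      · exact conj_QT_letter (Or.inl h) q hq
      · exact conj_QT_letter (Or.inr (Or.inl h)) q hq
      · exact conj_QT_letter (Or.inr (Or.inr (Or.inl h))) q hq
      · exact conj_QT_letter (Or.inr (Or.inr (Or.inr h))) q hq
      · subst h; exact conj_QT_u q hq
    have := ih (fun x hx => hw x (by simp [hx])) _ h1
    rw [ev_cons]
    convert this using 1
    group

end CfsgLib.Coset.Th.Cent
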