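import Cfsg.Agent.Coset.Th.CentGenBase

/-! Relators fixing both halves of the space, part 1. -/

set_option autoImplicit false
set_option maxRecDepth 100000
set_option Elab.async false

namespace CfsgLib.Coset.Th.Cent

theorem conj11_blk0 : fixB K124 matL 248 124 (conjRel 11) 0 = true := by decide +kernel

theorem conj11_blk1 : fixB K124 matL 248 124 (conjRel 11) 1 = true := by decide +kernel

theorem conj12_blk0 : fixB K124 matL 248 124 (conjRel 12) 0 = true := by decide +kernel

theorem conj12_blk1 : fixB K124 matL 248 124 (conjRel 12) 1 = true := by decide +kernel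

theorem conj13_blk0 : fixB K124 matL 248 124 (conjRel 13) 0 = true := by decide +kernel

theorem conj13_blk1 : fixB K124 matL 248 124 (conjRel 13) 1 = true := by decide +kernel

theorem conj14_blk0 : fixB K124 matL 248 124 (conjRel 14) 0 = true := by decide +kernel

theorem conj14_blk1 : fixB K124 matL 248 124 (conjRel 14) 1 = true := by decide +kernel

theorem conj15_blk0 : fixB K124 matL 248 124 (conjRel 15) 0 = true := by decide +kernel

theorem conj15_blk1 : fixB K124 matL 248 124 (conjRel 15) 1 = true := by decide +kernel

theorem conj16_blk0 : fixB K124 matL 248 124 (conjRel 16) 0 = true := by decide +kernel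

theorem conj16_blk1 : fixB K124 matL 248 124 (conjRel 16) 1 = true := by decide +kernel

theorem conj17_blk0 : fixB K124 matL 248 124 (conjRel 17) 0 = true := by decide +kernel

theorem conj17_blk1 : fixB K124 matL 248 124 (conjRel 17) 1 = true := by decide +kernel

theorem conj18_blk0 : fixB K124 matL 248 124 (conjRel 18) 0 = true := by decide +kernel

theorem conj18_blk1 : fixB K124 matL 248 124 (conjRel 18) 1 = true := by decide +kernel

theorem conj19_blk0 : fixB K124 matL 248 124 (conjRel 19) 0 = true := by decide +kernel

theorem conj19_blk1 : fixB K124 matL 248 124 (conjRel 19) 1 = true := by decide +kernel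

theorem conj20_blk0 : fixB K124 matL 248 124 (conjRel 20) 0 = true := by decide +kernel

theorem conj20_blk1 : fixB K124 matL 248 124 (conjRel 20) 1 = true := by decide +kernel

theorem conj21_blk0 : fixB K124 matL 248 124 (conjRel 21) 0 = true := by decide +kernel

theorem conj21_blk1 : fixB K124 matL 248 124 (conjRel 21) 1 = true := by decide +kernel

end CfsgLib.Coset.Th.Cent
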