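import Cfsg.Agent.Coset.Th.CentGenBase

/-! Relators fixing both halves of the space, part 2. -/

set_option autoImplicit false
set_option maxRecDepth 100000
set_option Elab.async false

namespace CfsgLib.Coset.Th.Cent

theorem conj22_blk0 : fixB K124 matL 248 124 (conjRel 22) 0 = true := by decide +kernel

theorem conj22_blk1 : fixB K124 matL 248 124 (conjRel 22) 1 = true := by decide +kernel

theorem conj23_blk0 : fixB K124 matL 248 124 (conjRel 23) 0 = true := by decide +kernel

theorem conj23_blk1 : fixB K124 matL 248 124 (conjRel 23) 1 = true := by decide +kernel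

theorem conj24_blk0 : fixB K124 matL 248 124 (conjRel 24) 0 = true := by decide +kernel

theorem conj24_blk1 : fixB K124 matL 248 124 (conjRel 24) 1 = true := by decide +kernel

theorem conj25_blk0 : fixB K124 matL 248 124 (conjRel 25) 0 = true := by decide +kernel

theorem conj25_blk1 : fixB K124 matL 248 124 (conjRel 25) 1 = true := by decide +kernel

theorem conj26_blk0 : fixB K124 matL 248 124 (conjRel 26) 0 = true := by decide +kernel

theorem conj26_blk1 : fixB K124 matL 248 124 (conjRel 26) 1 = true := by decide +kernel

theorem conj27_blk0 : fixB K124 matL 248 124 (conjRel 27) 0 = true := by decide +kernel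

theorem conj27_blk1 : fixB K124 matL 248 124 (conjRel 27) 1 = true := by decide +kernel

theorem conj28_blk0 : fixB K124 matL 248 124 (conjRel 28) 0 = true := by decide +kernel

theorem conj28_blk1 : fixB K124 matL 248 124 (conjRel 28) 1 = true := by decide +kernel

theorem conj29_blk0 : fixB K124 matL 248 124 (conjRel 29) 0 = true := by decide +kernel

theorem conj29_blk1 : fixB K124 matL 248 124 (conjRel 29) 1 = true := by decide +kernel

theorem conj30_blk0 : fixB K124 matL 248 124 (conjRel 30) 0 = true := by decide +kernel

theorem conj30_blk1 : fixB K124 matL 248 124 (conjRel 30) 1 = true := by decide +kernel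

theorem conj31_blk0 : fixB K124 matL 248 124 (conjRel 31) 0 = true := by decide +kernel

theorem conj31_blk1 : fixB K124 matL 248 124 (conjRel 31) 1 = true := by decide +kernel

theorem conj32_blk0 : fixB K124 matL 248 124 (conjRel 32) 0 = true := by decide +kernel

theorem conj32_blk1 : fixB K124 matL 248 124 (conjRel 32) 1 = true := by decide +kernel

end CfsgLib.Coset.Th.Cent
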