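import Cfsg.Agent.Coset.Th.CentGenBase

/-! Relators fixing both halves of the space, part 3. -/

set_option autoImplicit false
set_option maxRecDepth 100000
set_option Elab.async false

namespace CfsgLib.Coset.Th.Cent

theorem conj33_blk0 : fixB K124 matL 248 124 (conjRel 33) 0 = true := by decide +kernel

theorem conj33_blk1 : fixB K124 matL 248 124 (conjRel 33) 1 = true := by decide +kernel

theorem conj34_blk0 : fixB K124 matL 248 124 (conjRel 34) 0 = true := by decide +kernel

theorem conj34_blk1 : fixB K124 matL 248 124 (conjRel 34) 1 = true := by decide +kernel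

theorem conj35_blk0 : fixB K124 matL 248 124 (conjRel 35) 0 = true := by decide +kernel

theorem conj35_blk1 : fixB K124 matL 248 124 (conjRel 35) 1 = true := by decide +kernel

theorem conj36_blk0 : fixB K124 matL 248 124 (conjRel 36) 0 = true := by decide +kernel

theorem conj36_blk1 : fixB K124 matL 248 124 (conjRel 36) 1 = true := by decide +kernel

theorem conj37_blk0 : fixB K124 matL 248 124 (conjRel 37) 0 = true := by decide +kernel

theorem conj37_blk1 : fixB K124 matL 248 124 (conjRel 37) 1 = true := by decide +kernel

theorem conj38_blk0 : fixB K124 matL 248 124 (conjRel 38) 0 = true := by decide +kernel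

theorem conj38_blk1 : fixB K124 matL 248 124 (conjRel 38) 1 = true := by decide +kernel

theorem conj39_blk0 : fixB K124 matL 248 124 (conjRel 39) 0 = true := by decide +kernel

theorem conj39_blk1 : fixB K124 matL 248 124 (conjRel 39) 1 = true := by decide +kernel

theorem conj40_blk0 : fixB K124 matL 248 124 (conjRel 40) 0 = true := by decide +kernel

theorem conj40_blk1 : fixB K124 matL 248 124 (conjRel 40) 1 = true := by decide +kernel

theorem conj41_blk0 : fixB K124 matL 248 124 (conjRel 41) 0 = true := by decide +kernel

theorem conj41_blk1 : fixB K124 matL 248 124 (conjRel 41) 1 = true := by decide +kernel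

theorem conj42_blk0 : fixB K124 matL 248 124 (conjRel 42) 0 = true := by decide +kernel

theorem conj42_blk1 : fixB K124 matL 248 124 (conjRel 42) 1 = true := by decide +kernel

theorem conj43_blk0 : fixB K124 matL 248 124 (conjRel 43) 0 = true := by decide +kernel

theorem conj43_blk1 : fixB K124 matL 248 124 (conjRel 43) 1 = true := by decide +kernel

end CfsgLib.Coset.Th.Cent
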