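import Cfsg.Agent.Coset.Th.CentGen0
import Cfsg.Agent.Coset.Th.CentGen1
import Cfsg.Agent.Coset.Th.CentGen2
import Cfsg.Agent.Coset.Th.CentGen3

/-!
The stabilising words lie in the stabilisers of the nodes, granted faithfulness of the
representation.
-/

set_option autoImplicit false
set_option maxRecDepth 100000
set_option Elab.async false

namespace CfsgLib.Coset.Th.Cent

open Cfsg.Spor (Th)

theorem conjRel_lt : ∀ i < 44, ∀ l ∈ conjRel i, l < 16 := by decide +kernel

theorem tConj_lt : ∀ i < 44, (tConj.getD i (0, [], [])).1 < 11 ∧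
    (∀ l ∈ (tConj.getD i (0, [], [])).2.1, l < 14) ∧
    (∀ l ∈ (tConj.getD i (0, [], [])).2.2, l < 14) := by decide +kernel

theorem tGen_listed : ∀ n < 11, 1 ≤ n → ∀ g ∈ tGen n, ∃ i < 44,
    (tConj.getD i (0, [], [])).1 = n ∧ (tConj.getD i (0, [], [])).2.1 = g := by decide +kernel

theorem conjRel_one (hinj : Function.Injective repTh) : ∀ i < 44, ev LG (conjRel i) = 1 := by
  intro i hi
  refine rep_one hinj (conjRel_lt i hi) ?_ ?_
  · interval_cases i
    exacts [conj0_blk0, conj1_blk0, conj2_blk0, conj3_blk0, conj4_blk0, conj5_blk0, conj6_blk0, conj7_blk0, conj8_blk0, conj9_blk0, conj10_blk0, conj11_blk0, conj12_blk0, conj13_blk0, conj14_blk0, conj15_blk0, conj16_blk0, conj17_blk0, conj18_blk0, conj19_blk0, conj20_blk0, conj21_blk0, conj22_blk0, conj23_blk0, conj24_blk0, conj25_blk0, conj26_blk0, conj27_blk0, conj28_blk0, conj29_blk0, conj30_blk0, conj31_blk0, conj32_blk0, conj33_blk0, conj34_blk0, conj35_blk0, conj36_blk0, conj37_blk0, conj38_blk0,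 conj39_blk0, conj40_blk0, conj41_blk0, conj42_blk0, conj43_blk0]
  · interval_cases i
    exacts [conj0_blk1, conj1_blk1, conj2_blk1, conj3_blk1, conj4_blk1, conj5_blk1, conj6_blk1, conj7_blk1, conj8_blk1, conj9_blk1, conj10_blk1, conj11_blk1, conj12_blk1, conj13_blk1, conj14_blk1, conj15_blk1, conj16_blk1, conj17_blk1, conj18_blk1, conj19_blk1, conj20_blk1, conj21_blk1, conj22_blk1, conj23_blk1, conj24_blk1, conj25_blk1, conj26_blk1, conj27_blk1, conj28_blk1, conj29_blk1, conj30_blk1, conj31_blk1, conj32_blk1, conj33_blk1, conj34_blk1, conj35_blk1, conj36_blk1, conj37_blk1, conj38_blk1, conj39_blk1, conj40_blk1, conj41_blk1, conj42_blk1, conj43_blk1]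

theorem gen_mem_stT (hinj : Function.Injective repTh) :
    ∀ n, 1 ≤ n → n ≤ 10 → ∀ g ∈ tGen n, ev LA g ∈ stT n := by
  intro n h1 h2 g hg
  obtain ⟨i, hi, hn, hgi⟩ := tGen_listed n (by omega) h1 g hg
  obtain ⟨-, hgl, hhl⟩ := tConj_lt i hi
  have h := conjRel_one hinj i hi
  rw [conjRel] at h
  simp only [ev_append, ev_invW_LG] at h
  rw [mem_stT, ΨT_ev g (hgi ▸ hgl), ← hn, ← hgi, mul_inv_eq_one.mp h, ← ΨT_ev _ hhl]
  exact ⟨_, rfl⟩

end CfsgLib.Coset.Th.Cent
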