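import Cfsg.Agent.Coset.Th.CentGenBase

/-! Relators fixing both halves of the space, part 0. -/

set_option autoImplicit false
set_option maxRecDepth 100000
set_option Elab.async false

namespace CfsgLib.Coset.Th.Cent

theorem conj0_blk0 : fixB K124 matL 248 124 (conjRel 0) 0 = true := by decide +kernel

theorem conj0_blk1 : fixB K124 matL 248 124 (conjRel 0) 1 = true := by decide +kernel

theorem conj1_blk0 : fixB K124 matL 248 124 (conjRel 1) 0 = true := by decide +kernel

theorem conj1_blk1 : fixB K124 matL 248 124 (conjRel 1) 1 = true := by decide +kernel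

theorem conj2_blk0 : fixB K124 matL 248 124 (conjRel 2) 0 = true := by decide +kernel

theorem conj2_blk1 : fixB K124 matL 248 124 (conjRel 2) 1 = true := by decide +kernel

theorem conj3_blk0 : fixB K124 matL 248 124 (conjRel 3) 0 = true := by decide +kernel

theorem conj3_blk1 : fixB K124 matL 248 124 (conjRel 3) 1 = true := by decide +kernel

theorem conj4_blk0 : fixB K124 matL 248 124 (conjRel 4) 0 = true := by decide +kernel

theorem conj4_blk1 : fixB K124 matL 248 124 (conjRel 4) 1 = true := by decide +kernel

theorem conj5_blk0 : fixB K124 matL 248 124 (conjRel 5) 0 = true := by decide +kernel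

theorem conj5_blk1 : fixB K124 matL 248 124 (conjRel 5) 1 = true := by decide +kernel

theorem conj6_blk0 : fixB K124 matL 248 124 (conjRel 6) 0 = true := by decide +kernel

theorem conj6_blk1 : fixB K124 matL 248 124 (conjRel 6) 1 = true := by decide +kernel

theorem conj7_blk0 : fixB K124 matL 248 124 (conjRel 7) 0 = true := by decide +kernel

theorem conj7_blk1 : fixB K124 matL 248 124 (conjRel 7) 1 = true := by decide +kernel

theorem conj8_blk0 : fixB K124 matL 248 124 (conjRel 8) 0 = true := by decide +kernel

theorem conj8_blk1 : fixB K124 matL 248 124 (conjRel 8) 1 = true := by decide +kernel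

theorem conj9_blk0 : fixB K124 matL 248 124 (conjRel 9) 0 = true := by decide +kernel

theorem conj9_blk1 : fixB K124 matL 248 124 (conjRel 9) 1 = true := by decide +kernel

theorem conj10_blk0 : fixB K124 matL 248 124 (conjRel 10) 0 = true := by decide +kernel

theorem conj10_blk1 : fixB K124 matL 248 124 (conjRel 10) 1 = true := by decide +kernel

end CfsgLib.Coset.Th.Cent
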