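import Cfsg.Agent.Coset.Th.CentGenData
import Cfsg.Agent.Coset.Th.CentBound

/-!
The relators expressing the conjugates of the stabilising words.
-/

set_option autoImplicit false
set_option maxRecDepth 100000
set_option Elab.async false

namespace CfsgLib.Coset.Th.Cent

/-- The word of a listed conjugate and the inverse of its value. -/
noncomputable def conjRel (i : Nat) : List Nat :=
  let q := tConj.getD i (0, [], [])
  nodeW.getD q.1 [] ++ q.2.1 ++ invW (nodeW.getD q.1 []) ++ invW q.2.2

end CfsgLib.Coset.Th.Cent
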