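import Cfsg.Agent.Coset.Prim

/-! Words for the conjugates of the stabilising words by the nodes other than the first. -/

set_option autoImplicit false
set_option maxRecDepth 100000

namespace CfsgLib.Coset.Th

/-- A node, a stabilising word, and the word of its conjugate in the first fourteen letters. -/
def tConj : List (Nat × List Nat × List Nat) := [(1, [4], [4]),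
  (1, [8], [8]),
  (1, [12], [13]),
  (1, [6, 4, 6], [0, 2, 0, 4, 2, 6, 4, 6, 8, 6, 4, 2, 0, 6, 4, 2, 6, 4, 6]),
  (1, [10, 8, 11], [8, 11, 8, 10]),
  (1, [2, 0, 4, 2], [2, 0, 4, 2, 8]),
  (2, [2, 0, 4, 2, 8, 10, 8, 11, 12], [0, 4, 10, 8, 11, 12]),
  (2, [2, 0, 4, 2, 8, 12], [0, 4, 12]),
  (2, [0, 2, 0, 4, 2, 0, 8, 10, 8, 11, 12], [0, 2, 0, 4, 2, 0, 8, 10, 8, 11, 12]),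
  (2, [8, 6, 4, 2, 6, 4, 6, 8, 6, 4, 2, 6, 4, 6], [2, 6, 4, 2, 6, 4, 2, 6, 8, 6, 4, 2, 6, 4, 6]),
  (2, [10, 8, 6, 4, 2, 6, 4, 6, 8, 6, 4, 2, 6, 4, 7, 9, 11, 3], [10, 8, 6, 4, 2, 6, 4, 6, 8, 6, 4, 2, 6, 4, 2, 6, 10, 8, 11, 11, 8]),
  (2, [4, 2, 10, 8, 6, 4, 2, 6, 11, 8, 6, 4, 6, 10, 1, 3, 5, 7, 9, 10, 13, 5], [12, 11, 8, 6, 4, 2, 6, 4, 6, 8, 6, 0, 2, 4, 6, 11, 8, 6, 4, 2, 6, 4, 12, 3, 1, 10, 5, 11]),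
  (2, [0, 2, 8, 6, 4, 2, 6, 4, 13, 10, 8, 6, 10, 10, 9, 5, 7, 3, 5, 7, 9, 10, 10, 3, 1], [6, 4, 2, 11, 8, 6, 4, 11, 8, 6, 4, 0, 2, 10, 8, 10, 8, 6, 4, 6, 4, 8, 10, 13, 10, 10, 7, 5, 9, 7, 1, 13]),
  (3, [4, 8, 6, 4, 2, 0, 6, 4, 2, 8, 6, 4, 6, 8], [8, 6, 4, 2, 0, 6, 4, 2, 8, 6, 4, 6, 8]),
  (3, [8, 6, 4, 2, 0, 6, 4, 2, 8, 6, 4, 6, 8, 12, 5], [8, 6, 4, 2, 0, 6, 4, 2, 8, 6, 12, 4, 6, 8]),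
  (3, [6, 8, 6, 4, 6, 4, 2, 0, 8, 6, 4, 2, 6, 12, 5, 7, 1], [6, 4, 2, 0, 6, 4, 2, 6, 4, 8, 6, 4, 6, 8, 6, 12]),
  (3, [6, 8, 6, 4, 2, 0, 6, 4, 2, 0, 8, 6], [2, 4, 6, 4, 2, 6, 4, 6, 8, 6, 4, 2, 6, 4, 6, 8]),
  (3, [0, 11, 8, 6, 4, 2, 11, 8, 6, 4, 10, 8, 6, 10, 9, 10, 3, 5, 7, 9, 10, 13, 1], [2, 4, 6, 4, 11, 8, 6, 4, 12, 11, 8, 0, 2, 6, 4, 2, 6, 4, 10, 10, 8, 6, 4, 12, 3, 1, 10, 5, 11]),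
  (4, [2, 0, 4, 2, 8, 11, 8, 10], [0, 4, 10, 8, 11]),
  (4, [2, 0, 4, 2, 8], [0, 4]),
  (4, [2, 0, 4, 2], [0, 4, 8, 10, 8, 11]),
  (4, [0, 2, 0, 4, 2, 0], [0, 2, 0, 4, 2, 0, 10, 8, 11]),
  (4, [10, 8, 11], [12, 11, 8, 10, 13]),
  (4, [8, 6, 4, 2, 6, 4, 6, 11, 8, 6, 4, 6, 13, 10, 3, 5, 7, 9, 3, 5], [6, 4, 2, 6, 4, 6, 13, 11, 8, 6, 4, 2, 6, 4, 6, 4, 2, 11, 11]),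
  (4, [2, 6, 4, 2, 6, 4, 11, 8, 11, 8, 6, 4, 6, 12, 9, 3, 5, 7, 5, 7, 9, 10, 7, 9, 7, 5, 7, 3], [0, 6, 4, 2, 6, 4, 6, 8, 6, 11, 11, 0, 2, 4, 2, 6, 8, 6, 4, 6, 4, 2, 11, 1, 7, 7, 5, 5, 3, 5, 7, 10, 11, 10]),
  (5, [6, 8, 6, 4, 6, 4, 2, 0, 8, 6, 4, 2, 6, 4, 7, 1], [6, 4, 2, 0, 6, 4, 2, 6, 4, 8, 6, 4, 6, 8, 6]),
  (5, [2, 0, 4, 2, 8], [2, 0, 4, 2, 6, 4, 6, 8, 6, 4, 2, 0, 6, 4, 2, 6, 4, 6]),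
  (5, [4, 6, 8, 6, 4, 2, 0, 6, 4, 11, 11, 8, 6, 11, 3, 5, 7, 9, 10, 12, 7, 1], [0, 2, 8, 6, 4, 2, 6, 4, 12, 11, 8, 6, 0, 2, 4, 2, 0, 8, 6, 10, 8, 6, 4, 11, 9, 9, 3, 12, 7, 13, 10, 5, 7, 5, 13, 13, 10]),
  (6, [6, 4, 2, 0, 6, 4, 2, 6, 4, 8, 6, 4, 6, 8, 7, 5], [6, 8, 6, 4, 6, 4, 2, 8, 6, 4, 6, 0, 2, 4, 6]),
  (6, [2, 0, 4, 2, 8], [2, 0, 4, 2, 6, 4, 6, 8, 6, 4, 2, 0, 6, 4, 2, 6, 4, 6]),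
  (7, [13], [12]),
  (7, [0, 2, 0, 4, 2, 6, 4, 6, 8, 6, 4, 2, 6, 4, 13, 7, 1, 3, 5, 7], [2, 0, 4, 2, 8, 12]),
  (7, [2, 0, 6, 4, 2, 0, 6, 8, 6, 4, 6, 8], [2, 4, 8, 6, 4, 2, 6, 4, 8, 6, 4, 2, 8, 6, 4, 6]),
  (7, [0, 4, 6, 4, 2, 0, 8, 6, 4, 2, 6, 4, 8, 6, 5, 3, 1], [0, 6, 4, 2, 6, 8, 6, 4, 2, 6, 8]),
  (8, [0, 2, 0, 4, 2, 6, 4, 6, 8, 6, 4, 2, 6, 4, 6, 1, 3, 5, 7], [2, 0, 4, 2, 8]),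
  (8, [2, 4, 6, 8, 6, 4, 2, 10, 8, 6, 4, 6, 11, 8, 11, 5, 7, 9, 11, 3, 5, 7, 9, 3, 5, 3], [11, 8, 6, 4, 2, 10, 8, 6, 4, 6, 8, 0, 2, 4, 6, 4, 6, 10, 8, 6, 4]),
  (8, [4, 2, 8, 6, 4, 12, 10, 8, 6, 4, 11, 8, 10, 10, 7, 9, 3, 5, 7, 1, 3, 5, 1, 3, 1], [0, 2, 4, 2, 12, 11, 8, 6, 4, 2, 6, 8, 4, 6, 4, 2, 8, 6, 11, 8, 6, 11, 8, 13, 11, 10, 12, 13, 7, 1, 3, 12, 3, 11]),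
  (9, [4, 2, 6, 8, 6, 4, 2, 6, 4, 8, 6, 11, 8, 11, 3, 5, 7, 9, 10, 9, 1], [6, 4, 11, 8, 6, 4, 10, 8, 6, 4, 10, 2, 8, 6, 4, 2, 0, 6, 4, 11, 8, 6, 3, 1, 1, 5, 12, 12, 5, 11, 13, 5]),
  (9, [0, 8, 6, 4, 2, 6, 10, 8, 6, 4, 6, 11, 8, 11, 7, 5, 7, 9, 11, 7, 9, 1, 3, 5, 3], [2, 4, 8, 6, 4, 11, 11, 8, 6, 4, 6, 2, 8, 11, 8, 6, 4, 2, 6, 4, 8, 12, 3, 1, 10, 5, 11]),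
  (9, [4, 6, 4, 2, 6, 11, 8, 6, 4, 11, 8, 6, 10, 8, 10, 13, 1, 3, 5, 7, 9, 11, 3, 5, 7, 5], [4, 6, 4, 12, 10, 8, 6, 4, 11, 8, 6, 0, 2, 4, 2, 6, 10, 10, 8, 6, 4, 6, 4, 13, 10, 10, 7, 5, 9, 7, 1, 13]),
  (10, [2, 0, 4, 2, 8], [2, 0, 4, 2, 8]),
  (10, [6, 4, 8, 6, 4, 12, 10, 8, 6, 4, 11, 8, 6, 10, 9, 11, 5, 7, 9, 11, 12, 1], [0, 2, 4, 2, 8, 6, 4, 2, 6, 4, 8, 6, 0, 2, 4, 2, 11, 8, 6, 4, 2, 0, 11, 13, 13, 11, 13, 12, 9, 3, 7, 5, 7, 9, 11, 13]),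
  (10, [0, 2, 4, 6, 10, 8, 6, 4, 2, 6, 4, 6, 10, 13, 9, 11, 7, 5, 7, 9], [0, 2, 4, 6, 4, 2, 6, 4, 6, 10, 8, 6, 4, 6, 10, 8, 6, 4, 10, 8, 6, 13, 13, 11, 13, 12, 9, 3, 7, 5, 7, 9, 11, 13]),
  (10, [13, 11, 8, 6, 4, 6, 4, 10, 8, 6, 11, 8, 6, 11, 3, 5, 7, 3, 5, 7, 9, 7, 5, 3, 1], [2, 4, 8, 6, 11, 8, 6, 4, 6, 13, 10, 2, 4, 8, 6, 10, 8, 6, 11])]

end CfsgLib.Coset.Th
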