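import Cfsg.Agent.Coset.Th.CentG
import Cfsg.Agent.Coset.Th.CentBound

/-!
The centralizer of an involution in the presented Thompson group, from the double coset facts and
faithfulness of the representation.
-/

set_option autoImplicit false
set_option maxRecDepth 100000
set_option Elab.async false
set_option linter.style.haveILetI false

namespace CfsgLib.Coset.Th.Cent

open Cfsg.Spor (Th)

/-- The basic element of order three. -/
def x0W : List Nat := [6, 8, 6, 14, 6, 14]

/-- The powers of the element of order seven. -/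
def sW (i : Nat) : List Nat := List.replicate i 11

/-- The inverse powers. -/
def sWi (i : Nat) : List Nat := List.replicate i 10

/-- The conjugates. -/
def xW (i : Nat) : List Nat := sWi i ++ x0W ++ sW i

/-- The four relators. -/
noncomputable def carmRel : List (List Nat) :=
  [x0W ++ x0W ++ x0W ++ invW (qW (qRel.getD 0 0)),
    x0W ++ xW 1 ++ (x0W ++ xW 1) ++ invW (qW (qRel.getD 1 0)),
    x0W ++ xW 2 ++ (x0W ++ xW 2) ++ invW (qW (qRel.getD 2 0)),
    x0W ++ xW 3 ++ (x0W ++ xW 3) ++ invW (qW (qRel.getD 3 0))]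

theorem carm0_blk0 : fixB K124 matL 248 124 (carmRel.getD 0 []) 0 = true := by decide +kernel

theorem carm0_blk1 : fixB K124 matL 248 124 (carmRel.getD 0 []) 1 = true := by decide +kernel

theorem carm1_blk0 : fixB K124 matL 248 124 (carmRel.getD 1 []) 0 = true := by decide +kernel

theorem carm1_blk1 : fixB K124 matL 248 124 (carmRel.getD 1 []) 1 = true := by decide +kernel

theorem carm2_blk0 : fixB K124 matL 248 124 (carmRel.getD 2 []) 0 = true := by decide +kernel

theorem carm2_blk1 : fixB K124 matL 248 124 (carmRel.getD 2 []) 1 = true := by decide +kernel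

theorem carm3_blk0 : fixB K124 matL 248 124 (carmRel.getD 3 []) 0 = true := by decide +kernel

theorem carm3_blk1 : fixB K124 matL 248 124 (carmRel.getD 3 []) 1 = true := by decide +kernel

/-- The commutator of an element with the third letter is central. -/
noncomputable def qCommC (m : Nat) : Bool :=
  cond (eqA (qW m ++ [4]) ([4] ++ qW m)) true (eqA (qW m ++ [4]) ([0] ++ [4] ++ qW m))

theorem qCommC_all : allBelow 9 512 qCommC = true := by decide +kernel

theorem carm_lt : ∀ w ∈ carmRel, ∀ l ∈ w, l < 16 := by decide +kernel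

theorem carm_one (hinj : Function.Injective repTh) : ∀ i < 4, ev LG (carmRel.getD i []) = 1 := by
  intro i hi
  have hlt : ∀ i < 4, ∀ l ∈ carmRel.getD i [], l < 16 := by decide +kernel
  refine rep_one hinj (hlt i hi) ?_ ?_
  · interval_cases i
    exacts [carm0_blk0, carm1_blk0, carm2_blk0, carm3_blk0]
  · interval_cases i
    exacts [carm0_blk1, carm1_blk1, carm2_blk1, carm3_blk1]

theorem ev_invW_qW (m : Nat) : ev LG (invW (qW m)) = (ΨT (ev LA (qW m)))⁻¹ := by
  rw [ev_invW_LG, ΨT_ev _ (qW_lt m)]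

theorem ΨT_qW_mem (m : Nat) : ΨT (ev LA (qW m)) ∈ QT := ⟨_, qW_mem m, rfl⟩

/-- The element of order seven. -/
noncomputable def sT : Th := fl LG 11

/-- The basic element. -/
noncomputable def x0T : Th := ev LG x0W

/-- The seven elements. -/
noncomputable def xT (i : Fin 7) : Th := (sT ^ (i : ℕ))⁻¹ * x0T * sT ^ (i : ℕ)

theorem sT_pow (i : Nat) : ev LG (sW i) = sT ^ i ∧ ev LG (sWi i) = (sT ^ i)⁻¹ := by
  induction i with
  | zero => simp [sW, sWi]
  | succ i ih =>
    have h10 : fl LG 10 = sT⁻¹ := fl_xor16 len_LG pair_LG 11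
    constructor
    · rw [sW, List.replicate_succ, ev_cons, ← sW, ih.1, pow_succ']
      rfl
    · rw [sWi, List.replicate_succ, ev_cons, ← sWi, ih.2, h10, pow_succ, mul_inv_rev]

theorem sT_seven : sT ^ 7 = 1 := by
  have h := (sT_pow 7).2
  rw [relW_LG (sWi 7) (by decide +kernel)] at h
  exact inv_eq_one.mp h.symm

theorem ev_xW (i : Nat) : ev LG (xW i) = (sT ^ i)⁻¹ * x0T * sT ^ i := by
  rw [xW, ev_append, ev_append, (sT_pow i).1, (sT_pow i).2, x0T]

theorem conj_sT_QT {q : Th} (hq : q ∈ QT) (k : Nat) : (sT ^ k)⁻¹ * q * sT ^ k ∈ QT := by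
  rw [← (sT_pow k).1]
  exact conj_QT_word _ (fun l hl => Or.inr (Or.inr (Or.inr (Or.inl (List.eq_of_mem_replicate hl))))) q hq

theorem xT_mem_centralizer (i : Fin 7) : xT i ∈ Subgroup.centralizer {zT} := by
  have hletter : ∀ l, (l = 6 ∨ l = 8 ∨ l = 10 ∨ l = 11 ∨ l = 14) →
      fl LG l ∈ Subgroup.centralizer {zT} := by
    intro l hl
    rw [Subgroup.mem_centralizer_singleton_iff, zT_eq, ev_cons, ev_nil, mul_one]
    rcases hl with rfl | rfl | rfl | rfl | rfl
    · have := congrArg ΨT (eqA_sound (v := [6, 0]) (w := [0, 6]) (by decide +kernel))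
      rw [ΨT_ev _ (by simp), ΨT_ev _ (by simp)] at this
      simpa [ev_cons] using this
    · have := congrArg ΨT (eqA_sound (v := [8, 0]) (w := [0, 8]) (by decide +kernel))
      rw [ΨT_ev _ (by simp), ΨT_ev _ (by simp)] at this
      simpa [ev_cons] using this
    · have := congrArg ΨT (eqA_sound (v := [10, 0]) (w := [0, 10]) (by decide +kernel))
      rw [ΨT_ev _ (by simp), ΨT_ev _ (by simp)] at this
      simpa [ev_cons] using this
    · have := congrArg ΨT (eqA_sound (v := [11, 0]) (w := [0, 11]) (by decide +kernel))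
      rw [ΨT_ev _ (by simp), ΨT_ev _ (by simp)] at this
      simpa [ev_cons] using this
    · have h := relW_LG [15, 1, 14, 0] (by decide +kernel)
      simp only [ev_cons, ev_nil, mul_one] at h
      rw [show fl LG 15 = (fl LG 14)⁻¹ from fl_xor16 len_LG pair_LG 14] at h
      rw [show fl LG 1 = (fl LG 0)⁻¹ from fl_xor16 len_LG pair_LG 0] at h
      calc fl LG 14 * fl LG 0 = fl LG 0 * fl LG 14 *
            ((fl LG 14)⁻¹ * ((fl LG 0)⁻¹ * (fl LG 14 * fl LG 0))) := by group
        _ = fl LG 0 * fl LG 14 := by rw [h, mul_one]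
  have hs : sT ∈ Subgroup.centralizer {zT} := hletter 11 (Or.inr (Or.inr (Or.inr (Or.inl rfl))))
  have hx : x0T ∈ Subgroup.centralizer {zT} := by
    rw [x0T]
    have : ∀ w : List Nat, (∀ l ∈ w, l = 6 ∨ l = 8 ∨ l = 10 ∨ l = 11 ∨ l = 14) →
        ev LG w ∈ Subgroup.centralizer {zT} := by
      intro w
      induction w with
      | nil => intro _; exact one_mem _
      | cons l w ih =>
        intro hw
        rw [ev_cons]
        exact mul_mem (hletter l (hw l (by simp))) (ih fun x hx => hw x (by simp [hx]))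
    exact this _ (by decide +kernel)
  exact mul_mem (mul_mem (inv_mem (pow_mem hs _)) hx) (pow_mem hs _)

theorem xT_conj (i : Fin 7) : ∀ q ∈ QT, xT i * q * (xT i)⁻¹ ∈ QT := by
  have h0 : ∀ q ∈ QT, x0T * q * x0T⁻¹ ∈ QT := by
    have hle : QT.map (MulAut.conj x0T⁻¹).toMonoidHom ≤ QT := by
      rintro _ ⟨q, hq, rfl⟩
      have := conj_QT_word x0W (by decide +kernel) q hq
      simpa [x0T] using this
    haveI : Finite QT := Nat.finite_of_card_ne_zero (by rw [card_QT]; norm_num)
    have he := Subgroup.eq_of_le_of_card_ge hle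
      (by rw [Subgroup.card_map_of_injective (MulEquiv.injective _)])
    intro q hq
    obtain ⟨p, hp, e⟩ : q ∈ QT.map (MulAut.conj x0T⁻¹).toMonoidHom := by rw [he]; exact hq
    have e' : x0T⁻¹ * p * x0T = q := by simpa using e
    rw [← e']
    simpa [mul_assoc] using hp
  intro q hq
  have hq1 : sT ^ (i : ℕ) * q * (sT ^ (i : ℕ))⁻¹ ∈ QT := by
    have hpow : (sT ^ (6 * (i : ℕ)))⁻¹ = sT ^ (i : ℕ) := by
      rw [inv_eq_iff_mul_eq_one, ← pow_add, show 6 * (i : ℕ) + i = 7 * i by ring, pow_mul,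
        sT_seven, one_pow]
    have := conj_sT_QT hq (6 * (i : ℕ))
    rwa [hpow, show sT ^ (6 * (i : ℕ)) = (sT ^ (i : ℕ))⁻¹ by rw [← hpow, inv_inv]] at this
  have := conj_sT_QT (h0 _ hq1) (i : ℕ)
  rw [xT]
  convert this using 1
  group

theorem mem_QT_of_rel {y : Th} {m : Nat} (h : y * (ΨT (ev LA (qW m)))⁻¹ = 1) : y ∈ QT := by
  rw [mul_inv_eq_one.mp h]; exact ΨT_qW_mem m

theorem x0T_notMem : x0T ∉ QT := by
  intro h
  obtain ⟨q, hq, he⟩ := h
  obtain ⟨v, hv, rfl⟩ := exists_word_A q
  rw [ΨT_ev _ hv] at he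
  have hcomm : ev LG (x0W ++ [4] ++ invW x0W ++ [4]) = 1 ∨
      ev LG (x0W ++ [4] ++ invW x0W ++ [4]) = ev LG [0] := by
    obtain ⟨m, hm, hmq⟩ := exists_qW hq
    have hc : ev LA (v ++ [4] ++ invW v ++ [4]) = 1 ∨ ev LA (v ++ [4] ++ invW v ++ [4]) = aA := by
      have hsq : ev LA [4] * ev LA [4] = 1 := by
        rw [← ev_append, ev_relsA _ (by decide +kernel : [4] ++ [4] ∈ relsA)]
      have hcm := of_allBelow qCommC_all m hm
      rw [qCommC] at hcm
      simp only [ev_append, ev_invW _ hv, ← hmq]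
      cases h1 : eqA (qW m ++ [4]) ([4] ++ qW m)
      · rw [h1, cond_false] at hcm
        have h2 := eqA_sound hcm
        rw [ev_append, ev_append, ev_append] at h2
        right
        rw [h2]
        calc _ = aA * (ev LA [4] * ev LA [4]) := by group
          _ = aA := by rw [hsq, mul_one]
      · have h2 := eqA_sound h1
        rw [ev_append, ev_append] at h2
        left
        rw [h2]
        calc _ = ev LA [4] * ev LA [4] := by group
          _ = 1 := hsq
    have hl : ∀ l ∈ v ++ [4] ++ invW v ++ [4], l < 14 := by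
      intro l hl
      simp only [List.mem_append, List.mem_singleton, invW, List.mem_map, List.mem_reverse] at hl
      rcases hl with ((hl | rfl) | ⟨m, hm, rfl⟩) | rfl
      · exact hv l hl
      · norm_num
      · exact (pairsA m (hv m hm)).1
      · norm_num
    have e : ev LG (x0W ++ [4] ++ invW x0W ++ [4]) = ΨT (ev LA (v ++ [4] ++ invW v ++ [4])) := by
      rw [ΨT_ev _ hl, ev_append, ev_append, ev_append, ev_append, ev_append, ev_append,
        ev_invW_LG, ev_invW_LG, he, x0T]
    rcases hc with hc | hc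
    · left; rw [e, hc, map_one]
    · right; rw [e, hc, ← zT, zT_eq]
  rcases hcomm with h | h
  · exact rep_moves (w := x0W ++ [4] ++ invW x0W ++ [4]) (n := 1) (by decide +kernel)
      (by decide +kernel) (by norm_num) h
  · refine rep_moves (w := x0W ++ [4] ++ invW x0W ++ [4] ++ [0]) (n := 1) (by decide +kernel)
      (by decide +kernel) (by norm_num) ?_
    rw [ev_append, h, ← ev_append]
    exact relW_LG _ (by decide +kernel)

theorem carm_cube (hinj : Function.Injective repTh) : x0T ^ 3 ∈ QT := by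
  have h := carm_one hinj 0 (by norm_num)
  simp only [carmRel, List.getD_cons_zero, ev_append, ev_invW_qW] at h
  refine mem_QT_of_rel (m := qRel.getD 0 0) ?_
  rw [x0T, pow_succ, pow_two]
  exact h

theorem carm_sq (hinj : Function.Injective repTh) : ∀ k, 1 ≤ k → k ≤ 3 →
    (x0T * ((sT ^ k)⁻¹ * x0T * sT ^ k)) ^ 2 ∈ QT := by
  intro k h1 h3
  refine mem_QT_of_rel (m := qRel.getD k 0) ?_
  have h := carm_one hinj k (by omega)
  rw [pow_two, ← ev_xW, x0T]
  interval_cases k
  all_goals
    simp only [carmRel, List.getD_cons_zero, List.getD_cons_succ, ev_append, ev_invW_qW] at h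
    exact h

/-- The centralizer of the involution. -/
theorem structure_cent [Finite Th] (hinj : Function.Injective repTh)
    (hcover : ∀ g : Th, ∃ n < 11, ∃ α, g * (ev LG (nodeW.getD n []) * ΨT α)⁻¹ ∈ ΨT.range)
    (hgen : ∀ n, 1 ≤ n → n ≤ 10 → ∀ g ∈ tGen n, ev LA g ∈ stT n)
    (hidx : ∀ n < 11, (stT n).index = nodeSize.getD n 0) :
    orderOf zT = 2 ∧ ∃ (R : Subgroup (Subgroup.centralizer ({zT} : Set Th))) (_ : R.Normal),
      Nat.card R = 2 ^ 9 ∧ Cfsg.IsExtraspecial 2 R ∧
        Nonempty ((Subgroup.centralizer ({zT} : Set Th)) ⧸ R ≃* alternatingGroup (Fin 9)) := by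
  have conj_mem : ∀ (k : Nat) {y : Th}, y ∈ QT → (sT ^ k)⁻¹ * y * sT ^ k ∈ QT :=
    fun k y hy => conj_sT_QT hy k
  have hpair : ∀ i j : Fin 7, i ≠ j → (xT i * xT j) ^ 2 ∈ QT := by
    have hfwd : ∀ (i : ℕ) (k : ℕ), 1 ≤ k → k ≤ 3 →
        ((sT ^ i)⁻¹ * x0T * sT ^ i * ((sT ^ (i + k))⁻¹ * x0T * sT ^ (i + k))) ^ 2 ∈ QT := by
      intro i k h1 h3
      have := conj_mem i (carm_sq hinj k h1 h3)
      convert this using 1
      simp only [pow_two, pow_add]
      group
    have hswap : ∀ a b : Th, (∀ q ∈ QT, a * q * a⁻¹ ∈ QT) → (b * a) ^ 2 ∈ QT →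
        (a * b) ^ 2 ∈ QT := by
      intro a b ha h
      have := ha _ h
      convert this using 1
      simp only [pow_two]
      group
    have hmod : ∀ n : ℕ, sT ^ n = sT ^ (n % 7) := fun n => by
      conv_lhs => rw [← Nat.mod_add_div n 7, pow_add, pow_mul, sT_seven, one_pow, mul_one]
    intro i j hij
    have hne : (i : ℕ) ≠ j := fun e => hij (Fin.ext e)
    have hi := i.2
    have hj := j.2
    by_cases hk : ((j : ℕ) + 7 - i) % 7 ≤ 3
    · have := hfwd i (((j : ℕ) + 7 - i) % 7) (by omega) hk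
      rwa [hmod ((i : ℕ) + ((j : ℕ) + 7 - i) % 7),
        show ((i : ℕ) + ((j : ℕ) + 7 - i) % 7) % 7 = j by omega] at this
    · refine hswap _ _ (xT_conj i) ?_
      have := hfwd j (((i : ℕ) + 7 - j) % 7) (by omega) (by omega)
      rwa [hmod ((j : ℕ) + ((i : ℕ) + 7 - j) % 7),
        show ((j : ℕ) + ((i : ℕ) + 7 - j) % 7) % 7 = i by omega] at this
  refine CentAbs.centralizer_structure orderOf_zT (Q := QT) (x := xT) QT_le xT_mem_centralizer
    xT_conj (fun i => ?_) hpair ?_ card_QT extraspecial_QT (card_centralizer_le hcover hgen hidx)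
  · have := conj_mem (i : ℕ) (carm_cube hinj)
    rw [xT]
    convert this using 1
    rw [pow_succ, pow_two, pow_succ, pow_two]
    group
  · simpa [xT] using x0T_notMem

end CfsgLib.Coset.Th.Cent
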