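import Mathlib.Data.List.Basic

/-!
The relators of the Thompson presentation in sixteen letters: `a b c d e s t u`, each followed by
its inverse.
-/

set_option autoImplicit false
set_option maxRecDepth 100000

namespace CfsgLib.Coset.Th

/-- The relators of the subgroup on fourteen letters, with the inverse pairs. -/
def relsA : List (List Nat) := [[0, 1], [1, 0], [2, 3], [3, 2], [4, 5], [5, 4], [6, 7], [7, 6], [8, 9], [9, 8], [10, 11], [11, 10], [12, 13], [13, 12], [0, 0], [2, 2], [4, 4], [6, 6], [8, 8], [0, 2, 0, 2, 0, 2], [0, 8, 0, 8], [2, 4, 2, 4, 2, 4], [2, 6, 2, 6], [2, 8, 2, 8], [0, 7, 5, 7, 5, 7, 5, 7, 5], [4, 8, 4, 8], [6, 8, 6, 8, 6, 8], [2, 4, 6, 8, 2, 4, 6, 8, 2, 4, 6, 8, 2, 4, 6, 8, 2, 4, 6, 8, 2, 4, 6, 8, 2, 4, 6, 8, 2, 4, 6, 8], [10, 10, 10, 10, 10, 10, 10], [11, 1, 10, 0], [11, 3, 10, 2], [11, 5,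 10, 4], [10, 6, 10, 6], [9, 11, 8, 11, 11, 9, 10, 10, 10], [12, 12, 12], [13, 1, 12, 0], [13, 3, 12, 2], [13, 5, 12, 4], [13, 7, 12, 6], [13, 9, 12, 8], [13, 10, 12, 11, 11]]

/-- The printed relators. -/
def relW : List (List Nat) := [[0, 0], [2, 2], [4, 4], [6, 6], [8, 8], [0, 2, 0, 2, 0, 2], [0, 8, 0, 8], [2, 4, 2, 4, 2, 4], [2, 6, 2, 6], [2, 8, 2, 8], [0, 7, 5, 7, 5, 7, 5, 7, 5], [4, 8, 4, 8], [6, 8, 6, 8, 6, 8], [2, 4, 6, 8, 2, 4, 6, 8, 2, 4, 6, 8, 2, 4, 6, 8, 2, 4, 6, 8, 2, 4, 6, 8, 2, 4, 6, 8, 2, 4, 6, 8], [10, 10, 10, 10, 10, 10, 10], [11, 1, 10, 0], [11, 3, 10, 2], [11, 5, 10, 4], [10, 6, 10, 6], [9, 11, 8, 11, 11, 9, 10, 10, 10], [12, 12, 12], [13, 1, 12, 0], [13, 3, 12, 2], [13, 5, 12, 4], [13, 7, 12, 6], [13, 9, 12, 8], [13, 10, 12, 11, 11], [14, 14, 5, 1], [15, 1, 14, 0], [15, 5, 14, 4], [15, 9, 14, 8],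 [6, 8, 15, 6, 14, 6, 8, 15, 6, 14], [15, 3, 5, 1, 2, 14, 3, 0, 4, 2, 9], [7, 15, 6, 3, 5, 1, 2, 7, 14, 6, 3, 0, 4, 2, 5, 9, 7, 15, 6, 3, 5, 1, 2, 9, 15], [15, 12, 14, 12], [9, 11, 11, 15, 10, 10, 8, 11, 11, 14, 10, 10], [0, 4, 11, 15, 11, 15, 11, 15], [0, 4, 11, 15, 10, 14, 11, 15, 10, 14, 11, 15, 10, 14, 11, 15, 10, 14], [6, 11, 11, 14, 10, 10, 6, 11, 11, 14, 10, 10, 6, 11, 11, 14, 10, 10, 6, 11, 11, 14, 9, 7, 5, 6, 8, 10, 10, 10, 9, 7, 5, 6, 8, 11, 7, 5, 6, 5, 1]]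

/-- Generators of the subgroup fixing the coset of `u`. -/
def kgW : List (List Nat) := [[4], [8], [12], [6, 4, 7], [10, 8, 11], [2, 4, 1, 3]]

end CfsgLib.Coset.Th
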