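import Cfsg.Agent.Coset.Checker
import Cfsg.Agent.Coset.Chain
import Cfsg.Agent.Coset.Th.Words
import Cfsg.Prelude.Def_Spor_Th

/-!
The sixteen letters of the presented Thompson group, and the words of its relators.
-/

set_option autoImplicit false
set_option maxRecDepth 100000

namespace CfsgLib.Coset.Th

open Cfsg.Spor (coxRelators)
open Cfsg.Spor.Th (Gen)

/-- The number of a printed generator. -/
def genIdx : Gen → Nat
  | .a => 0 | .b => 1 | .c => 2 | .d => 3 | .e => 4 | .s => 5 | .t => 6 | .u => 7

/-- The word of a signed generator. -/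
def sw (p : Gen × Bool) : List Nat :=
  if p.2 then [2 * genIdx p.1] else [2 * genIdx p.1 + 1]

/-- The word of an element of the free group. -/
def tw (r : FreeGroup Gen) : List Nat := r.toWord.flatMap sw

theorem relW_eq : Cfsg.Spor.Th.extra.map tw = relW := by decide +kernel

/-- The printed generators in order. -/
def baseG : List Gen := [.a, .b, .c, .d, .e, .s, .t, .u]

/-- The sixteen letters given by a homomorphism. -/
def lettersOf {X : Type*} [Group X] (f : FreeGroup Gen →* X) : List X :=
  baseG.flatMap fun x => [f (FreeGroup.of x), (f (FreeGroup.of x))⁻¹]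

/-- The map onto the presented group. -/
def mkTh : FreeGroup Gen →* Cfsg.Spor.Th :=
  PresentedGroup.mk (coxRelators Cfsg.Spor.Th.edges ∪ {r | r ∈ Cfsg.Spor.Th.extra})

theorem mkTh_extra : ∀ r ∈ Cfsg.Spor.Th.extra, mkTh r = 1 := fun _ hr =>
  PresentedGroup.one_of_mem (Set.mem_union_right _ hr)

/-- The letters in the presented group. -/
noncomputable def LG : List Cfsg.Spor.Th := lettersOf mkTh

end CfsgLib.Coset.Th
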