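import Cfsg.Agent.Coset.Th.Frame
import Cfsg.Agent.Coset.Th.Group0

/-!
The presented Thompson group has a frame.
-/

set_option autoImplicit false
set_option maxRecDepth 100000
set_option Elab.async false

namespace CfsgLib.Coset.Th

open Cfsg.Spor.Th (Gen)

theorem len_LG : LG.length = 16 := rfl

theorem pair_LG : ∀ l, l < 16 → fl LG l * fl LG (Nat.xor l 1) = 1 := by
  intro l hl
  interval_cases l
  all_goals first
    | exact mul_inv_cancel _
    | exact inv_mul_cancel _

theorem all_gens : ∀ x : Gen, genIdx x < 8 ∧ baseG.getD (genIdx x) .a = x := by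
  intro x; cases x <;> decide

theorem fl_LG_gen (x : Gen) : fl LG (2 * genIdx x) = mkTh (FreeGroup.of x) ∧
    fl LG (2 * genIdx x + 1) = (mkTh (FreeGroup.of x))⁻¹ := by
  cases x <;> exact ⟨rfl, rfl⟩

theorem mk_eq_ev_tw (r : FreeGroup Gen) : mkTh r = ev LG (tw r) := by
  have key : ∀ v : List (Gen × Bool), mkTh (FreeGroup.mk v) = ev LG (v.flatMap sw) := by
    intro v
    induction v with
    | nil => rw [← FreeGroup.one_eq_mk, map_one]; rfl
    | cons p v ih =>
      have e : FreeGroup.mk (p :: v) = FreeGroup.mk [p] * FreeGroup.mk v := rfl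
      rw [e, map_mul, ih, List.flatMap_cons, ev_append]
      congr 1
      obtain ⟨x, b⟩ := p
      cases b
      · rw [show FreeGroup.mk [(x, false)] = (FreeGroup.of x)⁻¹ from rfl, map_inv,
          ← (fl_LG_gen x).2, show sw (x, false) = [2 * genIdx x + 1] from rfl, ev_cons, ev_nil,
          mul_one]
      · rw [show sw (x, true) = [2 * genIdx x] from rfl, ev_cons, ev_nil, mul_one,
          (fl_LG_gen x).1]
        rfl
  conv_lhs => rw [← FreeGroup.mk_toWord (x := r)]
  exact key r.toWord

theorem relW_LG : ∀ w ∈ relW, ev LG w = 1 := by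
  intro w hw
  rw [← relW_eq] at hw
  obtain ⟨r, hr, rfl⟩ := List.mem_map.mp hw
  rw [← mk_eq_ev_tw, mkTh_extra r hr]

theorem relsA_LG : ∀ w ∈ relsA, ev LG w = 1 := by
  have key : ∀ w ∈ relsA,
      (∃ l < 14, w = [l, Nat.xor l 1]) ∨ w ∈ relW := by decide +kernel
  intro w hw
  rcases key w hw with ⟨l, hl, rfl⟩ | h
  · simpa [ev_cons] using pair_LG l (by omega)
  · exact relW_LG w h

/-- The presented group has a frame. -/
theorem frame_LG : Frame LG where
  len := len_LG
  pair := pair_LG
  relA := relsA_LG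
  relW := relW_LG
  gen := by
    rw [eq_top_iff]
    intro g _
    obtain ⟨r, rfl⟩ := PresentedGroup.mk_surjective _ g
    change mkTh r ∈ _
    rw [mk_eq_ev_tw]
    generalize tw r = w
    induction w with
    | nil => exact one_mem _
    | cons l w ih => rw [ev_cons]; exact mul_mem (mem_closure_fl _) ih

end CfsgLib.Coset.Th
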