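import Cfsg.Agent.Coset.Th.SepRows

/-!
An invariant of the double cosets of the subgroup generated by the first fourteen letters of the
presented Thompson group, separating the eleven representative words.
-/

set_option autoImplicit false
set_option maxRecDepth 100000

namespace CfsgLib.Coset.Th

namespace Sep

open CfsgLib.Coset.Ly (encF)

theorem lane_succ (r j : ℕ) : Th.lane r (j + 1) = Th.lane (r / 1024) j := by
  rw [Th.lane, Th.lane, Nat.div_div_eq_div_mul]
  congr 2
  rw [show (1024 : ℕ) = 2 ^ 10 by norm_num, ← pow_add]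
  congr 1
  ring

theorem repack_eq : ∀ n r : ℕ, repack n r = encF n fun j => Th.lane r j := by
  intro n
  induction n with
  | zero => intro r; rfl
  | succ n ih =>
    intro r
    show (r &&& 1023) + 16777216 * force (r >>> 10) (repack n) = _
    rw [force_eq, ih, Nat.shiftRight_eq_div_pow, show (2 : ℕ) ^ 10 = 1024 by norm_num]
    simp only [encF]
    have h0 : Th.lane r ((0 : Fin (n + 1)) : ℕ) = r &&& 1023 := by
      rw [Th.lane, Fin.val_zero, mul_zero, pow_zero, Nat.div_one]
      exact (Nat.and_two_pow_sub_one_eq_mod r 10).symm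
    rw [h0, show (fun j : Fin (n + 1) => Th.lane r j) ∘ Fin.succ =
      fun j : Fin n => Th.lane (r / 1024) j by
        funext j; simp only [Function.comp_apply, Fin.val_succ, lane_succ]]

/-- The representation, on a sum of 52 and 196 coordinates. -/
noncomputable def rho : Cfsg.Spor.Th →* GL (Fin (52 + 196)) (ZMod 3) := repTh

theorem fl_LG_xor : ∀ l < 16, Nat.xor l 1 < 16 ∧ fl LG (Nat.xor l 1) = (fl LG l)⁻¹ := by
  intro l hl
  interval_cases l <;> exact ⟨by decide, rfl⟩

attribute [local irreducible] repTh matL LG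

theorem blk_of_check {w : List ℕ} (hw : ∀ l ∈ w, l < 16) {rows : List ℕ}
    (hr : mat3 52 rows = true) (h : ∀ i < 52, rowCheck w rows i = true) :
    blk rho (ev LG w) = mat 52 rows := by
  refine Matrix.ext fun i j => ?_
  have h0 := h i i.2
  unfold rowCheck at h0
  have h1 : force (vrun K1 matL (2 ^ (10 * (i : ℕ))) w) (repack 52) = rows.getD i 0 :=
    Nat.eq_of_beq_eq_true h0
  have hi : (2 : ℕ) ^ (10 * (i : ℕ)) = code (Pi.single (Fin.castAdd 196 i) (1 : ZMod 3)) := by
    rw [code_single, Fin.val_castAdd]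
  rw [hi, force_eq, vrun_rep w hw, Matrix.single_one_vecMul, repack_eq, row_code3 hr i] at h1
  set u : Fin 248 → ZMod 3 := ((repTh (ev LG w) : GL (Fin 248) (ZMod 3)) :
    Matrix (Fin 248) (Fin 248) (ZMod 3)) (Fin.castAdd 196 i) with hu
  have h2 : (fun j : Fin 52 => Th.lane (code u) j) = fun j => (u (Fin.castAdd 196 j)).val := by
    funext j
    exact encW_div 248 (fun k => (u k).val) (fun k => val_lt_lane _) (Fin.castAdd 196 j)
  have h1' : encF 52 (fun j : Fin 52 => Th.lane (code u) j) = code3 (mat 52 rows i) := h1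
  rw [h2] at h1'
  exact congrFun (code3_injective (a₁ := fun j => u (Fin.castAdd 196 j)) h1') j

theorem ev_invW : ∀ w : List ℕ, (∀ l ∈ w, l < 16) →
    (∀ l ∈ invW w, l < 16) ∧ ev LG (invW w) = (ev LG w)⁻¹ := by
  intro w
  induction w with
  | nil => intro _; simp [invW]
  | cons l w ih =>
    intro hw
    obtain ⟨a, b⟩ := ih fun x hx => hw x (by simp [hx])
    have hl := fl_LG_xor l (hw l (by simp))
    have e : invW (l :: w) = invW w ++ [Nat.xor l 1] := by simp [invW]
    refine ⟨fun x hx => ?_, ?_⟩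
    · rw [e] at hx
      simp only [List.mem_append, List.mem_singleton] at hx
      rcases hx with hx | rfl
      exacts [a x hx, hl.1]
    · rw [e, ev_append, b, ev_cons LG (Nat.xor l 1), ev_nil, mul_one, hl.2, ev_cons,
        _root_.mul_inv_rev]

theorem rowsA {n : ℕ} (hn : n < 11) :
    ∀ i < 52, rowCheck (nodeW.getD n []) (blkA.getD n []) i = true := by
  interval_cases n
  exacts [rowsA0, rowsA1, rowsA2, rowsA3, rowsA4, rowsA5, rowsA6, rowsA7, rowsA8, rowsA9, rowsA10]

theorem rowsB {n : ℕ} (hn : n < 11) :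
    ∀ i < 52, rowCheck (invW (nodeW.getD n [])) (blkB.getD n []) i = true := by
  interval_cases n
  exacts [rowsB0, rowsB1, rowsB2, rowsB3, rowsB4, rowsB5, rowsB6, rowsB7, rowsB8, rowsB9, rowsB10]

theorem nodeW_getD_lt {n : ℕ} (hn : n < 11) : ∀ l ∈ nodeW.getD n [], l < 16 := by
  have hn' : n < nodeW.length := by rw [len_nodeW]; exact hn
  rw [List.getD_eq_getElem _ _ hn']
  exact nodeW_lt _ (List.getElem_mem hn')

theorem sepInv_node {n : ℕ} (hn : n < 11) :
    sepInv rho (ev LG (nodeW.getD n [])) = rankList.getD n (0, 0) := by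
  have hw := nodeW_getD_lt hn
  obtain ⟨hw', he⟩ := ev_invW _ hw
  rw [sepInv, blkPair, ← he, blk_of_check hw (okA hn) (rowsA hn),
    blk_of_check hw' (okB hn) (rowsB hn), ← ranks hn]
  have h1 : ((1 : ℕ) : ZMod 3) = 1 := Nat.cast_one
  have h2 : ((2 : ℕ) : ZMod 3) = -1 := by decide
  rw [h1, h2, one_smul, neg_one_smul, sub_neg_eq_add]

theorem letter_mem {l : ℕ} (hl : l < 14) : fl LG l ∈ blockSub rho := by
  have hR : ∀ m < 14, Respects ((rho (fl LG m) : GL (Fin (52 + 196)) (ZMod 3)) :
      Matrix (Fin (52 + 196)) (Fin (52 + 196)) (ZMod 3)) := by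
    intro m hm i j hij
    refine block hm i j ?_
    by_cases hi : (i : ℕ) < 52
    · exact Or.inl ⟨hi, Nat.le_of_not_lt (hij.mp hi)⟩
    · exact Or.inr ⟨Nat.le_of_not_lt hi, not_not.mp (fun h => hi (hij.mpr h))⟩
  refine ⟨hR l hl, ?_⟩
  rw [← (fl_LG_xor l (by omega)).2]
  exact hR _ ((by decide +kernel : ∀ m < 14, Nat.xor m 1 < 14) l hl)

end Sep

/-- The invariant of a double coset. -/
noncomputable def thInv (g : Cfsg.Spor.Th) : ℕ × ℕ := sepInv Sep.rho g

/-- The subgroup whose elements do not change the invariant contains the fourteen letters. -/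
theorem closure_le_blockSub :
    Subgroup.closure {g | ∃ l < 14, g = fl LG l} ≤ blockSub Sep.rho := by
  rw [Subgroup.closure_le]
  rintro _ ⟨l, hl, rfl⟩
  exact Sep.letter_mem hl

/-- The invariant is constant on double cosets of the fourteen letters. -/
theorem thInv_mul_left_right {h₁ h₂ : Cfsg.Spor.Th}
    (h1 : h₁ ∈ Subgroup.closure {g | ∃ l < 14, g = fl LG l})
    (h2 : h₂ ∈ Subgroup.closure {g | ∃ l < 14, g = fl LG l}) (g : Cfsg.Spor.Th) :
    thInv (h₁ * g * h₂) = thInv g :=
  sepInv_mul_left_right (closure_le_blockSub h1) (closure_le_blockSub h2) g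

/-- The invariant separates the eleven nodes. -/
theorem thInv_node_injective {m n : ℕ} (hm : m < 11) (hn : n < 11)
    (h : thInv (ev LG (nodeW.getD m [])) = thInv (ev LG (nodeW.getD n []))) : m = n := by
  rw [thInv, thInv, Sep.sepInv_node hm, Sep.sepInv_node hn] at h
  exact Sep.rankList_injective m hm n hn h

end CfsgLib.Coset.Th
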