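import Mathlib.GroupTheory.Sylow
import Mathlib.GroupTheory.Index
import Mathlib.GroupTheory.Subgroup.Centralizer
import Mathlib.GroupTheory.SpecificGroups.Cyclic
import Mathlib.GroupTheory.Perm.Cycle.Type
import Mathlib.GroupTheory.GroupAction.Quotient
import Mathlib.GroupTheory.GroupAction.CardCommute
import Mathlib.Data.ZMod.Basic
import Mathlib.Tactic.NormNum
import Mathlib.Tactic.NormNum.Prime

/-!
An abstract simplicity criterion: a group with a maximal subgroup of index 143127000 and order
634023936, having one suborbit with stabiliser of order divisible by 13, is simple.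
-/

set_option autoImplicit false

namespace CfsgLib.Coset.Th

section

variable {G : Type*} [Group G] [Finite G]

/-- An element of order 13 normalising a subgroup of prime order `p`, where `13 ∤ p - 1`,
centralises it. -/
theorem comm_of_normalizes {p : ℕ} [Fact p.Prime] (hp13 : ¬ 13 ∣ p - 1) {P : Subgroup G}
    (hP : Nat.card P = p) {a : G} (ha : orderOf a = 13)
    (haP : a ∈ Subgroup.normalizer (P : Set G)) {x : G} (hx : x ∈ P) : a * x = x * a := by
  haveI : IsCyclic P := isCyclic_of_prime_card hP
  have hne : Nat.card (MulAut P) = p - 1 := by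
    rw [IsCyclic.card_mulAut, hP, Nat.totient_prime Fact.out]
  set f := P.normalizerMonoidHom ⟨a, haP⟩ with hf
  have h1 : orderOf f ∣ 13 := by
    have := orderOf_map_dvd P.normalizerMonoidHom (⟨a, haP⟩ : Subgroup.normalizer (P : Set G))
    rw [Subgroup.orderOf_mk, ha] at this
    exact this
  have h2 : orderOf f ∣ p - 1 := hne ▸ orderOf_dvd_natCard f
  have h13 : Nat.Prime 13 := by norm_num
  have h3 : orderOf f = 1 := (h13.eq_one_or_self_of_dvd _ h1).resolve_right
    (fun h => hp13 (h ▸ h2))
  have h4 : f = 1 := orderOf_eq_one_iff.mp h3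
  have h5 : (⟨a, haP⟩ : Subgroup.normalizer (P : Set G)) ∈ P.normalizerMonoidHom.ker := h4
  rw [Subgroup.normalizerMonoidHom_ker, Subgroup.mem_subgroupOf,
    Subgroup.mem_centralizer_iff] at h5
  exact (h5 x hx).symm

theorem exists_fixed (H : Subgroup G) (hidx : H.index = 143127000)
    (hH : Nat.card H = 634023936) (N : Subgroup G) [N.Normal] (hN : Nat.card N = 143127000)
    (p : ℕ) [Fact p.Prime] (hpd : p ∣ 143127000) (hpd2 : ¬ p ^ 2 ∣ 143127000)
    (hp13 : ¬ 13 ∣ p - 1) :
    ∃ x ∈ N, orderOf x = p ∧ ∃ h ∈ H, orderOf h = 13 ∧ h * x = x * h := by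
  have hG : Nat.card G = 634023936 * 143127000 := by rw [← hH, ← hidx, H.card_mul_index]
  haveI : Fact (Nat.Prime 13) := ⟨by norm_num⟩
  let P : Sylow p N := default
  set Q : Subgroup G := (P : Subgroup N).map N.subtype with hQ
  have hQp : Nat.card Q = p := by
    have h1 : Nat.card Q = Nat.card (P : Subgroup N) :=
      Subgroup.card_map_of_injective N.subtype_injective
    rw [h1]
    obtain ⟨k, hk⟩ := IsPGroup.iff_card.mp P.isPGroup'
    have hd : p ∣ Nat.card (P : Subgroup N) := P.dvd_card_of_dvd_card (hN ▸ hpd)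
    rcases k with _ | _ | k
    · rw [hk, pow_zero, Nat.dvd_one] at hd
      exact absurd hd (Fact.out : p.Prime).ne_one
    · rw [hk, zero_add, pow_one]
    · exact absurd ((Nat.pow_dvd_pow p (by omega : 2 ≤ k + 1 + 1)).trans
        (hk ▸ hN ▸ Subgroup.card_subgroup_dvd_card (P : Subgroup N))) hpd2
  have hfr : Subgroup.normalizer (Q : Set G) ⊔ N = ⊤ := Sylow.normalizer_sup_eq_top P
  have h13 : 13 ∣ Nat.card (Subgroup.normalizer (Q : Set G)) := by
    refine dvd_trans ?_ (Subgroup.card_map_dvd (H := Subgroup.normalizer (Q : Set G))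
      (QuotientGroup.mk' N))
    have htop : (Subgroup.normalizer (Q : Set G)).map (QuotientGroup.mk' N) = ⊤ := by
      rw [← Subgroup.map_top_of_surjective (QuotientGroup.mk' N) (QuotientGroup.mk'_surjective N),
        ← hfr, Subgroup.map_sup]
      have : N.map (QuotientGroup.mk' N) = ⊥ := by
        rw [Subgroup.map_eq_bot_iff, QuotientGroup.ker_mk']
      rw [this, sup_bot_eq]
    rw [htop, Subgroup.card_top]
    have := N.card_mul_index
    rw [hN, hG, mul_comm (634023936 : ℕ), Subgroup.index] at this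
    have h2 : Nat.card (G ⧸ N) = 634023936 :=
      Nat.eq_of_mul_eq_mul_left (by norm_num) this
    rw [h2]; norm_num
  obtain ⟨⟨a, haQ⟩, ha'⟩ := exists_prime_orderOf_dvd_card' 13 h13
  have ha : orderOf a = 13 := by rwa [Subgroup.orderOf_mk] at ha'
  obtain ⟨⟨b, hb⟩, hb'⟩ := exists_prime_orderOf_dvd_card' (G := H) 13 (by rw [hH]; norm_num)
  have hb13 : orderOf b = 13 := by rwa [Subgroup.orderOf_mk] at hb'
  have hsyl : ∀ c : G, orderOf c = 13 → ∃ S : Sylow 13 G, (S : Subgroup G) = Subgroup.zpowers c := by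
    intro c hc
    obtain ⟨S, hS⟩ := IsPGroup.exists_le_sylow (p := 13)
      (P := Subgroup.zpowers c) (IsPGroup.of_card (n := 1) (by rw [Nat.card_zpowers, hc, pow_one]))
    refine ⟨S, (Subgroup.eq_of_le_of_card_ge hS ?_).symm⟩
    obtain ⟨k, hk⟩ := IsPGroup.iff_card.mp S.isPGroup'
    have hd : 13 ^ k ∣ 634023936 * 143127000 := hG ▸ hk ▸ Subgroup.card_subgroup_dvd_card _
    have hk1 : k ≤ 1 := by
      by_contra hcon
      exact absurd ((Nat.pow_dvd_pow 13 (by omega : 2 ≤ k)).trans hd) (by norm_num)
    rw [hk, Nat.card_zpowers, hc]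
    calc 13 ^ k ≤ 13 ^ 1 := Nat.pow_le_pow_right (by norm_num) hk1
      _ = 13 := pow_one _
  obtain ⟨Sa, hSa⟩ := hsyl a ha
  obtain ⟨Sb, hSb⟩ := hsyl b hb13
  obtain ⟨g, hg⟩ := MulAction.exists_smul_eq G Sa Sb
  have hga : g * a * g⁻¹ ∈ H := by
    have h1 : g * a * g⁻¹ ∈ ((g • Sa : Sylow 13 G) : Subgroup G) :=
      (Subgroup.mem_smul_pointwise_iff_exists (g * a * g⁻¹) (MulAut.conj g) (Sa : Subgroup G)).mpr
        ⟨a, hSa ▸ Subgroup.mem_zpowers a, by simp⟩
    rw [hg, hSb] at h1
    exact Subgroup.zpowers_le.mpr hb h1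
  obtain ⟨⟨x, hxQ⟩, hx'⟩ := exists_prime_orderOf_dvd_card' (G := Q) p (by rw [hQp])
  have hxp : orderOf x = p := by rwa [Subgroup.orderOf_mk] at hx'
  have hxN : x ∈ N := by
    obtain ⟨y, _, rfl⟩ := Subgroup.mem_map.mp hxQ
    exact y.2
  have hc := comm_of_normalizes hp13 hQp ha haQ hxQ
  refine ⟨g * x * g⁻¹, ‹N.Normal›.conj_mem x hxN g, ?_, g * a * g⁻¹, hga, ?_, ?_⟩
  · rw [← MulAut.conj_apply, MulEquiv.orderOf_eq, hxp]
  · rw [← MulAut.conj_apply, MulEquiv.orderOf_eq, ha]
  · simp only [← MulAut.conj_apply, ← map_mul, hc]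

/-- The simplicity criterion. `hperf` excludes a quotient of order three. -/
theorem simple_of_suborbits (H : Subgroup G) (hidx : H.index = 143127000)
    (hH : Nat.card H = 634023936) (hmax : ∀ M : Subgroup G, H ≤ M → M = H ∨ M = ⊤)
    (hnn : ¬ H.Normal)
    (hmin : ∀ K : Subgroup H, K.Normal → K ≠ ⊥ → K.index = 1 ∨ K.index = 3)
    (hperf : ∀ f : G →* Multiplicative (ZMod 3), f = 1)
    (h13 : ∀ x y : G ⧸ H, x ≠ QuotientGroup.mk 1 → y ≠ QuotientGroup.mk 1 →
      13 ∣ Nat.card (MulAction.stabilizer H x) → 13 ∣ Nat.card (MulAction.stabilizer H y) →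
      y ∈ MulAction.orbit H x) :
    IsSimpleGroup G := by
  have hcardG : Nat.card H * H.index = Nat.card G := H.card_mul_index
  haveI : Nontrivial G := by
    rw [← Finite.one_lt_card_iff_nontrivial, ← hcardG, hH, hidx]; norm_num
  haveI : Fact (Nat.Prime 3) := ⟨by norm_num⟩
  refine ⟨fun N hNn => ?_⟩
  by_contra hcon
  push Not at hcon
  obtain ⟨hb, ht⟩ := hcon
  haveI := hNn
  set K : Subgroup H := N.subgroupOf H with hK
  have hKn : K.Normal := hNn.subgroupOf H
  rcases hmax (N ⊔ H) le_sup_right with hle' | htop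
  · -- `N ≤ H`
    have hle : N ≤ H := le_sup_left.trans hle'.le
    have hKb : K ≠ ⊥ := by
      rw [hK, Ne, Subgroup.subgroupOf_eq_bot]
      intro h
      exact hb (disjoint_self.mp (h.mono_right hle))
    rcases hmin K hKn hKb with h1 | h3
    · rw [hK, Subgroup.index_eq_one, Subgroup.subgroupOf_eq_top] at h1
      exact hnn (le_antisymm hle h1 ▸ hNn)
    · -- `N` has index three in `H` and fixes every coset, so every orbit has length at most three
      have hfix : ∀ (x : G ⧸ H), K ≤ MulAction.stabilizer H x := by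
        intro x k hk
        induction x using QuotientGroup.induction_on with
        | H g =>
          rw [MulAction.mem_stabilizer_iff]
          show QuotientGroup.mk ((k : G) * g) = QuotientGroup.mk g
          rw [QuotientGroup.eq]
          have : g⁻¹ * (k : G)⁻¹ * g ∈ N := by
            simpa using hNn.conj_mem _ (N.inv_mem (Subgroup.mem_subgroupOf.mp hk)) g⁻¹
          simpa [mul_assoc] using hle this
      have h13K : 13 ∣ Nat.card K := by
        have h1 : Nat.card K * 3 = 634023936 := by rw [← h3, K.card_mul_index, hH]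
        omega
      have hall : ∀ x : G ⧸ H, 13 ∣ Nat.card (MulAction.stabilizer H x) := fun x =>
        h13K.trans (Subgroup.card_dvd_of_le (hfix x))
      have horb : ∀ x : G ⧸ H, (MulAction.orbit H x).ncard ≤ 3 := by
        intro x
        rw [← MulAction.index_stabilizer, ← h3]
        exact Subgroup.index_antitone (hfix x)
      have hne : ∃ x : G ⧸ H, x ≠ QuotientGroup.mk 1 := by
        by_contra hh
        push Not at hh
        have : Nat.card (G ⧸ H) ≤ 1 := by
          refine (Finite.card_le_one_iff_subsingleton).mpr ⟨fun a b => ?_⟩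
          rw [hh a, hh b]
        rw [← Subgroup.index, hidx] at this
        norm_num at this
      obtain ⟨x, hx⟩ := hne
      have hsub : (Set.univ : Set (G ⧸ H)) ⊆ MulAction.orbit H x ∪ {QuotientGroup.mk 1} := by
        intro y _
        by_cases hy : y = QuotientGroup.mk 1
        · exact Or.inr hy
        · exact Or.inl (h13 x y hx hy (hall x) (hall y))
      have := Set.ncard_le_ncard hsub (Set.toFinite _)
      rw [Set.ncard_univ, ← Subgroup.index, hidx] at this
      have := this.trans (Set.ncard_union_le _ _)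
      rw [Set.ncard_singleton] at this
      have := horb x
      omega
  · have hidxN : N.index = K.index := by
      rw [hK, ← Subgroup.relIndex, ← Subgroup.relIndex_top_right, ← htop, sup_comm,
        Subgroup.relIndex_sup_right]
    by_cases hKb : K = ⊥
    · -- `N` is regular on the cosets
      rw [hKb, Subgroup.index_bot, hH] at hidxN
      have hN : Nat.card N = 143127000 := by
        have h2 := N.card_mul_index
        rw [hidxN, ← hcardG, hH, hidx, mul_comm (634023936 : ℕ)] at h2
        exact Nat.eq_of_mul_eq_mul_right (by norm_num) h2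
      haveI : Fact (Nat.Prime 31) := ⟨by norm_num⟩
      haveI : Fact (Nat.Prime 19) := ⟨by norm_num⟩
      obtain ⟨x, hxN, hx, a, haH, ha, hax⟩ :=
        exists_fixed H hidx hH N hN 31 (by norm_num) (by norm_num) (by norm_num)
      obtain ⟨y, hyN, hy, b, hbH, hb', hby⟩ :=
        exists_fixed H hidx hH N hN 19 (by norm_num) (by norm_num) (by norm_num)
      have hinj : ∀ n ∈ N, n ∈ H → n = 1 := by
        intro n hn hnH
        have : (⟨n, hnH⟩ : H) ∈ K := Subgroup.mem_subgroupOf.mpr hn
        rw [hKb, Subgroup.mem_bot] at this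
        exact congrArg Subtype.val this
      have hnb : ∀ n ∈ N, n ≠ 1 → (QuotientGroup.mk n : G ⧸ H) ≠ QuotientGroup.mk 1 := by
        intro n hn hn1 h
        rw [QuotientGroup.eq] at h
        exact hn1 (hinj n hn (by simpa using h))
      have hst : ∀ (c n : G) (hc : c ∈ H), orderOf c = 13 → c * n = n * c →
          13 ∣ Nat.card (MulAction.stabilizer H (QuotientGroup.mk n : G ⧸ H)) := by
        intro c n hc hc13 hcn
        have hmem : (⟨c, hc⟩ : H) ∈ MulAction.stabilizer H (QuotientGroup.mk n : G ⧸ H) := by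
          rw [MulAction.mem_stabilizer_iff]
          show QuotientGroup.mk (c * n) = QuotientGroup.mk n
          rw [hcn, QuotientGroup.eq]
          simpa using hc
        have := Subgroup.orderOf_dvd_natCard _ hmem
        rwa [Subgroup.orderOf_mk, hc13] at this
      have hx1 : x ≠ 1 := by rintro rfl; simp at hx
      have hy1 : y ≠ 1 := by rintro rfl; simp at hy
      obtain ⟨h, hh⟩ := h13 (QuotientGroup.mk x) (QuotientGroup.mk y) (hnb x hxN hx1)
        (hnb y hyN hy1) (hst a x haH ha hax) (hst b y hbH hb' hby)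
      have h1 : ((h : G) * x)⁻¹ * y ∈ H := QuotientGroup.eq.mp hh
      have h2 : ((h : G) * x * (h : G)⁻¹)⁻¹ * y ∈ H := by
        have := H.mul_mem h.2 h1
        simpa [mul_assoc] using this
      have h3 := hinj _ (N.mul_mem (N.inv_mem (hNn.conj_mem x hxN h)) hyN) h2
      rw [inv_mul_eq_one] at h3
      rw [← h3, ← MulAut.conj_apply, MulEquiv.orderOf_eq, hx] at hy
      norm_num at hy
    · rcases hmin K hKn hKb with h1 | h3
      · exact ht (Subgroup.index_eq_one.mp (hidxN.trans h1))
      · have hq : Nat.card (G ⧸ N) = 3 := hidxN.trans h3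
        haveI : IsCyclic (G ⧸ N) := isCyclic_of_prime_card hq
        have e : G ⧸ N ≃* Multiplicative (ZMod 3) := mulEquivOfPrimeCardEq hq (by simp)
        have hf := hperf (e.toMonoidHom.comp (QuotientGroup.mk' N))
        refine ht (eq_top_iff.mpr fun g _ => ?_)
        have := DFunLike.congr_fun hf g
        simpa using this

end

end CfsgLib.Coset.Th
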