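import Cfsg.Agent.Coset.Th.Count
import Cfsg.Agent.Coset.Th.Group
import Cfsg.Agent.Coset.Th.Sep
import Cfsg.Agent.Coset.Th.SimpleCrit
import Cfsg.Prelude.Def_Sporadic

/-!
The counting in the presented Thompson group: order, simplicity and the index of the subgroup
generated by the images of seven of the generators.
-/

set_option autoImplicit false
set_option maxRecDepth 100000
set_option Elab.async false

namespace CfsgLib.Coset.Th

open Cfsg.Spor (Th)

/-- The nodes lie in different double cosets of the subgroup. -/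
theorem sep_LG : ∀ m < 11, ∀ n < 11, ∀ h ∈ frame_LG.H, ∀ k ∈ frame_LG.H,
    ev LG (nodeW.getD m []) = h * ev LG (nodeW.getD n []) * k → m = n := by
  have hev : ∀ w : List Nat, (∀ l ∈ w, l < 14) →
      ev LG w ∈ Subgroup.closure {g | ∃ l < 14, g = fl LG l} := by
    intro w
    induction w with
    | nil => intro _; exact one_mem _
    | cons l w ih =>
      intro h
      rw [ev_cons]
      exact mul_mem (Subgroup.subset_closure ⟨l, h l (by simp), rfl⟩)
        (ih fun x hx => h x (by simp [hx]))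
  have hH : ∀ g ∈ frame_LG.H, g ∈ Subgroup.closure {g | ∃ l < 14, g = fl LG l} := by
    rintro _ ⟨a, rfl⟩
    obtain ⟨w, hw, rfl⟩ := exists_word_A a
    rw [frame_LG.Ψ_ev w hw]
    exact hev w hw
  intro m hm n hn h hh k hk he
  exact thInv_node_injective hm hn (by rw [he]; exact thInv_mul_left_right (hH h hh) (hH k hk) _)

variable {τ : A →* Equiv.Perm (Fin 17199)} {lab cnt : Nat → Nat → Nat}
  (D : frame_LG.EdgeData τ lab cnt)
include D

theorem finite_Th : Finite Th := D.finite

theorem card_Th : Nat.card Th = 90745943887872000 := D.card_group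

theorem simple_Th : IsSimpleGroup Th := by
  haveI := D.finite
  exact simple_of_suborbits frame_LG.H D.index_H D.card_H (fun _ => D.maximal_H) D.not_normal_H
    D.normal_H_index frame_LG.hom_three_trivial D.thirteen_orbit

theorem isTh : Cfsg.IsTh Th := ⟨simple_Th D, card_Th D⟩

omit D in
theorem map_eq_H : (Subgroup.closure ({Cfsg.Spor.Th.a, Cfsg.Spor.Th.b, Cfsg.Spor.Th.c,
    Cfsg.Spor.Th.d, Cfsg.Spor.Th.e, Cfsg.Spor.Th.s, Cfsg.Spor.Th.t} :
      Set (FreeGroup Cfsg.Spor.Th.Gen))).map (PresentedGroup.mk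
      (Cfsg.Spor.coxRelators Cfsg.Spor.Th.edges ∪ {r | r ∈ Cfsg.Spor.Th.extra})) =
    frame_LG.H := by
  rw [MonoidHom.map_closure]
  set S := Subgroup.closure (mkTh '' ({Cfsg.Spor.Th.a, Cfsg.Spor.Th.b, Cfsg.Spor.Th.c,
    Cfsg.Spor.Th.d, Cfsg.Spor.Th.e, Cfsg.Spor.Th.s, Cfsg.Spor.Th.t} :
      Set (FreeGroup Cfsg.Spor.Th.Gen))) with hS
  show S = _
  have hmem : ∀ (l : Nat) (x : FreeGroup Cfsg.Spor.Th.Gen), mkTh x = fl LG l → l < 14 →
      mkTh x ∈ frame_LG.H := by
    intro l x hx hl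
    rw [hx]
    have := frame_LG.mem_H (w := [l]) (by simpa using hl)
    simpa using this
  refine le_antisymm ((Subgroup.closure_le _).mpr ?_) ?_
  · rintro _ ⟨x, hx, rfl⟩
    simp only [Set.mem_insert_iff, Set.mem_singleton_iff] at hx
    rcases hx with rfl | rfl | rfl | rfl | rfl | rfl | rfl
    exacts [hmem 0 _ rfl (by norm_num), hmem 2 _ rfl (by norm_num), hmem 4 _ rfl (by norm_num),
      hmem 6 _ rfl (by norm_num), hmem 8 _ rfl (by norm_num), hmem 10 _ rfl (by norm_num),
      hmem 12 _ rfl (by norm_num)]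
  · rintro _ ⟨a, rfl⟩
    obtain ⟨w, hw, rfl⟩ := exists_word_A a
    rw [frame_LG.Ψ_ev w hw]
    have hgen : ∀ l < 7, fl LG (2 * l) ∈ S := by
      intro l hl
      interval_cases l
      exacts [Subgroup.subset_closure ⟨Cfsg.Spor.Th.a, by simp, rfl⟩,
        Subgroup.subset_closure ⟨Cfsg.Spor.Th.b, by simp, rfl⟩,
        Subgroup.subset_closure ⟨Cfsg.Spor.Th.c, by simp, rfl⟩,
        Subgroup.subset_closure ⟨Cfsg.Spor.Th.d, by simp, rfl⟩,
        Subgroup.subset_closure ⟨Cfsg.Spor.Th.e, by simp, rfl⟩,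
        Subgroup.subset_closure ⟨Cfsg.Spor.Th.s, by simp, rfl⟩,
        Subgroup.subset_closure ⟨Cfsg.Spor.Th.t, by simp, rfl⟩]
    have key : ∀ l < 14, fl LG l ∈ S := by
      intro l hl
      rcases Nat.even_or_odd' l with ⟨k, rfl | rfl⟩
      · exact hgen k (by omega)
      · rw [show 2 * k + 1 = Nat.xor (2 * k) 1 from
          ((by decide +kernel : ∀ k < 8, 2 * k + 1 = Nat.xor (2 * k) 1) k (by omega)),
          frame_LG.fl_xor]
        exact inv_mem (hgen k (by omega))
    refine (show ∀ v : List Nat, (∀ l ∈ v, l < 14) → ev LG v ∈ _ from fun v => ?_) w hw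
    induction v with
    | nil => intro _; exact one_mem _
    | cons l v ih =>
      intro h
      rw [ev_cons]
      exact mul_mem (key l (h l (by simp))) (ih fun x hx => h x (by simp [hx]))

theorem index_map : ((Subgroup.closure ({Cfsg.Spor.Th.a, Cfsg.Spor.Th.b, Cfsg.Spor.Th.c,
    Cfsg.Spor.Th.d, Cfsg.Spor.Th.e, Cfsg.Spor.Th.s, Cfsg.Spor.Th.t} :
      Set (FreeGroup Cfsg.Spor.Th.Gen))).map (PresentedGroup.mk
      (Cfsg.Spor.coxRelators Cfsg.Spor.Th.edges ∪ {r | r ∈ Cfsg.Spor.Th.extra}))).index =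
    143127000 := by
  rw [map_eq_H]; exact D.index_H

end CfsgLib.Coset.Th
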