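import Cfsg.Agent.Coset.Th.CentMain
import Cfsg.Agent.Coset.Th.CentGen
import Cfsg.Agent.Coset.Th.CountTh

/-!
The centralizer of an involution in the presented Thompson group, from the edge data of the
double cosets.
-/

set_option autoImplicit false
set_option maxRecDepth 100000
set_option Elab.async false

namespace CfsgLib.Coset.Th.Cent

open Cfsg.Spor (Th)

/-- The two maps from the model agree. -/
theorem frame_Ψ : frame_LG.Ψ = ΨT := by
  refine MonoidHom.ext fun a => ?_
  obtain ⟨w, hw, rfl⟩ := exists_word_A a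
  rw [frame_LG.Ψ_ev w hw, ΨT_ev w hw]

theorem stabN_eq (n : Nat) : frame_LG.stabN n = stT n := by
  ext a
  rw [frame_LG.mem_stabN, mem_stT, Frame.H, frame_Ψ]

variable {τ : A →* Equiv.Perm (Fin 17199)} {lab cnt : Nat → Nat → Nat}
  (D : frame_LG.EdgeData τ lab cnt)
include D

/-- The representation is faithful. -/
theorem repTh_injective : Function.Injective repTh := by
  haveI := simple_Th D
  rw [← MonoidHom.ker_eq_bot_iff]
  refine (IsSimpleGroup.eq_bot_or_eq_top_of_normal repTh.ker inferInstance).resolve_right fun h => ?_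
  refine rep_moves (w := x0W ++ [4] ++ invW x0W ++ [4]) (n := 1) (by decide +kernel)
    (by decide +kernel) (by norm_num) ?_
  have hab : ∀ g : Th, repTh g = 1 := fun g =>
    MonoidHom.mem_ker.mp (h ▸ Subgroup.mem_top g)
  by_contra hne
  have hv := vrun_rep (x0W ++ [4] ++ invW x0W ++ [4]) (by decide +kernel)
    (Pi.single (⟨1, by norm_num⟩ : Fin 248) 1)
  rw [hab, Units.val_one, Matrix.vecMul_one, code_single] at hv
  have hm : Nat.beq (vrun K1 matL (2 ^ (10 * 1)) (x0W ++ [4] ++ invW x0W ++ [4]))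
      (2 ^ (10 * 1)) = false := by decide +kernel
  rw [show vrun K1 matL (2 ^ (10 * 1)) (x0W ++ [4] ++ invW x0W ++ [4]) = _ from hv, Nat.beq_refl]
    at hm
  exact Bool.noConfusion hm

theorem node_cover (g : Th) :
    ∃ n < 11, ∃ α, g * (ev LG (nodeW.getD n []) * ΨT α)⁻¹ ∈ ΨT.range := by
  obtain ⟨n, α, hα⟩ := D.orbN_cover (QuotientGroup.mk g⁻¹)
  change frame_LG.actN α (frame_LG.ptN n) = _ at hα
  rw [Frame.ptN, Frame.actN_mk, QuotientGroup.eq, Frame.H, frame_Ψ, mul_inv_rev, inv_inv] at hα
  refine ⟨n, n.2, α⁻¹, ?_⟩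
  rw [← inv_mem_iff]
  convert hα using 1
  rw [map_inv]
  group

/-- The centralizer of the involution has the printed structure. -/
theorem structure_of_edges :
    orderOf zT = 2 ∧ ∃ (R : Subgroup (Subgroup.centralizer ({zT} : Set Th))) (_ : R.Normal),
      Nat.card R = 2 ^ 9 ∧ Cfsg.IsExtraspecial 2 R ∧
        Nonempty ((Subgroup.centralizer ({zT} : Set Th)) ⧸ R ≃* alternatingGroup (Fin 9)) := by
  haveI : Finite Th := finite_Th D
  refine structure_cent (repTh_injective D) (node_cover D) (gen_mem_stT (repTh_injective D))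
    fun n hn => ?_
  rw [← stabN_eq, D.index_stabN hn]
  rfl

/-- The statement of the involution centralizer for an abstract group of this type. -/
theorem exists_thompson_centralizer :
    ∃ (G : Type) (_ : Group G) (_ : Finite G), Cfsg.IsTh G ∧ ∃ z : G, orderOf z = 2 ∧
      ∃ (Q : Subgroup (Subgroup.centralizer ({z} : Set G))) (_ : Q.Normal),
        Nat.card Q = 2 ^ 9 ∧ Cfsg.IsExtraspecial 2 Q ∧
          Nonempty ((Subgroup.centralizer ({z} : Set G)) ⧸ Q ≃* alternatingGroup (Fin 9)) :=
  ⟨Th, inferInstance, finite_Th D, isTh D, zT, structure_of_edges D⟩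

end CfsgLib.Coset.Th.Cent
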