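import Cfsg.Agent.Coset.Prim

/-! Certificate data for the subgroup on fourteen letters of the Thompson presentation. -/

set_option autoImplicit false
set_option maxRecDepth 100000
set_option linter.unusedVariables false

namespace CfsgLib.Coset.Th

/-- Generators of a level. -/
def CA0G : List (List Nat) := [[0], [2], [4], [6], [8], [10], [12]]
noncomputable def CA0P_0 (i : Nat) : Nat := (Bool.rec (motive := fun _ => Nat) (Bool.rec (motive := fun _ => Nat) (Bool.rec (motive := fun _ => Nat) (Bool.rec (motive := fun _ => Nat) (Bool.rec (motive := fun _ => Nat) (0) (Bool.rec (motive := fun _ => Nat) (0x1000000000001) (0x1000002) (Nat.ble 2 i)) (Nat.ble 1 i)) (Bool.rec (motive := fun _ => Nat) (0x2000001000003) (Bool.rec (motive := fun _ => Nat) (0x2000002000004) (0x3000003000005) (Nat.ble 5 i)) (Nat.ble 4 i)) (Nat.ble 3 i)) (Bool.rec (motive := fun _ => Nat) (Bool.rec (motive := fun _ => Nat) (0x1000004000006) (Bool.rec (motive := fun _ => Nat) (0x3000004000007) (0x2000005000008) (Nat.ble 8 i)) (Nat.ble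 7 i)) (Bool.rec (motive := fun _ => Nat) (0x4000005000009) (Bool.rec (motive := fun _ => Nat) (0x300000600000a) (0x200000700000b) (Nat.ble 11 i)) (Nat.ble 10 i)) (Nat.ble 9 i)) (Nat.ble 6 i)) (Bool.rec (motive := fun _ => Nat) (Bool.rec (motive := fun _ => Nat) (Bool.rec (motive := fun _ => Nat) (0x400000700000c) (Bool.rec (motive := fun _ => Nat) (0x100000800000d) (0x400000800000e) (Nat.ble 14 i)) (Nat.ble 13 i)) (Bool.rec (motive := fun _ => Nat) (0x500000900000f) (Bool.rec (motive := fun _ => Nat) (0x200000a000011) (0x400000a000012) (Nat.ble 17 i)) (Nat.ble 16 i)) (Nat.ble 15 i)) (Bool.rec (motive := fun _ => Nat) (Bool.rec (motive := fun _ => Nat) (0x100000b000013) (Bool.rec (motive := fun _ => Nat) (0x400000b000014) (0x500000c000015) (Nat.ble 20 i)) (Nat.ble 19 i)) (Bool.rec (motive := fun _ => Nat) (Bool.rec (motive := fun _ => Nat) (0xd000017) (0x400000d000018) (Nat.ble 22 i)) (Bool.rec (motive := fun _ => Nat) (0x300000e000019) (0x500000e00001a) (Nat.ble 24 i)) (Nat.ble 23 i)) (Nat.ble 21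 i)) (Nat.ble 18 i)) (Nat.ble 12 i)) (Bool.rec (motive := fun _ => Nat) (Bool.rec (motive := fun _ => Nat) (Bool.rec (motive := fun _ => Nat) (Bool.rec (motive := fun _ => Nat) (0x300000f000010) (Bool.rec (motive := fun _ => Nat) (0x400000f00001c) (0x500000f00001d) (Nat.ble 27 i)) (Nat.ble 26 i)) (Bool.rec (motive := fun _ => Nat) (0x1000010000020) (Bool.rec (motive := fun _ => Nat) (0x3000010000021) (0x4000010000022) (Nat.ble 30 i)) (Nat.ble 29 i)) (Nat.ble 28 i)) (Bool.rec (motive := fun _ => Nat) (Bool.rec (motive := fun _ => Nat) (0x5000011000023) (Bool.rec (motive := fun _ => Nat) (0x12000025) (0x4000012000026) (Nat.ble 33 i)) (Nat.ble 32 i)) (Bool.rec (motive := fun _ => Nat) (Bool.rec (motive := fun _ => Nat) (0x3000013000027) (0x5000013000028) (Nat.ble 35 i)) (Bool.rec (motive := fun _ => Nat) (0x3000014000016) (0x400001400002a) (Nat.ble 37 i)) (Nat.ble 36 i)) (Nat.ble 34 i)) (Nat.ble 31 i)) (Bool.rec (motive := fun _ => Nat) (Bool.rec (motive := fun _ => Nat) (Bool.rec (motive := fun _ =>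 Nat) (0x500001400002b) (Bool.rec (motive := fun _ => Nat) (0x400001500002e) (0x300001600002f) (Nat.ble 40 i)) (Nat.ble 39 i)) (Bool.rec (motive := fun _ => Nat) (0x5000016000030) (Bool.rec (motive := fun _ => Nat) (0x2000017000032) (0x5000017000033) (Nat.ble 43 i)) (Nat.ble 42 i)) (Nat.ble 41 i)) (Bool.rec (motive := fun _ => Nat) (Bool.rec (motive := fun _ => Nat) (0x3000018000034) (Bool.rec (motive := fun _ => Nat) (0x4000018000035) (0x5000018000036) (Nat.ble 46 i)) (Nat.ble 45 i)) (Bool.rec (motive := fun _ => Nat) (Bool.rec (motive := fun _ => Nat) (0x200001900001b) (0x600001900001f) (Nat.ble 48 i)) (Bool.rec (motive := fun _ => Nat) (0x300001a00001e) (0x1c000039) (Nat.ble 50 i)) (Nat.ble 49 i)) (Nat.ble 47 i)) (Nat.ble 44 i)) (Nat.ble 38 i)) (Nat.ble 25 i))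
noncomputable def CA0P_1 (i : Nat) : Nat := (Bool.rec (motive := fun _ => Nat) (Bool.rec (motive := fun _ => Nat) (Bool.rec (motive := fun _ => Nat) (Bool.rec (motive := fun _ => Nat) (Bool.rec (motive := fun _ => Nat) (0x300001c00003a) (Bool.rec (motive := fun _ => Nat) (0x400001c00003b) (0x500001e00003c) (Nat.ble 53 i)) (Nat.ble 52 i)) (Bool.rec (motive := fun _ => Nat) (0x300001f000024) (Bool.rec (motive := fun _ => Nat) (0x400001f00003e) (0x500001f00003f) (Nat.ble 56 i)) (Nat.ble 55 i)) (Nat.ble 54 i)) (Bool.rec (motive := fun _ => Nat) (Bool.rec (motive := fun _ => Nat) (0x4000020000042) (Bool.rec (motive := fun _ => Nat) (0x3000021000043) (0x5000021000044) (Nat.ble 59 i)) (Nat.ble 58 i)) (Bool.rec (motive := fun _ => Nat) (0x2000022000046) (Bool.rec (motive := fun _ => Nat) (0x5000022000047) (0x3000023000048) (Nat.ble 62 i)) (Nat.ble 61 i)) (Nat.ble 60 i)) (Nat.ble 57 i)) (Bool.rec (motive := fun _ => Nat) (Bool.rec (motive := fun _ => Nat) (Bool.rec (motive := fun _ => Nat) (0x4000023000049)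 (Bool.rec (motive := fun _ => Nat) (0x500002300004a) (0x2000024000029) (Nat.ble 65 i)) (Nat.ble 64 i)) (Bool.rec (motive := fun _ => Nat) (0x600002400002d) (Bool.rec (motive := fun _ => Nat) (0x300002500002c) (0x300002700004d) (Nat.ble 68 i)) (Nat.ble 67 i)) (Nat.ble 66 i)) (Bool.rec (motive := fun _ => Nat) (Bool.rec (motive := fun _ => Nat) (0x500002700004e) (Bool.rec (motive := fun _ => Nat) (0x2000028000050) (0x5000028000051) (Nat.ble 71 i)) (Nat.ble 70 i)) (Bool.rec (motive := fun _ => Nat) (Bool.rec (motive := fun _ => Nat) (0x3000029000052) (0x4000029000053) (Nat.ble 73 i)) (Bool.rec (motive := fun _ => Nat) (0x5000029000054) (0x100002a000057) (Nat.ble 75 i)) (Nat.ble 74 i)) (Nat.ble 72 i)) (Nat.ble 69 i)) (Nat.ble 63 i)) (Bool.rec (motive := fun _ => Nat) (Bool.rec (motive := fun _ => Nat) (Bool.rec (motive := fun _ => Nat) (Bool.rec (motive := fun _ => Nat) (0x500002a000058) (Bool.rec (motive := fun _ => Nat) (0x400002b00005a) (0x500002b00005b) (Nat.ble 78 i)) (Nat.ble 77 i)) (Bool.rec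 (motive := fun _ => Nat) (0x200002c000059) (Bool.rec (motive := fun _ => Nat) (0x400002c00005d) (0x600002c00005e) (Nat.ble 81 i)) (Nat.ble 80 i)) (Nat.ble 79 i)) (Bool.rec (motive := fun _ => Nat) (Bool.rec (motive := fun _ => Nat) (0x300002d00005c) (Bool.rec (motive := fun _ => Nat) (0x500002d000037) (0x100002f000031) (Nat.ble 84 i)) (Nat.ble 83 i)) (Bool.rec (motive := fun _ => Nat) (Bool.rec (motive := fun _ => Nat) (0x600002f000038) (0x3000032000060) (Nat.ble 86 i)) (Bool.rec (motive := fun _ => Nat) (0x4000032000061) (0x5000034000062) (Nat.ble 88 i)) (Nat.ble 87 i)) (Nat.ble 85 i)) (Nat.ble 82 i)) (Bool.rec (motive := fun _ => Nat) (Bool.rec (motive := fun _ => Nat) (Bool.rec (motive := fun _ => Nat) (0x300003500003d) (Bool.rec (motive := fun _ => Nat) (0x4000035000064) (0x5000035000065) (Nat.ble 91 i)) (Nat.ble 90 i)) (Bool.rec (motive := fun _ => Nat) (0x6000036000041) (Bool.rec (motive := fun _ => Nat) (0x3000037000040) (0x3000039000068) (Nat.ble 94 i)) (Nat.ble 93 i)) (Nat.ble 92 i)) (Bool.rec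 (motive := fun _ => Nat) (Bool.rec (motive := fun _ => Nat) (0x5000039000069) (Bool.rec (motive := fun _ => Nat) (0x200003a00006b) (0x500003a00006c) (Nat.ble 97 i)) (Nat.ble 96 i)) (Bool.rec (motive := fun _ => Nat) (Bool.rec (motive := fun _ => Nat) (0x300003b00006d) (0x400003b00006e) (Nat.ble 99 i)) (Bool.rec (motive := fun _ => Nat) (0x500003b00006f) (0x100003c000072) (Nat.ble 101 i)) (Nat.ble 100 i)) (Nat.ble 98 i)) (Nat.ble 95 i)) (Nat.ble 89 i)) (Nat.ble 76 i))
noncomputable def CA0P_2 (i : Nat) : Nat := (Bool.rec (motive := fun _ => Nat) (Bool.rec (motive := fun _ => Nat) (Bool.rec (motive := fun _ => Nat) (Bool.rec (motive := fun _ => Nat) (Bool.rec (motive := fun _ => Nat) (0x500003c000073) (Bool.rec (motive := fun _ => Nat) (0x400003d000075) (0x500003d000076) (Nat.ble 104 i)) (Nat.ble 103 i)) (Bool.rec (motive := fun _ => Nat) (0x200003e000074) (Bool.rec (motive := fun _ => Nat) (0x400003e000078) (0x600003e000079) (Nat.ble 107 i)) (Nat.ble 106 i)) (Nat.ble 105 i)) (Bool.rec (motive :=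 fun _ => Nat) (Bool.rec (motive := fun _ => Nat) (0x300003f000077) (Bool.rec (motive := fun _ => Nat) (0x500003f00004b) (0x1000041000045) (Nat.ble 110 i)) (Nat.ble 109 i)) (Bool.rec (motive := fun _ => Nat) (0x600004100004c) (Bool.rec (motive := fun _ => Nat) (0x200004400007b) (0x500004400007c) (Nat.ble 113 i)) (Nat.ble 112 i)) (Nat.ble 111 i)) (Nat.ble 108 i)) (Bool.rec (motive := fun _ => Nat) (Bool.rec (motive := fun _ => Nat) (Bool.rec (motive := fun _ => Nat) (0x300004500007d) (Bool.rec (motive := fun _ => Nat) (0x400004500007e) (0x500004500007f) (Nat.ble 116 i)) (Nat.ble 115 i)) (Bool.rec (motive := fun _ => Nat) (0x1000046000082) (Bool.rec (motive := fun _ => Nat) (0x3000046000083) (0x5000046000084) (Nat.ble 119 i)) (Nat.ble 118 i)) (Nat.ble 117 i)) (Bool.rec (motive := fun _ => Nat) (Bool.rec (motive := fun _ => Nat) (0x4000047000086) (Bool.rec (motive := fun _ => Nat) (0x5000047000087) (0x2000048000085) (Nat.ble 122 i)) (Nat.ble 121 i)) (Bool.rec (motive := fun _ => Nat) (Bool.rec (motive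 := fun _ => Nat) (0x4000048000089) (0x600004800008a) (Nat.ble 124 i)) (Bool.rec (motive := fun _ => Nat) (0x3000049000088) (0x5000049000055) (Nat.ble 126 i)) (Nat.ble 125 i)) (Nat.ble 123 i)) (Nat.ble 120 i)) (Nat.ble 114 i)) (Bool.rec (motive := fun _ => Nat) (Bool.rec (motive := fun _ => Nat) (Bool.rec (motive := fun _ => Nat) (Bool.rec (motive := fun _ => Nat) (0x4b00008c) (Bool.rec (motive := fun _ => Nat) (0x500004b00008d) (0x400004c00008f) (Nat.ble 129 i)) (Nat.ble 128 i)) (Bool.rec (motive := fun _ => Nat) (0x500004c000090) (Bool.rec (motive := fun _ => Nat) (0x300004d000095) (0x500004d000096) (Nat.ble 132 i)) (Nat.ble 131 i)) (Nat.ble 130 i)) (Bool.rec (motive := fun _ => Nat) (Bool.rec (motive := fun _ => Nat) (0x600004d000098) (Bool.rec (motive := fun _ => Nat) (0x500004e00005f) (0x100004f00008e) (Nat.ble 135 i)) (Nat.ble 134 i)) (Bool.rec (motive := fun _ => Nat) (Bool.rec (motive := fun _ => Nat) (0x400004f000092) (0x600004f000093) (Nat.ble 137 i)) (Bool.rec (motive := fun _ => Nat)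 (0x3000050000099) (0x500005000009a) (Nat.ble 139 i)) (Nat.ble 138 i)) (Nat.ble 136 i)) (Nat.ble 133 i)) (Bool.rec (motive := fun _ => Nat) (Bool.rec (motive := fun _ => Nat) (Bool.rec (motive := fun _ => Nat) (0x2000052000091) (Bool.rec (motive := fun _ => Nat) (0x5400004f) (0x6000054000056) (Nat.ble 142 i)) (Nat.ble 141 i)) (Bool.rec (motive := fun _ => Nat) (0x500005700009d) (Bool.rec (motive := fun _ => Nat) (0x3000058000063) (0x400005800009f) (Nat.ble 145 i)) (Nat.ble 144 i)) (Nat.ble 143 i)) (Bool.rec (motive := fun _ => Nat) (Bool.rec (motive := fun _ => Nat) (0x50000580000a0) (Bool.rec (motive := fun _ => Nat) (0x6000059000067) (0x300005a000066) (Nat.ble 148 i)) (Nat.ble 147 i)) (Bool.rec (motive := fun _ => Nat) (Bool.rec (motive := fun _ => Nat) (0x200005e0000a3) (0x500005e0000a4) (Nat.ble 150 i)) (Bool.rec (motive := fun _ => Nat) (0x300005f0000a5) (0x400005f0000a6) (Nat.ble 152 i)) (Nat.ble 151 i)) (Nat.ble 149 i)) (Nat.ble 146 i)) (Nat.ble 140 i)) (Nat.ble 127 i))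
noncomputable def CA0P_3 (i : Nat) : Nat := (Bool.rec (motive := fun _ => Nat) (Bool.rec (motive := fun _ => Nat) (Bool.rec (motive := fun _ => Nat) (Bool.rec (motive := fun _ => Nat) (Bool.rec (motive := fun _ => Nat) (0x500005f0000a7) (Bool.rec (motive := fun _ => Nat) (0x10000600000aa) (0x50000600000ab) (Nat.ble 155 i)) (Nat.ble 154 i)) (Bool.rec (motive := fun _ => Nat) (0x40000610000ad) (Bool.rec (motive := fun _ => Nat) (0x50000610000ae) (0x20000620000ac) (Nat.ble 158 i)) (Nat.ble 157 i)) (Nat.ble 156 i)) (Bool.rec (motive := fun _ => Nat) (Bool.rec (motive := fun _ => Nat) (0x40000620000b0) (Bool.rec (motive := fun _ => Nat) (0x60000620000b1) (0x30000630000af) (Nat.ble 161 i)) (Nat.ble 160 i)) (Bool.rec (motive := fun _ => Nat) (0x5000063000070) (Bool.rec (motive := fun _ => Nat) (0x650000b3) (0x50000650000b4) (Nat.ble 164 i)) (Nat.ble 163 i)) (Nat.ble 162 i)) (Nat.ble 159 i)) (Bool.rec (motive := fun _ => Nat) (Bool.rec (motive := fun _ => Nat) (Bool.rec (motive := fun _ => Nat) (0x40000660000b6)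 (Bool.rec (motive := fun _ => Nat) (0x50000660000b7) (0x30000670000bc) (Nat.ble 167 i)) (Nat.ble 166 i)) (Bool.rec (motive := fun _ => Nat) (0x50000670000bd) (Bool.rec (motive := fun _ => Nat) (0x60000670000bf) (0x500006800007a) (Nat.ble 170 i)) (Nat.ble 169 i)) (Nat.ble 168 i)) (Bool.rec (motive := fun _ => Nat) (Bool.rec (motive := fun _ => Nat) (0x10000690000b5) (Bool.rec (motive := fun _ => Nat) (0x40000690000b9) (0x60000690000ba) (Nat.ble 173 i)) (Nat.ble 172 i)) (Bool.rec (motive := fun _ => Nat) (Bool.rec (motive := fun _ => Nat) (0x300006a0000c0) (0x500006a0000c1) (Nat.ble 175 i)) (Bool.rec (motive := fun _ => Nat) (0x200006c0000b8) (0x6e00006a) (Nat.ble 177 i)) (Nat.ble 176 i)) (Nat.ble 174 i)) (Nat.ble 171 i)) (Nat.ble 165 i)) (Bool.rec (motive := fun _ => Nat) (Bool.rec (motive := fun _ => Nat) (Bool.rec (motive := fun _ => Nat) (Bool.rec (motive := fun _ => Nat) (0x600006e000071) (Bool.rec (motive := fun _ => Nat) (0x10000700000c4) (0x30000700000c5) (Nat.ble 180 i)) (Nat.ble 179 i))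 (Bool.rec (motive := fun _ => Nat) (0x50000700000c6) (Bool.rec (motive := fun _ => Nat) (0x40000710000c8) (0x50000710000c9) (Nat.ble 183 i)) (Nat.ble 182 i)) (Nat.ble 181 i)) (Bool.rec (motive := fun _ => Nat) (Bool.rec (motive := fun _ => Nat) (0x20000720000c7) (Bool.rec (motive := fun _ => Nat) (0x40000720000cb) (0x60000720000cc) (Nat.ble 186 i)) (Nat.ble 185 i)) (Bool.rec (motive := fun _ => Nat) (Bool.rec (motive := fun _ => Nat) (0x30000730000ca) (0x5000073000080) (Nat.ble 188 i)) (Bool.rec (motive := fun _ => Nat) (0x750000ce) (0x30000750000cf) (Nat.ble 190 i)) (Nat.ble 189 i)) (Nat.ble 187 i)) (Nat.ble 184 i)) (Bool.rec (motive := fun _ => Nat) (Bool.rec (motive := fun _ => Nat) (Bool.rec (motive := fun _ => Nat) (0x50000750000d0) (Bool.rec (motive := fun _ => Nat) (0x50000760000d2) (0x30000770000d3) (Nat.ble 193 i)) (Nat.ble 192 i)) (Bool.rec (motive := fun _ => Nat) (0x40000770000d4) (Bool.rec (motive := fun _ => Nat) (0x50000770000d5) (0x30000780000da) (Nat.ble 196 i)) (Nat.ble 195 i))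 (Nat.ble 194 i)) (Bool.rec (motive := fun _ => Nat) (Bool.rec (motive := fun _ => Nat) (0x50000780000db) (Bool.rec (motive := fun _ => Nat) (0x60000780000dd) (0x500007900008b) (Nat.ble 199 i)) (Nat.ble 198 i)) (Bool.rec (motive := fun _ => Nat) (Bool.rec (motive := fun _ => Nat) (0x100007a0000d1) (0x400007a0000d7) (Nat.ble 201 i)) (Bool.rec (motive := fun _ => Nat) (0x600007a0000d8) (0x300007b0000de) (Nat.ble 203 i)) (Nat.ble 202 i)) (Nat.ble 200 i)) (Nat.ble 197 i)) (Nat.ble 191 i)) (Nat.ble 178 i))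
noncomputable def CA0P_4 (i : Nat) : Nat := (Bool.rec (motive := fun _ => Nat) (Bool.rec (motive := fun _ => Nat) (Bool.rec (motive := fun _ => Nat) (Bool.rec (motive := fun _ => Nat) (Bool.rec (motive := fun _ => Nat) (0x500007b0000df) (Bool.rec (motive := fun _ => Nat) (0x200007d0000d6) (0x500007f0000e2) (Nat.ble 206 i)) (Nat.ble 205 i)) (Bool.rec (motive := fun _ => Nat) (0x40000800000e4) (Bool.rec (motive := fun _ => Nat) (0x50000800000e5) (0x30000810000ea) (Nat.ble 209 i)) (Nat.ble 208 i)) (Nat.ble 207 i)) (Bool.rec (motive := fun _ => Nat) (Bool.rec (motive := fun _ => Nat) (0x50000810000eb) (Bool.rec (motive := fun _ => Nat) (0x60000810000ed) (0x5000082000094) (Nat.ble 212 i)) (Nat.ble 211 i)) (Bool.rec (motive := fun _ => Nat) (0x20000830000f2) (Bool.rec (motive := fun _ => Nat) (0x50000830000f4) (0x600008300009c) (Nat.ble 215 i)) (Nat.ble 214 i)) (Nat.ble 213 i)) (Nat.ble 210 i)) (Bool.rec (motive := fun _ => Nat) (Bool.rec (motive := fun _ => Nat) (Bool.rec (motive := fun _ => Nat) (0x30000840000f5)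 (Bool.rec (motive := fun _ => Nat) (0x40000840000f6) (0x50000840000f7) (Nat.ble 218 i)) (Nat.ble 217 i)) (Bool.rec (motive := fun _ => Nat) (0x60000840000f8) (Bool.rec (motive := fun _ => Nat) (0x50000850000c3) (0x870000e3) (Nat.ble 221 i)) (Nat.ble 220 i)) (Nat.ble 219 i)) (Bool.rec (motive := fun _ => Nat) (Bool.rec (motive := fun _ => Nat) (0x40000870000e7) (Bool.rec (motive := fun _ => Nat) (0x60000870000e8) (0x30000880000ef) (Nat.ble 224 i)) (Nat.ble 223 i)) (Bool.rec (motive := fun _ => Nat) (Bool.rec (motive := fun _ => Nat) (0x50000880000f0) (0x200008a0000ee) (Nat.ble 226 i)) (Bool.rec (motive := fun _ => Nat) (0x500008a0000c2) (0x300008b0000fd) (Nat.ble 228 i)) (Nat.ble 227 i)) (Nat.ble 225 i)) (Nat.ble 222 i)) (Nat.ble 216 i)) (Bool.rec (motive := fun _ => Nat) (Bool.rec (motive := fun _ => Nat) (Bool.rec (motive := fun _ => Nat) (Bool.rec (motive := fun _ => Nat) (0x500008b0000fe) (Bool.rec (motive := fun _ => Nat) (0x600008b0000be) (0x100008c0000e6) (Nat.ble 231 i)) (Nat.ble 230 i))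 (Bool.rec (motive := fun _ => Nat) (0x300008c0000bb) (Bool.rec (motive := fun _ => Nat) (0x600008d000081) (0x300008f00009e) (Nat.ble 234 i)) (Nat.ble 233 i)) (Nat.ble 232 i)) (Bool.rec (motive := fun _ => Nat) (Bool.rec (motive := fun _ => Nat) (0x400008f000104) (Bool.rec (motive := fun _ => Nat) (0x500008f000105) (0x60000900000a2) (Nat.ble 237 i)) (Nat.ble 236 i)) (Bool.rec (motive := fun _ => Nat) (Bool.rec (motive := fun _ => Nat) (0x30000910000a1) (0x1000095000108) (Nat.ble 239 i)) (Bool.rec (motive := fun _ => Nat) (0x5000095000109) (0x400009600010b) (Nat.ble 241 i)) (Nat.ble 240 i)) (Nat.ble 238 i)) (Nat.ble 235 i)) (Bool.rec (motive := fun _ => Nat) (Bool.rec (motive := fun _ => Nat) (Bool.rec (motive := fun _ => Nat) (0x500009600010c) (Bool.rec (motive := fun _ => Nat) (0x200009700010a) (0x400009700010e) (Nat.ble 244 i)) (Nat.ble 243 i)) (Bool.rec (motive := fun _ => Nat) (0x600009700010f) (Bool.rec (motive := fun _ => Nat) (0x300009800010d) (0x50000980000a8) (Nat.ble 247 i)) (Nat.ble 246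 i)) (Nat.ble 245 i)) (Bool.rec (motive := fun _ => Nat) (Bool.rec (motive := fun _ => Nat) (0x9a000111) (Bool.rec (motive := fun _ => Nat) (0x500009a000112) (0x400009b000114) (Nat.ble 250 i)) (Nat.ble 249 i)) (Bool.rec (motive := fun _ => Nat) (Bool.rec (motive := fun _ => Nat) (0x500009b000115) (0x300009c00011a) (Nat.ble 252 i)) (Bool.rec (motive := fun _ => Nat) (0x500009c00011b) (0x600009c00011d) (Nat.ble 254 i)) (Nat.ble 253 i)) (Nat.ble 251 i)) (Nat.ble 248 i)) (Nat.ble 242 i)) (Nat.ble 229 i))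
noncomputable def CA0P_5 (i : Nat) : Nat := (Bool.rec (motive := fun _ => Nat) (Bool.rec (motive := fun _ => Nat) (Bool.rec (motive := fun _ => Nat) (Bool.rec (motive := fun _ => Nat) (Bool.rec (motive := fun _ => Nat) (0x500009d0000b2) (Bool.rec (motive := fun _ => Nat) (0x100009e000113) (0x400009e000117) (Nat.ble 257 i)) (Nat.ble 256 i)) (Bool.rec (motive := fun _ => Nat) (0x600009e000118) (Bool.rec (motive := fun _ => Nat) (0x300009f00011e) (0x500009f00011f) (Nat.ble 260 i)) (Nat.ble 259 i)) (Nat.ble 258 i)) (Bool.rec (motive := fun _ => Nat) (Bool.rec (motive := fun _ => Nat) (0x20000a1000116) (Bool.rec (motive := fun _ => Nat) (0x50000a3000122) (0x40000a4000124) (Nat.ble 263 i)) (Nat.ble 262 i)) (Bool.rec (motive := fun _ => Nat) (0x50000a4000125) (Bool.rec (motive := fun _ => Nat) (0x30000a500012a) (0x50000a500012b) (Nat.ble 266 i)) (Nat.ble 265 i)) (Nat.ble 264 i)) (Nat.ble 261 i)) (Bool.rec (motive := fun _ => Nat) (Bool.rec (motive := fun _ => Nat) (Bool.rec (motive := fun _ => Nat) (0x60000a500012d)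 (Bool.rec (motive := fun _ => Nat) (0x20000a7000132) (0x50000a70000fa) (Nat.ble 269 i)) (Nat.ble 268 i)) (Bool.rec (motive := fun _ => Nat) (0x30000a8000134) (Bool.rec (motive := fun _ => Nat) (0x40000a8000135) (0x50000a8000101) (Nat.ble 272 i)) (Nat.ble 271 i)) (Nat.ble 270 i)) (Bool.rec (motive := fun _ => Nat) (Bool.rec (motive := fun _ => Nat) (0x60000a8000103) (Bool.rec (motive := fun _ => Nat) (0xab000123) (0x40000ab000127) (Nat.ble 275 i)) (Nat.ble 274 i)) (Bool.rec (motive := fun _ => Nat) (Bool.rec (motive := fun _ => Nat) (0x60000ab000128) (0x30000ac00012f) (Nat.ble 277 i)) (Bool.rec (motive := fun _ => Nat) (0x50000ac000130) (0x20000ae00012e) (Nat.ble 279 i)) (Nat.ble 278 i)) (Nat.ble 276 i)) (Nat.ble 273 i)) (Nat.ble 267 i)) (Bool.rec (motive := fun _ => Nat) (Bool.rec (motive := fun _ => Nat) (Bool.rec (motive := fun _ => Nat) (Bool.rec (motive := fun _ => Nat) (0x50000ae00009b) (Bool.rec (motive := fun _ => Nat) (0x30000af000137) (0x50000af0000f9) (Nat.ble 282 i)) (Nat.ble 281 i))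 (Bool.rec (motive := fun _ => Nat) (0x60000af000097) (Bool.rec (motive := fun _ => Nat) (0x10000b0000126) (0x60000b10000a9) (Nat.ble 285 i)) (Nat.ble 284 i)) (Nat.ble 283 i)) (Bool.rec (motive := fun _ => Nat) (Bool.rec (motive := fun _ => Nat) (0xb300013a) (Bool.rec (motive := fun _ => Nat) (0x30000b300013b) (0x50000b300013c) (Nat.ble 288 i)) (Nat.ble 287 i)) (Bool.rec (motive := fun _ => Nat) (Bool.rec (motive := fun _ => Nat) (0x50000b400013e) (0x30000b500013f) (Nat.ble 290 i)) (Bool.rec (motive := fun _ => Nat) (0x40000b5000140) (0x50000b5000141) (Nat.ble 292 i)) (Nat.ble 291 i)) (Nat.ble 289 i)) (Nat.ble 286 i)) (Bool.rec (motive := fun _ => Nat) (Bool.rec (motive := fun _ => Nat) (Bool.rec (motive := fun _ => Nat) (0x30000b6000146) (Bool.rec (motive := fun _ => Nat) (0x50000b6000147) (0x60000b6000149) (Nat.ble 295 i)) (Nat.ble 294 i)) (Bool.rec (motive := fun _ => Nat) (0x50000b70000cd) (Bool.rec (motive := fun _ => Nat) (0x10000b800013d) (0x40000b8000143) (Nat.ble 298 i)) (Nat.ble 297 i))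 (Nat.ble 296 i)) (Bool.rec (motive := fun _ => Nat) (Bool.rec (motive := fun _ => Nat) (0x60000b8000144) (Bool.rec (motive := fun _ => Nat) (0x30000b900014a) (0x50000b900014b) (Nat.ble 301 i)) (Nat.ble 300 i)) (Bool.rec (motive := fun _ => Nat) (Bool.rec (motive := fun _ => Nat) (0x20000bb000142) (0x30000bd00014e) (Nat.ble 303 i)) (Bool.rec (motive := fun _ => Nat) (0x50000bd00014f) (0x20000be000151) (Nat.ble 305 i)) (Nat.ble 304 i)) (Nat.ble 302 i)) (Nat.ble 299 i)) (Nat.ble 293 i)) (Nat.ble 280 i))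
noncomputable def CA0P_6 (i : Nat) : Nat := (Bool.rec (motive := fun _ => Nat) (Bool.rec (motive := fun _ => Nat) (Bool.rec (motive := fun _ => Nat) (Bool.rec (motive := fun _ => Nat) (Bool.rec (motive := fun _ => Nat) (0x50000be000152) (Bool.rec (motive := fun _ => Nat) (0x30000bf000153) (0x40000bf000154) (Nat.ble 308 i)) (Nat.ble 307 i)) (Bool.rec (motive := fun _ => Nat) (0x50000bf000155) (Bool.rec (motive := fun _ => Nat) (0x50000c000015a) (0x60000c100015c) (Nat.ble 311 i)) (Nat.ble 310 i)) (Nat.ble 309 i)) (Bool.rec (motive := fun _ => Nat) (Bool.rec (motive := fun _ => Nat) (0x50000c200015e) (Bool.rec (motive := fun _ => Nat) (0x60000c2000160) (0x50000c30000d9) (Nat.ble 314 i)) (Nat.ble 313 i)) (Bool.rec (motive := fun _ => Nat) (0x20000c4000164) (Bool.rec (motive := fun _ => Nat) (0x50000c4000166) (0x60000c40000e1) (Nat.ble 317 i)) (Nat.ble 316 i)) (Nat.ble 315 i)) (Nat.ble 312 i)) (Bool.rec (motive := fun _ => Nat) (Bool.rec (motive := fun _ => Nat) (Bool.rec (motive := fun _ => Nat) (0x30000c5000167)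 (Bool.rec (motive := fun _ => Nat) (0x40000c5000168) (0x50000c5000169) (Nat.ble 320 i)) (Nat.ble 319 i)) (Bool.rec (motive := fun _ => Nat) (0x60000c500016a) (Bool.rec (motive := fun _ => Nat) (0x50000c6000121) (0xc8000150) (Nat.ble 323 i)) (Nat.ble 322 i)) (Nat.ble 321 i)) (Bool.rec (motive := fun _ => Nat) (Bool.rec (motive := fun _ => Nat) (0x40000c8000157) (Bool.rec (motive := fun _ => Nat) (0x60000c8000158) (0x50000c9000162) (Nat.ble 326 i)) (Nat.ble 325 i)) (Bool.rec (motive := fun _ => Nat) (Bool.rec (motive := fun _ => Nat) (0x20000cb000161) (0x50000cb000120) (Nat.ble 328 i)) (Bool.rec (motive := fun _ => Nat) (0x30000cc00016f) (0x50000cc000170) (Nat.ble 330 i)) (Nat.ble 329 i)) (Nat.ble 327 i)) (Nat.ble 324 i)) (Nat.ble 318 i)) (Bool.rec (motive := fun _ => Nat) (Bool.rec (motive := fun _ => Nat) (Bool.rec (motive := fun _ => Nat) (Bool.rec (motive := fun _ => Nat) (0x60000cc00011c) (Bool.rec (motive := fun _ => Nat) (0x10000cd000156) (0x30000cd00015d) (Nat.ble 333 i)) (Nat.ble 332 i))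 (Bool.rec (motive := fun _ => Nat) (0x40000ce000176) (Bool.rec (motive := fun _ => Nat) (0x50000ce000177) (0x30000cf00017c) (Nat.ble 336 i)) (Nat.ble 335 i)) (Nat.ble 334 i)) (Bool.rec (motive := fun _ => Nat) (Bool.rec (motive := fun _ => Nat) (0x50000cf00017d) (Bool.rec (motive := fun _ => Nat) (0x60000cf00017f) (0x50000d00000e9) (Nat.ble 339 i)) (Nat.ble 338 i)) (Bool.rec (motive := fun _ => Nat) (Bool.rec (motive := fun _ => Nat) (0x20000d1000186) (0x50000d1000187) (Nat.ble 341 i)) (Bool.rec (motive := fun _ => Nat) (0x60000d1000188) (0x40000d200018a) (Nat.ble 343 i)) (Nat.ble 342 i)) (Nat.ble 340 i)) (Nat.ble 337 i)) (Bool.rec (motive := fun _ => Nat) (Bool.rec (motive := fun _ => Nat) (Bool.rec (motive := fun _ => Nat) (0x60000d200018b) (Bool.rec (motive := fun _ => Nat) (0x50000d3000133) (0x40000d40000f3) (Nat.ble 346 i)) (Nat.ble 345 i)) (Bool.rec (motive := fun _ => Nat) (0x10000d5000184) (Bool.rec (motive := fun _ => Nat) (0x30000d5000194) (0x50000d500019b) (Nat.ble 349 i)) (Nat.ble 348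 i)) (Nat.ble 347 i)) (Bool.rec (motive := fun _ => Nat) (Bool.rec (motive := fun _ => Nat) (0x40000d6000102) (Bool.rec (motive := fun _ => Nat) (0x60000d6000100) (0x20000d800019c) (Nat.ble 352 i)) (Nat.ble 351 i)) (Bool.rec (motive := fun _ => Nat) (Bool.rec (motive := fun _ => Nat) (0x60000d8000136) (0x60000da000139) (Nat.ble 354 i)) (Bool.rec (motive := fun _ => Nat) (0x50000db000138) (0x40000dd000179) (Nat.ble 356 i)) (Nat.ble 355 i)) (Nat.ble 353 i)) (Nat.ble 350 i)) (Nat.ble 344 i)) (Nat.ble 331 i))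
noncomputable def CA0P_7 (i : Nat) : Nat := (Bool.rec (motive := fun _ => Nat) (Bool.rec (motive := fun _ => Nat) (Bool.rec (motive := fun _ => Nat) (Bool.rec (motive := fun _ => Nat) (Bool.rec (motive := fun _ => Nat) (0x60000dd00017a) (Bool.rec (motive := fun _ => Nat) (0x30000de000181) (0x50000de000182) (Nat.ble 359 i)) (Nat.ble 358 i)) (Bool.rec (motive := fun _ => Nat) (0x20000e0000191) (Bool.rec (motive := fun _ => Nat) (0x50000e0000192) (0x30000e1000193) (Nat.ble 362 i)) (Nat.ble 361 i)) (Nat.ble 360 i)) (Bool.rec (motive := fun _ => Nat) (Bool.rec (motive := fun _ => Nat) (0x50000e1000196) (Bool.rec (motive := fun _ => Nat) (0x60000e100012c) (0x10000e2000180) (Nat.ble 365 i)) (Nat.ble 364 i)) (Bool.rec (motive := fun _ => Nat) (Bool.rec (motive := fun _ => Nat) (0x30000e2000189) (0x50000e2000131) (Nat.ble 367 i)) (Bool.rec (motive := fun _ => Nat) (0x20000e4000190) (0x40000e50000fc) (Nat.ble 369 i)) (Nat.ble 368 i)) (Nat.ble 366 i)) (Nat.ble 363 i)) (Bool.rec (motive := fun _ => Nat) (Bool.rec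 (motive := fun _ => Nat) (Bool.rec (motive := fun _ => Nat) (0x60000e60000ff) (Bool.rec (motive := fun _ => Nat) (0xe7000178) (0x30000e7000129) (Nat.ble 372 i)) (Nat.ble 371 i)) (Bool.rec (motive := fun _ => Nat) (0x60000ea000107) (Bool.rec (motive := fun _ => Nat) (0x30000eb000106) (0xef00019e) (Nat.ble 375 i)) (Nat.ble 374 i)) (Nat.ble 373 i)) (Bool.rec (motive := fun _ => Nat) (Bool.rec (motive := fun _ => Nat) (0x50000ef00019f) (Bool.rec (motive := fun _ => Nat) (0x40000f00001a1) (0x50000f00001a2) (Nat.ble 378 i)) (Nat.ble 377 i)) (Bool.rec (motive := fun _ => Nat) (Bool.rec (motive := fun _ => Nat) (0x30000f10001a7) (0x50000f10001a8) (Nat.ble 380 i)) (Bool.rec (motive := fun _ => Nat) (0x60000f10001aa) (0x50000f2000110) (Nat.ble 382 i)) (Nat.ble 381 i)) (Nat.ble 379 i)) (Nat.ble 376 i)) (Nat.ble 370 i)) (Bool.rec (motive := fun _ => Nat) (Bool.rec (motive := fun _ => Nat) (Bool.rec (motive := fun _ => Nat) (Bool.rec (motive := fun _ => Nat) (0x10000f30001a0) (Bool.rec (motive := fun _ => Nat)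 (0x40000f30001a4) (0x60000f30001a5) (Nat.ble 385 i)) (Nat.ble 384 i)) (Bool.rec (motive := fun _ => Nat) (0x30000f40001ab) (Bool.rec (motive := fun _ => Nat) (0x50000f40001ac) (0x20000f60001a3) (Nat.ble 388 i)) (Nat.ble 387 i)) (Nat.ble 386 i)) (Bool.rec (motive := fun _ => Nat) (Bool.rec (motive := fun _ => Nat) (0x50000f80001af) (Bool.rec (motive := fun _ => Nat) (0x40000f90001b1) (0x50000f90001b2) (Nat.ble 391 i)) (Nat.ble 390 i)) (Bool.rec (motive := fun _ => Nat) (Bool.rec (motive := fun _ => Nat) (0x30000fa0001b7) (0x50000fa0001b8) (Nat.ble 393 i)) (Bool.rec (motive := fun _ => Nat) (0x60000fa0001ba) (0x50000fb000119) (Nat.ble 395 i)) (Nat.ble 394 i)) (Nat.ble 392 i)) (Nat.ble 389 i)) (Bool.rec (motive := fun _ => Nat) (Bool.rec (motive := fun _ => Nat) (Bool.rec (motive := fun _ => Nat) (0x20000fc0001bf) (Bool.rec (motive := fun _ => Nat) (0x50000fc00016c) (0x30000fd0001c1) (Nat.ble 398 i)) (Nat.ble 397 i)) (Bool.rec (motive := fun _ => Nat) (0x40000fd0001c2) (Bool.rec (motive := fun _ =>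 Nat) (0x50000fd000173) (0x60000fd000175) (Nat.ble 401 i)) (Nat.ble 400 i)) (Nat.ble 399 i)) (Bool.rec (motive := fun _ => Nat) (Bool.rec (motive := fun _ => Nat) (0x1000001b0) (Bool.rec (motive := fun _ => Nat) (0x40001000001b4) (0x60001000001b5) (Nat.ble 404 i)) (Nat.ble 403 i)) (Bool.rec (motive := fun _ => Nat) (Bool.rec (motive := fun _ => Nat) (0x30001010001bc) (0x50001010001bd) (Nat.ble 406 i)) (Bool.rec (motive := fun _ => Nat) (0x20001030001bb) (0x50001030000e0) (Nat.ble 408 i)) (Nat.ble 407 i)) (Nat.ble 405 i)) (Nat.ble 402 i)) (Nat.ble 396 i)) (Nat.ble 383 i))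
noncomputable def CA0P_8 (i : Nat) : Nat := (Bool.rec (motive := fun _ => Nat) (Bool.rec (motive := fun _ => Nat) (Bool.rec (motive := fun _ => Nat) (Bool.rec (motive := fun _ => Nat) (Bool.rec (motive := fun _ => Nat) (0x30001040001c4) (Bool.rec (motive := fun _ => Nat) (0x500010400016b) (0x60001040000dc) (Nat.ble 411 i)) (Nat.ble 410 i)) (Bool.rec (motive := fun _ => Nat) (0x10001050001b3) (Bool.rec (motive := fun _ => Nat) (0x30001050001a6) (0x40001060001c7) (Nat.ble 414 i)) (Nat.ble 413 i)) (Nat.ble 412 i)) (Bool.rec (motive := fun _ => Nat) (Bool.rec (motive := fun _ => Nat) (0x50001060001c8) (Bool.rec (motive := fun _ => Nat) (0x30001070001cd) (0x50001070001ce) (Nat.ble 417 i)) (Nat.ble 416 i)) (Bool.rec (motive := fun _ => Nat) (0x60001070001d0) (Bool.rec (motive := fun _ => Nat) (0x20001090001d5) (0x50001090001d6) (Nat.ble 420 i)) (Nat.ble 419 i)) (Nat.ble 418 i)) (Nat.ble 415 i)) (Bool.rec (motive := fun _ => Nat) (Bool.rec (motive := fun _ => Nat) (Bool.rec (motive := fun _ => Nat) (0x60001090001d8)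 (Bool.rec (motive := fun _ => Nat) (0x300010a0001d7) (0x400010a0001da) (Nat.ble 423 i)) (Nat.ble 422 i)) (Bool.rec (motive := fun _ => Nat) (0x500010a000199) (Bool.rec (motive := fun _ => Nat) (0x600010a00019d) (0x100010c0001d3) (Nat.ble 426 i)) (Nat.ble 425 i)) (Nat.ble 424 i)) (Bool.rec (motive := fun _ => Nat) (Bool.rec (motive := fun _ => Nat) (0x300010c0001df) (Bool.rec (motive := fun _ => Nat) (0x500010c00018d) (0x200010e0001e3) (Nat.ble 429 i)) (Nat.ble 428 i)) (Bool.rec (motive := fun _ => Nat) (Bool.rec (motive := fun _ => Nat) (0x40001120001ca) (0x60001120001cb) (Nat.ble 431 i)) (Bool.rec (motive := fun _ => Nat) (0x50001130001d2) (0x20001150001dd) (Nat.ble 433 i)) (Nat.ble 432 i)) (Nat.ble 430 i)) (Nat.ble 427 i)) (Nat.ble 421 i)) (Bool.rec (motive := fun _ => Nat) (Bool.rec (motive := fun _ => Nat) (Bool.rec (motive := fun _ => Nat) (Bool.rec (motive := fun _ => Nat) (0x30001160001de) (Bool.rec (motive := fun _ => Nat) (0x500011600018c) (0x60001160000ec) (Nat.ble 436 i)) (Nat.ble 435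 i)) (Bool.rec (motive := fun _ => Nat) (0x10001170001d1) (Bool.rec (motive := fun _ => Nat) (0x30001170001d9) (0x50001170000f1) (Nat.ble 439 i)) (Nat.ble 438 i)) (Nat.ble 437 i)) (Bool.rec (motive := fun _ => Nat) (Bool.rec (motive := fun _ => Nat) (0x20001190001dc) (Bool.rec (motive := fun _ => Nat) (0x600011b0000fb) (0x11c0001c9) (Nat.ble 442 i)) (Nat.ble 441 i)) (Bool.rec (motive := fun _ => Nat) (Bool.rec (motive := fun _ => Nat) (0x500011e0001e4) (0x500011f0001e6) (Nat.ble 444 i)) (Bool.rec (motive := fun _ => Nat) (0x30001200001e7) (0x40001200001e8) (Nat.ble 446 i)) (Nat.ble 445 i)) (Nat.ble 443 i)) (Nat.ble 440 i)) (Bool.rec (motive := fun _ => Nat) (Bool.rec (motive := fun _ => Nat) (Bool.rec (motive := fun _ => Nat) (0x50001200001e9) (Bool.rec (motive := fun _ => Nat) (0x50001210001ee) (0x60001220001f0) (Nat.ble 449 i)) (Nat.ble 448 i)) (Bool.rec (motive := fun _ => Nat) (0x50001230001f2) (Bool.rec (motive := fun _ => Nat) (0x60001230001f4) (0x5000124000145) (Nat.ble 452 i)) (Nat.ble 451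 i)) (Nat.ble 450 i)) (Bool.rec (motive := fun _ => Nat) (Bool.rec (motive := fun _ => Nat) (0x20001250001f8) (Bool.rec (motive := fun _ => Nat) (0x50001250001fa) (0x600012500014d) (Nat.ble 455 i)) (Nat.ble 454 i)) (Bool.rec (motive := fun _ => Nat) (Bool.rec (motive := fun _ => Nat) (0x30001260001fb) (0x40001260001fc) (Nat.ble 457 i)) (Bool.rec (motive := fun _ => Nat) (0x50001260001fd) (0x60001260001fe) (Nat.ble 459 i)) (Nat.ble 458 i)) (Nat.ble 456 i)) (Nat.ble 453 i)) (Nat.ble 447 i)) (Nat.ble 434 i))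
noncomputable def CA0P_9 (i : Nat) : Nat := (Bool.rec (motive := fun _ => Nat) (Bool.rec (motive := fun _ => Nat) (Bool.rec (motive := fun _ => Nat) (Bool.rec (motive := fun _ => Nat) (Bool.rec (motive := fun _ => Nat) (0x50001270001ae) (Bool.rec (motive := fun _ => Nat) (0x1290001e5) (0x40001290001eb) (Nat.ble 462 i)) (Nat.ble 461 i)) (Bool.rec (motive := fun _ => Nat) (0x60001290001ec) (Bool.rec (motive := fun _ => Nat) (0x500012a0001f6) (0x200012c0001f5) (Nat.ble 465 i)) (Nat.ble 464 i)) (Nat.ble 463 i)) (Bool.rec (motive := fun _ => Nat) (Bool.rec (motive := fun _ => Nat) (0x500012c0001ad) (Bool.rec (motive := fun _ => Nat) (0x300012d000203) (0x500012d000204) (Nat.ble 468 i)) (Nat.ble 467 i)) (Bool.rec (motive := fun _ => Nat) (0x600012d0001a9) (Bool.rec (motive := fun _ => Nat) (0x100012e0001ea) (0x300012e0001f1) (Nat.ble 471 i)) (Nat.ble 470 i)) (Nat.ble 469 i)) (Nat.ble 466 i)) (Bool.rec (motive := fun _ => Nat) (Bool.rec (motive := fun _ => Nat) (Bool.rec (motive := fun _ => Nat) (0x500012f00020a)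 (Bool.rec (motive := fun _ => Nat) (0x300013000020b) (0x400013000020c) (Nat.ble 474 i)) (Nat.ble 473 i)) (Bool.rec (motive := fun _ => Nat) (0x500013000020d) (Bool.rec (motive := fun _ => Nat) (0x5000131000212) (0x5000132000214) (Nat.ble 477 i)) (Nat.ble 476 i)) (Nat.ble 475 i)) (Bool.rec (motive := fun _ => Nat) (Bool.rec (motive := fun _ => Nat) (0x2000133000213) (Bool.rec (motive := fun _ => Nat) (0x6000133000216) (0x5000134000218) (Nat.ble 480 i)) (Nat.ble 479 i)) (Bool.rec (motive := fun _ => Nat) (Bool.rec (motive := fun _ => Nat) (0x600013400021a) (0x5000135000159) (Nat.ble 482 i)) (Bool.rec (motive := fun _ => Nat) (0x600013600015b) (0x300013800015f) (Nat.ble 484 i)) (Nat.ble 483 i)) (Nat.ble 481 i)) (Nat.ble 478 i)) (Nat.ble 472 i)) (Bool.rec (motive := fun _ => Nat) (Bool.rec (motive := fun _ => Nat) (Bool.rec (motive := fun _ => Nat) (Bool.rec (motive := fun _ => Nat) (0x4000138000220) (Bool.rec (motive := fun _ => Nat) (0x5000138000221) (0x6000138000222) (Nat.ble 487 i)) (Nat.ble 486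 i)) (Bool.rec (motive := fun _ => Nat) (0x50001390001c0) (Bool.rec (motive := fun _ => Nat) (0x400013a000165) (0x100013b00021e) (Nat.ble 490 i)) (Nat.ble 489 i)) (Nat.ble 488 i)) (Bool.rec (motive := fun _ => Nat) (Bool.rec (motive := fun _ => Nat) (0x500013b00022d) (Bool.rec (motive := fun _ => Nat) (0x400013c000174) (0x600013c000172) (Nat.ble 493 i)) (Nat.ble 492 i)) (Bool.rec (motive := fun _ => Nat) (Bool.rec (motive := fun _ => Nat) (0x200013e00022e) (0x600013e0001c3) (Nat.ble 495 i)) (Bool.rec (motive := fun _ => Nat) (0x60001400001c6) (0x50001410001c5) (Nat.ble 497 i)) (Nat.ble 496 i)) (Nat.ble 494 i)) (Nat.ble 491 i)) (Bool.rec (motive := fun _ => Nat) (Bool.rec (motive := fun _ => Nat) (Bool.rec (motive := fun _ => Nat) (0x400014300020f) (Bool.rec (motive := fun _ => Nat) (0x6000143000210) (0x500014400021c) (Nat.ble 500 i)) (Nat.ble 499 i)) (Bool.rec (motive := fun _ => Nat) (0x30001460001f7) (Bool.rec (motive := fun _ => Nat) (0x5000146000228) (0x60001460001b9) (Nat.ble 503 i)) (Nat.ble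 502 i)) (Nat.ble 501 i)) (Bool.rec (motive := fun _ => Nat) (Bool.rec (motive := fun _ => Nat) (0x100014700021b) (Bool.rec (motive := fun _ => Nat) (0x50001470001be) (0x2000149000227) (Nat.ble 506 i)) (Nat.ble 505 i)) (Bool.rec (motive := fun _ => Nat) (Bool.rec (motive := fun _ => Nat) (0x400014a00016e) (0x600014b000171) (Nat.ble 508 i)) (Bool.rec (motive := fun _ => Nat) (0x14c00020e) (0x300014c000217) (Nat.ble 510 i)) (Nat.ble 509 i)) (Nat.ble 507 i)) (Nat.ble 504 i)) (Nat.ble 498 i)) (Nat.ble 485 i))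
noncomputable def CA0P_10 (i : Nat) : Nat := (Bool.rec (motive := fun _ => Nat) (Bool.rec (motive := fun _ => Nat) (Bool.rec (motive := fun _ => Nat) (Bool.rec (motive := fun _ => Nat) (Bool.rec (motive := fun _ => Nat) (0x600014e000231) (Bool.rec (motive := fun _ => Nat) (0x500014f00017b) (0x60001500001e2) (Nat.ble 513 i)) (Nat.ble 512 i)) (Bool.rec (motive := fun _ => Nat) (0x4000151000237) (Bool.rec (motive := fun _ => Nat) (0x6000151000238) (0x50001520001d4) (Nat.ble 516 i)) (Nat.ble 515 i)) (Nat.ble 514 i)) (Bool.rec (motive := fun _ => Nat) (Bool.rec (motive := fun _ => Nat) (0x4000153000185) (Bool.rec (motive := fun _ => Nat) (0x3000154000249) (0x500015400024a) (Nat.ble 519 i)) (Nat.ble 518 i)) (Bool.rec (motive := fun _ => Nat) (0x600015400024b) (Bool.rec (motive := fun _ => Nat) (0x4000155000248) (0x600015500023b) (Nat.ble 522 i)) (Nat.ble 521 i)) (Nat.ble 520 i)) (Nat.ble 517 i)) (Bool.rec (motive := fun _ => Nat) (Bool.rec (motive := fun _ => Nat) (Bool.rec (motive := fun _ => Nat) (0x500015600023a)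 (Bool.rec (motive := fun _ => Nat) (0x300015700024d) (0x50001580001e1) (Nat.ble 525 i)) (Nat.ble 524 i)) (Bool.rec (motive := fun _ => Nat) (0x30001590001e0) (Bool.rec (motive := fun _ => Nat) (0x300015a000195) (0x15b000235) (Nat.ble 528 i)) (Nat.ble 527 i)) (Nat.ble 526 i)) (Bool.rec (motive := fun _ => Nat) (Bool.rec (motive := fun _ => Nat) (0x300015b00023f) (Bool.rec (motive := fun _ => Nat) (0x500015b000246) (0x200015c000252) (Nat.ble 531 i)) (Nat.ble 530 i)) (Bool.rec (motive := fun _ => Nat) (Bool.rec (motive := fun _ => Nat) (0x500015c000230) (0x300015d000257) (Nat.ble 533 i)) (Bool.rec (motive := fun _ => Nat) (0x400015d00019a) (0x600015d000198) (Nat.ble 535 i)) (Nat.ble 534 i)) (Nat.ble 532 i)) (Nat.ble 529 i)) (Nat.ble 523 i)) (Bool.rec (motive := fun _ => Nat) (Bool.rec (motive := fun _ => Nat) (Bool.rec (motive := fun _ => Nat) (Bool.rec (motive := fun _ => Nat) (0x1000160000247) (Bool.rec (motive := fun _ => Nat) (0x60001600001db) (0x3000164000232) (Nat.ble 538 i)) (Nat.ble 537 i))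 (Bool.rec (motive := fun _ => Nat) (0x5000164000233) (Bool.rec (motive := fun _ => Nat) (0x200016600023c) (0x500016600023d) (Nat.ble 541 i)) (Nat.ble 540 i)) (Nat.ble 539 i)) (Bool.rec (motive := fun _ => Nat) (Bool.rec (motive := fun _ => Nat) (0x300016700023e) (Bool.rec (motive := fun _ => Nat) (0x5000167000241) (0x60001670001cf) (Nat.ble 544 i)) (Nat.ble 543 i)) (Bool.rec (motive := fun _ => Nat) (Bool.rec (motive := fun _ => Nat) (0x100016800024e) (0x300016800024f) (Nat.ble 546 i)) (Bool.rec (motive := fun _ => Nat) (0x5000168000250) (0x200016a000251) (Nat.ble 548 i)) (Nat.ble 547 i)) (Nat.ble 545 i)) (Nat.ble 542 i)) (Bool.rec (motive := fun _ => Nat) (Bool.rec (motive := fun _ => Nat) (Bool.rec (motive := fun _ => Nat) (0x400016a000254) (Bool.rec (motive := fun _ => Nat) (0x300016b000255) (0x400016b00018f) (Nat.ble 551 i)) (Nat.ble 550 i)) (Bool.rec (motive := fun _ => Nat) (0x600016c000197) (Bool.rec (motive := fun _ => Nat) (0x200016e00024c) (0x30001730001cc) (Nat.ble 554 i)) (Nat.ble 553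 i)) (Nat.ble 552 i)) (Bool.rec (motive := fun _ => Nat) (Bool.rec (motive := fun _ => Nat) (0x20001740001b6) (Bool.rec (motive := fun _ => Nat) (0x500017700025a) (0x400017800025c) (Nat.ble 557 i)) (Nat.ble 556 i)) (Bool.rec (motive := fun _ => Nat) (Bool.rec (motive := fun _ => Nat) (0x500017800025d) (0x6000179000263) (Nat.ble 559 i)) (Bool.rec (motive := fun _ => Nat) (0x200017b000268) (0x500017b000200) (Nat.ble 561 i)) (Nat.ble 560 i)) (Nat.ble 558 i)) (Nat.ble 555 i)) (Nat.ble 549 i)) (Nat.ble 536 i))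
noncomputable def CA0P_11 (i : Nat) : Nat := (Bool.rec (motive := fun _ => Nat) (Bool.rec (motive := fun _ => Nat) (Bool.rec (motive := fun _ => Nat) (Bool.rec (motive := fun _ => Nat) (Bool.rec (motive := fun _ => Nat) (0x300017c00026a) (Bool.rec (motive := fun _ => Nat) (0x400017c00026b) (0x500017c000207) (Nat.ble 564 i)) (Nat.ble 563 i)) (Bool.rec (motive := fun _ => Nat) (0x600017c000209) (Bool.rec (motive := fun _ => Nat) (0x17f00025b) (0x400017f00025f) (Nat.ble 567 i)) (Nat.ble 566 i)) (Nat.ble 565 i)) (Bool.rec (motive := fun _ => Nat) (Bool.rec (motive := fun _ => Nat) (0x600017f000260) (Bool.rec (motive := fun _ => Nat) (0x3000180000265) (0x5000180000266) (Nat.ble 570 i)) (Nat.ble 569 i)) (Bool.rec (motive := fun _ => Nat) (Bool.rec (motive := fun _ => Nat) (0x2000182000264) (0x500018200014c) (Nat.ble 572 i)) (Bool.rec (motive := fun _ => Nat) (0x300018300026d) (0x50001830001ff) (Nat.ble 574 i)) (Nat.ble 573 i)) (Nat.ble 571 i)) (Nat.ble 568 i)) (Bool.rec (motive := fun _ => Nat) (Bool.rec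 (motive := fun _ => Nat) (Bool.rec (motive := fun _ => Nat) (0x6000183000148) (Bool.rec (motive := fun _ => Nat) (0x100018400025e) (0x4000185000270) (Nat.ble 577 i)) (Nat.ble 576 i)) (Bool.rec (motive := fun _ => Nat) (0x5000185000271) (Bool.rec (motive := fun _ => Nat) (0x3000186000276) (0x5000186000277) (Nat.ble 580 i)) (Nat.ble 579 i)) (Nat.ble 578 i)) (Bool.rec (motive := fun _ => Nat) (Bool.rec (motive := fun _ => Nat) (0x6000186000279) (Bool.rec (motive := fun _ => Nat) (0x500018800027f) (0x6000188000280) (Nat.ble 583 i)) (Nat.ble 582 i)) (Bool.rec (motive := fun _ => Nat) (Bool.rec (motive := fun _ => Nat) (0x500018900022b) (0x600018900022f) (Nat.ble 585 i)) (Bool.rec (motive := fun _ => Nat) (0x100018c00027d) (0x300018c000284) (Nat.ble 587 i)) (Nat.ble 586 i)) (Nat.ble 584 i)) (Nat.ble 581 i)) (Nat.ble 575 i)) (Bool.rec (motive := fun _ => Nat) (Bool.rec (motive := fun _ => Nat) (Bool.rec (motive := fun _ => Nat) (Bool.rec (motive := fun _ => Nat) (0x500018c000224) (Bool.rec (motive := fun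 _ => Nat) (0x4000192000273) (0x6000192000274) (Nat.ble 590 i)) (Nat.ble 589 i)) (Bool.rec (motive := fun _ => Nat) (0x300019300027b) (Bool.rec (motive := fun _ => Nat) (0x500019300027c) (0x3000196000223) (Nat.ble 593 i)) (Nat.ble 592 i)) (Nat.ble 591 i)) (Bool.rec (motive := fun _ => Nat) (Bool.rec (motive := fun _ => Nat) (0x100019700027a) (Bool.rec (motive := fun _ => Nat) (0x3000197000281) (0x5000197000163) (Nat.ble 596 i)) (Nat.ble 595 i)) (Bool.rec (motive := fun _ => Nat) (Bool.rec (motive := fun _ => Nat) (0x2000199000283) (0x600019b00016d) (Nat.ble 598 i)) (Bool.rec (motive := fun _ => Nat) (0x19c000272) (0x300019c000261) (Nat.ble 600 i)) (Nat.ble 599 i)) (Nat.ble 597 i)) (Nat.ble 594 i)) (Bool.rec (motive := fun _ => Nat) (Bool.rec (motive := fun _ => Nat) (Bool.rec (motive := fun _ => Nat) (0x400019d000269) (Bool.rec (motive := fun _ => Nat) (0x300019e000244) (0x600019e000288) (Nat.ble 603 i)) (Nat.ble 602 i)) (Bool.rec (motive := fun _ => Nat) (0x20001a0000289) (Bool.rec (motive := fun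 _ => Nat) (0x50001a000028a) (0x60001a000028b) (Nat.ble 606 i)) (Nat.ble 605 i)) (Nat.ble 604 i)) (Bool.rec (motive := fun _ => Nat) (Bool.rec (motive := fun _ => Nat) (0x10001a300028d) (Bool.rec (motive := fun _ => Nat) (0x50001a300028e) (0x60001a3000290) (Nat.ble 609 i)) (Nat.ble 608 i)) (Bool.rec (motive := fun _ => Nat) (Bool.rec (motive := fun _ => Nat) (0x40001a4000291) (0x60001a4000256) (Nat.ble 611 i)) (Bool.rec (motive := fun _ => Nat) (0x50001a5000292) (0x20001a600028f) (Nat.ble 613 i)) (Nat.ble 612 i)) (Nat.ble 610 i)) (Nat.ble 607 i)) (Nat.ble 601 i)) (Nat.ble 588 i))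
noncomputable def CA0P_12 (i : Nat) : Nat := (Bool.rec (motive := fun _ => Nat) (Bool.rec (motive := fun _ => Nat) (Bool.rec (motive := fun _ => Nat) (Bool.rec (motive := fun _ => Nat) (Bool.rec (motive := fun _ => Nat) (0x60001a6000258) (Bool.rec (motive := fun _ => Nat) (0x50001ab00017e) (0x50001b0000239) (Nat.ble 616 i)) (Nat.ble 615 i)) (Bool.rec (motive := fun _ => Nat) (0x60001b400018e) (Bool.rec (motive := fun _ => Nat) (0x30001b5000234) (0x50001b5000183) (Nat.ble 619 i)) (Nat.ble 618 i)) (Nat.ble 617 i)) (Bool.rec (motive := fun _ => Nat) (Bool.rec (motive := fun _ => Nat) (0x40001bb000294) (Bool.rec (motive := fun _ => Nat) (0x50001bb000295) (0x50001bc00029a) (Nat.ble 622 i)) (Nat.ble 621 i)) (Bool.rec (motive := fun _ => Nat) (0x60001bd00029c) (Bool.rec (motive := fun _ => Nat) (0x50001be00029e) (0x60001be0002a0) (Nat.ble 625 i)) (Nat.ble 624 i)) (Nat.ble 623 i)) (Nat.ble 620 i)) (Bool.rec (motive := fun _ => Nat) (Bool.rec (motive := fun _ => Nat) (Bool.rec (motive := fun _ => Nat) (0x50001bf0001ed)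 (Bool.rec (motive := fun _ => Nat) (0x60001c00001ef) (0x30001c20001f3) (Nat.ble 628 i)) (Nat.ble 627 i)) (Bool.rec (motive := fun _ => Nat) (0x40001c20002a6) (Bool.rec (motive := fun _ => Nat) (0x50001c20002a7) (0x60001c20002a8) (Nat.ble 631 i)) (Nat.ble 630 i)) (Nat.ble 629 i)) (Bool.rec (motive := fun _ => Nat) (Bool.rec (motive := fun _ => Nat) (0x40001c40001f9) (Bool.rec (motive := fun _ => Nat) (0x10001c50002a4) (0x50001c50002b1) (Nat.ble 634 i)) (Nat.ble 633 i)) (Bool.rec (motive := fun _ => Nat) (Bool.rec (motive := fun _ => Nat) (0x40001c6000208) (0x60001c6000206) (Nat.ble 636 i)) (Bool.rec (motive := fun _ => Nat) (0x20001c80002b2) (0x60001c800026c) (Nat.ble 638 i)) (Nat.ble 637 i)) (Nat.ble 635 i)) (Nat.ble 632 i)) (Nat.ble 626 i)) (Bool.rec (motive := fun _ => Nat) (Bool.rec (motive := fun _ => Nat) (Bool.rec (motive := fun _ => Nat) (Bool.rec (motive := fun _ => Nat) (0x60001ca00026f) (Bool.rec (motive := fun _ => Nat) (0x50001cb00026e) (0x40001cd000297) (Nat.ble 641 i)) (Nat.ble 640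 i)) (Bool.rec (motive := fun _ => Nat) (0x60001cd000298) (Bool.rec (motive := fun _ => Nat) (0x50001ce0002a2) (0x60001d0000262) (Nat.ble 644 i)) (Nat.ble 643 i)) (Nat.ble 642 i)) (Bool.rec (motive := fun _ => Nat) (Bool.rec (motive := fun _ => Nat) (0x10001d10002a1) (Bool.rec (motive := fun _ => Nat) (0x50001d1000267) (0x20001d30002ad) (Nat.ble 647 i)) (Nat.ble 646 i)) (Bool.rec (motive := fun _ => Nat) (Bool.rec (motive := fun _ => Nat) (0x40001d4000202) (0x60001d5000205) (Nat.ble 649 i)) (Bool.rec (motive := fun _ => Nat) (0x1d6000296) (0x30001d600029d) (Nat.ble 651 i)) (Nat.ble 650 i)) (Nat.ble 648 i)) (Nat.ble 645 i)) (Bool.rec (motive := fun _ => Nat) (Bool.rec (motive := fun _ => Nat) (Bool.rec (motive := fun _ => Nat) (0x50001d80002b3) (Bool.rec (motive := fun _ => Nat) (0x60001d90002b5) (0x60001da0002b8) (Nat.ble 654 i)) (Nat.ble 653 i)) (Bool.rec (motive := fun _ => Nat) (0x50001db000211) (Bool.rec (motive := fun _ => Nat) (0x50001dc0002bd) (0x60001dd000215) (Nat.ble 657 i)) (Nat.ble 656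 i)) (Nat.ble 655 i)) (Bool.rec (motive := fun _ => Nat) (Bool.rec (motive := fun _ => Nat) (0x60001de0002bf) (Bool.rec (motive := fun _ => Nat) (0x30001e0000219) (0x40001e00002c1) (Nat.ble 660 i)) (Nat.ble 659 i)) (Bool.rec (motive := fun _ => Nat) (Bool.rec (motive := fun _ => Nat) (0x60001e00002c2) (0x50001e100027e) (Nat.ble 662 i)) (Bool.rec (motive := fun _ => Nat) (0x40001e200021f) (0x60001e4000225) (Nat.ble 664 i)) (Nat.ble 663 i)) (Nat.ble 661 i)) (Nat.ble 658 i)) (Nat.ble 652 i)) (Nat.ble 639 i))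
noncomputable def CA0P_13 (i : Nat) : Nat := (Bool.rec (motive := fun _ => Nat) (Bool.rec (motive := fun _ => Nat) (Bool.rec (motive := fun _ => Nat) (Bool.rec (motive := fun _ => Nat) (Bool.rec (motive := fun _ => Nat) (0x30001e50002ce) (Bool.rec (motive := fun _ => Nat) (0x60001e6000286) (0x50001e7000285) (Nat.ble 667 i)) (Nat.ble 666 i)) (Bool.rec (motive := fun _ => Nat) (0x30001e8000226) (Bool.rec (motive := fun _ => Nat) (0x1ea0002bb) (0x50001ea0002cb) (Nat.ble 670 i)) (Nat.ble 669 i)) (Nat.ble 668 i)) (Bool.rec (motive := fun _ => Nat) (Bool.rec (motive := fun _ => Nat) (0x40001eb00022c) (Bool.rec (motive := fun _ => Nat) (0x60001eb00022a) (0x10001ee0002cc) (Nat.ble 673 i)) (Nat.ble 672 i)) (Bool.rec (motive := fun _ => Nat) (0x60001ee000282) (Bool.rec (motive := fun _ => Nat) (0x50001f20002b9) (0x30001f40002a3) (Nat.ble 676 i)) (Nat.ble 675 i)) (Nat.ble 674 i)) (Nat.ble 671 i)) (Bool.rec (motive := fun _ => Nat) (Bool.rec (motive := fun _ => Nat) (Bool.rec (motive := fun _ => Nat) (0x50001f40002c6)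 (Bool.rec (motive := fun _ => Nat) (0x60001f4000278) (0x40001f50002af) (Nat.ble 679 i)) (Nat.ble 678 i)) (Bool.rec (motive := fun _ => Nat) (0x60001f7000229) (Bool.rec (motive := fun _ => Nat) (0x30001fd0002b6) (0x20001fe0002c0) (Nat.ble 682 i)) (Nat.ble 681 i)) (Nat.ble 680 i)) (Bool.rec (motive := fun _ => Nat) (Bool.rec (motive := fun _ => Nat) (0x50001ff000259) (Bool.rec (motive := fun _ => Nat) (0x4000200000236) (0x3000205000240) (Nat.ble 685 i)) (Nat.ble 684 i)) (Bool.rec (motive := fun _ => Nat) (Bool.rec (motive := fun _ => Nat) (0x6000206000293) (0x40002070002cd) (Nat.ble 687 i)) (Bool.rec (motive := fun _ => Nat) (0x60002070002c5) (0x50002080002c4) (Nat.ble 689 i)) (Nat.ble 688 i)) (Nat.ble 686 i)) (Nat.ble 683 i)) (Nat.ble 677 i)) (Bool.rec (motive := fun _ => Nat) (Bool.rec (motive := fun _ => Nat) (Bool.rec (motive := fun _ => Nat) (Bool.rec (motive := fun _ => Nat) (0x5000209000243) (Bool.rec (motive := fun _ => Nat) (0x400020b000242) (0x200020c0002da) (Nat.ble 692 i)) (Nat.ble 691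 i)) (Bool.rec (motive := fun _ => Nat) (0x200020f000253) (Bool.rec (motive := fun _ => Nat) (0x20002110002d7) (0x5000211000287) (Nat.ble 695 i)) (Nat.ble 694 i)) (Nat.ble 693 i)) (Bool.rec (motive := fun _ => Nat) (Bool.rec (motive := fun _ => Nat) (0x4000212000245) (Bool.rec (motive := fun _ => Nat) (0x10002130002df) (0x50002130002b7) (Nat.ble 698 i)) (Nat.ble 697 i)) (Bool.rec (motive := fun _ => Nat) (Bool.rec (motive := fun _ => Nat) (0x20002150002e4) (0x600021800028c) (Nat.ble 700 i)) (Bool.rec (motive := fun _ => Nat) (0x200021a0002d0) (0x500021b0002d1) (Nat.ble 702 i)) (Nat.ble 701 i)) (Nat.ble 699 i)) (Nat.ble 696 i)) (Bool.rec (motive := fun _ => Nat) (Bool.rec (motive := fun _ => Nat) (Bool.rec (motive := fun _ => Nat) (0x100021c0002d3) (Bool.rec (motive := fun _ => Nat) (0x300021c0002d4) (0x500021c0002d5) (Nat.ble 705 i)) (Nat.ble 704 i)) (Bool.rec (motive := fun _ => Nat) (0x200021e0002d6) (Bool.rec (motive := fun _ => Nat) (0x2210002db) (0x30002210002dc) (Nat.ble 708 i)) (Nat.ble 707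 i)) (Nat.ble 706 i)) (Bool.rec (motive := fun _ => Nat) (Bool.rec (motive := fun _ => Nat) (0x50002210002dd) (Bool.rec (motive := fun _ => Nat) (0x10002240002de) (0x40002240002e1) (Nat.ble 711 i)) (Nat.ble 710 i)) (Bool.rec (motive := fun _ => Nat) (Bool.rec (motive := fun _ => Nat) (0x20002260002e2) (0x40002260002d9) (Nat.ble 713 i)) (Bool.rec (motive := fun _ => Nat) (0x200022a000275) (0x400022c0002e7) (Nat.ble 715 i)) (Nat.ble 714 i)) (Nat.ble 712 i)) (Nat.ble 709 i)) (Nat.ble 703 i)) (Nat.ble 690 i))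
noncomputable def CA0P_14 (i : Nat) : Nat := (Bool.rec (motive := fun _ => Nat) (Bool.rec (motive := fun _ => Nat) (Bool.rec (motive := fun _ => Nat) (Bool.rec (motive := fun _ => Nat) (Bool.rec (motive := fun _ => Nat) (0x500022c0002e8) (Bool.rec (motive := fun _ => Nat) (0x600022d0002ee) (0x10002300002f3) (Nat.ble 718 i)) (Nat.ble 717 i)) (Bool.rec (motive := fun _ => Nat) (0x30002300002f5) (Bool.rec (motive := fun _ => Nat) (0x50002300002aa) (0x40002360002ea) (Nat.ble 721 i)) (Nat.ble 720 i)) (Nat.ble 719 i)) (Bool.rec (motive := fun _ => Nat) (Bool.rec (motive := fun _ => Nat) (0x60002360002eb) (Bool.rec (motive := fun _ => Nat) (0x30002370002f0) (0x50002370002f1) (Nat.ble 724 i)) (Nat.ble 723 i)) (Bool.rec (motive := fun _ => Nat) (0x300023a0002a9) (Bool.rec (motive := fun _ => Nat) (0x100023b0002ef) (0x600023f000201) (Nat.ble 727 i)) (Nat.ble 726 i)) (Nat.ble 725 i)) (Nat.ble 722 i)) (Bool.rec (motive := fun _ => Nat) (Bool.rec (motive := fun _ => Nat) (Bool.rec (motive := fun _ => Nat) (0x2400002e9)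 (Bool.rec (motive := fun _ => Nat) (0x30002410002f8) (0x60002410002fa) (Nat.ble 730 i)) (Nat.ble 729 i)) (Bool.rec (motive := fun _ => Nat) (0x50002430002fb) (Bool.rec (motive := fun _ => Nat) (0x60002430002fc) (0x50002440002c9) (Nat.ble 733 i)) (Nat.ble 732 i)) (Nat.ble 731 i)) (Bool.rec (motive := fun _ => Nat) (Bool.rec (motive := fun _ => Nat) (0x60002460002b0) (Bool.rec (motive := fun _ => Nat) (0x30002500002c3) (0x30002520002fd) (Nat.ble 736 i)) (Nat.ble 735 i)) (Bool.rec (motive := fun _ => Nat) (Bool.rec (motive := fun _ => Nat) (0x500025200021d) (0x40002530002ac) (Nat.ble 738 i)) (Bool.rec (motive := fun _ => Nat) (0x30002570002ec) (0x40002580002f4) (Nat.ble 740 i)) (Nat.ble 739 i)) (Nat.ble 737 i)) (Nat.ble 734 i)) (Nat.ble 728 i)) (Bool.rec (motive := fun _ => Nat) (Bool.rec (motive := fun _ => Nat) (Bool.rec (motive := fun _ => Nat) (Bool.rec (motive := fun _ => Nat) (0x100025c0002ff) (Bool.rec (motive := fun _ => Nat) (0x300025c000300) (0x500025c000301) (Nat.ble 743 i)) (Nat.ble 742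 i)) (Bool.rec (motive := fun _ => Nat) (0x600025c000302) (Bool.rec (motive := fun _ => Nat) (0x500025e0002d2) (0x25f000303) (Nat.ble 746 i)) (Nat.ble 745 i)) (Nat.ble 744 i)) (Bool.rec (motive := fun _ => Nat) (Bool.rec (motive := fun _ => Nat) (0x500025f000304) (Bool.rec (motive := fun _ => Nat) (0x600025f000306) (0x4000260000307) (Nat.ble 749 i)) (Nat.ble 748 i)) (Bool.rec (motive := fun _ => Nat) (Bool.rec (motive := fun _ => Nat) (0x60002600002e3) (0x5000261000308) (Nat.ble 751 i)) (Bool.rec (motive := fun _ => Nat) (0x1000265000305) (0x60002650002e5) (Nat.ble 753 i)) (Nat.ble 752 i)) (Nat.ble 750 i)) (Nat.ble 747 i)) (Bool.rec (motive := fun _ => Nat) (Bool.rec (motive := fun _ => Nat) (Bool.rec (motive := fun _ => Nat) (0x200026a0002ba) (Bool.rec (motive := fun _ => Nat) (0x600026c00030a) (0x500026d000299) (Nat.ble 756 i)) (Nat.ble 755 i)) (Bool.rec (motive := fun _ => Nat) (0x600026e00029b) (Bool.rec (motive := fun _ => Nat) (0x300027000029f) (0x400027000030f) (Nat.ble 759 i)) (Nat.ble 758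 i)) (Nat.ble 757 i)) (Bool.rec (motive := fun _ => Nat) (Bool.rec (motive := fun _ => Nat) (0x6000270000310) (Bool.rec (motive := fun _ => Nat) (0x40002720002a5) (0x60002740002ab) (Nat.ble 762 i)) (Nat.ble 761 i)) (Bool.rec (motive := fun _ => Nat) (Bool.rec (motive := fun _ => Nat) (0x60002760002f7) (0x50002770002f6) (Nat.ble 764 i)) (Bool.rec (motive := fun _ => Nat) (0x27900030d) (0x5000279000318) (Nat.ble 766 i)) (Nat.ble 765 i)) (Nat.ble 763 i)) (Nat.ble 760 i)) (Nat.ble 754 i)) (Nat.ble 741 i))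
noncomputable def CA0P_15 (i : Nat) : Nat := (Bool.rec (motive := fun _ => Nat) (Bool.rec (motive := fun _ => Nat) (Bool.rec (motive := fun _ => Nat) (Bool.rec (motive := fun _ => Nat) (Bool.rec (motive := fun _ => Nat) (0x100027d000319) (Bool.rec (motive := fun _ => Nat) (0x600027d0002cf) (0x500028100030b) (Nat.ble 769 i)) (Nat.ble 768 i)) (Bool.rec (motive := fun _ => Nat) (0x60002830002ed) (Bool.rec (motive := fun _ => Nat) (0x60002840002ae) (0x50002850002f2) (Nat.ble 772 i)) (Nat.ble 771 i)) (Nat.ble 770 i)) (Bool.rec (motive := fun _ => Nat) (Bool.rec (motive := fun _ => Nat) (0x600028c0002b4) (Bool.rec (motive := fun _ => Nat) (0x500028e0002e6) (0x400028f0002bc) (Nat.ble 775 i)) (Nat.ble 774 i)) (Bool.rec (motive := fun _ => Nat) (Bool.rec (motive := fun _ => Nat) (0x60002900002be) (0x300029400031c) (Nat.ble 777 i)) (Bool.rec (motive := fun _ => Nat) (0x400029e0002ca) (0x600029e0002c8) (Nat.ble 779 i)) (Nat.ble 778 i)) (Nat.ble 776 i)) (Nat.ble 773 i)) (Bool.rec (motive := fun _ => Nat) (Bool.rec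 (motive := fun _ => Nat) (Bool.rec (motive := fun _ => Nat) (0x60002a10002fe) (Bool.rec (motive := fun _ => Nat) (0x30002a300030c) (0x50002a300031a) (Nat.ble 782 i)) (Nat.ble 781 i)) (Bool.rec (motive := fun _ => Nat) (0x60002a30002f9) (Bool.rec (motive := fun _ => Nat) (0x40002a4000316) (0x60002a60002c7) (Nat.ble 785 i)) (Nat.ble 784 i)) (Nat.ble 783 i)) (Bool.rec (motive := fun _ => Nat) (Bool.rec (motive := fun _ => Nat) (0x20002ad0002d8) (Bool.rec (motive := fun _ => Nat) (0x10002b4000325) (0x10002b50002e0) (Nat.ble 788 i)) (Nat.ble 787 i)) (Bool.rec (motive := fun _ => Nat) (Bool.rec (motive := fun _ => Nat) (0x10002b600031f) (0x30002b6000322) (Nat.ble 790 i)) (Bool.rec (motive := fun _ => Nat) (0x2b9000312) (0x50002b9000309) (Nat.ble 792 i)) (Nat.ble 791 i)) (Nat.ble 789 i)) (Nat.ble 786 i)) (Nat.ble 780 i)) (Bool.rec (motive := fun _ => Nat) (Bool.rec (motive := fun _ => Nat) (Bool.rec (motive := fun _ => Nat) (Bool.rec (motive := fun _ => Nat) (0x10002bb000329) (Bool.rec (motive := fun _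 => Nat) (0x50002bf00031e) (0x30002c1000321) (Nat.ble 795 i)) (Nat.ble 794 i)) (Bool.rec (motive := fun _ => Nat) (0x10002c8000327) (Bool.rec (motive := fun _ => Nat) (0x40002c8000324) (0x60002cb00032c) (Nat.ble 798 i)) (Nat.ble 797 i)) (Nat.ble 796 i)) (Bool.rec (motive := fun _ => Nat) (Bool.rec (motive := fun _ => Nat) (0x30002ce00032d) (Bool.rec (motive := fun _ => Nat) (0x30002d4000311) (0x60002d900032f) (Nat.ble 801 i)) (Nat.ble 800 i)) (Bool.rec (motive := fun _ => Nat) (Bool.rec (motive := fun _ => Nat) (0x60002db000317) (0x40002e0000314) (Nat.ble 803 i)) (Bool.rec (motive := fun _ => Nat) (0x40002e300032b) (0x60002e5000330) (Nat.ble 805 i)) (Nat.ble 804 i)) (Nat.ble 802 i)) (Nat.ble 799 i)) (Bool.rec (motive := fun _ => Nat) (Bool.rec (motive := fun _ => Nat) (Bool.rec (motive := fun _ => Nat) (0x60002e6000331) (Bool.rec (motive := fun _ => Nat) (0x50002e800031b) (0x60002ea00032e) (Nat.ble 808 i)) (Nat.ble 807 i)) (Bool.rec (motive := fun _ => Nat) (0x60002eb000328) (Bool.rec (motive :=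 fun _ => Nat) (0x50002ec000332) (0x60002f000032a) (Nat.ble 811 i)) (Nat.ble 810 i)) (Nat.ble 809 i)) (Bool.rec (motive := fun _ => Nat) (Bool.rec (motive := fun _ => Nat) (0x40002f400030e) (Bool.rec (motive := fun _ => Nat) (0x60002f6000313) (0x50002f8000326) (Nat.ble 814 i)) (Nat.ble 813 i)) (Bool.rec (motive := fun _ => Nat) (Bool.rec (motive := fun _ => Nat) (0x60002ff00031d) (0x6000302000315) (Nat.ble 816 i)) (Bool.rec (motive := fun _ => Nat) (0x400030d000320) (0x3000312000323) (Nat.ble 818 i)) (Nat.ble 817 i)) (Nat.ble 815 i)) (Nat.ble 812 i)) (Nat.ble 806 i)) (Nat.ble 793 i))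
noncomputable def CA0P (i : Nat) : Nat := (Bool.rec (motive := fun _ => Nat) (Bool.rec (motive := fun _ => Nat) (Bool.rec (motive := fun _ => Nat) (Bool.rec (motive := fun _ => Nat) (CA0P_0 i) (CA0P_1 i) (Nat.ble 51 i)) (Bool.rec (motive := fun _ => Nat) (CA0P_2 i) (CA0P_3 i) (Nat.ble 153 i)) (Nat.ble 102 i)) (Bool.rec (motive := fun _ => Nat) (Bool.rec (motive := fun _ => Nat) (CA0P_4 i) (CA0P_5 i) (Nat.ble 255 i)) (Bool.rec (motive := fun _ => Nat) (CA0P_6 i) (CA0P_7 i) (Nat.ble 357 i)) (Nat.ble 306 i)) (Nat.ble 204 i)) (Bool.rec (motive := fun _ => Nat) (Bool.rec (motive := fun _ => Nat) (Bool.rec (motive := fun _ => Nat) (CA0P_8 i) (CA0P_9 i) (Nat.ble 460 i)) (Bool.rec (motive := fun _ => Nat) (CA0P_10 i) (CA0P_11 i) (Nat.ble 562 i)) (Nat.ble 511 i)) (Bool.rec (motive := fun _ => Nat) (Bool.rec (motive := fun _ => Nat) (CA0P_12 i) (CA0P_13 i) (Nat.ble 665 i)) (Bool.rec (motive := fun _ => Nat) (CA0P_14 i) (CA0P_15 i) (Nat.ble 767 i)) (Nat.ble 716 i)) (Nat.ble 614 i)) (Nat.ble 409 i))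
noncomputable def CA0InvB_0 (i : Nat) : Nat := (Bool.rec (motive := fun _ => Nat) (Bool.rec (motive := fun _ => Nat) (Bool.rec (motive := fun _ => Nat) (0x3800003700005900003500003400003300003200005500005300002e00002d00002c00002b00002a00005400002900002800002700004200004300002600002500004100002300002200002100002000003600001f00001e00001d00001c00003000003100001b00001a00002f00001800001700001600001500002400001400001300001200001100001000001900000f00000e00000d00000c00000b00000a000009000008000007000006000005000004000003000002000001000000) (Bool.rec (motive := fun _ => Nat) (0x740000730000720000710000700000aa00006b00006a00006c0000680000670000690000660000650000b20000a20000640000630000620000610000600000b100005f00005e00009300009400005b00005a00009000005800005700005600008600005100005000005200004e00004d00004f00004c00004b00008e00007e00004a00004900004800004700004600008d00004500004400006f00006d00004000003f00003e00003d00003c00006e00003b00003a00003900005c00005d) (0xa90000e60000a80000a70000e80000ad0000ac0000b00000a60000a50000ab0000a40000a30000ff0000a000009f0000a100009d00009c00009e00009b00009a00011d0000f70000990000980000970000960000950000ed0000ee0000920000910000ea00008f0000d700011800008b00008a00008500011b0000840000830000d400008900008800008c00008200008100008700008000007f0000c700007c00007b00007d00007900007800007a0000770000760000750000e90000bc)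 (Nat.ble 2 i)) (Nat.ble 1 i)) (Bool.rec (motive := fun _ => Nat) (0x1720000e50000e40001710001b900010d00011a0000db0000da0000d90000d80000d600015a0000d50001b70000e10000e00000e20000d30001b40000d20000d10001530000df0000de0000e70000d00000cf0000dd0000ce00013d0001980000cc0000cb0000c600019b0000c50000c400013a0000ca0000c90000cd0000c30000c20000c10000c00000c80000bf0000be0000bd0001280000ba0000b90000bb0000b70000b60000b80000b50000b40000b30000dc0000e30000af0000ae) (Bool.rec (motive := fun _ => Nat) (0x12200012100012900012000011f00011e00016200016300011900016100010f00010e00015900010c00016f00011600011500011700010b00016c00010a00010900017400011400011300011c0001080001070001120001060001420001480001040001030000fe00014b0000fd0000fc00018b0001020001010001050000fb0000fa0001000000f90000f800017e0000f50000f40000f60000f20000f10000f30000f00000ef0001750001760000ec0000eb00011100015e00011000015f) (0x15200026700015100015000020000016500016400017300014f00014e0001910001ec0001900001ed0001fc00014a0001490001fb00025600018d00019a00014100014000013f00013e00013c0001e900013b0002540001460001470001390001e400013800014d0001370001e30001360001e200014500014400014c00013500013400013300013200013100014300013000012f0001c700023c00012d00012c00012700023f0001260001250001c400012b00012a00012e000124000123)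 (Nat.ble 5 i)) (Nat.ble 4 i)) (Nat.ble 3 i)) (Bool.rec (motive := fun _ => Nat) (Bool.rec (motive := fun _ => Nat) (0x18c0001f900019600019500019700018a0001f700018900018800022b00019400019300019c0001870001860001920001850001cc0001d200018300018200017d0001d500017c00017b00019d00018100018000018400017a00017900017f0001780001770001a900016000015d0002160001a800021700022800016b00020f00015c00016a0001690001680001700002270002690001ac0001b300015800015700016e00015600015500015400020500015b00026b00016700016600016d) (Bool.rec (motive := fun _ => Nat) (0x23e0001cb0001ca0001c90001c80001c60002780001c50001f50001d00001d10001c30002740001c20001d70001c10002730001c00002720001cf0001ce0001d60001bf0001be0001bd0001bc0001cd0001bb0001ad00020100020d00020e0001ab0001b20001b10001b80002190001a70001b60001a50001a60001a40001a30002040001aa0001b00001b50001a20002200001a10001a000022a0001af0001ae0001ba00019f00019e0001f00001f10001990001ef00018f00018e0001e8) (0x21100021e00021d00021c00020a00020b0002680002030002020002ac00021000026a00021b00021a0001ff0002140002490001ee0001eb00029f0002480002a00002a80001f60001fa00029c00029800024c0002510001e70001e60001e50002970001ea0002e10001f40001f80001e10002930001e00001fe0001df0002910001dd0001de0001dc00028f0001f30001f20001fd0001db0001da0001d90001d800023500027b00023400027c0002890001d40001d30002880002d7000231)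 (Nat.ble 8 i)) (Nat.ble 7 i)) (Bool.rec (motive := fun _ => Nat) (Bool.rec (motive := fun _ => Nat) (0x24600029600024a00025000024f0002520002450002a60002440002430002ca00024e00024d00025700024200024100027f00028000023d00027e00023300023200025900023000028600023a00023900023b00022f00028400025800023800023700024000022e00022d00023600022c0002ab0002660002150002630002260002250002b500021300022400022300022200022100020c0002290002080002070002060002090002180002120002b800025a0002b20002b300021f0002ad) (0x29200030800029000030700029d0002f20002a300028e0002ba0002a900028d00030500028c00027d00027a0002de0002a70003030002870002e20002fa0002d00002d50002770002760002750002f90002790002a40002830002850002710002f600027000028b00026f0002f500026e0002f400028200028100028a00026d00026c0002ae00026400026200026100026500026000025f0002bc00025e00025d00025c00025b0002b700029a00029b00024b0002550002a2000253000247) (Nat.ble 10 i)) (Bool.rec (motive := fun _ => Nat) (0x2e500030c0002e00002dc0002db0002da00030f0002d90002fb0002fc0002cf0002e40002ce0003040002d40002d30002d60002cd0003020002e30002d20002d10002d80002cc0002cb0003060002f10002bb0002ee0002c80002c70003140002b90002c60002c50002c40002c30002b40002c90003120002b60002c20002c10002c00002bf0002e90002be0002bd0003000002990002af0002a100029e00030a0002dd00030b0003110002a50002b00002b10002df0002950002940002aa)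 (0x32a00032600032500032100032800031f00031e00032400032b00031900032900031c00032e00031300031d00033200031600031b00033100031500031a00032f00030900032700030e0002ff0002fe00032200031000033000032300032d0003170003200002f80002f700032c0002fd00030d0003010002f30003180002ef0002ed0002ec0002f00002eb0002ea0002e80002e70002e6) (Nat.ble 12 i)) (Nat.ble 11 i)) (Nat.ble 9 i)) (Nat.ble 6 i))
noncomputable def CA0InvB (i : Nat) : Nat := (CA0InvB_0 i)
noncomputable def CA0Inv (i : Nat) : Nat := Nat.land (Nat.shiftRight (CA0InvB (Nat.shiftRight i 6)) (Nat.mul 24 (Nat.land i 63))) 16777215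
/-- Generators of a level. -/
def CA1G : List (List Nat) := [[4], [6], [8], [10], [12]]
noncomputable def CA1P_0 (i : Nat) : Nat := (Bool.rec (motive := fun _ => Nat) (Bool.rec (motive := fun _ => Nat) (Bool.rec (motive := fun _ => Nat) (Bool.rec (motive := fun _ => Nat) (Bool.rec (motive := fun _ => Nat) (Bool.rec (motive := fun _ => Nat) (1) (3) (Nat.ble 1 i)) (Bool.rec (motive := fun _ => Nat) (0x1000001000005) (0x2000008) (Nat.ble 3 i)) (Nat.ble 2 i)) (Bool.rec (motive := fun _ => Nat) (Bool.rec (motive := fun _ => Nat) (0x2000002000009) (0x100000300000b) (Nat.ble 5 i)) (Bool.rec (motive := fun _ => Nat) (0x200000300000e) (0x300000400000f) (Nat.ble 7 i)) (Nat.ble 6 i)) (Nat.ble 4 i)) (Bool.rec (motive := fun _ => Nat) (Bool.rec (motive := fun _ => Nat) (Bool.rec (motive := fun _ => Nat) (0x5000007) (0x2000005000014) (Nat.ble 9 i)) (Bool.rec (motive := fun _ => Nat) (0x1000006000019) (0x300000600001a) (Nat.ble 11 i)) (Nat.ble 10 i)) (Bool.rec (motive := fun _ => Nat) (Bool.rec (motive := fun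 _ => Nat) (0x1000007000010) (0x200000700001c) (Nat.ble 13 i)) (Bool.rec (motive := fun _ => Nat) (0x300000700001d) (0x1000008000004) (Nat.ble 15 i)) (Nat.ble 14 i)) (Nat.ble 12 i)) (Nat.ble 8 i)) (Bool.rec (motive := fun _ => Nat) (Bool.rec (motive := fun _ => Nat) (Bool.rec (motive := fun _ => Nat) (Bool.rec (motive := fun _ => Nat) (0x200000800000c) (0x1000009000027) (Nat.ble 17 i)) (Bool.rec (motive := fun _ => Nat) (0x3000009000028) (0xa000032) (Nat.ble 19 i)) (Nat.ble 18 i)) (Bool.rec (motive := fun _ => Nat) (Bool.rec (motive := fun _ => Nat) (0x300000a000033) (0x100000b000034) (Nat.ble 21 i)) (Bool.rec (motive := fun _ => Nat) (0x200000b000035) (0x300000b000036) (Nat.ble 23 i)) (Nat.ble 22 i)) (Nat.ble 20 i)) (Bool.rec (motive := fun _ => Nat) (Bool.rec (motive := fun _ => Nat) (Bool.rec (motive := fun _ => Nat) (0xc00001b) (0x400000c00001f) (Nat.ble 25 i)) (Bool.rec (motive := fun _ => Nat) (0x100000d00001e) (0xf000002) (Nat.ble 27 i)) (Nat.ble 26 i)) (Bool.rec (motive := fun _ => Nat) (Bool.rec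 (motive := fun _ => Nat) (0x3000010000015) (0x11000046) (Nat.ble 29 i)) (Bool.rec (motive := fun _ => Nat) (0x3000011000047) (0x1000012000048) (Nat.ble 31 i)) (Nat.ble 30 i)) (Nat.ble 28 i)) (Nat.ble 24 i)) (Nat.ble 16 i)) (Bool.rec (motive := fun _ => Nat) (Bool.rec (motive := fun _ => Nat) (Bool.rec (motive := fun _ => Nat) (Bool.rec (motive := fun _ => Nat) (Bool.rec (motive := fun _ => Nat) (0x2000012000049) (0x300001200004a) (Nat.ble 33 i)) (Bool.rec (motive := fun _ => Nat) (0x3000013000058) (0x200001400005a) (Nat.ble 35 i)) (Nat.ble 34 i)) (Bool.rec (motive := fun _ => Nat) (Bool.rec (motive := fun _ => Nat) (0x300001400005b) (0x15000059) (Nat.ble 37 i)) (Bool.rec (motive := fun _ => Nat) (0x200001500005d) (0x400001500005e) (Nat.ble 39 i)) (Nat.ble 38 i)) (Nat.ble 36 i)) (Bool.rec (motive := fun _ => Nat) (Bool.rec (motive := fun _ => Nat) (Bool.rec (motive := fun _ => Nat) (0x100001600005c) (0x3000016000037) (Nat.ble 41 i)) (Bool.rec (motive := fun _ => Nat) (0x4000018000038) (0x100001c000016)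 (Nat.ble 43 i)) (Nat.ble 42 i)) (Bool.rec (motive := fun _ => Nat) (Bool.rec (motive := fun _ => Nat) (0x200001c00002a) (0x300001c00002b) (Nat.ble 45 i)) (Bool.rec (motive := fun _ => Nat) (0x300001d000073) (0x100001e000029) (Nat.ble 47 i)) (Nat.ble 46 i)) (Nat.ble 44 i)) (Nat.ble 40 i)) (Bool.rec (motive := fun _ => Nat) (Bool.rec (motive := fun _ => Nat) (Bool.rec (motive := fun _ => Nat) (Bool.rec (motive := fun _ => Nat) (0x200001e000075) (0x300001e000076) (Nat.ble 49 i)) (Bool.rec (motive := fun _ => Nat) (0x1f000074) (0x200001f000078) (Nat.ble 51 i)) (Nat.ble 50 i)) (Bool.rec (motive := fun _ => Nat) (Bool.rec (motive := fun _ => Nat) (0x400001f000079) (0x1000020000077) (Nat.ble 53 i)) (Bool.rec (motive := fun _ => Nat) (0x300002000004b) (0x200002200008f) (Nat.ble 55 i)) (Nat.ble 54 i)) (Nat.ble 52 i)) (Bool.rec (motive := fun _ => Nat) (Bool.rec (motive := fun _ => Nat) (Bool.rec (motive := fun _ => Nat) (0x3000022000090) (0x1000023000095) (Nat.ble 57 i)) (Bool.rec (motive := fun _ => Nat)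 (0x3000023000096) (0x4000023000098) (Nat.ble 59 i)) (Nat.ble 58 i)) (Bool.rec (motive := fun _ => Nat) (Bool.rec (motive := fun _ => Nat) (0x300002400005f) (0x2000025000092) (Nat.ble 61 i)) (Bool.rec (motive := fun _ => Nat) (0x4000025000093) (0x1000026000099) (Nat.ble 63 i)) (Nat.ble 62 i)) (Nat.ble 60 i)) (Nat.ble 56 i)) (Nat.ble 48 i)) (Nat.ble 32 i))
noncomputable def CA1P_1 (i : Nat) : Nat := (Bool.rec (motive := fun _ => Nat) (Bool.rec (motive := fun _ => Nat) (Bool.rec (motive := fun _ => Nat) (Bool.rec (motive := fun _ => Nat) (Bool.rec (motive := fun _ => Nat) (Bool.rec (motive := fun _ => Nat) (0x300002600009a) (0x28000091) (Nat.ble 65 i)) (Bool.rec (motive := fun _ => Nat) (0x400002b00002d) (0x100002c00002c) (Nat.ble 67 i)) (Nat.ble 66 i)) (Bool.rec (motive := fun _ => Nat) (Bool.rec (motive := fun _ => Nat) (0x200002e0000b6) (0x300002e0000b7) (Nat.ble 69 i)) (Bool.rec (motive := fun _ => Nat) (0x400002f00004c) (0x10000300000bc) (Nat.ble 71 i)) (Nat.ble 70 i)) (Nat.ble 68 i)) (Bool.rec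 (motive := fun _ => Nat) (Bool.rec (motive := fun _ => Nat) (Bool.rec (motive := fun _ => Nat) (0x30000300000bd) (0x40000300000bf) (Nat.ble 73 i)) (Bool.rec (motive := fun _ => Nat) (0x300003100007a) (0x20000320000b9) (Nat.ble 75 i)) (Nat.ble 74 i)) (Bool.rec (motive := fun _ => Nat) (Bool.rec (motive := fun _ => Nat) (0x40000320000ba) (0x10000330000c0) (Nat.ble 77 i)) (Bool.rec (motive := fun _ => Nat) (0x30000330000c1) (0x350000b8) (Nat.ble 79 i)) (Nat.ble 78 i)) (Nat.ble 76 i)) (Nat.ble 72 i)) (Bool.rec (motive := fun _ => Nat) (Bool.rec (motive := fun _ => Nat) (Bool.rec (motive := fun _ => Nat) (Bool.rec (motive := fun _ => Nat) (0x10000370000ea) (0x30000370000eb) (Nat.ble 81 i)) (Bool.rec (motive := fun _ => Nat) (0x40000370000ed) (0x3000038000094) (Nat.ble 83 i)) (Nat.ble 82 i)) (Bool.rec (motive := fun _ => Nat) (Bool.rec (motive := fun _ => Nat) (0x390000f2) (0x30000390000f4) (Nat.ble 85 i)) (Bool.rec (motive := fun _ => Nat) (0x400003900009c) (0x100003a0000f5) (Nat.ble 87 i)) (Nat.ble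 86 i)) (Nat.ble 84 i)) (Bool.rec (motive := fun _ => Nat) (Bool.rec (motive := fun _ => Nat) (Bool.rec (motive := fun _ => Nat) (0x200003a0000f6) (0x300003a0000f7) (Nat.ble 89 i)) (Bool.rec (motive := fun _ => Nat) (0x400003a0000f8) (0x300003b0000c3) (Nat.ble 91 i)) (Nat.ble 90 i)) (Bool.rec (motive := fun _ => Nat) (Bool.rec (motive := fun _ => Nat) (0x100003d0000ef) (0x300003d0000f0) (Nat.ble 93 i)) (Bool.rec (motive := fun _ => Nat) (0x3f0000ee) (0x300003f0000c2) (Nat.ble 95 i)) (Nat.ble 94 i)) (Nat.ble 92 i)) (Nat.ble 88 i)) (Nat.ble 80 i)) (Bool.rec (motive := fun _ => Nat) (Bool.rec (motive := fun _ => Nat) (Bool.rec (motive := fun _ => Nat) (Bool.rec (motive := fun _ => Nat) (Bool.rec (motive := fun _ => Nat) (0x10000400000fd) (0x30000400000fe) (Nat.ble 97 i)) (Bool.rec (motive := fun _ => Nat) (0x40000400000be) (0x10000410000bb) (Nat.ble 99 i)) (Nat.ble 98 i)) (Bool.rec (motive := fun _ => Nat) (Bool.rec (motive := fun _ => Nat) (0x100004400012a) (0x300004400012b) (Nat.ble 101 i)) (Bool.rec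 (motive := fun _ => Nat) (0x400004400012d) (0x47000132) (Nat.ble 103 i)) (Nat.ble 102 i)) (Nat.ble 100 i)) (Bool.rec (motive := fun _ => Nat) (Bool.rec (motive := fun _ => Nat) (Bool.rec (motive := fun _ => Nat) (0x30000470000fa) (0x1000048000134) (Nat.ble 105 i)) (Bool.rec (motive := fun _ => Nat) (0x2000048000135) (0x3000048000101) (Nat.ble 107 i)) (Nat.ble 106 i)) (Bool.rec (motive := fun _ => Nat) (Bool.rec (motive := fun _ => Nat) (0x4000048000103) (0x100004b00012f) (Nat.ble 109 i)) (Bool.rec (motive := fun _ => Nat) (0x300004b000130) (0x4d00012e) (Nat.ble 111 i)) (Nat.ble 110 i)) (Nat.ble 108 i)) (Nat.ble 104 i)) (Bool.rec (motive := fun _ => Nat) (Bool.rec (motive := fun _ => Nat) (Bool.rec (motive := fun _ => Nat) (Bool.rec (motive := fun _ => Nat) (0x300004d00009b) (0x100004e000137) (Nat.ble 113 i)) (Bool.rec (motive := fun _ => Nat) (0x300004e0000f9) (0x400004e000097) (Nat.ble 115 i)) (Nat.ble 114 i)) (Bool.rec (motive := fun _ => Nat) (Bool.rec (motive := fun _ => Nat) (0x50000186) (0x3000050000187)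 (Nat.ble 117 i)) (Bool.rec (motive := fun _ => Nat) (0x4000050000188) (0x100005100017d) (Nat.ble 119 i)) (Nat.ble 118 i)) (Nat.ble 116 i)) (Bool.rec (motive := fun _ => Nat) (Bool.rec (motive := fun _ => Nat) (Bool.rec (motive := fun _ => Nat) (0x200005100018a) (0x300005100017c) (Nat.ble 121 i)) (Bool.rec (motive := fun _ => Nat) (0x400005100018b) (0x3000052000133) (Nat.ble 123 i)) (Nat.ble 122 i)) (Bool.rec (motive := fun _ => Nat) (Bool.rec (motive := fun _ => Nat) (0x20000530000f3) (0x1000054000194) (Nat.ble 125 i)) (Bool.rec (motive := fun _ => Nat) (0x300005400019b) (0x2000055000102) (Nat.ble 127 i)) (Nat.ble 126 i)) (Nat.ble 124 i)) (Nat.ble 120 i)) (Nat.ble 112 i)) (Nat.ble 96 i))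
noncomputable def CA1P_2 (i : Nat) : Nat := (Bool.rec (motive := fun _ => Nat) (Bool.rec (motive := fun _ => Nat) (Bool.rec (motive := fun _ => Nat) (Bool.rec (motive := fun _ => Nat) (Bool.rec (motive := fun _ => Nat) (Bool.rec (motive := fun _ => Nat) (0x4000055000100) (0x5700019c) (Nat.ble 129 i)) (Bool.rec (motive := fun _ => Nat) (0x4000057000136) (0x4000059000139) (Nat.ble 131 i)) (Nat.ble 130 i)) (Bool.rec (motive := fun _ => Nat) (Bool.rec (motive := fun _ => Nat) (0x300005a000138) (0x5c000191) (Nat.ble 133 i)) (Bool.rec (motive := fun _ => Nat) (0x300005c000192) (0x100005d000193) (Nat.ble 135 i)) (Nat.ble 134 i)) (Nat.ble 132 i)) (Bool.rec (motive := fun _ => Nat) (Bool.rec (motive := fun _ => Nat) (Bool.rec (motive := fun _ => Nat) (0x300005d000196) (0x400005d00012c) (Nat.ble 137 i)) (Bool.rec (motive := fun _ => Nat) (0x100005e000189) (0x300005e000131) (Nat.ble 139 i)) (Nat.ble 138 i)) (Bool.rec (motive := fun _ => Nat) (Bool.rec (motive := fun _ => Nat) (0x60000190) (0x20000610000fc)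 (Nat.ble 141 i)) (Bool.rec (motive := fun _ => Nat) (0x40000620000ff) (0x640001d5) (Nat.ble 143 i)) (Nat.ble 142 i)) (Nat.ble 140 i)) (Nat.ble 136 i)) (Bool.rec (motive := fun _ => Nat) (Bool.rec (motive := fun _ => Nat) (Bool.rec (motive := fun _ => Nat) (Bool.rec (motive := fun _ => Nat) (0x30000640001d6) (0x40000640001d8) (Nat.ble 145 i)) (Bool.rec (motive := fun _ => Nat) (0x10000650001d7) (0x20000650001da) (Nat.ble 147 i)) (Nat.ble 146 i)) (Bool.rec (motive := fun _ => Nat) (Bool.rec (motive := fun _ => Nat) (0x3000065000199) (0x400006500019d) (Nat.ble 149 i)) (Bool.rec (motive := fun _ => Nat) (0x10000670001df) (0x300006700018d) (Nat.ble 151 i)) (Nat.ble 150 i)) (Nat.ble 148 i)) (Bool.rec (motive := fun _ => Nat) (Bool.rec (motive := fun _ => Nat) (Bool.rec (motive := fun _ => Nat) (0x690001e3) (0x6d0001dd) (Nat.ble 153 i)) (Bool.rec (motive := fun _ => Nat) (0x300006d000180) (0x100006e0001de) (Nat.ble 155 i)) (Nat.ble 154 i)) (Bool.rec (motive := fun _ => Nat) (Bool.rec (motive := fun _ =>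 Nat) (0x300006e00018c) (0x400006e0000ec) (Nat.ble 157 i)) (Bool.rec (motive := fun _ => Nat) (0x100006f0001d9) (0x300006f0000f1) (Nat.ble 159 i)) (Nat.ble 158 i)) (Nat.ble 156 i)) (Nat.ble 152 i)) (Nat.ble 144 i)) (Bool.rec (motive := fun _ => Nat) (Bool.rec (motive := fun _ => Nat) (Bool.rec (motive := fun _ => Nat) (Bool.rec (motive := fun _ => Nat) (Bool.rec (motive := fun _ => Nat) (0x710001dc) (0x40000730000fb) (Nat.ble 161 i)) (Bool.rec (motive := fun _ => Nat) (0x1000074000249) (0x300007400024a) (Nat.ble 163 i)) (Nat.ble 162 i)) (Bool.rec (motive := fun _ => Nat) (Bool.rec (motive := fun _ => Nat) (0x400007400024b) (0x2000075000248) (Nat.ble 165 i)) (Bool.rec (motive := fun _ => Nat) (0x30000750001d3) (0x400007500023b) (Nat.ble 167 i)) (Nat.ble 166 i)) (Nat.ble 164 i)) (Bool.rec (motive := fun _ => Nat) (Bool.rec (motive := fun _ => Nat) (Bool.rec (motive := fun _ => Nat) (0x300007600023a) (0x77000218) (Nat.ble 169 i)) (Bool.rec (motive := fun _ => Nat) (0x2000077000237) (0x4000077000238)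 (Nat.ble 171 i)) (Nat.ble 170 i)) (Bool.rec (motive := fun _ => Nat) (Bool.rec (motive := fun _ => Nat) (0x100007800024d) (0x10000790000e4) (Nat.ble 173 i)) (Bool.rec (motive := fun _ => Nat) (0x40000790001e2) (0x300007a0001e1) (Nat.ble 175 i)) (Nat.ble 174 i)) (Nat.ble 172 i)) (Nat.ble 168 i)) (Bool.rec (motive := fun _ => Nat) (Bool.rec (motive := fun _ => Nat) (Bool.rec (motive := fun _ => Nat) (Bool.rec (motive := fun _ => Nat) (0x100007b0001e0) (0x100007c000195) (Nat.ble 177 i)) (Bool.rec (motive := fun _ => Nat) (0x7d000252) (0x300007d000230) (Nat.ble 179 i)) (Nat.ble 178 i)) (Bool.rec (motive := fun _ => Nat) (Bool.rec (motive := fun _ => Nat) (0x100007e000257) (0x200007e00019a) (Nat.ble 181 i)) (Bool.rec (motive := fun _ => Nat) (0x400007e000198) (0x40000810001db) (Nat.ble 183 i)) (Nat.ble 182 i)) (Nat.ble 180 i)) (Bool.rec (motive := fun _ => Nat) (Bool.rec (motive := fun _ => Nat) (Bool.rec (motive := fun _ => Nat) (0x100008500024f) (0x3000085000250) (Nat.ble 185 i)) (Bool.rec (motive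 := fun _ => Nat) (0x2000086000178) (0x4000086000176) (Nat.ble 187 i)) (Nat.ble 186 i)) (Bool.rec (motive := fun _ => Nat) (Bool.rec (motive := fun _ => Nat) (0x87000251) (0x2000087000254) (Nat.ble 189 i)) (Bool.rec (motive := fun _ => Nat) (0x1000088000255) (0x200008800018f) (Nat.ble 191 i)) (Nat.ble 190 i)) (Nat.ble 188 i)) (Nat.ble 184 i)) (Nat.ble 176 i)) (Nat.ble 160 i))
noncomputable def CA1P_3 (i : Nat) : Nat := (Bool.rec (motive := fun _ => Nat) (Bool.rec (motive := fun _ => Nat) (Bool.rec (motive := fun _ => Nat) (Bool.rec (motive := fun _ => Nat) (Bool.rec (motive := fun _ => Nat) (Bool.rec (motive := fun _ => Nat) (0x4000089000197) (0x8a00024c) (Nat.ble 193 i)) (Bool.rec (motive := fun _ => Nat) (0x300008a000127) (0x300008f00028e) (Nat.ble 195 i)) (Nat.ble 194 i)) (Bool.rec (motive := fun _ => Nat) (Bool.rec (motive := fun _ => Nat) (0x400008f000290) (0x2000090000291) (Nat.ble 197 i)) (Bool.rec (motive := fun _ => Nat) (0x4000090000256) (0x3000091000292) (Nat.ble 199 i)) (Nat.ble 198 i))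 (Nat.ble 196 i)) (Bool.rec (motive := fun _ => Nat) (Bool.rec (motive := fun _ => Nat) (Bool.rec (motive := fun _ => Nat) (0x9200028f) (0x200009200023e) (Nat.ble 201 i)) (Bool.rec (motive := fun _ => Nat) (0x4000092000258) (0x10000930001d2) (Nat.ble 203 i)) (Nat.ble 202 i)) (Bool.rec (motive := fun _ => Nat) (Bool.rec (motive := fun _ => Nat) (0x300009600017e) (0x300009900021b) (Nat.ble 205 i)) (Bool.rec (motive := fun _ => Nat) (0x200009a0000e6) (0x9b00027b) (Nat.ble 207 i)) (Nat.ble 206 i)) (Nat.ble 204 i)) (Nat.ble 200 i)) (Bool.rec (motive := fun _ => Nat) (Bool.rec (motive := fun _ => Nat) (Bool.rec (motive := fun _ => Nat) (Bool.rec (motive := fun _ => Nat) (0x200009b0001ce) (0x100009c000239) (Nat.ble 209 i)) (Bool.rec (motive := fun _ => Nat) (0x400009d00018e) (0x300009e0001ca) (Nat.ble 211 i)) (Nat.ble 210 i)) (Bool.rec (motive := fun _ => Nat) (Bool.rec (motive := fun _ => Nat) (0x30000a2000219) (0x40000a2000293) (Nat.ble 213 i)) (Bool.rec (motive := fun _ => Nat) (0x10000a300027d) (0x20000a30002cd)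 (Nat.ble 215 i)) (Nat.ble 214 i)) (Nat.ble 212 i)) (Bool.rec (motive := fun _ => Nat) (Bool.rec (motive := fun _ => Nat) (Bool.rec (motive := fun _ => Nat) (0x40000a30002c5) (0x30000a40002c4) (Nat.ble 217 i)) (Bool.rec (motive := fun _ => Nat) (0x30000a5000243) (0x40000a5000241) (Nat.ble 219 i)) (Nat.ble 218 i)) (Bool.rec (motive := fun _ => Nat) (Bool.rec (motive := fun _ => Nat) (0x20000a6000128) (0x40000a60001d4) (Nat.ble 221 i)) (Bool.rec (motive := fun _ => Nat) (0x30000a700017f) (0x20000a8000242) (Nat.ble 223 i)) (Nat.ble 222 i)) (Nat.ble 220 i)) (Nat.ble 216 i)) (Nat.ble 208 i)) (Bool.rec (motive := fun _ => Nat) (Bool.rec (motive := fun _ => Nat) (Bool.rec (motive := fun _ => Nat) (Bool.rec (motive := fun _ => Nat) (Bool.rec (motive := fun _ => Nat) (0x20000a90002c1) (0x40000a90002c2) (Nat.ble 225 i)) (Bool.rec (motive := fun _ => Nat) (0x10000aa000233) (0x30000aa000232) (Nat.ble 227 i)) (Nat.ble 226 i)) (Bool.rec (motive := fun _ => Nat) (Bool.rec (motive := fun _ => Nat) (0x40000aa000247)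 (0xac0002da) (Nat.ble 229 i)) (Bool.rec (motive := fun _ => Nat) (0xad000154) (0x20000ad00008d) (Nat.ble 231 i)) (Nat.ble 230 i)) (Nat.ble 228 i)) (Bool.rec (motive := fun _ => Nat) (Bool.rec (motive := fun _ => Nat) (Bool.rec (motive := fun _ => Nat) (0xb1000253) (0x30000b20002b7) (Nat.ble 233 i)) (Bool.rec (motive := fun _ => Nat) (0x20000b3000287) (0xb40002e4) (Nat.ble 235 i)) (Nat.ble 234 i)) (Bool.rec (motive := fun _ => Nat) (Bool.rec (motive := fun _ => Nat) (0x20000b40001cb) (0x40000b4000259) (Nat.ble 237 i)) (Bool.rec (motive := fun _ => Nat) (0x10000b5000231) (0x30000b8000273) (Nat.ble 239 i)) (Nat.ble 238 i)) (Nat.ble 236 i)) (Nat.ble 232 i)) (Bool.rec (motive := fun _ => Nat) (Bool.rec (motive := fun _ => Nat) (Bool.rec (motive := fun _ => Nat) (Bool.rec (motive := fun _ => Nat) (0x20000b900020e) (0x40000b900020c) (Nat.ble 241 i)) (Bool.rec (motive := fun _ => Nat) (0x10000ba0001cc) (0x30000ba00017a) (Nat.ble 243 i)) (Nat.ble 242 i)) (Bool.rec (motive := fun _ => Nat) (Bool.rec (motive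 := fun _ => Nat) (0x40000ba0000e2) (0x20000bc0002e1) (Nat.ble 245 i)) (Bool.rec (motive := fun _ => Nat) (0x30000bd0001cd) (0xbe0002e2) (Nat.ble 247 i)) (Nat.ble 246 i)) (Nat.ble 244 i)) (Bool.rec (motive := fun _ => Nat) (Bool.rec (motive := fun _ => Nat) (Bool.rec (motive := fun _ => Nat) (0x20000be0002d9) (0x30000c10001b4) (Nat.ble 249 i)) (Bool.rec (motive := fun _ => Nat) (0x20000c20000b5) (0x20000c3000307) (Nat.ble 251 i)) (Nat.ble 250 i)) (Bool.rec (motive := fun _ => Nat) (Bool.rec (motive := fun _ => Nat) (0x40000c30002e3) (0x30000c4000308) (Nat.ble 253 i)) (Bool.rec (motive := fun _ => Nat) (0x30000c5000240) (0x40000c50002d1) (Nat.ble 255 i)) (Nat.ble 254 i)) (Nat.ble 252 i)) (Nat.ble 248 i)) (Nat.ble 240 i)) (Nat.ble 224 i))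
noncomputable def CA1P_4 (i : Nat) : Nat := (Bool.rec (motive := fun _ => Nat) (Bool.rec (motive := fun _ => Nat) (Bool.rec (motive := fun _ => Nat) (Bool.rec (motive := fun _ => Nat) (Bool.rec (motive := fun _ => Nat) (Bool.rec (motive := fun _ => Nat) (0x20000c70002d2) (0x20000c80002d6) (Nat.ble 257 i)) (Bool.rec (motive := fun _ => Nat) (0x40000c80002e5) (0x10000c9000182) (Nat.ble 259 i)) (Nat.ble 258 i)) (Bool.rec (motive := fun _ => Nat) (Bool.rec (motive := fun _ => Nat) (0x30000c9000181) (0x40000c900028a) (Nat.ble 261 i)) (Bool.rec (motive := fun _ => Nat) (0xcb00027c) (0x20000cc0001cf) (Nat.ble 263 i)) (Nat.ble 262 i)) (Nat.ble 260 i)) (Bool.rec (motive := fun _ => Nat) (Bool.rec (motive := fun _ => Nat) (Bool.rec (motive := fun _ => Nat) (0x20000cd000156) (0x10000ce000129) (Nat.ble 265 i)) (Bool.rec (motive := fun _ => Nat) (0x30000ce0000e8) (0x20000cf000277) (Nat.ble 267 i)) (Nat.ble 266 i)) (Bool.rec (motive := fun _ => Nat) (Bool.rec (motive := fun _ => Nat) (0x30000d0000244) (0xd10002c3)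 (Nat.ble 269 i)) (Bool.rec (motive := fun _ => Nat) (0x20000d100028c) (0x20000d3000123) (Nat.ble 271 i)) (Nat.ble 270 i)) (Nat.ble 268 i)) (Nat.ble 264 i)) (Bool.rec (motive := fun _ => Nat) (Bool.rec (motive := fun _ => Nat) (Bool.rec (motive := fun _ => Nat) (Bool.rec (motive := fun _ => Nat) (0x20000d4000278) (0x20000d60001b5) (Nat.ble 273 i)) (Bool.rec (motive := fun _ => Nat) (0x40000d600027e) (0x10000d70002ee) (Nat.ble 275 i)) (Nat.ble 274 i)) (Bool.rec (motive := fun _ => Nat) (Bool.rec (motive := fun _ => Nat) (0x30000d70002c8) (0x40000d70002c6) (Nat.ble 277 i)) (Bool.rec (motive := fun _ => Nat) (0x30000d800021a) (0x20000d90002c7) (Nat.ble 279 i)) (Nat.ble 278 i)) (Nat.ble 276 i)) (Bool.rec (motive := fun _ => Nat) (Bool.rec (motive := fun _ => Nat) (Bool.rec (motive := fun _ => Nat) (0x10000da000236) (0x20000da000183) (Nat.ble 281 i)) (Bool.rec (motive := fun _ => Nat) (0x30000da000245) (0x10000dc0000e5) (Nat.ble 283 i)) (Nat.ble 282 i)) (Bool.rec (motive := fun _ => Nat) (Bool.rec (motive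 := fun _ => Nat) (0x10000e000031c) (0x30000e00002d0) (Nat.ble 285 i)) (Bool.rec (motive := fun _ => Nat) (0x40000e00002cc) (0xe20002b9) (Nat.ble 287 i)) (Nat.ble 286 i)) (Nat.ble 284 i)) (Nat.ble 280 i)) (Nat.ble 272 i)) (Bool.rec (motive := fun _ => Nat) (Bool.rec (motive := fun _ => Nat) (Bool.rec (motive := fun _ => Nat) (Bool.rec (motive := fun _ => Nat) (Bool.rec (motive := fun _ => Nat) (0x10000e3000179) (0x30000e30001d1) (Nat.ble 289 i)) (Bool.rec (motive := fun _ => Nat) (0x40000e3000246) (0x30000e4000184) (Nat.ble 291 i)) (Nat.ble 290 i)) (Bool.rec (motive := fun _ => Nat) (Bool.rec (motive := fun _ => Nat) (0x20000e60000d0) (0x20000e90002f9) (Nat.ble 293 i)) (Bool.rec (motive := fun _ => Nat) (0x30000ea0001c7) (0x20000eb000274) (Nat.ble 295 i)) (Nat.ble 294 i)) (Nat.ble 292 i)) (Bool.rec (motive := fun _ => Nat) (Bool.rec (motive := fun _ => Nat) (Bool.rec (motive := fun _ => Nat) (0x40000eb0002e6) (0x10000ec000177) (Nat.ble 297 i)) (Bool.rec (motive := fun _ => Nat) (0xee0002b8) (0x20000ef0001b0)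 (Nat.ble 299 i)) (Nat.ble 298 i)) (Bool.rec (motive := fun _ => Nat) (Bool.rec (motive := fun _ => Nat) (0x10000f00002b6) (0x30000f0000210) (Nat.ble 301 i)) (Bool.rec (motive := fun _ => Nat) (0x40000f000014f) (0xf2000275) (Nat.ble 303 i)) (Nat.ble 302 i)) (Nat.ble 300 i)) (Nat.ble 296 i)) (Bool.rec (motive := fun _ => Nat) (Bool.rec (motive := fun _ => Nat) (Bool.rec (motive := fun _ => Nat) (Bool.rec (motive := fun _ => Nat) (0x30000f20001c9) (0x10000f30001c8) (Nat.ble 305 i)) (Bool.rec (motive := fun _ => Nat) (0x20000f3000235) (0x30000f30000e3) (Nat.ble 307 i)) (Nat.ble 306 i)) (Bool.rec (motive := fun _ => Nat) (Bool.rec (motive := fun _ => Nat) (0x40000f300017b) (0x10000f50002e7) (Nat.ble 309 i)) (Bool.rec (motive := fun _ => Nat) (0x30000f5000289) (0x10000f6000124) (Nat.ble 311 i)) (Nat.ble 310 i)) (Nat.ble 308 i)) (Bool.rec (motive := fun _ => Nat) (Bool.rec (motive := fun _ => Nat) (Bool.rec (motive := fun _ => Nat) (0x40000f600028b) (0x20000f7000324) (Nat.ble 313 i)) (Bool.rec (motive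 := fun _ => Nat) (0x30000f8000288) (0x20000f9000113) (Nat.ble 315 i)) (Nat.ble 314 i)) (Bool.rec (motive := fun _ => Nat) (Bool.rec (motive := fun _ => Nat) (0x30000fa000072) (0x10000fb00032c) (Nat.ble 317 i)) (Bool.rec (motive := fun _ => Nat) (0x30000fb0002d8) (0x40000fb00031a) (Nat.ble 319 i)) (Nat.ble 318 i)) (Nat.ble 316 i)) (Nat.ble 312 i)) (Nat.ble 304 i)) (Nat.ble 288 i))
noncomputable def CA1P_5 (i : Nat) : Nat := (Bool.rec (motive := fun _ => Nat) (Bool.rec (motive := fun _ => Nat) (Bool.rec (motive := fun _ => Nat) (Bool.rec (motive := fun _ => Nat) (Bool.rec (motive := fun _ => Nat) (Bool.rec (motive := fun _ => Nat) (0x20000fd00031b) (0x10000fe000185) (Nat.ble 321 i)) (Bool.rec (motive := fun _ => Nat) (0x20000fe000234) (0x10001010002d3) (Nat.ble 323 i)) (Nat.ble 322 i)) (Bool.rec (motive := fun _ => Nat) (Bool.rec (motive := fun _ => Nat) (0x300010100023c) (0x4000101000301) (Nat.ble 325 i)) (Bool.rec (motive := fun _ => Nat) (0x10300021c) (0x10001040000e7) (Nat.ble 327 i)) (Nat.ble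 326 i)) (Nat.ble 324 i)) (Bool.rec (motive := fun _ => Nat) (Bool.rec (motive := fun _ => Nat) (Bool.rec (motive := fun _ => Nat) (0x300010400023d) (0x400010400023f) (Nat.ble 329 i)) (Bool.rec (motive := fun _ => Nat) (0x1000108000217) (0x3000108000158) (Nat.ble 331 i)) (Nat.ble 330 i)) (Bool.rec (motive := fun _ => Nat) (Bool.rec (motive := fun _ => Nat) (0x1090001b6) (0x3000109000126) (Nat.ble 333 i)) (Bool.rec (motive := fun _ => Nat) (0x100010a000125) (0x300010a00008e) (Nat.ble 335 i)) (Nat.ble 334 i)) (Nat.ble 332 i)) (Nat.ble 328 i)) (Bool.rec (motive := fun _ => Nat) (Bool.rec (motive := fun _ => Nat) (Bool.rec (motive := fun _ => Nat) (Bool.rec (motive := fun _ => Nat) (0x400010a0000e9) (0x100010b00025c) (Nat.ble 337 i)) (Bool.rec (motive := fun _ => Nat) (0x300010b0002c9) (0x200010d0002fe) (Nat.ble 339 i)) (Nat.ble 338 i)) (Bool.rec (motive := fun _ => Nat) (Bool.rec (motive := fun _ => Nat) (0x300010e0001d0) (0x300010f0000b3) (Nat.ble 341 i)) (Bool.rec (motive := fun _ => Nat) (0x10001100002fb)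 (0x30001100001b1) (Nat.ble 343 i)) (Nat.ble 342 i)) (Nat.ble 340 i)) (Bool.rec (motive := fun _ => Nat) (Bool.rec (motive := fun _ => Nat) (Bool.rec (motive := fun _ => Nat) (0x100011100025d) (0x1130002a0) (Nat.ble 345 i)) (Bool.rec (motive := fun _ => Nat) (0x30001130002a5) (0x40001130002ef) (Nat.ble 347 i)) (Nat.ble 346 i)) (Bool.rec (motive := fun _ => Nat) (Bool.rec (motive := fun _ => Nat) (0x100011400031d) (0x200011400021d) (Nat.ble 349 i)) (Bool.rec (motive := fun _ => Nat) (0x30001140002ca) (0x2000116000155) (Nat.ble 351 i)) (Nat.ble 350 i)) (Nat.ble 348 i)) (Nat.ble 344 i)) (Nat.ble 336 i)) (Bool.rec (motive := fun _ => Nat) (Bool.rec (motive := fun _ => Nat) (Bool.rec (motive := fun _ => Nat) (Bool.rec (motive := fun _ => Nat) (Bool.rec (motive := fun _ => Nat) (0x1000117000317) (0x1180002bc) (Nat.ble 353 i)) (Bool.rec (motive := fun _ => Nat) (0x11c0002db) (0x400011c000318) (Nat.ble 355 i)) (Nat.ble 354 i)) (Bool.rec (motive := fun _ => Nat) (Bool.rec (motive := fun _ => Nat) (0x100011d00030f)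 (0x300011d00027a) (Nat.ble 357 i)) (Bool.rec (motive := fun _ => Nat) (0x400011d0002cb) (0x300011e00021e) (Nat.ble 359 i)) (Nat.ble 358 i)) (Nat.ble 356 i)) (Bool.rec (motive := fun _ => Nat) (Bool.rec (motive := fun _ => Nat) (Bool.rec (motive := fun _ => Nat) (0x100011f00030c) (0x12000020f) (Nat.ble 361 i)) (Bool.rec (motive := fun _ => Nat) (0x1000124000153) (0x10001250002ff) (Nat.ble 363 i)) (Nat.ble 362 i)) (Bool.rec (motive := fun _ => Nat) (Bool.rec (motive := fun _ => Nat) (0x3000125000270) (0x2000126000122) (Nat.ble 365 i)) (Bool.rec (motive := fun _ => Nat) (0x10001270002e8) (0x12900020d) (Nat.ble 367 i)) (Nat.ble 366 i)) (Nat.ble 364 i)) (Nat.ble 360 i)) (Bool.rec (motive := fun _ => Nat) (Bool.rec (motive := fun _ => Nat) (Bool.rec (motive := fun _ => Nat) (Bool.rec (motive := fun _ => Nat) (0x100012b00025a) (0x300012b000111) (Nat.ble 369 i)) (Bool.rec (motive := fun _ => Nat) (0x12c00029d) (0x300012c0002b4) (Nat.ble 371 i)) (Nat.ble 370 i)) (Bool.rec (motive := fun _ => Nat) (Bool.rec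 (motive := fun _ => Nat) (0x400012c00020b) (0x100012d0002b3) (Nat.ble 373 i)) (Bool.rec (motive := fun _ => Nat) (0x200012d0002bb) (0x300012d000150) (Nat.ble 375 i)) (Nat.ble 374 i)) (Nat.ble 372 i)) (Bool.rec (motive := fun _ => Nat) (Bool.rec (motive := fun _ => Nat) (Bool.rec (motive := fun _ => Nat) (0x400012d000211) (0x100012f0002e9) (Nat.ble 377 i)) (Bool.rec (motive := fun _ => Nat) (0x300012f000272) (0x131000271) (Nat.ble 379 i)) (Nat.ble 378 i)) (Bool.rec (motive := fun _ => Nat) (Bool.rec (motive := fun _ => Nat) (0x300013300008c) (0x135000294) (Nat.ble 381 i)) (Bool.rec (motive := fun _ => Nat) (0x30001350002f8) (0x1000136000300) (Nat.ble 383 i)) (Nat.ble 382 i)) (Nat.ble 380 i)) (Nat.ble 376 i)) (Nat.ble 368 i)) (Nat.ble 352 i))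
noncomputable def CA1P_6 (i : Nat) : Nat := (Bool.rec (motive := fun _ => Nat) (Bool.rec (motive := fun _ => Nat) (Bool.rec (motive := fun _ => Nat) (Bool.rec (motive := fun _ => Nat) (Bool.rec (motive := fun _ => Nat) (Bool.rec (motive := fun _ => Nat) (0x4000136000302) (0x20001370000b4) (Nat.ble 385 i)) (Bool.rec (motive := fun _ => Nat) (0x1000139000320) (0x30001390002fa) (Nat.ble 387 i)) (Nat.ble 386 i)) (Bool.rec (motive := fun _ => Nat) (Bool.rec (motive := fun _ => Nat) (0x100013b00019f) (0x300013b0000aa) (Nat.ble 389 i)) (Bool.rec (motive := fun _ => Nat) (0x100013c000057) (0x13d00030a) (Nat.ble 391 i)) (Nat.ble 390 i)) (Nat.ble 388 i)) (Bool.rec (motive := fun _ => Nat) (Bool.rec (motive := fun _ => Nat) (Bool.rec (motive := fun _ => Nat) (0x300013d00030e) (0x400013d00031e) (Nat.ble 393 i)) (Bool.rec (motive := fun _ => Nat) (0x100013e000323) (0x200013e0002ba) (Nat.ble 395 i)) (Nat.ble 394 i)) (Bool.rec (motive := fun _ => Nat) (Bool.rec (motive := fun _ => Nat) (0x1000140000330) (0x14100021f)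 (Nat.ble 397 i)) (Bool.rec (motive := fun _ => Nat) (0x14300024e) (0x400014300031f) (Nat.ble 399 i)) (Nat.ble 398 i)) (Nat.ble 396 i)) (Nat.ble 392 i)) (Bool.rec (motive := fun _ => Nat) (Bool.rec (motive := fun _ => Nat) (Bool.rec (motive := fun _ => Nat) (Bool.rec (motive := fun _ => Nat) (0x10001440002d4) (0x30001440002d5) (Nat.ble 401 i)) (Bool.rec (motive := fun _ => Nat) (0x40001440002d7) (0x10001460002a3) (Nat.ble 403 i)) (Nat.ble 402 i)) (Bool.rec (motive := fun _ => Nat) (Bool.rec (motive := fun _ => Nat) (0x147000157) (0x14a0002c0) (Nat.ble 405 i)) (Bool.rec (motive := fun _ => Nat) (0x300014a000215) (0x100014b000214) (Nat.ble 407 i)) (Nat.ble 406 i)) (Nat.ble 404 i)) (Bool.rec (motive := fun _ => Nat) (Bool.rec (motive := fun _ => Nat) (Bool.rec (motive := fun _ => Nat) (0x300014b0000d1) (0x400014b000159) (Nat.ble 409 i)) (Bool.rec (motive := fun _ => Nat) (0x100014c00025e) (0x300014c0001b3) (Nat.ble 411 i)) (Nat.ble 410 i)) (Bool.rec (motive := fun _ => Nat) (Bool.rec (motive := fun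 _ => Nat) (0x14e0001b2) (0x1510001e8) (Nat.ble 413 i)) (Bool.rec (motive := fun _ => Nat) (0x3000151000276) (0x10001520002ed) (Nat.ble 415 i)) (Nat.ble 414 i)) (Nat.ble 412 i)) (Nat.ble 408 i)) (Nat.ble 400 i)) (Bool.rec (motive := fun _ => Nat) (Bool.rec (motive := fun _ => Nat) (Bool.rec (motive := fun _ => Nat) (Bool.rec (motive := fun _ => Nat) (Bool.rec (motive := fun _ => Nat) (0x1000153000316) (0x3000153000279) (Nat.ble 417 i)) (Bool.rec (motive := fun _ => Nat) (0x156000303) (0x3000156000319) (Nat.ble 419 i)) (Nat.ble 418 i)) (Bool.rec (motive := fun _ => Nat) (Bool.rec (motive := fun _ => Nat) (0x2000157000112) (0x1580001e9) (Nat.ble 421 i)) (Bool.rec (motive := fun _ => Nat) (0x3000158000261) (0x30001590002f4) (Nat.ble 423 i)) (Nat.ble 422 i)) (Nat.ble 420 i)) (Bool.rec (motive := fun _ => Nat) (Bool.rec (motive := fun _ => Nat) (Bool.rec (motive := fun _ => Nat) (0x40001590002a1) (0x200015a0001ed) (Nat.ble 425 i)) (Bool.rec (motive := fun _ => Nat) (0x300015a0002fc) (0x400015a0001eb)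 (Nat.ble 427 i)) (Nat.ble 426 i)) (Bool.rec (motive := fun _ => Nat) (Bool.rec (motive := fun _ => Nat) (0x15c000314) (0x200015c000311) (Nat.ble 429 i)) (Bool.rec (motive := fun _ => Nat) (0x100015d0002a2) (0x100015e000315) (Nat.ble 431 i)) (Nat.ble 430 i)) (Nat.ble 428 i)) (Nat.ble 424 i)) (Bool.rec (motive := fun _ => Nat) (Bool.rec (motive := fun _ => Nat) (Bool.rec (motive := fun _ => Nat) (Bool.rec (motive := fun _ => Nat) (0x100015f000216) (0x16000032e) (Nat.ble 433 i)) (Bool.rec (motive := fun _ => Nat) (0x10001620002f2) (0x4000162000312) (Nat.ble 435 i)) (Nat.ble 434 i)) (Bool.rec (motive := fun _ => Nat) (Bool.rec (motive := fun _ => Nat) (0x1640002f0) (0x200016400029e) (Nat.ble 437 i)) (Bool.rec (motive := fun _ => Nat) (0x10001650002fd) (0x10001670002a4) (Nat.ble 439 i)) (Nat.ble 438 i)) (Nat.ble 436 i)) (Bool.rec (motive := fun _ => Nat) (Bool.rec (motive := fun _ => Nat) (Bool.rec (motive := fun _ => Nat) (0x1680002dc) (0x3000168000297) (Nat.ble 441 i)) (Bool.rec (motive := fun _ =>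 Nat) (0x16a000213) (0x300016a0000cf) (Nat.ble 443 i)) (Nat.ble 442 i)) (Bool.rec (motive := fun _ => Nat) (Bool.rec (motive := fun _ => Nat) (0x16b00028d) (0x300016b000322) (Nat.ble 445 i)) (Bool.rec (motive := fun _ => Nat) (0x200016c0001af) (0x16e000295) (Nat.ble 447 i)) (Nat.ble 446 i)) (Nat.ble 444 i)) (Nat.ble 440 i)) (Nat.ble 432 i)) (Nat.ble 416 i))
noncomputable def CA1P_7 (i : Nat) : Nat := (Bool.rec (motive := fun _ => Nat) (Bool.rec (motive := fun _ => Nat) (Bool.rec (motive := fun _ => Nat) (Bool.rec (motive := fun _ => Nat) (Bool.rec (motive := fun _ => Nat) (Bool.rec (motive := fun _ => Nat) (0x300016e0002ec) (0x100016f0002b5) (Nat.ble 449 i)) (Bool.rec (motive := fun _ => Nat) (0x1700001e4) (0x100017100019e) (Nat.ble 451 i)) (Nat.ble 450 i)) (Bool.rec (motive := fun _ => Nat) (Bool.rec (motive := fun _ => Nat) (0x20001710000ce) (0x10001720001ea) (Nat.ble 453 i)) (Bool.rec (motive := fun _ => Nat) (0x300017200029b) (0x40001720001e7) (Nat.ble 455 i)) (Nat.ble 454 i)) (Nat.ble 452 i))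 (Bool.rec (motive := fun _ => Nat) (Bool.rec (motive := fun _ => Nat) (Bool.rec (motive := fun _ => Nat) (0x20001730002be) (0x400017300020a) (Nat.ble 457 i)) (Bool.rec (motive := fun _ => Nat) (0x300017400014e) (0x17500029a) (Nat.ble 459 i)) (Nat.ble 458 i)) (Bool.rec (motive := fun _ => Nat) (Bool.rec (motive := fun _ => Nat) (0x20001750002bd) (0x100017600030d) (Nat.ble 461 i)) (Bool.rec (motive := fun _ => Nat) (0x179000296) (0x30001790002eb) (Nat.ble 463 i)) (Nat.ble 462 i)) (Nat.ble 460 i)) (Nat.ble 456 i)) (Bool.rec (motive := fun _ => Nat) (Bool.rec (motive := fun _ => Nat) (Bool.rec (motive := fun _ => Nat) (Bool.rec (motive := fun _ => Nat) (0x300017d000305) (0x200017e0002de) (Nat.ble 465 i)) (Bool.rec (motive := fun _ => Nat) (0x400017e00032f) (0x17f000309) (Nat.ble 467 i)) (Nat.ble 466 i)) (Bool.rec (motive := fun _ => Nat) (Bool.rec (motive := fun _ => Nat) (0x400017f000331) (0x1820002e0) (Nat.ble 469 i)) (Bool.rec (motive := fun _ => Nat) (0x18400013c) (0x1000185000108) (Nat.ble 471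 i)) (Nat.ble 470 i)) (Nat.ble 468 i)) (Bool.rec (motive := fun _ => Nat) (Bool.rec (motive := fun _ => Nat) (Bool.rec (motive := fun _ => Nat) (0x2000185000082) (0x300018700032b) (Nat.ble 473 i)) (Bool.rec (motive := fun _ => Nat) (0x40001870002dd) (0x2000188000299) (Nat.ble 475 i)) (Nat.ble 474 i)) (Bool.rec (motive := fun _ => Nat) (Bool.rec (motive := fun _ => Nat) (0x18a000328) (0x200018a000327) (Nat.ble 477 i)) (Bool.rec (motive := fun _ => Nat) (0x100018b00030b) (0x18c000306) (Nat.ble 479 i)) (Nat.ble 478 i)) (Nat.ble 476 i)) (Nat.ble 472 i)) (Nat.ble 464 i)) (Bool.rec (motive := fun _ => Nat) (Bool.rec (motive := fun _ => Nat) (Bool.rec (motive := fun _ => Nat) (Bool.rec (motive := fun _ => Nat) (Bool.rec (motive := fun _ => Nat) (0x400018e0002df) (0x1000191000321) (Nat.ble 481 i)) (Bool.rec (motive := fun _ => Nat) (0x4000196000152) (0x300019a000260) (Nat.ble 483 i)) (Nat.ble 482 i)) (Bool.rec (motive := fun _ => Nat) (Bool.rec (motive := fun _ => Nat) (0x19f00029f) (0x1a0000326) (Nat.ble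 485 i)) (Bool.rec (motive := fun _ => Nat) (0x30001a200032d) (0x20001a3000310) (Nat.ble 487 i)) (Nat.ble 486 i)) (Nat.ble 484 i)) (Bool.rec (motive := fun _ => Nat) (Bool.rec (motive := fun _ => Nat) (Bool.rec (motive := fun _ => Nat) (0x10001a40001a0) (0x10001a500029c) (Nat.ble 489 i)) (Bool.rec (motive := fun _ => Nat) (0x40001a700025f) (0x40001a900013d) (Nat.ble 491 i)) (Nat.ble 490 i)) (Bool.rec (motive := fun _ => Nat) (Bool.rec (motive := fun _ => Nat) (0x10001ad0002f1) (0x1af000313) (Nat.ble 493 i)) (Bool.rec (motive := fun _ => Nat) (0x1b00002bf) (0x1b70002f3) (Nat.ble 495 i)) (Nat.ble 494 i)) (Nat.ble 492 i)) (Nat.ble 488 i)) (Bool.rec (motive := fun _ => Nat) (Bool.rec (motive := fun _ => Nat) (Bool.rec (motive := fun _ => Nat) (Bool.rec (motive := fun _ => Nat) (0x20001b70001ec) (0x30001b80002ea) (Nat.ble 497 i)) (Bool.rec (motive := fun _ => Nat) (0x20001b90001e5) (0x30001ba000151) (Nat.ble 499 i)) (Nat.ble 498 i)) (Bool.rec (motive := fun _ => Nat) (Bool.rec (motive := fun _ => Nat)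 (0x20001bb00013b) (0x30001bc000304) (Nat.ble 501 i)) (Bool.rec (motive := fun _ => Nat) (0x20001bd00032a) (0x10001be00025b) (Nat.ble 503 i)) (Nat.ble 502 i)) (Nat.ble 500 i)) (Bool.rec (motive := fun _ => Nat) (Bool.rec (motive := fun _ => Nat) (Bool.rec (motive := fun _ => Nat) (0x1c300013a) (0x40001c60001e6) (Nat.ble 505 i)) (Bool.rec (motive := fun _ => Nat) (0x40001c8000212) (0x10001cc000298) (Nat.ble 507 i)) (Nat.ble 506 i)) (Bool.rec (motive := fun _ => Nat) (Bool.rec (motive := fun _ => Nat) (0x1cd000329) (0x40001d3000332) (Nat.ble 509 i)) (Bool.rec (motive := fun _ => Nat) (0x1d70000c4) (0x10001dd000325) (Nat.ble 511 i)) (Nat.ble 510 i)) (Nat.ble 508 i)) (Nat.ble 504 i)) (Nat.ble 496 i)) (Nat.ble 480 i))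
noncomputable def CA1P (i : Nat) : Nat := (Bool.rec (motive := fun _ => Nat) (Bool.rec (motive := fun _ => Nat) (Bool.rec (motive := fun _ => Nat) (CA1P_0 i) (CA1P_1 i) (Nat.ble 64 i)) (Bool.rec (motive := fun _ => Nat) (CA1P_2 i) (CA1P_3 i) (Nat.ble 192 i)) (Nat.ble 128 i)) (Bool.rec (motive := fun _ => Nat) (Bool.rec (motive := fun _ => Nat) (CA1P_4 i) (CA1P_5 i) (Nat.ble 320 i)) (Bool.rec (motive := fun _ => Nat) (CA1P_6 i) (CA1P_7 i) (Nat.ble 448 i)) (Nat.ble 384 i)) (Nat.ble 256 i))
noncomputable def CA1InvB_0 (i : Nat) : Nat := (Bool.rec (motive := fun _ => Nat) (Bool.rec (motive := fun _ => Nat) (Bool.rec (motive := fun _ => Nat) (0x2a00002900001700001600001500001400001300000000000000000000000000004200004300002d00002c00002f00001200001100000000000000000000000000000000000000000000001900001a00000e00000d00001800000b00000a00000000000000002b00001c00000900000000000000000000000c00000700000600000000001000000500000000000400000300000800000000000200000f00000100001b000000000000) (Bool.rec (motive := fun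 _ => Nat) (0x4a00003400003300003500003100003000003200002e00013c00000000000000000000000000000000000000000000000000000000000000000000000000000000000000000000000000000000000000003c00002700002600002800002400002300002500002200018600000000000000000000000000000000000000000000000000000000000000004600003600002100002000001f00001e00001d000000000000000000000000000000000000) (0x4900006200004800004700006300004c00004b00004f0000450000440000fa00018100015500000000000000000000000000000000000000000000000000018500000000000000000000000000000000000000000000000000000000000000000000000000000000005600007000004000003f00003b00007300003a00003900005300003e00003d00004100003800003700014f0000e700017c0000000000000000000000000000000000000000000000000000000001d8000000000000) (Nat.ble 2 i)) (Nat.ble 1 i)) (Bool.rec (motive := fun _ => Nat) (0x8e00006100006000008d0000a100006800007200005a00005900005800005700005500007c00005400009f00005d00005c00005e00005200009d00005100005000015000010a0001470000ce00011b0000ad0001330000f40000000000000000000000000000000000000000000000000000000000000000000000000000000000000000000000000001980001240001bb0001c40000000000000000000000000000000000000000000000000000000001fe00005b00005f00004e00004d)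 (Bool.rec (motive := fun _ => Nat) (0x1eb0001d60001f40001f800008300008400007100008200006a00006900007b00006700008b00006e00006d00006f0000660000890000650000640001090000dc0000c200014d00014e00013700010f00016d00000000000000000000000000000000000000000000000000000000000000000000000000000000000000013b0001a40001710000000000000000000000000000000000000000000000000001d700000000000000000000000000006c00007f00006b000080) (0xde0000cc0000770000790001340000f30001200000ba0001290000bb00000000000000000000000000000000000000000000000000000000000000000000000000000000000000000000000000000000000000000000000000000000000000000000000000000000000000000000000000019900014b00019400010800015f0000e600016a0001e20001f300017700012e0001ca000000000000000000000000000000000000000000000000000000000000000000000000000000000000) (Nat.ble 5 i)) (Nat.ble 4 i)) (Nat.ble 3 i)) (Bool.rec (motive := fun _ => Nat) (Bool.rec (motive := fun _ => Nat) (0x14c0001110000f900019b00019c00015700012b0001be0000000000000000000000000000000000000000000000000000000000000000000000000000000000000001e80001840001c300009500008100007e0000b50000940000b60000c00000880000b100007d00008700008600008500008c0000bf0000d200009700009c00007a00007800008a00007600007500007400014100012300011900010300010400009a)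 (Bool.rec (motive := fun _ => Nat) (0x1a90001f00001ab0001c50001a500019d0001c70001f90001f20001c20000980000ae0000af0000b000009600009b0000990000a00000b700009300009e00009100009200009000008f0000dd0000a60000cb0001210001540001070000d00000f60000f20000ec0000d3000130000131000126000000000000000000000000000000000000000000) (0x1490000c90001480001440000a70000a80000d10000ab0000aa0001180001320001420000e20000e30000ee0000b300000000000000000000000000000000000000000000000000000000000000000000000000000000000000000000000000018d00016700015d0001460000cd0001160000d40000a900014a0001b00001960001970001ba0001fa00017800012d0001690000f000016f0000f10001740001c9000000000000000000000000000000000000000000000000000000000000) (Nat.ble 8 i)) (Nat.ble 7 i)) (Bool.rec (motive := fun _ => Nat) (Bool.rec (motive := fun _ => Nat) (0x1120000d60001060000cf0001650001a100011000010b00019e00012f0001270000ef00017a00017b00016c0000000000000000000000000000000000000000000000000000000000000000000000000000000000000001a60001e30001ea00019a0001580001510001f70001700000ed0000ca0000b40000c60000be0000bd0000e80000b20000bc0000b90000b800018e0000ac0000c10000a40000a30000a20000a50000e400012200011a00010c0000da0000df0000db0000fe)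 (0x1ee0001c80001cc00016100017600018b00011f00012a0000e900012c0001c100017300017500000000000000000000000000000000000000000000000000000000000000000000000000000000015a0001b70001930001ae0001a80001590001e40001b50001720001e90001c60001cb0001db0001fb0001b90001ce0001bf00017d0000d50000c70000c50000c40000c80000c30001bc00010e00013800010500013600013a0000ea000000000000000000000000000000000000000000) (Nat.ble 10 i)) (Bool.rec (motive := fun _ => Nat) (0x16b0001530001b60001aa00015600018300012500017e0000000000000000000001a70001ef0001b20001ec0001b400015b00011300019f0001c00001cf0001f100017900016e0001350001280001020000eb0000fc0000f70000f50001d50001e00001d10001da0001b80001620000e50000f800013e0001920001010001910001900001430001000000ff00011d0000000000000000d700011e00016600015e0001520001140001170001150000d80000d900010d0000e10000e0000195) (0x1fd0001d400018c0001d20001b10001e600013d0001d90001f60001fc0001dc0001dd0001e50001ff00013900018a0001bd0001e100018200018f00018900015c00011c00014000013f0001a30001630001600001a00001af0001ac0001ed0001b30001ad0001e70001640001880001cd0001680001de0001870001d30000fd0000fb0001df0001d00001f50001a200018000014500017f)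 (Nat.ble 12 i)) (Nat.ble 11 i)) (Nat.ble 9 i)) (Nat.ble 6 i))
noncomputable def CA1InvB (i : Nat) : Nat := (CA1InvB_0 i)
noncomputable def CA1Inv (i : Nat) : Nat := Nat.land (Nat.shiftRight (CA1InvB (Nat.shiftRight i 6)) (Nat.mul 24 (Nat.land i 63))) 16777215
/-- Generators of a level. -/
def CA2G : List (List Nat) := [[6], [8], [10], [12]]
noncomputable def CA2P_0 (i : Nat) : Nat := (Bool.rec (motive := fun _ => Nat) (Bool.rec (motive := fun _ => Nat) (Bool.rec (motive := fun _ => Nat) (Bool.rec (motive := fun _ => Nat) (Bool.rec (motive := fun _ => Nat) (0x32) (0x46) (Nat.ble 1 i)) (Bool.rec (motive := fun _ => Nat) (0x2000000000058) (Bool.rec (motive := fun _ => Nat) (0x2000001000073) (0x2000074) (Nat.ble 4 i)) (Nat.ble 3 i)) (Nat.ble 2 i)) (Bool.rec (motive := fun _ => Nat) (Bool.rec (motive := fun _ => Nat) (0x100000200008f) (0x2000002000090) (Nat.ble 6 i)) (Bool.rec (motive := fun _ => Nat) (0x3000059) (Bool.rec (motive := fun _ => Nat) (0x10000030000b6) (0x20000030000b7) (Nat.ble 9 i)) (Nat.ble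 8 i)) (Nat.ble 7 i)) (Nat.ble 5 i)) (Bool.rec (motive := fun _ => Nat) (Bool.rec (motive := fun _ => Nat) (Bool.rec (motive := fun _ => Nat) (0x10000040000b9) (0x30000040000ba) (Nat.ble 11 i)) (Bool.rec (motive := fun _ => Nat) (0x50000ea) (Bool.rec (motive := fun _ => Nat) (0x20000050000eb) (0x30000050000ed) (Nat.ble 14 i)) (Nat.ble 13 i)) (Nat.ble 12 i)) (Bool.rec (motive := fun _ => Nat) (Bool.rec (motive := fun _ => Nat) (0x2000006000094) (Bool.rec (motive := fun _ => Nat) (0x3000006000091) (0x1000007000092) (Nat.ble 17 i)) (Nat.ble 16 i)) (Bool.rec (motive := fun _ => Nat) (0x3000007000093) (Bool.rec (motive := fun _ => Nat) (0x800012a) (0x200000800012b) (Nat.ble 20 i)) (Nat.ble 19 i)) (Nat.ble 18 i)) (Nat.ble 15 i)) (Nat.ble 10 i)) (Bool.rec (motive := fun _ => Nat) (Bool.rec (motive := fun _ => Nat) (Bool.rec (motive := fun _ => Nat) (Bool.rec (motive := fun _ => Nat) (0x300000800012d) (0x20000090000bb) (Nat.ble 22 i)) (Bool.rec (motive := fun _ => Nat) (0x30000090000b8) (Bool.rec (motive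 := fun _ => Nat) (0xa00012f) (0x200000a000130) (Nat.ble 25 i)) (Nat.ble 24 i)) (Nat.ble 23 i)) (Bool.rec (motive := fun _ => Nat) (Bool.rec (motive := fun _ => Nat) (0x300000a000132) (0x200000c000187) (Nat.ble 27 i)) (Bool.rec (motive := fun _ => Nat) (0x300000c000188) (Bool.rec (motive := fun _ => Nat) (0xd00017d) (0x100000d00018a) (Nat.ble 30 i)) (Nat.ble 29 i)) (Nat.ble 28 i)) (Nat.ble 26 i)) (Bool.rec (motive := fun _ => Nat) (Bool.rec (motive := fun _ => Nat) (Bool.rec (motive := fun _ => Nat) (0x200000d00017c) (0x300000d00018b) (Nat.ble 32 i)) (Bool.rec (motive := fun _ => Nat) (0x200000e000133) (Bool.rec (motive := fun _ => Nat) (0x300000e0000ee) (0x100000f0000f3) (Nat.ble 35 i)) (Nat.ble 34 i)) (Nat.ble 33 i)) (Bool.rec (motive := fun _ => Nat) (Bool.rec (motive := fun _ => Nat) (0x110000ef) (Bool.rec (motive := fun _ => Nat) (0x20000110000f0) (0x30000110000f2) (Nat.ble 38 i)) (Nat.ble 37 i)) (Bool.rec (motive := fun _ => Nat) (0x20000130001d6) (Bool.rec (motive := fun _ => Nat) (0x30000130001d8)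 (0x140001d7) (Nat.ble 41 i)) (Nat.ble 40 i)) (Nat.ble 39 i)) (Nat.ble 36 i)) (Nat.ble 31 i)) (Nat.ble 21 i))
noncomputable def CA2P_1 (i : Nat) : Nat := (Bool.rec (motive := fun _ => Nat) (Bool.rec (motive := fun _ => Nat) (Bool.rec (motive := fun _ => Nat) (Bool.rec (motive := fun _ => Nat) (Bool.rec (motive := fun _ => Nat) (0x10000140001da) (0x2000014000199) (Nat.ble 43 i)) (Bool.rec (motive := fun _ => Nat) (0x300001400019d) (Bool.rec (motive := fun _ => Nat) (0x300001500012e) (0x2000018000180) (Nat.ble 46 i)) (Nat.ble 45 i)) (Nat.ble 44 i)) (Bool.rec (motive := fun _ => Nat) (Bool.rec (motive := fun _ => Nat) (0x30000180001df) (0x190001de) (Nat.ble 48 i)) (Bool.rec (motive := fun _ => Nat) (0x200001900018c) (Bool.rec (motive := fun _ => Nat) (0x30000190000ec) (0x200001a00018d) (Nat.ble 51 i)) (Nat.ble 50 i)) (Nat.ble 49 i)) (Nat.ble 47 i)) (Bool.rec (motive := fun _ => Nat) (Bool.rec (motive := fun _ => Nat) (Bool.rec (motive := fun _ => Nat) (0x100001b000248) (0x200001b0001d3) (Nat.ble 53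 i)) (Bool.rec (motive := fun _ => Nat) (0x300001b00023b) (Bool.rec (motive := fun _ => Nat) (0x200001c00023a) (0x300001c000189) (Nat.ble 56 i)) (Nat.ble 55 i)) (Nat.ble 54 i)) (Bool.rec (motive := fun _ => Nat) (Bool.rec (motive := fun _ => Nat) (0x100001d000237) (Bool.rec (motive := fun _ => Nat) (0x300001d000238) (0x1e00024d) (Nat.ble 59 i)) (Nat.ble 58 i)) (Bool.rec (motive := fun _ => Nat) (0x200001e0001dc) (Bool.rec (motive := fun _ => Nat) (0x300001e00019c) (0x1f0000e4) (Nat.ble 62 i)) (Nat.ble 61 i)) (Nat.ble 60 i)) (Nat.ble 57 i)) (Nat.ble 52 i)) (Bool.rec (motive := fun _ => Nat) (Bool.rec (motive := fun _ => Nat) (Bool.rec (motive := fun _ => Nat) (Bool.rec (motive := fun _ => Nat) (0x100001f000190) (0x200001f0001e3) (Nat.ble 64 i)) (Bool.rec (motive := fun _ => Nat) (0x300001f0001e2) (Bool.rec (motive := fun _ => Nat) (0x20000200001e1) (0x210001e0) (Nat.ble 67 i)) (Nat.ble 66 i)) (Nat.ble 65 i)) (Bool.rec (motive := fun _ => Nat) (Bool.rec (motive := fun _ => Nat) (0x2000022000131) (0x23000195)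 (Nat.ble 69 i)) (Bool.rec (motive := fun _ => Nat) (0x2000024000192) (Bool.rec (motive := fun _ => Nat) (0x3000024000194) (0x25000193) (Nat.ble 72 i)) (Nat.ble 71 i)) (Nat.ble 70 i)) (Nat.ble 68 i)) (Bool.rec (motive := fun _ => Nat) (Bool.rec (motive := fun _ => Nat) (Bool.rec (motive := fun _ => Nat) (0x2000025000196) (0x300002500012c) (Nat.ble 74 i)) (Bool.rec (motive := fun _ => Nat) (0x200002600019b) (Bool.rec (motive := fun _ => Nat) (0x1000027000291) (0x2000027000257) (Nat.ble 77 i)) (Nat.ble 76 i)) (Nat.ble 75 i)) (Bool.rec (motive := fun _ => Nat) (Bool.rec (motive := fun _ => Nat) (0x3000027000256) (Bool.rec (motive := fun _ => Nat) (0x2000028000292) (0x30000280001d9) (Nat.ble 80 i)) (Nat.ble 79 i)) (Bool.rec (motive := fun _ => Nat) (0x100002900023e) (Bool.rec (motive := fun _ => Nat) (0x3000029000258) (0x2a0001d2) (Nat.ble 83 i)) (Nat.ble 82 i)) (Nat.ble 81 i)) (Nat.ble 78 i)) (Nat.ble 73 i)) (Nat.ble 63 i))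
noncomputable def CA2P_2 (i : Nat) : Nat := (Bool.rec (motive := fun _ => Nat) (Bool.rec (motive := fun _ => Nat) (Bool.rec (motive := fun _ => Nat) (Bool.rec (motive := fun _ => Nat) (Bool.rec (motive := fun _ => Nat) (0x2b000176) (0x300002b00019a) (Nat.ble 85 i)) (Bool.rec (motive := fun _ => Nat) (0x200002c000198) (Bool.rec (motive := fun _ => Nat) (0x200002d0000f1) (0x100002e0000e6) (Nat.ble 88 i)) (Nat.ble 87 i)) (Nat.ble 86 i)) (Bool.rec (motive := fun _ => Nat) (Bool.rec (motive := fun _ => Nat) (0x200002f00017e) (0x10000300001ce) (Nat.ble 90 i)) (Bool.rec (motive := fun _ => Nat) (0x31000239) (Bool.rec (motive := fun _ => Nat) (0x10000310001db) (0x300003200018e) (Nat.ble 93 i)) (Nat.ble 92 i)) (Nat.ble 91 i)) (Nat.ble 89 i)) (Bool.rec (motive := fun _ => Nat) (Bool.rec (motive := fun _ => Nat) (Bool.rec (motive := fun _ => Nat) (0x2000034000243) (0x3000034000241) (Nat.ble 95 i)) (Bool.rec (motive := fun _ => Nat) (0x1000035000128) (Bool.rec (motive := fun _ => Nat) (0x30000350001d4) (0x200003600017f)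 (Nat.ble 98 i)) (Nat.ble 97 i)) (Nat.ble 96 i)) (Bool.rec (motive := fun _ => Nat) (Bool.rec (motive := fun _ => Nat) (0x3700018f) (Bool.rec (motive := fun _ => Nat) (0x1000037000242) (0x2000038000127) (Nat.ble 101 i)) (Nat.ble 100 i)) (Bool.rec (motive := fun _ => Nat) (0x39000233) (Bool.rec (motive := fun _ => Nat) (0x2000039000232) (0x3000039000247) (Nat.ble 104 i)) (Nat.ble 103 i)) (Nat.ble 102 i)) (Nat.ble 99 i)) (Nat.ble 94 i)) (Bool.rec (motive := fun _ => Nat) (Bool.rec (motive := fun _ => Nat) (Bool.rec (motive := fun _ => Nat) (Bool.rec (motive := fun _ => Nat) (0x200003b000255) (0x300003b000230) (Nat.ble 106 i)) (Bool.rec (motive := fun _ => Nat) (0x3c0001ca) (Bool.rec (motive := fun _ => Nat) (0x100003e00008d) (0x1000046000178) (Nat.ble 109 i)) (Nat.ble 108 i)) (Nat.ble 107 i)) (Bool.rec (motive := fun _ => Nat) (Bool.rec (motive := fun _ => Nat) (0x1000048000254) (0x300004a000197) (Nat.ble 111 i)) (Bool.rec (motive := fun _ => Nat) (0x200004c000240) (Bool.rec (motive := fun _ => Nat)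 (0x300004c0002d1) (0x100004d0001cb) (Nat.ble 114 i)) (Nat.ble 113 i)) (Nat.ble 112 i)) (Nat.ble 110 i)) (Bool.rec (motive := fun _ => Nat) (Bool.rec (motive := fun _ => Nat) (Bool.rec (motive := fun _ => Nat) (0x300004d000259) (0x200004e000231) (Nat.ble 116 i)) (Bool.rec (motive := fun _ => Nat) (0x100004f0002d2) (Bool.rec (motive := fun _ => Nat) (0x51000182) (0x2000051000181) (Nat.ble 119 i)) (Nat.ble 118 i)) (Nat.ble 117 i)) (Bool.rec (motive := fun _ => Nat) (Bool.rec (motive := fun _ => Nat) (0x300005100028a) (Bool.rec (motive := fun _ => Nat) (0x10000540000e2) (0x58000129) (Nat.ble 122 i)) (Nat.ble 121 i)) (Bool.rec (motive := fun _ => Nat) (0x20000580000e8) (Bool.rec (motive := fun _ => Nat) (0x10000590001cf) (0x200005a000244) (Nat.ble 125 i)) (Nat.ble 124 i)) (Nat.ble 123 i)) (Nat.ble 120 i)) (Nat.ble 115 i)) (Nat.ble 105 i))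
noncomputable def CA2P_3 (i : Nat) : Nat := (Bool.rec (motive := fun _ => Nat) (Bool.rec (motive := fun _ => Nat) (Bool.rec (motive := fun _ => Nat) (Bool.rec (motive := fun _ => Nat) (Bool.rec (motive := fun _ => Nat) (0x100005b00028c) (0x5e000236) (Nat.ble 127 i)) (Bool.rec (motive := fun _ => Nat) (0x100005e000183) (Bool.rec (motive := fun _ => Nat) (0x200005e000245) (0x600000e5) (Nat.ble 130 i)) (Nat.ble 129 i)) (Nat.ble 128 i)) (Bool.rec (motive := fun _ => Nat) (Bool.rec (motive := fun _ => Nat) (0x20000600000b5) (0x640002d9) (Nat.ble 132 i)) (Bool.rec (motive := fun _ => Nat) (0x3000066000287) (Bool.rec (motive := fun _ => Nat) (0x67000179) (0x20000670001d1) (Nat.ble 135 i)) (Nat.ble 134 i)) (Nat.ble 133 i)) (Nat.ble 131 i)) (Bool.rec (motive := fun _ => Nat) (Bool.rec (motive := fun _ => Nat) (Bool.rec (motive := fun _ => Nat) (0x3000067000246) (0x2000068000184) (Nat.ble 137 i)) (Bool.rec (motive := fun _ => Nat) (0x100006b000123) (Bool.rec (motive := fun _ => Nat) (0x6d0001cc) (0x200006d00017a)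 (Nat.ble 140 i)) (Nat.ble 139 i)) (Nat.ble 138 i)) (Bool.rec (motive := fun _ => Nat) (Bool.rec (motive := fun _ => Nat) (0x200006e0001cd) (Bool.rec (motive := fun _ => Nat) (0x70000185) (0x1000070000234) (Nat.ble 143 i)) (Nat.ble 142 i)) (Bool.rec (motive := fun _ => Nat) (0x200007000028b) (Bool.rec (motive := fun _ => Nat) (0x72000177) (0x770000e7) (Nat.ble 146 i)) (Nat.ble 145 i)) (Nat.ble 144 i)) (Nat.ble 141 i)) (Nat.ble 136 i)) (Bool.rec (motive := fun _ => Nat) (Bool.rec (motive := fun _ => Nat) (Bool.rec (motive := fun _ => Nat) (Bool.rec (motive := fun _ => Nat) (0x200007700023d) (0x300007700023f) (Nat.ble 148 i)) (Bool.rec (motive := fun _ => Nat) (0x2000078000235) (Bool.rec (motive := fun _ => Nat) (0x200007a000126) (0x7b000125) (Nat.ble 151 i)) (Nat.ble 150 i)) (Nat.ble 149 i)) (Bool.rec (motive := fun _ => Nat) (Bool.rec (motive := fun _ => Nat) (0x200007b00008e) (0x300007b0000e9) (Nat.ble 153 i)) (Bool.rec (motive := fun _ => Nat) (0x200007c000124) (Bool.rec (motive := fun _ => Nat)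 (0x7d0001c7) (0x200007e0001d0) (Nat.ble 156 i)) (Nat.ble 155 i)) (Nat.ble 154 i)) (Nat.ble 152 i)) (Bool.rec (motive := fun _ => Nat) (Bool.rec (motive := fun _ => Nat) (Bool.rec (motive := fun _ => Nat) (0x100007f00017b) (0x81000288) (Nat.ble 158 i)) (Bool.rec (motive := fun _ => Nat) (0x2000083000072) (Bool.rec (motive := fun _ => Nat) (0x10000860000e3) (0x200008a0000b3) (Nat.ble 161 i)) (Nat.ble 160 i)) (Nat.ble 159 i)) (Bool.rec (motive := fun _ => Nat) (Bool.rec (motive := fun _ => Nat) (0x200008b0001c9) (Bool.rec (motive := fun _ => Nat) (0x8c0001c8) (0x30000960000b4) (Nat.ble 164 i)) (Nat.ble 163 i)) (Bool.rec (motive := fun _ => Nat) (0x2000098000057) (Bool.rec (motive := fun _ => Nat) (0x100009b000122) (0x20000a000008c) (Nat.ble 167 i)) (Nat.ble 166 i)) (Nat.ble 165 i)) (Nat.ble 162 i)) (Nat.ble 157 i)) (Nat.ble 147 i))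
noncomputable def CA2P (i : Nat) : Nat := (Bool.rec (motive := fun _ => Nat) (Bool.rec (motive := fun _ => Nat) (CA2P_0 i) (CA2P_1 i) (Nat.ble 42 i)) (Bool.rec (motive := fun _ => Nat) (CA2P_2 i) (CA2P_3 i) (Nat.ble 126 i)) (Nat.ble 84 i))
noncomputable def CA2InvB_0 (i : Nat) : Nat := (Bool.rec (motive := fun _ => Nat) (Bool.rec (motive := fun _ => Nat) (Bool.rec (motive := fun _ => Nat) (0) (Bool.rec (motive := fun _ => Nat) (0x400000300009f0000000000000000000000000000000000000000000000000000000000000000000000000000000000000000000000000000000000000000000000000000000000000000000000000000070000020000a5000000000000000000000000000000000000000000000000000000000000000000000000000000000000000000000000000001000000000000000000000000000000000000) (0x1600000b00000a0000170000090000080000830000a40000a100000000000000000000000000000000000000000000000000000000000000000000000000000000000000000000000000000000000000000000000000000000000000000000000000000000000000000000000000000000000000000f00001200001100001000000600000500009800006c0000a7000000000000000000000000000000000000000000000000000000000000000000000000)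 (Nat.ble 2 i)) (Nat.ble 1 i)) (Bool.rec (motive := fun _ => Nat) (0x2300002600005700002500002400002200000e00003200000d00000c00009900007b00009200005800008200003e0000a0000079000000000000000000000000000000000000000000000000000000000000000000000000000000000000000000000000000000000000000000000000000000000000000000000000000000000000000000000000000000000000000000000000000000000000) (Bool.rec (motive := fun _ => Nat) (0x2100001a00004400001900001800002d00001500004a00001400001300007a00006000006500009600009700009a00008a0000a6000000000000000000000000000000000000000000000000000000000000000000000000000000000000000000000000000000000000000000000000000000000000000000000000000000000000000000000000000000000000000000000000000000000000) (0x6200005900001d00001f00009d00008c00008600006d000091000054000000000000000000000000000000000000000000000000000000000000000000000000000000000000000000000000000000000000000000000000000000000000000000000000000000000000000000000000000000000000000000000000000000000000000000000000000000000000000000000000000000000000000000000000000000000000000000000000000000000000000000000000000000000000)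 (Nat.ble 5 i)) (Nat.ble 4 i)) (Nat.ble 3 i)) (Bool.rec (motive := fun _ => Nat) (Bool.rec (motive := fun _ => Nat) (0x2c00003d00004b00005500002b00005600006f00004900004500004700004800004600000000003f00006300005d00003300003100002000001e00003800001c00001b00000000008e00008900008000007600007700002e) (Bool.rec (motive := fun _ => Nat) (0x4000004100004200004300002f00003000000000003c00005c00002a00005000002800002900002700000000006100003500005300008700009c00007c00005a00008d00008b00007200006b0000a20000a300009b000000000000000000000000000000000000000000) (0x9400005100009300000000003600003700005b00003a00003900007f00009500008f00006600006700007400006a000000000000000000000000000000000000000000000000000000000000000000000000000000000000000000000000000000000000000000000000000000000000000000000000000000000000000000000000000000000000000000000000000000000000000000000000000000000000000000000000000000000000000000000000000000000000000000000000) (Nat.ble 8 i)) (Nat.ble 7 i)) (Bool.rec (motive := fun _ => Nat) (Bool.rec (motive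 := fun _ => Nat) (0x7300005200004d00004e00006900006e00000000000000000000000000000000000000003b00000000000000000000000000003400006800008800008100007d00005e00006400005f000070) (0x4f00004c00000000000000000000000000007e00009000007800000000009e000085000000000000000000000000000000000000000000) (Nat.ble 10 i)) (Bool.rec (motive := fun _ => Nat) (0x84000000000000000000000000000000000000000075000071000000000000000000000000000000000000000000000000000000000000000000000000000000000000000000000000000000) (0) (Nat.ble 12 i)) (Nat.ble 11 i)) (Nat.ble 9 i)) (Nat.ble 6 i))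
noncomputable def CA2InvB (i : Nat) : Nat := (CA2InvB_0 i)
noncomputable def CA2Inv (i : Nat) : Nat := Nat.land (Nat.shiftRight (CA2InvB (Nat.shiftRight i 6)) (Nat.mul 24 (Nat.land i 63))) 16777215
/-- Generators of a level. -/
def CA3G : List (List Nat) := [[12], [8, 7]]
noncomputable def CA3P_0 (i : Nat) : Nat := (Bool.rec (motive := fun _ => Nat) (Bool.rec (motive := fun _ => Nat) (Bool.rec (motive := fun _ => Nat) (0x1a) (0x36) (Nat.ble 1 i)) (Bool.rec (motive := fun _ => Nat) (0x100000000005c) (0x1000037) (Nat.ble 3 i)) (Nat.ble 2 i)) (Bool.rec (motive := fun _ => Nat) (Bool.rec (motive := fun _ => Nat) (0x1000001000033) (0x100000200005d) (Nat.ble 5 i)) (Bool.rec (motive := fun _ => Nat) (0x100000300005b) (Bool.rec (motive := fun _ => Nat) (0x1000004000095) (0x100000600009c) (Nat.ble 8 i)) (Nat.ble 7 i)) (Nat.ble 6 i)) (Nat.ble 4 i))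
noncomputable def CA3P (i : Nat) : Nat := (CA3P_0 i)
noncomputable def CA3InvB_0 (i : Nat) : Nat := (Bool.rec (motive := fun _ => Nat) (Bool.rec (motive := fun _ => Nat) (Bool.rec (motive := fun _ => Nat) (0x3000001000000000000000004000000000000000000000000000000000000000000000000000000000000000000000000000000000000000000000000000000000000000000000000000000000000000000000000000000000000000000000000000000000000000000000000000000000000000000000000000000000000000000000000000000000000000000000000000000000000000000000000000000000000000000) (Bool.rec (motive := fun _ => Nat) (0x5000002000006000000000000000000000000000000000000000000000000000000000000000000000000000000000000000000000000000000000000000000000000000000000000000000000000000000000000000000) (0x8000000000000000000000000000000000000000007000000000000000000000000000000000000000000000000000000000000000000000000000000000000000000000000000000000000000000000000000000) (Nat.ble 2 i)) (Nat.ble 1 i)) (Bool.rec (motive := fun _ => Nat) (0) (Bool.rec (motive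 := fun _ => Nat) (0) (0) (Nat.ble 5 i)) (Nat.ble 4 i)) (Nat.ble 3 i)) (Bool.rec (motive := fun _ => Nat) (Bool.rec (motive := fun _ => Nat) (0) (Bool.rec (motive := fun _ => Nat) (0) (0) (Nat.ble 8 i)) (Nat.ble 7 i)) (Bool.rec (motive := fun _ => Nat) (Bool.rec (motive := fun _ => Nat) (0) (0) (Nat.ble 10 i)) (Bool.rec (motive := fun _ => Nat) (0) (0) (Nat.ble 12 i)) (Nat.ble 11 i)) (Nat.ble 9 i)) (Nat.ble 6 i))
noncomputable def CA3InvB (i : Nat) : Nat := (CA3InvB_0 i)
noncomputable def CA3Inv (i : Nat) : Nat := Nat.land (Nat.shiftRight (CA3InvB (Nat.shiftRight i 6)) (Nat.mul 24 (Nat.land i 63))) 16777215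

end CfsgLib.Coset.Th
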