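import Cfsg.Agent.Coset.Th.Frame
import Cfsg.Agent.Coset.Th.Simple
import Mathlib.GroupTheory.GroupAction.Quotient
import Mathlib.GroupTheory.Index
import Mathlib.Data.Set.Card
import Mathlib.Data.Set.Card.Arithmetic
import Mathlib.Algebra.BigOperators.Fin
import Mathlib.Data.Finite.Sigma

/-!
Counting on the cosets of the subgroup on fourteen letters: if right multiplication by `u` carries
each of eleven representatives as a colouring of 17199 points prescribes, and the representatives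
lie in different double cosets, then double counting gives the lengths of the eleven suborbits.
-/

set_option autoImplicit false
set_option maxRecDepth 100000
set_option Elab.async false

namespace CfsgLib.Coset.Th

/-- The lengths of the suborbits. -/
def sz (n : Nat) : Nat :=
  [1, 17199, 45864, 1304576, 2201472, 11741184, 105670656, 5031936, 8128512, 8805888,
    179712].getD n 0

/-- The colouring, also at the base coset. -/
def lab0 (lab : Nat → Nat → Nat) (n p : Nat) : Nat := if n = 0 then 1 else lab n p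

/-- The numbers of points of each colour, also at the base coset. -/
def cnt0 (cnt : Nat → Nat → Nat) (n m : Nat) : Nat :=
  if n = 0 then (if m = 1 then 17199 else 0) else cnt n m

/-- All sums of sublists. -/
def subsums : List Nat → List Nat
  | [] => [0]
  | x :: l => (subsums l).flatMap fun s => [s, x + s]

theorem mem_subsums : ∀ {k : Nat} (f : Fin k → Nat) (P : Fin k → Prop) [DecidablePred P],
    (∑ i, if P i then f i else 0) ∈ subsums (List.ofFn f)
  | 0, f, P, _ => by simp [subsums]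
  | k + 1, f, P, _ => by
    have ih := mem_subsums (fun i => f i.succ) (fun i => P i.succ)
    rw [Fin.sum_univ_succ, List.ofFn_succ, subsums, List.mem_flatMap]
    refine ⟨_, ih, ?_⟩
    split_ifs <;> simp

/-- Counting the elements carrying a point into a set. -/
theorem card_preimage {G α : Type*} [Group G] [Finite G] (f : G →* Equiv.Perm α) (p : α)
    (S : Set α) (hS : ∀ x ∈ S, ∃ g, f g p = x) :
    Nat.card {g : G // f g p ∈ S} = S.ncard * Nat.card {g : G // f g p = p} := by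
  haveI : Finite ↥S := Finite.of_injective (fun x : ↥S => (hS x x.2).choose) fun x y h =>
    Subtype.ext (((hS x x.2).choose_spec.symm.trans
      (congrArg (fun g => f g p) h)).trans (hS y y.2).choose_spec)
  haveI := Fintype.ofFinite ↥S
  have e : ∀ x : ↥S, Nat.card {g : G // f g p = (x : α)} = Nat.card {g : G // f g p = p} := by
    intro x
    obtain ⟨g0, hg0⟩ := hS x x.2
    refine Nat.card_congr ((Equiv.mulLeft g0⁻¹).subtypeEquiv fun g => ?_)
    simp only [Equiv.coe_mulLeft, map_mul, map_inv, Equiv.Perm.mul_apply]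
    rw [Equiv.Perm.inv_eq_iff_eq, hg0]
  let E : {g : G // f g p ∈ S} ≃ (x : ↥S) × {g : G // f g p = (x : α)} :=
    { toFun := fun g => ⟨⟨_, g.2⟩, ⟨g.1, rfl⟩⟩
      invFun := fun z => ⟨z.2.1, by rw [z.2.2]; exact z.1.2⟩
      left_inv := fun g => rfl
      right_inv := by
        rintro ⟨⟨x, hx⟩, g, hg⟩
        change f g p = x at hg
        subst hg
        rfl }
  rw [Nat.card_congr E, Nat.card_sigma]
  simp only [e, Finset.sum_const, Finset.card_univ, smul_eq_mul]
  rw [← Nat.card_eq_fintype_card, Nat.card_coe_set_eq]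

variable {Γ : Type*} [Group Γ] {L : List Γ}

/-- The subgroup of the model fixing the coset of a node. -/
noncomputable def Frame.stabN (hF : Frame L) (n : Nat) : Subgroup A :=
  Subgroup.comap ((MulAut.conj (ev L (nodeW.getD n []))).toMonoidHom.comp hF.Ψ) hF.H

theorem Frame.mem_stabN (hF : Frame L) {n : Nat} {a : A} :
    a ∈ hF.stabN n ↔
      ev L (nodeW.getD n []) * hF.Ψ a * (ev L (nodeW.getD n []))⁻¹ ∈ hF.H := Iff.rfl

/-- What the derivation, the colouring and the invariant provide. -/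
structure Frame.EdgeData (hF : Frame L) (τ : A →* Equiv.Perm (Fin 17199))
    (lab cnt : Nat → Nat → Nat) : Prop where
  trans : ∀ i : Fin 17199, ∃ a : A, τ a 0 = i
  lab_lt : ∀ n, 1 ≤ n → n < 11 → ∀ p : Fin 17199, lab n p < 11
  step : ∀ n, 1 ≤ n → n < 11 → ∀ a : A, ∃ b : A,
    (ev L (nodeW.getD n []) * hF.Ψ a * fl L 14) *
      (ev L (nodeW.getD (lab n (τ a 0)) []) * hF.Ψ b)⁻¹ ∈ hF.H
  card_lab : ∀ n, 1 ≤ n → n < 11 → ∀ m, m < 11 →
    Nat.card {p : Fin 17199 // lab n p = m} = cnt n m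
  tree : ∀ n < 11, 1 ≤ n → ∃ m < n, cnt0 cnt n m ≠ 0 ∧
    sz m * cnt0 cnt m n = sz n * cnt0 cnt n m
  sep : ∀ m < 11, ∀ n < 11, ∀ h ∈ hF.H, ∀ k ∈ hF.H,
    ev L (nodeW.getD m []) = h * ev L (nodeW.getD n []) * k → m = n

section

variable (hF : Frame L)

/-- The point of a node. -/
noncomputable def Frame.ptN (n : Fin 11) : Γ ⧸ hF.H :=
  QuotientGroup.mk (ev L (nodeW.getD n []))⁻¹

/-- The model permutes the cosets. -/
noncomputable def Frame.actN : A →* Equiv.Perm (Γ ⧸ hF.H) :=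
  (MulAction.toPermHom Γ (Γ ⧸ hF.H)).comp hF.Ψ

theorem Frame.actN_mk (a : A) (g : Γ) :
    hF.actN a (QuotientGroup.mk g) = QuotientGroup.mk (hF.Ψ a * g) := rfl

theorem Frame.actN_apply (a : A) (x : Γ ⧸ hF.H) : hF.actN a x = hF.Ψ a • x := rfl

/-- The suborbit of a node. -/
noncomputable def Frame.orbN (n : Fin 11) : Set (Γ ⧸ hF.H) :=
  Set.range fun a => hF.actN a (hF.ptN n)

theorem Frame.ptN_mem (n : Fin 11) : hF.ptN n ∈ hF.orbN n := ⟨1, by simp⟩

theorem Frame.orbN_invariant (n : Fin 11) (a : A) {x : Γ ⧸ hF.H} (hx : x ∈ hF.orbN n) :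
    hF.actN a x ∈ hF.orbN n := by
  obtain ⟨b, rfl⟩ := hx
  exact ⟨a * b, by simp⟩

theorem Frame.actN_fix (n : Fin 11) (a : A) :
    hF.actN a (hF.ptN n) = hF.ptN n ↔ a ∈ hF.stabN n := by
  rw [Frame.ptN, hF.actN_mk, QuotientGroup.eq, hF.mem_stabN, ← inv_mem_iff]
  simp [mul_assoc]

theorem Frame.ptN_zero : hF.ptN 0 = QuotientGroup.mk 1 := by
  simp [Frame.ptN, nodeW]

/-- The move along an edge. -/
noncomputable def Frame.mv (x : Γ ⧸ hF.H) : Γ ⧸ hF.H := (fl L 14)⁻¹ • x

theorem Frame.mv_injective : Function.Injective hF.mv := MulAction.injective _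

theorem Frame.mv_mv (x : Γ ⧸ hF.H) : hF.mv (hF.mv x) = hF.actN (ev LA [5, 1]) x := by
  rw [Frame.mv, Frame.mv, ← mul_smul, hF.actN_apply, hF.Ψ_ev _ (by decide)]
  congr 1
  rw [← mul_inv_rev, hF.uu, ← hF.ev_invW]
  rfl

theorem Frame.ptN_one : hF.mv (hF.ptN 0) = hF.ptN 1 := by
  rw [hF.ptN_zero, Frame.mv, Frame.ptN]
  show QuotientGroup.mk ((fl L 14)⁻¹ * 1) = _
  simp [nodeW]

end

section

variable {hF : Frame L} {τ : A →* Equiv.Perm (Fin 17199)} {lab cnt : Nat → Nat → Nat}
  (D : hF.EdgeData τ lab cnt)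
include D

theorem Frame.EdgeData.lab0_lt (n : Fin 11) (p : Fin 17199) : lab0 lab n p < 11 := by
  unfold lab0
  split
  · omega
  · exact D.lab_lt n (by omega) n.2 p

theorem Frame.EdgeData.card_lab0 (n m : Fin 11) :
    Nat.card {p : Fin 17199 // lab0 lab n p = m} = cnt0 cnt n m := by
  by_cases hn : (n : Nat) = 0
  · simp only [lab0, cnt0, hn, if_true]
    by_cases hm : (m : Nat) = 1
    · rw [if_pos hm]
      rw [Nat.card_congr (Equiv.subtypeUnivEquiv fun p => hm.symm), Nat.card_fin]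
    · rw [if_neg hm, Nat.card_eq_zero]
      exact Or.inl ⟨fun p => hm p.2.symm⟩
  · simp only [lab0, cnt0, hn, if_false]
    exact D.card_lab n (by omega) n.2 m m.2

theorem Frame.EdgeData.mv_mem (n : Fin 11) (a : A) :
    hF.mv (hF.actN a⁻¹ (hF.ptN n)) ∈ hF.orbN ⟨lab0 lab n (τ a 0), D.lab0_lt n _⟩ := by
  by_cases hn : (n : Nat) = 0
  · have h0 : n = 0 := Fin.ext hn
    subst h0
    refine ⟨1, ?_⟩
    have h1 : (⟨lab0 lab ((0 : Fin 11) : Nat) (τ a 0), D.lab0_lt 0 _⟩ : Fin 11) = 1 :=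
      Fin.ext (by simp [lab0])
    show hF.actN 1 _ = _
    rw [map_one, Equiv.Perm.one_apply, h1, ← hF.ptN_one]
    congr 1
    rw [hF.ptN_zero, hF.actN_mk, QuotientGroup.eq]
    simpa using inv_mem (show hF.Ψ a⁻¹ ∈ hF.H from ⟨a⁻¹, rfl⟩)
  · obtain ⟨b, hb⟩ := D.step n (by omega) n.2 a
    refine ⟨b⁻¹, ?_⟩
    simp only [lab0, hn, if_false, Frame.ptN, Frame.mv, hF.actN_mk]
    show _ = QuotientGroup.mk ((fl L 14)⁻¹ * _)
    rw [QuotientGroup.eq, ← inv_mem_iff]
    simpa [mul_assoc] using hb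

theorem Frame.EdgeData.orbN_inj {n m : Fin 11} {x : Γ ⧸ hF.H} (hn : x ∈ hF.orbN n)
    (hm : x ∈ hF.orbN m) : n = m := by
  obtain ⟨a, rfl⟩ := hn
  obtain ⟨b, hb⟩ := hm
  simp only [Frame.ptN, hF.actN_mk, QuotientGroup.eq] at hb
  have key : ev L (nodeW.getD m []) =
      ((hF.Ψ b * (ev L (nodeW.getD m []))⁻¹)⁻¹ * (hF.Ψ a * (ev L (nodeW.getD n []))⁻¹)) *
        ev L (nodeW.getD n []) * hF.Ψ (a⁻¹ * b) := by
    simp [mul_assoc]
  exact Fin.ext (D.sep m m.2 n n.2 _ hb _ ⟨a⁻¹ * b, rfl⟩ key).symm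

theorem Frame.EdgeData.mv_iff (n m : Fin 11) (a : A) :
    hF.mv (hF.actN a⁻¹ (hF.ptN n)) ∈ hF.orbN m ↔ lab0 lab n (τ a 0) = m := by
  refine ⟨fun h => congrArg Fin.val (D.orbN_inj (D.mv_mem n a) h), fun h => ?_⟩
  have e : (⟨lab0 lab n (τ a 0), D.lab0_lt n _⟩ : Fin 11) = m := Fin.ext h
  rw [← e]
  exact D.mv_mem n a

omit D in
theorem Frame.orbN_finite (hF : Frame L) (n : Fin 11) : (hF.orbN n).Finite := by
  haveI : Finite A := card_le.1
  exact Set.finite_range _

/-- The number of moves between two suborbits. -/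
theorem Frame.EdgeData.edge_count (n m : Fin 11) :
    17199 * {x | x ∈ hF.orbN n ∧ hF.mv x ∈ hF.orbN m}.ncard =
      cnt0 cnt n m * (hF.orbN n).ncard := by
  haveI : Finite A := card_le.1
  set X := {x | x ∈ hF.orbN n ∧ hF.mv x ∈ hF.orbN m} with hX
  set s := Nat.card {g : A // hF.actN g (hF.ptN n) = hF.ptN n}
  set k := Nat.card {g : A // τ g 0 = 0}
  have h1 : Nat.card {g : A // hF.actN g (hF.ptN n) ∈ X} = X.ncard * s :=
    card_preimage _ _ X fun x hx => hx.1
  have h2 : Nat.card {g : A // hF.actN g (hF.ptN n) ∈ hF.orbN n} = (hF.orbN n).ncard * s :=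
    card_preimage _ _ _ fun x hx => hx
  have h3 : Nat.card A = (hF.orbN n).ncard * s := by
    rw [← h2, Nat.card_congr (Equiv.subtypeUnivEquiv fun g => ⟨g, rfl⟩)]
  have h4 : Nat.card {g : A // hF.actN g (hF.ptN n) ∈ X} =
      Nat.card {g : A // τ g 0 ∈ {p : Fin 17199 | lab0 lab n p = m}} := by
    refine Nat.card_congr ((Equiv.inv A).subtypeEquiv fun g => ?_)
    simp only [hX, Equiv.inv_apply, Set.mem_setOf_eq, ← D.mv_iff, inv_inv,
      show hF.actN g (hF.ptN n) ∈ hF.orbN n from ⟨g, rfl⟩, true_and]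
  have h5 : Nat.card {g : A // τ g 0 ∈ {p : Fin 17199 | lab0 lab n p = m}} = cnt0 cnt n m * k := by
    rw [card_preimage τ 0 _ fun x _ => D.trans x, ← Nat.card_coe_set_eq]
    exact congrArg (· * k) (D.card_lab0 n m)
  have h6 : Nat.card A = 17199 * k := by
    rw [← Nat.card_congr (Equiv.subtypeUnivEquiv fun g : A => Set.mem_univ (τ g 0)),
      card_preimage τ 0 _ fun x _ => D.trans x, Set.ncard_univ, Nat.card_fin]
  have hpos : 0 < Nat.card A := Nat.card_pos
  have hs : 0 < s := by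
    rcases Nat.eq_zero_or_pos s with h | h
    · rw [h, mul_zero] at h3; omega
    · exact h
  refine Nat.eq_of_mul_eq_mul_right hs ?_
  rw [mul_assoc, ← h1, h4, h5, mul_assoc (cnt0 cnt n m), ← h3, h6]
  ring

/-- Double counting between two suborbits. -/
theorem Frame.EdgeData.edge_symm (n m : Fin 11) :
    cnt0 cnt n m * (hF.orbN n).ncard = cnt0 cnt m n * (hF.orbN m).ncard := by
  have hle : ∀ n m : Fin 11, {x | x ∈ hF.orbN n ∧ hF.mv x ∈ hF.orbN m}.ncard ≤
      {x | x ∈ hF.orbN m ∧ hF.mv x ∈ hF.orbN n}.ncard := by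
    intro n m
    refine Set.ncard_le_ncard_of_injOn hF.mv (fun x hx => ⟨hx.2, ?_⟩) hF.mv_injective.injOn
      ((hF.orbN_finite m).subset fun x hx => hx.1)
    rw [hF.mv_mv]
    exact hF.orbN_invariant n _ hx.1
  rw [← D.edge_count n m, ← D.edge_count m n, le_antisymm (hle n m) (hle m n)]

theorem Frame.EdgeData.ncard_orbN : ∀ n : Fin 11, (hF.orbN n).ncard = sz n := by
  have h0 : (hF.orbN 0).ncard = sz 0 := by
    have e : hF.orbN 0 = {hF.ptN 0} := by
      refine Set.eq_singleton_iff_unique_mem.mpr ⟨hF.ptN_mem 0, ?_⟩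
      rintro _ ⟨a, rfl⟩
      show hF.actN a _ = _
      rw [hF.ptN_zero, hF.actN_mk, QuotientGroup.eq]
      simpa using inv_mem (show hF.Ψ a ∈ hF.H from ⟨a, rfl⟩)
    rw [e, Set.ncard_singleton]; rfl
  intro n
  obtain ⟨n, hn⟩ := n
  induction n using Nat.strong_induction_on with
  | _ n ih =>
    rcases Nat.eq_zero_or_pos n with rfl | hp
    · exact h0
    · obtain ⟨m, hm, hc, he⟩ := D.tree n hn hp
      have h := D.edge_symm ⟨n, hn⟩ ⟨m, by omega⟩
      rw [ih m hm (by omega)] at h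
      simp only at h
      rw [mul_comm (cnt0 cnt m n), he, mul_comm (sz n)] at h
      exact Nat.eq_of_mul_eq_mul_left (Nat.pos_of_ne_zero hc) h

theorem Frame.EdgeData.index_stabN {n : Nat} (hn : n < 11) : (hF.stabN n).index = sz n := by
  haveI : Finite A := card_le.1
  have h := D.ncard_orbN ⟨n, hn⟩
  have h3 := card_preimage hF.actN (hF.ptN ⟨n, hn⟩) (hF.orbN ⟨n, hn⟩) fun x hx => hx
  have h2 : Nat.card {g : A // hF.actN g (hF.ptN ⟨n, hn⟩) ∈ hF.orbN ⟨n, hn⟩} = Nat.card A :=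
    Nat.card_congr (Equiv.subtypeUnivEquiv fun g => ⟨g, rfl⟩)
  rw [h2, h,
    Nat.card_congr (Equiv.subtypeEquivRight fun g => hF.actN_fix ⟨n, hn⟩ g)] at h3
  have h4 := Subgroup.card_mul_index (hF.stabN n)
  rw [h3, mul_comm (sz n)] at h4
  exact Nat.eq_of_mul_eq_mul_left Nat.card_pos h4

theorem Frame.EdgeData.orbN_cover (x : Γ ⧸ hF.H) : ∃ n, x ∈ hF.orbN n := by
  have hU : ∀ x, (∃ n, x ∈ hF.orbN n) → ∀ l, ∃ n, fl L l • x ∈ hF.orbN n := by
    rintro x ⟨n, hx⟩ l
    have hA : ∀ (a : A) (x), (∃ n, x ∈ hF.orbN n) → ∃ n, hF.Ψ a • x ∈ hF.orbN n :=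
      fun a x ⟨n, hx⟩ => ⟨n, hF.orbN_invariant n a hx⟩
    have hv : ∀ x, (∃ n, x ∈ hF.orbN n) → ∃ n, hF.mv x ∈ hF.orbN n := by
      rintro _ ⟨n, a, rfl⟩
      have := D.mv_mem n a⁻¹
      rw [inv_inv] at this
      exact ⟨_, this⟩
    by_cases h14 : l < 14
    · obtain ⟨m, hm⟩ := hA (ev LA [l]) x ⟨n, hx⟩
      refine ⟨m, ?_⟩
      rwa [hF.Ψ_ev [l] (by simpa using h14), ev_cons, ev_nil, mul_one] at hm
    · by_cases hl : l < 16
      · rcases (by omega : l = 14 ∨ l = 15) with rfl | rfl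
        · obtain ⟨m, hm⟩ := hv _ (hA (ev LA [0, 4]) x ⟨n, hx⟩)
          refine ⟨m, ?_⟩
          rwa [Frame.mv, hF.Ψ_ev _ (by decide), ← mul_smul, ← hF.uu, inv_mul_cancel_left] at hm
        · obtain ⟨m, hm⟩ := hv x ⟨n, hx⟩
          exact ⟨m, by rw [show fl L 15 = (fl L 14)⁻¹ from hF.fl_xor 14]; exact hm⟩
      · rw [fl_of_le _ (by rw [hF.len]; omega), one_smul]
        exact ⟨n, hx⟩
  induction x using QuotientGroup.induction_on with
  | _ g =>
    have hg : g ∈ Subgroup.closure {x | x ∈ L} := hF.gen ▸ Subgroup.mem_top g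
    induction hg using Subgroup.closure_induction_left with
    | one => exact ⟨0, hF.ptN_zero ▸ hF.ptN_mem 0⟩
    | mul_left a ha y _ ih =>
      obtain ⟨l, hl, rfl⟩ := List.getElem_of_mem ha
      have := hU _ ih l
      rwa [fl, List.getD_eq_getElem _ _ hl] at this
    | inv_mul_cancel a ha y _ ih =>
      obtain ⟨l, hl, rfl⟩ := List.getElem_of_mem ha
      have := hU _ ih (Nat.xor l 1)
      rwa [hF.fl_xor, fl, List.getD_eq_getElem _ _ hl] at this

theorem Frame.EdgeData.finite_quotient : Finite (Γ ⧸ hF.H) := by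
  have : (Set.univ : Set (Γ ⧸ hF.H)) = ⋃ n : Fin 11, hF.orbN n :=
    (Set.eq_univ_of_forall fun x => Set.mem_iUnion.mpr (D.orbN_cover x)).symm
  refine Set.finite_univ_iff.mp ?_
  rw [this]
  exact Set.finite_iUnion fun n => hF.orbN_finite n

theorem Frame.EdgeData.finite : Finite Γ := by
  haveI : Finite A := card_le.1
  haveI := D.finite_quotient
  haveI : Finite hF.H := Finite.of_surjective hF.Ψ.rangeRestrict hF.Ψ.rangeRestrict_surjective
  exact Finite.of_equiv _ (Subgroup.groupEquivQuotientProdSubgroup (s := hF.H)).symm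

open Classical in
/-- The size of an invariant set. -/
theorem Frame.EdgeData.ncard_invariant (T : Set (Γ ⧸ hF.H))
    (hT : ∀ (a : A), ∀ x ∈ T, hF.actN a x ∈ T) :
    T.ncard = ∑ n : Fin 11, if hF.ptN n ∈ T then sz n else 0 := by
  haveI := D.finite_quotient
  have hpt : ∀ n x, x ∈ hF.orbN n → (x ∈ T ↔ hF.ptN n ∈ T) := by
    rintro n _ ⟨a, rfl⟩
    refine ⟨fun h => ?_, hT a _⟩
    have := hT a⁻¹ _ h
    rwa [← Equiv.Perm.mul_apply, ← map_mul, inv_mul_cancel, map_one, Equiv.Perm.one_apply] at this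
  have hcover : T = ⋃ n ∈ Finset.univ.filter fun n => hF.ptN n ∈ T, hF.orbN n := by
    ext x
    simp only [Set.mem_iUnion, Finset.mem_filter, Finset.mem_univ, true_and]
    refine ⟨fun hx => ?_, fun ⟨n, hn, hx⟩ => (hpt n x hx).mpr hn⟩
    obtain ⟨n, hn⟩ := D.orbN_cover x
    exact ⟨n, (hpt n x hn).mp hx, hn⟩
  conv_lhs => rw [hcover]
  rw [← Finset.sum_filter]
  refine Eq.trans ?_ (Finset.sum_congr rfl fun n _ => D.ncard_orbN n)
  rw [← finsum_mem_coe_finset (fun n => (hF.orbN n).ncard)]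
  simp only [← Finset.mem_coe]
  refine Set.Finite.ncard_biUnion (Finset.finite_toSet _) (fun n _ => hF.orbN_finite n) ?_
  intro n _ m _ hnm
  exact Set.disjoint_left.mpr fun x hn hm => hnm (D.orbN_inj hn hm)

theorem Frame.EdgeData.index_H : hF.H.index = 143127000 := by
  classical
  rw [Subgroup.index_eq_card, ← Set.ncard_univ, D.ncard_invariant Set.univ fun _ _ _ => trivial]
  simp only [Set.mem_univ, if_true]
  decide +kernel

/-- The subgroup is maximal. -/
theorem Frame.EdgeData.maximal_H {M : Subgroup Γ} (hM : hF.H ≤ M) : M = hF.H ∨ M = ⊤ := by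
  classical
  let T : Set (Γ ⧸ hF.H) := MulAction.orbit M (QuotientGroup.mk 1 : Γ ⧸ hF.H)
  have hT : ∀ (a : A), ∀ x ∈ T, hF.actN a x ∈ T := by
    rintro a x ⟨m, rfl⟩
    exact ⟨⟨hF.Ψ a, hM ⟨a, rfl⟩⟩ * m, mul_smul _ _ _⟩
  have h0 : hF.ptN 0 ∈ T := hF.ptN_zero ▸ MulAction.mem_orbit_self _
  have hc : T.ncard - 1 ∈ subsums ((List.range' 1 10).map sz) := by
    rw [D.ncard_invariant T hT, Fin.sum_univ_succ, if_pos h0]
    have e : (List.range' 1 10).map sz = List.ofFn fun i : Fin 10 => sz i.succ := by decide +kernel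
    rw [e, show sz ((0 : Fin 11) : Nat) = 1 from rfl, Nat.add_sub_cancel_left]
    exact mem_subsums (fun i : Fin 10 => sz i.succ) fun i => hF.ptN i.succ ∈ T
  have hst : MulAction.stabilizer M (QuotientGroup.mk 1 : Γ ⧸ hF.H) = hF.H.subgroupOf M := by
    ext m
    rw [MulAction.mem_stabilizer_iff, Subgroup.mem_subgroupOf]
    show (QuotientGroup.mk ((m : Γ) * 1) : Γ ⧸ hF.H) = QuotientGroup.mk 1 ↔ _
    rw [QuotientGroup.eq]
    simp
  have hr : T.ncard = hF.H.relIndex M := by
    rw [Subgroup.relIndex, ← hst, MulAction.index_stabilizer]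
  have hd : T.ncard ∣ 143127000 := by
    rw [hr, ← D.index_H]
    exact ⟨M.index, (Subgroup.relIndex_mul_index hM).symm⟩
  have key : ∀ s ∈ subsums ((List.range' 1 10).map sz), 143127000 % (s + 1) = 0 →
      s = 0 ∨ s + 1 = 143127000 := by decide +kernel
  have hpos : 0 < T.ncard := by
    haveI := D.finite_quotient
    exact (Set.ncard_pos (Set.toFinite _)).mpr ⟨_, h0⟩
  have hk := key _ hc (by rw [Nat.sub_add_cancel hpos]; exact Nat.mod_eq_zero_of_dvd hd)
  rcases hk with h | h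
  · left
    refine le_antisymm ?_ hM
    rw [← Subgroup.relIndex_eq_one]
    omega
  · right
    have h2 := Subgroup.relIndex_mul_index hM
    rw [← hr, D.index_H] at h2
    rw [Nat.sub_add_cancel hpos] at h
    rw [h] at h2
    exact Subgroup.index_eq_one.mp (by omega)

/-- The model maps injectively. -/
theorem Frame.EdgeData.Ψ_injective : Function.Injective hF.Ψ := by
  rw [← MonoidHom.ker_eq_bot_iff]
  by_contra h
  have hle : hF.Ψ.ker ≤ hF.stabN 1 := fun a ha => by
    rw [hF.mem_stabN, MonoidHom.mem_ker.mp ha, mul_one, mul_inv_cancel]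
    exact one_mem _
  have h1 := Subgroup.index_dvd_of_le ((commutator_le_of_normal hF.Ψ.ker h).trans hle)
  rw [D.index_stabN (by norm_num : 1 < 11)] at h1
  have h2 := Subgroup.card_mul_index (commutator A)
  rw [card_A', card_and_injective.1] at h2
  have : (commutator A).index = 3 := by omega
  rw [this] at h1
  exact absurd h1 (by decide)

theorem Frame.EdgeData.card_H : Nat.card hF.H = 634023936 :=
  (Nat.card_congr (MonoidHom.ofInjective D.Ψ_injective).toEquiv).symm.trans card_and_injective.1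

theorem Frame.EdgeData.card_group : Nat.card Γ = 90745943887872000 := by
  rw [← Subgroup.card_mul_index hF.H, D.card_H, D.index_H]

theorem Frame.EdgeData.not_normal_H : ¬ hF.H.Normal := by
  intro hN
  have h : hF.stabN 1 = ⊤ := by
    rw [eq_top_iff]
    intro a _
    exact hF.mem_stabN.mpr (hN.conj_mem _ ⟨a, rfl⟩ _)
  have := D.index_stabN (by norm_num : 1 < 11)
  rw [h, Subgroup.index_top] at this
  exact absurd this (by decide)

theorem Frame.EdgeData.normal_H_index (K : Subgroup hF.H) (hK : K.Normal) (hb : K ≠ ⊥) :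
    K.index = 1 ∨ K.index = 3 := by
  let e : A ≃* hF.H := MonoidHom.ofInjective D.Ψ_injective
  haveI := hK
  have hi : (K.comap e.toMonoidHom).index = K.index :=
    Subgroup.index_comap_of_surjective K e.surjective
  haveI : (K.comap e.toMonoidHom).Normal := hK.comap _
  have hne : K.comap e.toMonoidHom ≠ ⊥ := by
    intro h
    apply hb
    rw [eq_bot_iff]
    intro k hk
    have : e.symm k ∈ K.comap e.toMonoidHom := by simpa using hk
    rw [h, Subgroup.mem_bot] at this
    simpa using congrArg e this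
  have h1 := Subgroup.index_dvd_of_le (commutator_le_of_normal (K.comap e.toMonoidHom) hne)
  have h2 := Subgroup.card_mul_index (commutator A)
  rw [card_A', card_and_injective.1] at h2
  have h3 : (commutator A).index = 3 := by omega
  rw [hi, h3] at h1
  exact (Nat.prime_three.eq_one_or_self_of_dvd _ h1)

/-- One suborbit only has stabilisers of order divisible by 13, outside the base coset. -/
theorem Frame.EdgeData.thirteen_orbit (x y : Γ ⧸ hF.H) (hx : x ≠ QuotientGroup.mk 1)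
    (hy : y ≠ QuotientGroup.mk 1) (hx13 : 13 ∣ Nat.card (MulAction.stabilizer hF.H x))
    (hy13 : 13 ∣ Nat.card (MulAction.stabilizer hF.H y)) : y ∈ MulAction.orbit hF.H x := by
  have horb : ∀ (n : Fin 11) (z), z ∈ hF.orbN n → MulAction.orbit hF.H z = hF.orbN n := by
    rintro n _ ⟨a, rfl⟩
    refine Set.ext fun w => ⟨?_, ?_⟩
    · rintro ⟨⟨_, b, rfl⟩, rfl⟩
      exact hF.orbN_invariant n b ⟨a, rfl⟩
    · rintro ⟨b, rfl⟩
      refine ⟨⟨hF.Ψ (b * a⁻¹), b * a⁻¹, rfl⟩, ?_⟩
      show hF.Ψ (b * a⁻¹) • hF.Ψ a • hF.ptN n = _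
      rw [← mul_smul, ← map_mul, inv_mul_cancel_right]
      rfl
  have key : ∀ z : Γ ⧸ hF.H, z ≠ QuotientGroup.mk 1 →
      13 ∣ Nat.card (MulAction.stabilizer hF.H z) → z ∈ hF.orbN 8 := by
    intro z hz h13
    obtain ⟨n, hn⟩ := D.orbN_cover z
    have hn0 : n ≠ 0 := by
      rintro rfl
      obtain ⟨a, rfl⟩ := hn
      apply hz
      show hF.actN a (hF.ptN 0) = _
      rw [hF.ptN_zero, hF.actN_mk, QuotientGroup.eq]
      simpa using inv_mem (show hF.Ψ a ∈ hF.H from ⟨a, rfl⟩)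
    have hc := Subgroup.card_mul_index (MulAction.stabilizer hF.H z)
    rw [MulAction.index_stabilizer, horb n z hn, D.ncard_orbN, D.card_H] at hc
    have h169 : ∀ m : Fin 11, m ≠ 0 → m ≠ 8 → sz m % 13 = 0 := by decide +kernel
    by_cases h8 : n = 8
    · exact h8 ▸ hn
    · exfalso
      obtain ⟨q, hq⟩ := h13
      obtain ⟨r, hr⟩ := Nat.dvd_of_mod_eq_zero (h169 n hn0 h8)
      rw [hq, hr] at hc
      have : 169 ∣ 634023936 := ⟨q * r, by rw [← hc]; ring⟩
      exact absurd this (by decide)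
  rw [horb 8 x (key x hx hx13)]
  exact key y hy hy13

end

/-- No quotient of order three. -/
theorem Frame.hom_three_trivial (hF : Frame L) (f : Γ →* Multiplicative (ZMod 3)) : f = 1 := by
  have hsq : ∀ z : Multiplicative (ZMod 3), z * z = 1 → z = 1 := by decide
  have h7 : ∀ z : Multiplicative (ZMod 3), z * z * z * z * z * z * z = 1 → z = 1 := by decide
  have hrel : ∀ w ∈ Th.relW, f (ev L w) = 1 := fun w hw => by rw [hF.relW w hw, map_one]
  have h0 : ∀ l ∈ [0, 2, 4, 6, 8], f (fl L l) = 1 := by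
    intro l hl
    have hm : [l, l] ∈ Th.relW := (by decide +kernel : ∀ l ∈ [0, 2, 4, 6, 8], [l, l] ∈ Th.relW) l hl
    exact hsq _ (by simpa using hrel _ hm)
  have hs : f (fl L 10) = 1 :=
    h7 _ (by simpa [mul_assoc] using hrel [10, 10, 10, 10, 10, 10, 10] (by decide +kernel))
  have ht : f (fl L 12) = 1 := by
    have h := hrel [15, 12, 14, 12] (by decide +kernel)
    simp only [ev_cons, ev_nil, mul_one, map_mul, show fl L 15 = (fl L 14)⁻¹ from hF.fl_xor 14,
      map_inv] at h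
    refine hsq _ ?_
    rw [mul_left_comm (f (fl L 12)) (f (fl L 14)), inv_mul_cancel_left] at h
    exact h
  have hu : f (fl L 14) = 1 := by
    refine hsq _ ?_
    rw [← map_mul, hF.uu]
    simp [h0 0 (by simp), h0 4 (by simp)]
  have hev : ∀ l < 8, f (fl L (2 * l)) = 1 := by
    intro l hl
    interval_cases l
    exacts [h0 0 (by simp), h0 2 (by simp), h0 4 (by simp), h0 6 (by simp), h0 8 (by simp), hs,
      ht, hu]
  refine MonoidHom.eq_of_eqOn_dense hF.gen ?_
  intro x hx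
  obtain ⟨l, hl, rfl⟩ := List.getElem_of_mem hx
  rw [hF.len] at hl
  rw [MonoidHom.one_apply]
  have hget : ∀ (h : l < L.length), L[l] = fl L l := fun h => by
    rw [fl, List.getD_eq_getElem _ _ h]
  rw [hget]
  rcases Nat.even_or_odd' l with ⟨k, rfl | rfl⟩
  · exact hev k (by omega)
  · rw [show 2 * k + 1 = Nat.xor (2 * k) 1 from
      ((by decide +kernel : ∀ k < 8, 2 * k + 1 = Nat.xor (2 * k) 1) k (by omega)), hF.fl_xor,
      map_inv, hev k (by omega), inv_one]

end CfsgLib.Coset.Th
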