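import Cfsg.Agent.Coset.Prim
import Mathlib.Order.Interval.Finset.Nat
import Mathlib.Data.Fintype.Fin
import Mathlib.Tactic.Ring

/-!
Counting the points of a table with a given colour, by bisection.
-/

set_option autoImplicit false

namespace CfsgLib.Coset.Th

/-- The number of points of a dyadic interval satisfying a test. -/
noncomputable def countBlock (d : Nat) : Nat → (Nat → Bool) → Nat :=
  Nat.rec (fun s p => cond (p s) 1 0)
    (fun _ ih s p => Nat.add (ih (Nat.mul 2 s) p) (ih (Nat.add (Nat.mul 2 s) 1) p)) d

theorem countBlock_eq (d : Nat) : ∀ (s : Nat) (p : Nat → Bool),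
    countBlock d s p = ((Finset.Ico (s * 2 ^ d) ((s + 1) * 2 ^ d)).filter fun i => p i = true).card := by
  induction d with
  | zero =>
    intro s p
    change cond (p s) 1 0 = _
    rw [pow_zero, Nat.mul_one, Nat.mul_one, Nat.Ico_succ_singleton, Finset.filter_singleton]
    cases p s <;> rfl
  | succ d ih =>
    intro s p
    change countBlock d (2 * s) p + countBlock d (2 * s + 1) p = _
    rw [ih, ih, ← Finset.card_union_of_disjoint, ← Finset.filter_union,
      Finset.Ico_union_Ico_eq_Ico (Nat.mul_le_mul_right _ (by omega))
        (Nat.mul_le_mul_right _ (by omega))]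
    · congr 2; congr 1 <;> · rw [pow_succ]; ring
    · exact Finset.disjoint_filter_filter (Finset.Ico_disjoint_Ico_consecutive _ _ _)

/-- The colour classes among the first 17199 numbers, counted by nine blocks. -/
noncomputable def countLab (f : Nat → Nat) (m : Nat) : Nat :=
  Nat.rec 0 (fun s acc => Nat.add acc
    (countBlock 11 s fun i => cond (Nat.ble 17199 i) false (Nat.beq (f i) m))) 9

theorem countLab_eq (f : Nat → Nat) (m : Nat) :
    countLab f m = (Finset.univ.filter fun p : Fin 17199 => f p = m).card := by
  set p := fun i => cond (Nat.ble 17199 i) false (Nat.beq (f i) m) with hp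
  have key : ∀ k, (Nat.rec 0 (fun s acc => Nat.add acc (countBlock 11 s p)) k : Nat) =
      ((Finset.range (k * 2 ^ 11)).filter fun i => p i = true).card := by
    intro k
    induction k with
    | zero => simp
    | succ k ih =>
      show Nat.add _ _ = _
      rw [ih, countBlock_eq, Nat.add_eq, ← Finset.card_union_of_disjoint, ← Finset.filter_union,
        Finset.range_eq_Ico, Finset.Ico_union_Ico_eq_Ico (Nat.zero_le _)
          (Nat.mul_le_mul_right _ (by omega))]
      · rw [Finset.range_eq_Ico]
      refine Finset.disjoint_filter_filter (p := fun i => p i = true) (q := fun i => p i = true) ?_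
      rw [Finset.range_eq_Ico]
      exact Finset.Ico_disjoint_Ico_consecutive 0 (k * 2 ^ 11) ((k + 1) * 2 ^ 11)
  show (Nat.rec 0 (fun s acc => Nat.add acc (countBlock 11 s p)) 9 : Nat) = _
  rw [key, ← Finset.card_map Fin.valEmbedding]
  refine congrArg Finset.card (Finset.ext fun i => ?_)
  have hpi : p i = true ↔ i < 17199 ∧ f i = m := by
    rw [hp]
    show cond (Nat.ble 17199 i) false (Nat.beq (f i) m) = true ↔ _
    cases hb : Nat.ble 17199 i
    · have : i < 17199 := by
        by_contra h
        rw [Nat.ble_eq.mpr (Nat.le_of_not_lt h)] at hb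
        exact Bool.noConfusion hb
      simp [this]
    · have : 17199 ≤ i := Nat.ble_eq.mp hb
      simp; omega
  simp only [Finset.mem_filter, Finset.mem_range, Finset.mem_map, Finset.mem_univ, true_and,
    Fin.valEmbedding_apply, hpi]
  constructor
  · rintro ⟨-, hi, hf⟩; exact ⟨⟨i, hi⟩, hf, rfl⟩
  · rintro ⟨q, hq, rfl⟩; exact ⟨by omega, q.2, hq⟩

end CfsgLib.Coset.Th
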