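import Cfsg.Agent.Coset.Th.CoverCode

/-! Kernel check of the forest at node 2. -/

set_option autoImplicit false
set_option maxRecDepth 100000
set_option Elab.async false

namespace CfsgLib.Coset.Th

theorem cover2_0 : coverBlock 2 (cvG 2) (cvPar 2) 0 = true := by decide +kernel

theorem cover2_1 : coverBlock 2 (cvG 2) (cvPar 2) 1 = true := by decide +kernel

theorem cover2_2 : coverBlock 2 (cvG 2) (cvPar 2) 2 = true := by decide +kernel

theorem cover2_3 : coverBlock 2 (cvG 2) (cvPar 2) 3 = true := by decide +kernel

theorem cover2_4 : coverBlock 2 (cvG 2) (cvPar 2) 4 = true := by decide +kernel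

theorem cover2_5 : coverBlock 2 (cvG 2) (cvPar 2) 5 = true := by decide +kernel

theorem cover2_6 : coverBlock 2 (cvG 2) (cvPar 2) 6 = true := by decide +kernel

theorem cover2_7 : coverBlock 2 (cvG 2) (cvPar 2) 7 = true := by decide +kernel

theorem cover2_8 : coverBlock 2 (cvG 2) (cvPar 2) 8 = true := by decide +kernel

theorem cover2 : ∀ s < 9, coverBlock 2 (cvG 2) (cvPar 2) s = true := by
  intro s hs
  interval_cases s
  · exact cover2_0
  · exact cover2_1
  · exact cover2_2
  · exact cover2_3
  · exact cover2_4
  · exact cover2_5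
  · exact cover2_6
  · exact cover2_7
  · exact cover2_8

end CfsgLib.Coset.Th
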