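import Cfsg.Agent.Coset.Th.Cover1
import Cfsg.Agent.Coset.Th.Cover2
import Cfsg.Agent.Coset.Th.Cover3
import Cfsg.Agent.Coset.Th.Cover4
import Cfsg.Agent.Coset.Th.Cover5
import Cfsg.Agent.Coset.Th.Cover6
import Cfsg.Agent.Coset.Th.Cover7
import Cfsg.Agent.Coset.Th.Cover8
import Cfsg.Agent.Coset.Th.Cover9
import Cfsg.Agent.Coset.Th.Cover10

/-! Every point at every node lies in a tree rooted at a fact. -/

set_option autoImplicit false
set_option maxRecDepth 100000
set_option Elab.async false

namespace CfsgLib.Coset.Th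

theorem cvG_letters : ∀ n < 11, checkLetters 14 (cvG n) = true := by decide +kernel

theorem cvG_listed : ∀ n < 11, 1 ≤ n → ∀ w ∈ cvG n,
    ∃ i < 52, stAt i = (n, w) ∧ ∀ l ∈ w, l < 14 := by decide +kernel

/-- Every point at every node lies in a tree rooted at a fact. -/
theorem cover (n : Nat) (h1 : 1 ≤ n) (h10 : n < 11) (i : Fin 17199) :
    ∃ j < numFacts, (factAt j).1 = n ∧ (factAt j).2.2.1 = cLab (cvPar n i) ∧ cLab (cvPar n i) < 11 ∧
      (∀ l ∈ (factAt j).2.1, l < 14) ∧ (∀ l ∈ (factAt j).2.2.2, l < 14) ∧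
      ∃ g ∈ genW LA (cvG n), τ (g * ev LA (factAt j).2.1) 0 = i := by
  refine forest_root (coverAt_of_blocks ?_) (cvG_letters n h10) i
  interval_cases n
  · exact cover1
  · exact cover2
  · exact cover3
  · exact cover4
  · exact cover5
  · exact cover6
  · exact cover7
  · exact cover8
  · exact cover9
  · exact cover10

end CfsgLib.Coset.Th
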