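import Cfsg.Agent.Coset.Th.CoverCode

/-! Kernel check of the forest at node 1. -/

set_option autoImplicit false
set_option maxRecDepth 100000
set_option Elab.async false

namespace CfsgLib.Coset.Th

theorem cover1_0 : coverBlock 1 (cvG 1) (cvPar 1) 0 = true := by decide +kernel

theorem cover1_1 : coverBlock 1 (cvG 1) (cvPar 1) 1 = true := by decide +kernel

theorem cover1_2 : coverBlock 1 (cvG 1) (cvPar 1) 2 = true := by decide +kernel

theorem cover1_3 : coverBlock 1 (cvG 1) (cvPar 1) 3 = true := by decide +kernel

theorem cover1_4 : coverBlock 1 (cvG 1) (cvPar 1) 4 = true := by decide +kernel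

theorem cover1_5 : coverBlock 1 (cvG 1) (cvPar 1) 5 = true := by decide +kernel

theorem cover1_6 : coverBlock 1 (cvG 1) (cvPar 1) 6 = true := by decide +kernel

theorem cover1_7 : coverBlock 1 (cvG 1) (cvPar 1) 7 = true := by decide +kernel

theorem cover1_8 : coverBlock 1 (cvG 1) (cvPar 1) 8 = true := by decide +kernel

theorem cover1 : ∀ s < 9, coverBlock 1 (cvG 1) (cvPar 1) s = true := by
  intro s hs
  interval_cases s
  · exact cover1_0
  · exact cover1_1
  · exact cover1_2
  · exact cover1_3
  · exact cover1_4
  · exact cover1_5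
  · exact cover1_6
  · exact cover1_7
  · exact cover1_8

end CfsgLib.Coset.Th
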