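import Cfsg.Agent.Coset.Prim
import Cfsg.Agent.Coset.Th.CoverData1
import Cfsg.Agent.Coset.Th.CoverData2
import Cfsg.Agent.Coset.Th.CoverData3
import Cfsg.Agent.Coset.Th.CoverData4
import Cfsg.Agent.Coset.Th.CoverData5
import Cfsg.Agent.Coset.Th.CoverData6
import Cfsg.Agent.Coset.Th.CoverData7
import Cfsg.Agent.Coset.Th.CoverData8
import Cfsg.Agent.Coset.Th.CoverData9
import Cfsg.Agent.Coset.Th.CoverData10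

/-! The forests of all nodes and their generators. -/

set_option autoImplicit false
set_option maxRecDepth 100000
set_option linter.unusedVariables false

namespace CfsgLib.Coset.Th

/-- The stabilising words of a node. -/
def cvG : Nat → List (List Nat)
  | 1 => [[4], [8], [12], [6, 4, 7], [10, 8, 11], [2, 4, 1, 3]]
  | 2 => [[2, 0, 4, 2, 13], [2, 0, 4, 2, 13, 10, 8, 11], [0, 2, 0, 4, 2, 0, 13, 10, 8, 11], [0, 6, 4, 2, 0, 6, 4, 2, 6, 8, 6, 4, 2, 0, 6], [4, 2, 6, 4, 2, 6, 4, 10, 8, 6, 4, 10, 10, 8, 10, 7, 3, 5, 7, 9, 10, 13, 5, 3, 1]]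
  | 3 => [[2, 4, 6, 4, 2, 6, 8, 6, 4, 6, 4, 2, 0, 8, 13, 7, 1, 1, 5, 5, 5, 3, 7, 9, 7], [2, 0, 6, 8, 6, 4, 2, 6, 4, 6, 8, 6, 4, 2, 0, 13, 7, 1, 1, 5, 5, 5, 3, 7, 9, 7], [0, 2, 4, 6, 4, 2, 6, 4, 6, 4, 2, 8, 6, 4, 13, 9, 3, 1, 13, 1, 1], [0, 2, 4, 2, 6, 4, 2, 8, 12, 11, 8, 6, 4, 10, 8, 6, 3, 12, 10, 13, 1, 5, 9]]
  | 4 => [[8, 11, 8, 10], [2, 0, 4, 2, 12, 11, 8, 10, 13], [2, 0, 4, 2, 8], [0, 4, 10, 8, 11], [8], [0, 6, 4, 8, 6, 4, 10, 8, 6, 4, 2, 11, 8, 11, 8, 6, 5, 7, 9, 5, 7, 3, 5, 7, 9, 1, 3], [4, 2, 6, 4, 2, 6, 4, 10, 8, 6, 4, 10, 12, 10, 9, 11, 12, 9, 7, 13, 3, 5, 11, 3, 13, 10, 10, 13, 3, 7, 13]]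
  | 5 => [[2, 4, 6, 4, 2, 6, 8, 6, 4, 6, 4, 2, 0, 8, 7, 1, 1, 5, 5, 5, 3, 7, 9, 7], [2, 0, 4, 2, 8], [4, 2, 8, 6, 4, 2, 11, 8, 6, 10, 8, 6, 4, 6, 12, 3, 10, 13, 5, 7, 9, 10, 10, 7, 9, 7, 9, 1, 9], [0, 4, 2, 0, 6, 4, 2, 6, 8, 6, 4, 12, 10, 8, 6, 10, 5, 7, 3, 7, 1, 13, 9, 11, 7, 13, 9, 1, 5, 1, 11, 3]]
  | 6 => [[2, 0, 6, 8, 6, 4, 2, 6, 4, 6, 8, 6, 4, 2, 0, 7, 1, 1, 5, 5, 5, 3, 7, 9, 7], [4, 8, 6, 4, 2, 0, 6, 4, 2, 8, 6, 4, 6, 8]]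
  | 7 => [[2, 0, 6, 8, 6, 4, 2, 6, 4, 6, 8, 6, 4, 2, 0, 12, 7, 1, 1, 5, 5, 5, 3, 7, 9, 7], [0, 2, 0, 4, 2, 0, 6, 4, 2, 0, 8, 6, 4, 2, 0], [2, 0, 4, 2, 8, 6, 4, 2, 6, 4, 2, 8, 12, 7, 1, 1, 5, 5, 5, 3, 7, 9, 7]]
  | 8 => [[2, 0, 6, 8, 6, 4, 2, 6, 4, 6, 8, 6, 4, 2, 0, 7, 1, 1, 5, 5, 5, 3, 7, 9, 7], [4, 6, 4, 6, 8, 6, 4, 2, 6, 11, 8, 6, 4, 6, 1, 9, 10, 12, 10, 10, 5, 10, 13, 13, 11, 3, 10, 10]]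
  | 9 => [[0, 6, 4, 2, 6, 4, 6, 4, 2, 12, 11, 8, 6, 4, 13, 10, 3, 13, 3, 7, 1], [0, 2, 6, 4, 8, 6, 4, 2, 6, 4, 10, 8, 6, 11, 8, 10, 1, 3, 5, 7, 9, 3, 5, 7, 5, 3], [0, 2, 6, 4, 2, 6, 4, 8, 6, 4, 2, 13, 10, 8, 6, 4, 7, 3, 13, 1, 12, 3, 11, 11, 9, 7, 7, 10, 9, 11]]
  | 10 => [[2, 4, 8, 10, 8, 6, 4, 2, 6, 4, 8, 6, 4, 2, 6, 8, 13, 7, 5, 12, 1, 9, 3, 10, 1, 7, 5, 9, 12], [0, 2, 0, 6, 4, 2, 6, 11, 8, 6, 4, 11, 8, 6, 11, 13, 9, 5, 5, 12, 12, 11, 12, 5, 12, 3, 3, 10, 10, 7, 1, 7, 7, 1, 10]]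
  | _ => []

/-- The forests. -/
noncomputable def cvPar (n i : Nat) : Nat :=
  (Bool.rec (motive := fun _ => Nat) (Bool.rec (motive := fun _ => Nat) (Bool.rec (motive := fun _ => Nat) (Bool.rec (motive := fun _ => Nat) (Bool.rec (motive := fun _ => Nat) (Bool.rec (motive := fun _ => Nat) (Bool.rec (motive := fun _ => Nat) (Bool.rec (motive := fun _ => Nat) (Bool.rec (motive := fun _ => Nat) (Bool.rec (motive := fun _ => Nat) 0 (cvP10 i) (Nat.beq n 10)) (cvP9 i) (Nat.beq n 9)) (cvP8 i) (Nat.beq n 8)) (cvP7 i) (Nat.beq n 7)) (cvP6 i) (Nat.beq n 6)) (cvP5 i) (Nat.beq n 5)) (cvP4 i) (Nat.beq n 4)) (cvP3 i) (Nat.beq n 3)) (cvP2 i) (Nat.beq n 2)) (cvP1 i) (Nat.beq n 1))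

end CfsgLib.Coset.Th
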