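import Cfsg.Agent.Coset.Th.TKData
import Cfsg.Agent.Coset.Th.TKAux
import Cfsg.Agent.Coset.Th.Words
import Cfsg.Agent.Coset.Orbit

/-! The action is transitive, and two orbits bound the stabiliser of the first coset from below. -/

set_option autoImplicit false
set_option maxRecDepth 100000
set_option Elab.async false

namespace CfsgLib.Coset.Th.TK

theorem htrans : checkTrans 17199 14 15 Tb Par = true := by decide +kernel
theorem hfix0 : checkFix Tb [0] kgW = true := by decide +kernel
theorem horb0 : checkOrbit Tb 21 6144 13 kgW P0 I0 = true := by decide +kernel
theorem horb1 : checkOrbit Tb 36 6 3 gens1 P1 I1 = true := by decide +kernel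
theorem hfix1 : checkFix Tb [21] gens1 = true := by decide +kernel
theorem hgens1 : gens1 = ids1.map fun ids => ids.flatMap fun i => kgW.getD i [] := by decide +kernel
theorem hlet0 : checkLetters 14 kgW = true := by decide +kernel
theorem hlet1 : checkLetters 14 gens1 = true := by decide +kernel
theorem hletR : checkLetters 14 relsA = true := by decide +kernel

end CfsgLib.Coset.Th.TK
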