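import Cfsg.Agent.Coset.Th.TKData
import Cfsg.Agent.Coset.Ly.Iv

/-! The table is a table of permutations, pairing each letter with its inverse. -/

set_option autoImplicit false
set_option maxRecDepth 100000
set_option Elab.async false

namespace CfsgLib.Coset.Th.TK

open CfsgLib.Coset.Ly (iv)

theorem hperm : checkPerm (iv 14) 17199 14 15 4 Tb = true := by decide +kernel

end CfsgLib.Coset.Th.TK
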