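import Cfsg.Agent.Coset.Th.TKData
import Cfsg.Agent.Coset.Th.Words
import Cfsg.Agent.Coset.Ly.Fast

/-! The relators fix every point of the table, part 1. -/

set_option autoImplicit false
set_option maxRecDepth 100000
set_option Elab.async false

namespace CfsgLib.Coset.Th.TK

theorem hrels3 : Ly.checkRelsF 17199 15 Tb ((relsA.drop 27).take 1) = true := by decide +kernel

end CfsgLib.Coset.Th.TK
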