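import Cfsg.Agent.Coset.Th.A
import Cfsg.Agent.Coset.Th.TKPerm
import Cfsg.Agent.Coset.Th.TKRels0
import Cfsg.Agent.Coset.Th.TKRels1
import Cfsg.Agent.Coset.Th.TKRels2
import Cfsg.Agent.Coset.Th.TKChain

/-!
The action of the subgroup on fourteen letters on the 17199 cosets of `⟨kgW⟩`: the stabiliser of
the first coset is that subgroup, of index 17199.
-/

set_option autoImplicit false
set_option maxRecDepth 100000
set_option Elab.async false

namespace CfsgLib.Coset.Th

open CfsgLib.Coset.Ly (iv checkRels_of_checkRelsF)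

namespace TK

theorem follow_pair {i : Nat} (hi : i < 17199) {l : Nat} (hl : l < 14) :
    follow (tget Tb) i [l, Nat.xor l 1] = i := by
  have h := cond_false_eq_true.mp hperm
  have h1 := cond_false_eq_true.mp (of_allBelow (of_allBelow h.1 i hi) l hl)
  have hiv : iv 14 l = Nat.xor l 1 := by
    unfold iv
    have : Nat.ble 14 l = false := by rw [← Bool.not_eq_true, Nat.ble_eq]; omega
    rw [this]; rfl
  rw [← hiv]
  exact Nat.eq_of_beq_eq_true h1.2

theorem follow_relsA {i : Nat} (hi : i < 17199) : ∀ w ∈ relsA, follow (tget Tb) i w = i := by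
  intro w hw
  have hcases : relsA = relsA.take 14 ++ ((relsA.drop 14).take 6 ++ ((relsA.drop 20).take 4 ++
      ((relsA.drop 24).take 3 ++ ((relsA.drop 27).take 1 ++ ((relsA.drop 28).take 5 ++
      ((relsA.drop 33).take 4 ++ (relsA.drop 37).take 4)))))) := by decide +kernel
  rw [hcases] at hw
  simp only [List.mem_append] at hw
  rcases hw with h | h | h | h | h | h | h | h
  · have hp : ∀ w ∈ relsA.take 14, ∃ l < 14, w = [l, Nat.xor l 1] := by decide +kernel
    obtain ⟨l, hl, rfl⟩ := hp w h
    exact follow_pair hi hl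
  · exact checkRels_of_checkRelsF hrels0 i hi w h
  · exact checkRels_of_checkRelsF hrels1 i hi w h
  · exact checkRels_of_checkRelsF hrels2 i hi w h
  · exact checkRels_of_checkRelsF hrels3 i hi w h
  · exact checkRels_of_checkRelsF hrels4 i hi w h
  · exact checkRels_of_checkRelsF hrels5 i hi w h
  · exact checkRels_of_checkRelsF hrels6 i hi w h

theorem sig_rels : ∀ w ∈ relsA, ev (sigList hperm) w = 1 := by
  intro w hw
  rw [← inv_eq_one]
  refine Equiv.ext fun i => Fin.ext ?_
  rw [ev_sigList_inv_apply hperm w i (letters_lt hletR w hw), follow_relsA i.2 w hw]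
  rfl

end TK

/-- The action on the cosets of `⟨kgW⟩`. -/
noncomputable def τ : A →* Equiv.Perm (Fin 17199) := numHom (by simp [sigList]) TK.sig_rels

theorem matches_τ : Matches LA τ TK.Tb := by
  intro l hl i
  rw [τ, numHom_fl, fl_sigList, sig_symm_apply TK.hperm (len_LA ▸ hl)]

theorem transitive_τ (i : Fin 17199) : ∃ g, τ g ⟨0, by decide⟩ = i :=
  (matches_τ.transitive (by decide) (len_LA.symm ▸ TK.htrans) i).imp fun _ h => h.2

/-- The subgroup fixing the first coset. -/
noncomputable abbrev K0 : Subgroup A := genW LA kgW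

theorem ev_flatMap_mem_K0 (ids : List Nat) :
    ev LA (ids.flatMap fun i => kgW.getD i []) ∈ K0 := by
  induction ids with
  | nil => simp
  | cons i ids ih =>
    rw [List.flatMap_cons, ev_append]
    refine mul_mem ?_ ih
    rcases lt_or_ge i kgW.length with hi | hi
    · rw [List.getD_eq_getElem _ _ hi]; exact ev_mem_genW (List.getElem_mem hi)
    · rw [List.getD_eq_default _ _ hi]; exact one_mem _

theorem K0_le_pstab : K0 ≤ pstab τ (0 : Fin 17199) :=
  genW_le_pstab matches_τ _ (len_LA.symm ▸ TK.hlet0) TK.hfix0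

theorem card_K0_ge : 36864 ≤ Nat.card K0 := by
  have h1 := orbit_step_in matches_τ K0 (base := [(21 : Fin 17199)]) (β := (36 : Fin 17199))
    (m := 6) (dm := 3) (gens := TK.gens1) (P := TK.P1) (Inv := TK.I1)
    TK.horb1 (len_LA.symm ▸ TK.hlet1) TK.hfix1
    (by
      intro w hw
      rw [TK.hgens1] at hw
      obtain ⟨ids, -, rfl⟩ := List.mem_map.mp hw
      exact ev_flatMap_mem_K0 ids)
    (show 1 ≤ Nat.card (K0 ⊓ baseStab τ [(21 : Fin 17199), 36] : Subgroup A) from Nat.card_pos)
  have h0 := orbit_step_in matches_τ K0 (base := []) (β := (21 : Fin 17199)) (m := 6144) (dm := 13)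
    (gens := kgW) (P := TK.P0) (Inv := TK.I0)
    TK.horb0 (len_LA.symm ▸ TK.hlet0) rfl (fun _ => ev_mem_genW) h1
  simpa [baseStab] using h0

theorem index_pstab_τ : (pstab τ (0 : Fin 17199)).index = 17199 := by
  have ho : orb τ (⊤ : Subgroup A) (0 : Fin 17199) = Set.univ :=
    Set.eq_univ_of_forall fun i => (transitive_τ i).imp fun _ h => ⟨Subgroup.mem_top _, h⟩
  have h := card_orb_mul (ρ := τ) (⊤ : Subgroup A) (0 : Fin 17199)
  rw [ho, Set.ncard_univ, Nat.card_fin, top_inf_eq, Subgroup.card_top,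
    ← Subgroup.index_mul_card (pstab τ (0 : Fin 17199))] at h
  exact (Nat.eq_of_mul_eq_mul_right Nat.card_pos h).symm

theorem card_pstab_τ : Nat.card (pstab τ (0 : Fin 17199)) = 36864 := by
  have h := Subgroup.index_mul_card (pstab τ (0 : Fin 17199))
  rw [index_pstab_τ, card_and_injective.1] at h
  omega

/-- The stabiliser of the first coset is the subgroup generated by the listed words. -/
theorem pstab_zero : pstab τ (0 : Fin 17199) = K0 :=
  (Subgroup.eq_of_le_of_card_ge K0_le_pstab (card_pstab_τ.trans_le card_K0_ge)).symm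

theorem index_K0 : K0.index = 17199 := pstab_zero ▸ index_pstab_τ

theorem card_K0 : Nat.card K0 = 36864 := pstab_zero ▸ card_pstab_τ

/-- The point a word leads to. -/
theorem τ_follow (w : List Nat) (i : Fin 17199) (hl : ∀ l ∈ w, l < 14) :
    (((τ (ev LA w))⁻¹ i : Fin 17199) : Nat) = follow (tget TK.Tb) i w :=
  matches_τ.follow_eq w i fun l h => len_LA.symm ▸ hl l h

/-- Membership in the subgroup, looked up in the table. -/
theorem ev_mem_K0_iff {w : List Nat} (hl : ∀ l ∈ w, l < 14) :
    ev LA w ∈ K0 ↔ follow (tget TK.Tb) 0 w = 0 := by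
  rw [← pstab_zero]
  exact matches_τ.mem_pstab_iff _ fun l h => len_LA.symm ▸ hl l h

/-- Two words give the same coset exactly when they lead to the same point. -/
theorem K0_coset_iff {u v : List Nat} (hu : ∀ l ∈ u, l < 14) (hv : ∀ l ∈ v, l < 14) :
    ev LA u * (ev LA v)⁻¹ ∈ K0 ↔ follow (tget TK.Tb) 0 u = follow (tget TK.Tb) 0 v := by
  have e1 := τ_follow u (0 : Fin 17199) hu
  have e2 := τ_follow v (0 : Fin 17199) hv
  rw [Fin.val_zero] at e1 e2
  rw [← e1, ← e2, Fin.val_inj, ← pstab_zero, mem_pstab, map_mul, map_inv, Equiv.Perm.mul_apply,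
    Equiv.Perm.inv_def (τ (ev LA u)), Equiv.symm_apply_eq, eq_comm]

end CfsgLib.Coset.Th
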