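import Cfsg.Agent.Coset.Th.Derive
import Cfsg.Agent.Coset.Th.TK
import Cfsg.Agent.Coset.Th.CoverData

/-!
Each double coset of a stabilising subgroup and `K0` contains a fact: a spanning forest of each
action on the 17199 points, rooted at the facts.
-/

set_option autoImplicit false
set_option maxRecDepth 100000
set_option Elab.async false

namespace CfsgLib.Coset.Th

open CfsgLib.Coset.Ly (ff)

section Kernel

/-- The parent of a point in the forest. -/
noncomputable def cPar (v : Nat) : Nat := Nat.land v 32767
/-- The generator or the fact at a point. -/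
noncomputable def cIdx (v : Nat) : Nat := Nat.land (Nat.shiftRight v 15) 8191
/-- The depth of a point, zero at a root. -/
noncomputable def cDep (v : Nat) : Nat := Nat.land (Nat.shiftRight v 28) 63
/-- The node the edge of a point leads to. -/
noncomputable def cLab (v : Nat) : Nat := Nat.land (Nat.shiftRight v 34) 15

/-- One point of the forest of a node. -/
noncomputable def coverAt (n : Nat) (gens : List (List Nat)) (Par : Nat → Nat) (i : Nat) : Bool :=
  cond (Nat.beq (cDep (Par i)) 0)
    (cond (Nat.ble (Nat.add (cIdx (Par i)) 1) numFacts)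
      (cond (Nat.beq (factAt (cIdx (Par i))).1 n)
        (cond (Nat.beq (factAt (cIdx (Par i))).2.2.1 (cLab (Par i)))
          (cond (Nat.ble (Nat.add (cLab (Par i)) 1) 11)
            (cond (lettersA (factAt (cIdx (Par i))).2.1)
              (cond (lettersA (factAt (cIdx (Par i))).2.2.2)
                (Nat.beq (ff (tget TK.Tb) 0 (invW (factAt (cIdx (Par i))).2.1)) i) false) false)
            false) false) false) false)
    (cond (Nat.ble (Nat.add (cPar (Par i)) 1) 17199)
      (cond (Nat.ble (Nat.add (cDep (Par (cPar (Par i)))) 1) (cDep (Par i)))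
        (cond (Nat.beq (cLab (Par (cPar (Par i)))) (cLab (Par i)))
          (Nat.beq (ff (tget TK.Tb) (cPar (Par i)) (gens.getD (cIdx (Par i)) [])) i) false) false)
      false)

/-- A block of 2048 points. -/
noncomputable def coverBlock (n : Nat) (gens : List (List Nat)) (Par : Nat → Nat) (s : Nat) : Bool :=
  allBlock 11 s fun i => cond (Nat.ble 17199 i) true (coverAt n gens Par i)

end Kernel

theorem coverAt_of_blocks {n : Nat} {gens : List (List Nat)} {Par : Nat → Nat}
    (h : ∀ s < 9, coverBlock n gens Par s = true) (i : Fin 17199) :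
    coverAt n gens Par i = true := by
  have hi := i.2
  have := allBlock_iff 11 ((i : ℕ) / 2048) _ (h ((i : ℕ) / 2048) (by omega)) i
    (by norm_num; omega) (by norm_num; omega)
  simpa [show Nat.ble 17199 (i : ℕ) = false by rw [← Bool.not_eq_true, Nat.ble_eq]; omega] using this

theorem forest_root {n : Nat} {gens : List (List Nat)} {Par : Nat → Nat}
    (hc : ∀ i : Fin 17199, coverAt n gens Par i = true) (hl : checkLetters 14 gens = true)
    (i : Fin 17199) :
    ∃ j < numFacts, (factAt j).1 = n ∧ (factAt j).2.2.1 = cLab (Par i) ∧ cLab (Par i) < 11 ∧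
      (∀ l ∈ (factAt j).2.1, l < 14) ∧ (∀ l ∈ (factAt j).2.2.2, l < 14) ∧
      ∃ g ∈ genW LA gens, τ (g * ev LA (factAt j).2.1) 0 = i := by
  obtain ⟨d, hd⟩ : ∃ d, cDep (Par i) = d := ⟨_, rfl⟩
  induction d using Nat.strong_induction_on generalizing i with
  | _ d ih =>
    have h := hc i
    unfold coverAt at h
    cases h0 : Nat.beq (cDep (Par i)) 0
    · rw [h0, cond_false] at h
      simp only [cond_false_eq_true] at h
      obtain ⟨h1, h2, h3, h4⟩ := h
      obtain ⟨j, hj, e1, e2, e3, e4, e5, g, hg, hge⟩ :=
        ih (cDep (Par (cPar (Par i)))) (hd ▸ Nat.ble_eq.mp h2) ⟨_, Nat.ble_eq.mp h1⟩ rfl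
      have e := Nat.eq_of_beq_eq_true h3
      refine ⟨j, hj, e1, e2.trans e, e ▸ e3, e4, e5,
        (ev LA (gens.getD (cIdx (Par i)) []))⁻¹ * g, mul_mem (inv_mem ?_) hg, ?_⟩
      · rcases lt_or_ge (cIdx (Par i)) gens.length with hi | hi
        · rw [List.getD_eq_getElem _ _ hi]; exact ev_mem_genW (List.getElem_mem hi)
        · rw [List.getD_eq_default _ _ hi]; exact one_mem _
      · rw [mul_assoc, map_mul, Equiv.Perm.mul_apply, hge, map_inv]
        refine Fin.ext ((τ_follow _ _ (letters_getD hl _)).trans ?_)
        rw [← Ly.ff_eq]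
        exact Nat.eq_of_beq_eq_true h4
    · rw [h0, cond_true] at h
      simp only [cond_false_eq_true] at h
      obtain ⟨h1, h2, h3, h4, h5, h6, h7⟩ := h
      have hh := of_lettersA h5
      refine ⟨_, Nat.ble_eq.mp h1, Nat.eq_of_beq_eq_true h2, Nat.eq_of_beq_eq_true h3,
        Nat.ble_eq.mp h4, hh, of_lettersA h6, 1, one_mem _, Fin.ext ?_⟩
      have hinv : ∀ l ∈ invW (factAt (cIdx (Par i))).2.1, l < 14 := fun l hl' => by
        simp only [invW, List.mem_reverse, List.mem_map] at hl'
        obtain ⟨x, hx, rfl⟩ := hl'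
        exact (pairsA x (hh x hx)).1
      have e := τ_follow _ (0 : Fin 17199) hinv
      rw [ev_invW _ hh, map_inv, inv_inv, Fin.val_zero, ← Ly.ff_eq] at e
      rw [one_mul, e]
      exact Nat.eq_of_beq_eq_true h7

end CfsgLib.Coset.Th
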