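import Cfsg.Agent.Coset.Th.Frame
import Cfsg.Agent.Coset.Th.FactData
import Cfsg.Agent.Coset.Sift

/-!
Checking the derivation: each fact is an equality of two cosets of the subgroup of all letters but
`z`, each step deduces one from earlier facts and one relator.
-/

set_option autoImplicit false
set_option maxRecDepth 100000
set_option Elab.async false

namespace CfsgLib.Coset.Th

open CfsgLib.Coset.Ly (agree ff)

/-- A certificate for passing `z`. -/
abbrev Cert : Type := Nat × List Nat × List Nat

/-- A step. -/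
abbrev Step : Type := Nat × Nat × List Nat × Nat × List Cert × List Cert × Nat

/-- The representative of a node. -/
def nW (n : Nat) : List Nat := nodeW.getD n []

/-- The node and word of a stabilising element. -/
def stAt (i : Nat) : Nat × List Nat := stL.getD i (0, [])

/-- The word of a list of stabilising elements. -/
def stWord (ids : List Nat) : List Nat := (ids.map fun i => (stAt i).2).flatten

/-- A fact. -/
def factAt (j : Nat) : Nat × List Nat × Nat × List Nat :=
  (factBlocks.getD (j / 64) []).getD (j % 64) (0, [], 0, [])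

/-- Free reduction in any letters. -/
def red : List Nat → List Nat :=
  List.foldr (fun x acc => match acc with
    | y :: t => if y = Nat.xor x 1 then t else x :: acc
    | [] => [x]) []

/-- Writing `z⁻¹` as `z u⁻¹`. -/
def uexp : List Nat → List Nat :=
  List.flatMap fun x => if x = 15 then [14, 5, 1] else [x]

/-- A word equal to `z`, read off a relator containing `z` or `z⁻¹` at a position. -/
def varOf (r i : Nat) : List Nat :=
  if (relW.getD r []).getD i 0 = 14 then
    uexp (red (invW ((relW.getD r []).take i) ++ invW ((relW.getD r []).drop (i + 1))))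
  else uexp (red ((relW.getD r []).drop (i + 1) ++ (relW.getD r []).take i))

/-- The listed words are those of their relators, or the letter `z`. -/
def checkVar (q : Nat × Nat × List Nat) : Bool :=
  decide (q.2.2 = [14]) ||
    (decide (((relW.getD q.1 []).getD q.2.1 0 = 14 ∨ (relW.getD q.1 []).getD q.2.1 0 = 15) ∧
      q.2.1 < (relW.getD q.1 []).length ∧ relW.getD q.1 [] ∈ relW ∧ q.2.2 = varOf q.1 q.2.1))

section Kernel

/-- A word in the first fourteen letters. -/
noncomputable def lettersA (w : List Nat) : Bool := allList (fun x => Nat.ble (Nat.add x 1) 14) w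

/-- Passing `z` at a point. -/
noncomputable def stepZ (nf ns : Nat) (n : Nat) (h : List Nat) (c : Cert)
    (K : Nat → List Nat → Bool) : Bool :=
  cond (Nat.ble (Nat.add c.1 1) nf)
    (cond (Nat.beq (factAt c.1).1 n)
      (cond (allList (fun i => cond (Nat.ble (Nat.add i 1) ns) (Nat.beq (stAt i).1 n) false) c.2.1)
        (cond (allList (fun i => Nat.ble (Nat.add i 1) 6) c.2.2)
          (cond (eqA h (stWord c.2.1 ++ (factAt c.1).2.1 ++ flatW kgW c.2.2))
            (K (factAt c.1).2.2.1 ((factAt c.1).2.2.2 ++ flatW kmW c.2.2)) false)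
          false) false) false) false

/-- Trace a word from a point. -/
noncomputable def trace (nf ns : Nat) (v : List Nat) (certs : List Cert) (n : Nat) (h : List Nat)
    (K : Nat → List Nat → Bool) : Bool :=
  List.rec (motive := fun _ => List Cert → Nat → List Nat → Bool)
    (fun _ n h => K n h)
    (fun x _ ih certs n h =>
      cond (Nat.beq x 14)
        (List.rec false (fun c rest _ => stepZ nf ns n h c (fun m g => ih rest m g)) certs)
        (cond (Nat.ble (Nat.add x 1) 14) (ih certs n (h ++ [x])) false)) v certs n h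

/-- One step, given the numbers of facts and stabilising elements known. -/
noncomputable def checkStep1 (nf ns : Nat) (s : Step) : Bool :=
  cond (Nat.beq s.1 0)
    (cond (lettersA s.2.2.1)
      (cond (lettersA (factAt nf).2.2.2)
        (trace nf ns (varL.getD s.2.2.2.1 (0, 0, [14])).2.2 s.2.2.2.2.1 s.2.1 s.2.2.1 fun m g =>
          cond (Nat.beq (factAt nf).1 s.2.1)
            (cond (eqA (factAt nf).2.1 s.2.2.1)
              (cond (Nat.beq (factAt nf).2.2.1 m) (eqA g (factAt nf).2.2.2) false) false) false)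
        false) false)
    (cond (Nat.beq s.1 1)
      (cond (Nat.ble (Nat.add s.2.2.2.2.2.2 1) nf)
        (cond (Nat.beq (factAt nf).1 (factAt s.2.2.2.2.2.2).2.2.1)
          (cond (Nat.beq (factAt nf).2.2.1 (factAt s.2.2.2.2.2.2).1)
            (cond (eqA (factAt nf).2.1 (factAt s.2.2.2.2.2.2).2.2.2)
              (eqA (factAt nf).2.2.2 ((factAt s.2.2.2.2.2.2).2.1 ++ [0, 4])) false) false) false)
        false)
      (cond (Nat.beq s.1 2)
        (cond (wordEq (nW (factAt nf).1 ++ (factAt nf).2.1 ++ [14]) (nW (factAt nf).2.2.1))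
          (wordEq (factAt nf).2.2.2 []) false)
        (cond (Nat.beq s.1 3) (cond (lettersA s.2.2.1)
          (cond (lettersA (stAt ns).2)
            (trace nf ns (varL.getD s.2.2.2.1 (0, 0, [14])).2.2 s.2.2.2.2.1 s.2.1 s.2.2.1 fun m g =>
              trace nf ns [14] s.2.2.2.2.2.1 s.2.1 s.2.2.1 fun m' g' =>
                cond (Nat.beq m m') (cond (Nat.beq (stAt ns).1 m)
                  (eqA (stAt ns).2 (g ++ invW g')) false) false)
            false) false) false)))

/-- All steps. -/
noncomputable def checkAll (steps : List Step) (nf ns nf' ns' : Nat) : Bool :=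
  List.rec (motive := fun _ => Nat → Nat → Bool)
    (fun nf ns => cond (Nat.beq nf nf') (Nat.beq ns ns') false)
    (fun s _ ih nf ns =>
      cond (checkStep1 nf ns s)
        (cond (Nat.beq s.1 3) (ih nf (Nat.add ns 1)) (ih (Nat.add nf 1) ns)) false) steps nf ns

end Kernel

variable {Γ : Type*} [Group Γ] {L : List Γ}

/-- The coset of a node and a word. -/
def pe (L : List Γ) (n : Nat) (h : List Nat) : Γ := ev L (nW n) * ev L h

/-- Two elements in the same coset. -/
def Frame.Rel (hF : Frame L) (x y : Γ) : Prop := x * y⁻¹ ∈ hF.H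

theorem Frame.rel_refl (hF : Frame L) (x : Γ) : hF.Rel x x := by
  simp [Frame.Rel]

theorem Frame.rel_symm (hF : Frame L) {x y : Γ} (h : hF.Rel x y) : hF.Rel y x := by
  simpa [Frame.Rel] using inv_mem h

theorem Frame.rel_trans (hF : Frame L) {x y w : Γ} (h : hF.Rel x y) (h' : hF.Rel y w) :
    hF.Rel x w := by
  simpa [Frame.Rel, mul_assoc] using mul_mem h h'

theorem Frame.rel_mul (hF : Frame L) {x y : Γ} (h : hF.Rel x y) (g : Γ) :
    hF.Rel (x * g) (y * g) := by
  simpa [Frame.Rel, mul_assoc] using h

/-- The validity of the first facts and stabilising elements. -/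
structure Frame.Known (hF : Frame L) (nf ns : Nat) : Prop where
  fact : ∀ j < nf, hF.Rel (pe L (factAt j).1 (factAt j).2.1 * fl L 14)
    (pe L (factAt j).2.2.1 (factAt j).2.2.2)
  stab : ∀ i < ns, hF.Rel (pe L (stAt i).1 (stAt i).2) (pe L (stAt i).1 [])

theorem of_lettersA {w : List Nat} (h : lettersA w = true) : ∀ l ∈ w, l < 14 := fun l hl =>
  Nat.ble_eq.mp (allList_iff.mp h l hl)

theorem Frame.ev_eqA (hF : Frame L) {v w : List Nat} (h : eqA v w = true) : ev L v = ev L w := by
  have h' := h
  unfold eqA agree at h'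
  simp only [cond_false_eq_true] at h'
  rw [← hF.Ψ_ev v (of_lettersA h'.1), ← hF.Ψ_ev w (of_lettersA h'.2.1), eqA_sound h]

theorem pe_append (n : Nat) (h v : List Nat) : pe L n (h ++ v) = pe L n h * ev L v := by
  simp [pe, ev_append, mul_assoc]

theorem Frame.pe_stWord (hF : Frame L) {nf ns : Nat} (hK : hF.Known nf ns) {n : Nat} :
    ∀ ids : List Nat, (∀ i ∈ ids, i < ns ∧ (stAt i).1 = n) →
      hF.Rel (pe L n (stWord ids)) (pe L n []) := by
  intro ids
  induction ids with
  | nil => intro _; exact hF.rel_refl _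
  | cons i ids ih =>
    intro h
    obtain ⟨hi, hn⟩ := h i (by simp)
    have e : stWord (i :: ids) = (stAt i).2 ++ stWord ids := by simp [stWord]
    rw [e, pe_append]
    have h1 := hK.stab i hi
    rw [hn] at h1
    refine hF.rel_trans (hF.rel_mul h1 _) ?_
    rw [← pe_append, List.nil_append]
    exact ih fun j hj => h j (by simp [hj])

theorem Frame.stepZ_sound (hF : Frame L) {nf ns : Nat} (hK : hF.Known nf ns) {n : Nat}
    {h : List Nat} {c : Cert} {K : Nat → List Nat → Bool} (hs : stepZ nf ns n h c K = true) :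
    ∃ m g, K m g = true ∧ hF.Rel (pe L n h * fl L 14) (pe L m g) := by
  unfold stepZ at hs
  simp only [cond_false_eq_true] at hs
  obtain ⟨hj, hn, hst, hk, he, hK'⟩ := hs
  refine ⟨_, _, hK', ?_⟩
  have hn' : (factAt c.1).1 = n := Nat.eq_of_beq_eq_true hn
  have hids : ∀ i ∈ c.2.1, i < ns ∧ (stAt i).1 = n := fun i hi => by
    have := allList_iff.mp hst i hi
    rw [cond_false_eq_true] at this
    exact ⟨Nat.ble_eq.mp this.1, Nat.eq_of_beq_eq_true this.2⟩
  have hk' : ∀ i ∈ c.2.2, i < 6 := fun i hi => Nat.ble_eq.mp (allList_iff.mp hk i hi)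
  have e1 : pe L n h = pe L n (stWord c.2.1 ++ (factAt c.1).2.1 ++ flatW kgW c.2.2) := by
    simp only [pe, hF.ev_eqA he]
  rw [e1, pe_append, pe_append, mul_assoc, hF.conj_ks _ hk', ← mul_assoc]
  refine hF.rel_trans (hF.rel_mul (hF.rel_mul (hF.rel_mul (hF.pe_stWord hK _ hids) _) _) _) ?_
  rw [pe_append]
  refine hF.rel_mul ?_ _
  have h2 := hK.fact c.1 (Nat.ble_eq.mp hj)
  rw [hn'] at h2
  simpa [pe] using h2

theorem Frame.trace_sound (hF : Frame L) {nf ns : Nat} (hK : hF.Known nf ns) :
    ∀ (v : List Nat) (certs : List Cert) (n : Nat) (h : List Nat) (K : Nat → List Nat → Bool),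
      trace nf ns v certs n h K = true →
        ∃ m g, K m g = true ∧ hF.Rel (pe L n h * ev L v) (pe L m g) := by
  intro v
  induction v with
  | nil => intro certs n h K ht; exact ⟨n, h, ht, by simpa using hF.rel_refl _⟩
  | cons x v ih =>
    intro certs n h K ht
    change cond (Nat.beq x 14) _
      (cond (Nat.ble (Nat.add x 1) 14) (trace nf ns v certs n (h ++ [x]) K) false) = true at ht
    cases hx : Nat.beq x 14
    · rw [hx, cond_false, cond_false_eq_true] at ht
      obtain ⟨m, g, hm, hr⟩ := ih _ _ _ _ ht.2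
      refine ⟨m, g, hm, ?_⟩
      rw [pe_append] at hr
      simpa [ev_cons, mul_assoc] using hr
    · rw [hx, cond_true] at ht
      rw [Nat.eq_of_beq_eq_true hx]
      cases certs with
      | nil => simp at ht
      | cons c rest =>
        change stepZ nf ns n h c (fun m g => trace nf ns v rest m g K) = true at ht
        obtain ⟨m, g, hm, hr⟩ := hF.stepZ_sound hK ht
        obtain ⟨m', g', hm', hr'⟩ := ih _ _ _ _ hm
        refine ⟨m', g', hm', hF.rel_trans ?_ hr'⟩
        rw [ev_cons, ← mul_assoc]
        exact hF.rel_mul hr _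

theorem Frame.ev_red (hF : Frame L) : ∀ w : List Nat, ev L (red w) = ev L w := by
  intro w
  induction w with
  | nil => rfl
  | cons x w ih =>
    have e : red (x :: w) = (match red w with
      | y :: t => if y = Nat.xor x 1 then t else x :: red w
      | [] => [x]) := rfl
    rw [e, ev_cons, ← ih]
    cases red w with
    | nil => simp
    | cons y t =>
      show ev L (if y = Nat.xor x 1 then t else x :: y :: t) = _
      by_cases hy : y = Nat.xor x 1
      · rw [if_pos hy, ev_cons, hy, hF.fl_xor, mul_inv_cancel_left]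
      · rw [if_neg hy, ev_cons]

theorem Frame.ev_uexp (hF : Frame L) : ∀ w : List Nat, ev L (uexp w) = ev L w := by
  intro w
  induction w with
  | nil => rfl
  | cons x w ih =>
    have e : uexp (x :: w) = (if x = 15 then [14, 5, 1] else [x]) ++ uexp w := rfl
    rw [e, ev_append, ih, ev_cons]
    congr 1
    split
    · next h => rw [h, hF.u_inv]; simp [mul_assoc]
    · simp

theorem Frame.ev_var (hF : Frame L) {q : Nat × Nat × List Nat} (h : checkVar q = true) :
    ev L q.2.2 = fl L 14 := by
  simp only [checkVar, Bool.or_eq_true, decide_eq_true_eq] at h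
  rcases h with h | ⟨h1, h2, h3, h4⟩
  · rw [h]; simp
  · rw [h4]
    have hw := hF.relW _ h3
    set w := Th.relW.getD q.1 []
    have hd : w.getD q.2.1 0 = w[q.2.1] := List.getD_eq_getElem _ _ h2
    have hsplit : w = w.take q.2.1 ++ w[q.2.1] :: w.drop (q.2.1 + 1) := by
      rw [← List.drop_eq_getElem_cons h2, List.take_append_drop]
    rw [hsplit, ev_append, ev_cons] at hw
    unfold varOf
    by_cases h18 : w.getD q.2.1 0 = 14
    · rw [if_pos h18, hF.ev_uexp, hF.ev_red, ev_append, hF.ev_invW, hF.ev_invW]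
      rw [← hd, h18] at hw
      have h5 := eq_inv_of_mul_eq_one_right hw
      exact (eq_mul_inv_of_mul_eq h5).symm
    · rw [if_neg h18, hF.ev_uexp, hF.ev_red, ev_append]
      rw [← hd, h1.resolve_left h18, show fl L 15 = (fl L 14)⁻¹ from hF.fl_xor 14] at hw
      have h5 := eq_inv_of_mul_eq_one_right hw
      rw [inv_mul_eq_iff_eq_mul] at h5
      exact eq_mul_inv_iff_mul_eq.mp h5

theorem dvars_ok : varL.all checkVar = true := by decide +kernel

theorem Frame.ev_varAt (hF : Frame L) (k : Nat) :
    ev L (varL.getD k (0, 0, [14])).2.2 = fl L 14 := by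
  rcases lt_or_ge k varL.length with hk | hk
  · rw [List.getD_eq_getElem _ _ hk]
    exact hF.ev_var (List.all_eq_true.mp dvars_ok _ (List.getElem_mem hk))
  · rw [List.getD_eq_default _ _ hk]; simp

theorem Frame.step_fact (hF : Frame L) {nf ns : Nat} (hK : hF.Known nf ns) {s : Step}
    (hs : checkStep1 nf ns s = true) (h3 : Nat.beq s.1 3 = false) :
    hF.Rel (pe L (factAt nf).1 (factAt nf).2.1 * fl L 14)
      (pe L (factAt nf).2.2.1 (factAt nf).2.2.2) := by
  unfold checkStep1 at hs
  cases h0 : Nat.beq s.1 0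
  · rw [h0, cond_false] at hs
    cases h1 : Nat.beq s.1 1
    · rw [h1, cond_false] at hs
      cases h2 : Nat.beq s.1 2
      · rw [h2, cond_false] at hs
        rw [h3] at hs
        exact Bool.noConfusion hs
      · rw [h2, cond_true, cond_false_eq_true] at hs
        rw [eq_of_wordEq hs.2]
        have e : pe L (factAt nf).1 (factAt nf).2.1 * fl L 14 = pe L (factAt nf).2.2.1 [] := by
          simp only [pe, ← eq_of_wordEq hs.1, ev_append, ev_cons, ev_nil, mul_one]
        rw [e]; exact hF.rel_refl _
    · rw [h1, cond_true] at hs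
      simp only [cond_false_eq_true] at hs
      obtain ⟨hj, hn, hm, he1, he2⟩ := hs
      have hf := hK.fact _ (Nat.ble_eq.mp hj)
      set f := factAt s.2.2.2.2.2.2
      rw [Nat.eq_of_beq_eq_true hn, Nat.eq_of_beq_eq_true hm]
      simp only [pe] at hf ⊢
      rw [hF.ev_eqA he1, hF.ev_eqA he2, ev_append, ← hF.uu, ← mul_assoc]
      refine hF.rel_symm ?_
      have := hF.rel_mul hf (fl L 14)
      simpa [mul_assoc] using this
  · rw [h0, cond_true] at hs
    simp only [cond_false_eq_true] at hs
    obtain ⟨-, -, ht⟩ := hs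
    obtain ⟨m, g, hm, hr⟩ := hF.trace_sound hK _ _ _ _ _ ht
    simp only [cond_false_eq_true] at hm
    obtain ⟨e1, e2, e3, e4⟩ := hm
    rw [hF.ev_varAt] at hr
    rw [Nat.eq_of_beq_eq_true e1, Nat.eq_of_beq_eq_true e3]
    simp only [pe] at hr ⊢
    rw [hF.ev_eqA e2, ← hF.ev_eqA e4]
    exact hr

theorem Frame.step_stab (hF : Frame L) {nf ns : Nat} (hK : hF.Known nf ns) {s : Step}
    (hs : checkStep1 nf ns s = true) (h3 : s.1 = 3) :
    hF.Rel (pe L (stAt ns).1 (stAt ns).2) (pe L (stAt ns).1 []) := by
  unfold checkStep1 at hs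
  rw [h3] at hs
  change cond (lettersA s.2.2.1) _ false = true at hs
  simp only [cond_false_eq_true] at hs
  obtain ⟨-, -, ht⟩ := hs
  obtain ⟨m, g, hm, hr⟩ := hF.trace_sound hK _ _ _ _ _ ht
  obtain ⟨m', g', hm', hr'⟩ := hF.trace_sound hK _ _ _ _ _ hm
  simp only [cond_false_eq_true] at hm'
  obtain ⟨e1, e2, e3⟩ := hm'
  rw [hF.ev_varAt] at hr
  simp only [ev_cons, ev_nil, mul_one] at hr'
  have h := hF.rel_trans (hF.rel_symm hr) hr'
  rw [← Nat.eq_of_beq_eq_true e1] at h
  rw [Nat.eq_of_beq_eq_true e2]
  simp only [pe] at h ⊢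
  rw [hF.ev_eqA e3, ev_append, hF.ev_invW, ← mul_assoc]
  have := hF.rel_mul h (ev L g')⁻¹
  simpa [mul_assoc] using this

theorem Frame.known_of_checkAll (hF : Frame L) : ∀ (steps : List Step) (nf ns nf' ns' : Nat),
    checkAll steps nf ns nf' ns' = true → hF.Known nf ns → hF.Known nf' ns' := by
  intro steps
  induction steps with
  | nil =>
    intro nf ns nf' ns' h hK
    change cond (Nat.beq nf nf') (Nat.beq ns ns') false = true at h
    rw [cond_false_eq_true] at h
    rwa [← Nat.eq_of_beq_eq_true h.1, ← Nat.eq_of_beq_eq_true h.2]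
  | cons s steps ih =>
    intro nf ns nf' ns' h hK
    change cond (checkStep1 nf ns s)
      (cond (Nat.beq s.1 3) (checkAll steps nf (ns + 1) nf' ns') (checkAll steps (nf + 1) ns nf' ns'))
      false = true at h
    rw [cond_false_eq_true] at h
    cases h3 : Nat.beq s.1 3
    · rw [h3, cond_false] at h
      refine ih _ _ _ _ h.2 ⟨fun j hj => ?_, hK.stab⟩
      rcases Nat.lt_or_eq_of_le (Nat.le_of_lt_succ hj) with hj | rfl
      · exact hK.fact j hj
      · exact hF.step_fact hK h.1 h3
    · rw [h3, cond_true] at h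
      refine ih _ _ _ _ h.2 ⟨hK.fact, fun i hi => ?_⟩
      rcases Nat.lt_or_eq_of_le (Nat.le_of_lt_succ hi) with hi | rfl
      · exact hK.stab i hi
      · exact hF.step_stab hK h.1 (Nat.eq_of_beq_eq_true h3)

theorem stab_initial : ∀ i < 20, ((i < 14 ∧ stAt i = (0, [i])) ∨
    (14 ≤ i ∧ stAt i = (1, kgW.getD (i - 14) []))) := by decide +kernel

theorem Frame.known_initial (hF : Frame L) : hF.Known 0 20 := by
  refine ⟨fun j hj => absurd hj (Nat.not_lt_zero _), fun i hi => ?_⟩
  rcases stab_initial i hi with ⟨hl, e⟩ | ⟨hl, e⟩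
  · rw [e]
    have : ev L (nW 0) = 1 := by rw [show nW 0 = [] from by decide +kernel]; rfl
    simpa [Frame.Rel, pe, this] using hF.mem_H (w := [i]) (by simpa using hl)
  · rw [e]
    have hi6 : i - 14 < 6 := by omega
    have e1 : nW 1 = [14] := by decide +kernel
    have hkm : ∀ l ∈ kmW.getD (i - 14) [], l < 14 :=
      (by decide +kernel : ∀ k < 6, ∀ l ∈ kmW.getD k [], l < 14) _ hi6
    have h := hF.conj_k hi6
    have e2 : ev L (kmW.getD (i - 14) []) = (fl L 14)⁻¹ * ev L (kgW.getD (i - 14) []) * fl L 14 := by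
      rw [mul_assoc, h, inv_mul_cancel_left]
    have hmem : ev L ([0, 4] ++ kmW.getD (i - 14) [] ++ [5, 1]) ∈ hF.H := hF.mem_H (by
      intro l hl
      simp only [List.mem_append, List.mem_cons, List.not_mem_nil, or_false] at hl
      rcases hl with ((rfl | rfl) | hl) | (rfl | rfl)
      all_goals first | omega | exact hkm _ hl)
    rw [ev_append, ev_append, ← hF.uu, show ev L [5, 1] = (ev L [0, 4])⁻¹ from hF.ev_invW [0, 4],
      ← hF.uu, e2] at hmem
    simpa [Frame.Rel, pe, e1, mul_assoc] using hmem

end CfsgLib.Coset.Th
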