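import Mathlib.Data.List.Basic

/-! A derivation of the coset facts of the Thompson presentation. -/

set_option autoImplicit false
set_option maxRecDepth 100000

namespace CfsgLib.Coset.Th

def stepC5 : List (Nat × Nat × List Nat × Nat × List (Nat × List Nat × List Nat) × List (Nat × List Nat × List Nat) × Nat) := [(1, 0, [], 0, [], [], 772),
  (0, 6, [2, 6, 4, 2, 0, 10, 8, 6, 4, 2, 11], 14, [(770, [], [1, 4, 5, 3, 1, 4, 3, 5]), (518, [37, 38, 37], [2, 2, 4, 3, 1, 4, 3, 1, 5, 3]), (707, [42, 43, 42, 43, 42], [0, 1, 5, 3, 1, 4, 2, 4, 3, 1, 5])], [], 0),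
  (1, 0, [], 0, [], [], 774),
  (0, 6, [0, 4, 2, 0, 6, 4, 11, 11], 15, [(310, [38], [2, 2, 5, 3, 0, 4, 2]), (380, [], [4, 2, 5, 3, 0, 4, 2, 2, 3, 4, 5]), (619, [], [4, 2, 3, 4, 2, 3, 1, 4, 5, 0])], [], 0),
  (1, 0, [], 0, [], [], 776),
  (0, 6, [0, 2, 4, 2, 0, 10, 8, 6, 4, 2, 10, 12], 9, [(661, [37], [0, 3, 4, 2, 5, 3, 4, 3]), (727, [42, 43, 42, 43, 43, 43, 43, 42, 43, 43], [2, 2, 3, 1, 3, 5, 3, 1]), (229, [33, 45, 44], [3, 5, 0, 3, 4, 2, 2, 3, 1])], [], 0),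
  (1, 0, [], 0, [], [], 778),
  (0, 6, [2, 4, 2, 8, 6, 4, 2, 6, 11, 8, 12], 8, [(348, [37, 38], [3, 5, 3, 4, 2, 3, 1, 5]), (359, [], [0, 2, 3, 1, 3, 1, 5, 3, 4, 2, 3, 5]), (310, [], [3, 1, 3, 4, 2, 5, 3])], [], 0),
  (1, 0, [], 0, [], [], 780),
  (0, 6, [0, 4, 2, 11, 8, 6, 4, 2, 0, 11], 14, [(529, [37, 38], [4, 3, 1, 3, 5, 3, 1, 4, 2, 4]), (719, [37, 38], [1, 3, 0, 4, 3, 5, 3, 1]), (266, [44, 44], [2, 2, 4, 2, 5, 3, 4, 3, 1, 3])], [], 0),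
  (1, 0, [], 0, [], [], 782),
  (0, 6, [6, 11, 8, 6, 4, 2, 0, 10, 10], 22, [(778, [], [2, 3, 0, 5, 3, 4, 2, 4]), (684, [27, 28, 30, 36], [3, 0, 1, 5, 3, 4, 2])], [], 0),
  (1, 0, [], 0, [], [], 784),
  (0, 6, [0, 2, 12, 10, 8, 6, 11, 8, 6, 4, 2, 0, 6, 4, 2], 15, [(340, [], [1, 3, 5, 0]), (688, [27, 30, 31], [3, 4, 2, 5, 3, 4, 2, 2, 3, 5]), (234, [27, 35, 27], [0, 2, 3, 4, 3, 1, 4, 2, 3, 5])], [], 0),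
  (1, 0, [], 0, [], [], 786),
  (0, 6, [11, 11, 8, 6, 4, 2, 6, 4], 22, [(715, [37, 38], [0, 4, 2, 2, 3, 1, 5, 3, 4, 2]), (724, [], [2, 2, 4, 2, 3, 5, 3, 4, 2, 2])], [], 0),
  (1, 0, [], 0, [], [], 788),
  (0, 6, [2, 4, 2, 10, 10, 10, 8, 6, 4, 2, 6], 9, [(328, [37, 38], [0, 3, 4, 2, 3, 4, 2, 3, 1, 4, 5]), (578, [38, 37], [4, 2, 3, 4, 2, 3, 1, 4]), (660, [42, 43, 43, 43, 43, 42, 43, 42], [4, 2, 3, 4, 2, 4, 5, 0, 3, 4, 2])], [], 0),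
  (1, 0, [], 0, [], [], 790),
  (0, 6, [10, 8, 6, 4, 2, 6, 4, 11, 13], 8, [(778, [], [2, 3, 5]), (238, [31, 35, 36], [2, 3, 5, 0, 3, 1]), (436, [37, 38, 37], [3, 4, 3, 1, 3, 1, 4, 5])], [], 0),
  (1, 0, [], 0, [], [], 792),
  (0, 6, [4, 8, 6, 4, 2, 6, 11, 8, 11], 22, [(405, [37, 38], [0, 2, 4, 3, 4, 3, 5, 3, 1]), (358, [], [0, 1, 2, 3, 1, 3, 5, 3, 4])], [], 0),
  (1, 0, [], 0, [], [], 794),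
  (0, 6, [8, 6, 4, 2, 6, 11, 8, 6, 4, 12], 17, [(780, [], [1, 3, 5, 3, 1, 3]), (534, [38], [1, 2, 3, 4, 3, 4, 2, 5]), (595, [34, 33, 45], [3, 0, 1, 4, 3])], [], 0),
  (1, 0, [], 0, [], [], 796),
  (0, 6, [4, 2, 6, 8, 11, 8, 6, 4, 11], 15, [(693, [38], [1, 2, 2, 3, 5, 0, 3, 4, 2, 4, 3, 1]), (236, [27, 28, 30], [5, 3, 1, 3, 4, 3, 5]), (579, [43, 43, 43, 42, 43, 43, 42], [3, 0, 1, 5, 3, 1, 4, 2, 3, 4, 3])], [], 0),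
  (1, 0, [], 0, [], [], 798),
  (0, 6, [0, 2, 4, 10, 8, 6, 4, 2, 6, 11, 8, 13], 8, [(492, [38], [0, 2, 3, 0, 4, 3, 1, 3, 4, 2]), (223, [], [5, 3, 1, 3]), (156, [25, 25, 46, 25, 46], [3, 1, 3, 5, 3, 4, 2])], [], 0),
  (1, 0, [], 0, [], [], 800),
  (0, 6, [0, 8, 6, 4, 2, 6, 4, 13, 11], 22, [(587, [], [2, 2, 4, 3, 1, 3, 4, 5, 0, 3, 1]), (443, [39, 40, 41, 39, 40], [2, 2, 5, 3, 0, 4])], [], 0),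
  (1, 0, [], 0, [], [], 802),
  (0, 6, [8, 6, 4, 10, 8, 6, 4, 2, 6, 4, 6, 12], 15, [(617, [38, 37], [3, 4, 3, 1, 4, 5, 3, 4, 2, 3]), (198, [39, 40], [2, 3, 4, 2, 3, 4, 2, 3, 5, 3]), (160, [34], [1, 3, 1, 5, 0, 3, 1, 4, 2, 3])], [], 0),
  (1, 0, [], 0, [], [], 804),
  (0, 6, [0, 2, 0, 4, 6, 8, 6, 10, 8, 6, 4, 2, 11, 12], 16, [(605, [37, 38], [1, 4, 2, 5, 3, 4, 2, 2, 3, 4, 5]), (624, [], [0, 3, 1, 4, 3, 4, 2, 4, 3, 4, 2, 2]), (267, [45, 33, 45, 34], [2, 2, 3, 0, 1, 4, 5, 3, 1])], [], 0),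
  (1, 0, [], 0, [], [], 806),
  (0, 6, [2, 8, 6, 10, 8, 6, 4, 2, 6, 13], 8, [(617, [38, 37], [2, 2, 3, 4, 3, 1, 3, 4, 3, 5]), (198, [39, 40], [2, 3, 0, 4, 2, 3, 4, 3, 1, 5]), (244, [45, 34], [2, 2, 4, 2, 3, 0, 1, 3, 5])], [], 0),
  (1, 0, [], 0, [], [], 808),
  (0, 6, [4, 13, 11, 8, 6, 4, 2, 6, 8, 11, 8, 6, 4, 6, 4], 22, [(591, [37, 38, 37], [4, 2, 3, 1, 4, 3, 4, 5, 0]), (185, [39, 39, 41, 39, 40], [2, 3, 5, 0, 3, 1, 4, 2, 3, 1])], [], 0),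
  (1, 0, [], 0, [], [], 810),
  (0, 6, [2, 4, 2, 13, 10, 8, 6, 4, 2, 6, 11], 9, [(338, [37, 38], [4, 2, 2, 5, 0, 3, 4, 2, 3, 4, 2]), (608, [39, 40, 41, 39, 41, 41], [1, 2, 2, 4, 5, 3, 1, 3, 4]), (306, [37, 38], [1, 2, 4, 2, 3, 4, 2, 3, 4, 2, 5])], [], 0),
  (1, 0, [], 0, [], [], 812),
  (0, 6, [8, 10, 8, 6, 4, 2, 6, 11, 8, 11], 26, [(788, [], [0, 2, 2, 4, 2]), (725, [], [4, 2, 4, 3, 0, 1, 5, 3, 1]), (280, [34], [2, 3, 0, 4, 2, 4, 3, 5, 3]), (705, [39, 40, 41, 39, 41, 41], [4, 3, 0, 5, 3, 4, 2, 2, 3]), (714, [], [2, 5, 3, 4, 2, 3, 1, 4, 3, 5]), (591, [37], [0, 1, 3, 4, 2, 4, 5, 3, 4, 2, 2]), (138, [], [2, 2, 3, 1, 4, 5, 3, 4, 2, 4])], [], 0),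
  (1, 0, [], 0, [], [], 814),
  (0, 6, [6, 4, 2, 11, 8, 6, 4, 2, 0, 11, 8, 6, 4, 2, 13], 16, [(749, [37], [2, 2, 3, 1, 4, 3, 4, 5, 3, 4]), (290, [33, 45, 34, 45], [2, 3, 5, 3, 4, 2, 3, 1, 3]), (299, [43, 42, 43, 43, 43, 43, 42, 43, 43], [1, 3, 5, 3, 1, 3, 1, 4, 2, 4, 5])], [], 0),
  (1, 0, [], 0, [], [], 816),
  (0, 6, [2, 0, 6, 11, 8, 6, 4, 2, 6, 12], 9, [(174, [], [1, 2, 2]), (709, [37, 38, 37], [1, 3, 4, 2, 4, 3, 4, 2, 3, 1, 4, 3]), (371, [34], [0, 2, 4, 3, 4, 2, 3, 4, 2])], [], 0),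
  (1, 0, [], 0, [], [], 818),
  (0, 6, [4, 2, 6, 4, 11, 8, 6, 4, 2, 13], 22, [(478, [], [5]), (457, [45, 33], [3, 4, 5, 3, 1, 4, 3, 4, 2, 4])], [], 0),
  (1, 0, [], 0, [], [], 820),
  (0, 6, [2, 6, 4, 10, 8, 6, 4, 2, 6, 4, 6, 10, 10, 8, 11], 22, [(348, [], [2, 2, 5, 3, 4, 2]), (381, [], [3, 0, 5, 3])], [], 0),
  (1, 0, [], 0, [], [], 822),
  (0, 6, [2, 0, 6, 4, 2, 10, 8, 6, 4, 11, 8, 12], 33, [(359, [], [1, 4, 5, 3, 1, 4, 2, 3, 4, 5]), (408, [], [2, 4, 5, 3, 4, 2, 4, 3, 1, 5]), (407, [], [0, 2, 2, 3, 5, 3, 4, 3, 4, 5])], [], 0),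
  (1, 0, [], 0, [], [], 824),
  (0, 6, [0, 10, 8, 6, 4, 2, 6, 4, 11, 8, 6, 4, 6, 13, 11], 15, [(719, [38, 37], [1, 2, 4, 5, 0, 3, 4, 2, 2]), (722, [33, 45, 34, 45], [0, 3, 1, 5, 3, 1, 4, 3, 4, 2, 2, 5]), (747, [], [0, 1, 2, 4, 3, 0, 1, 4])], [], 0),
  (1, 0, [], 0, [], [], 826),
  (0, 6, [8, 10, 8, 6, 4, 6, 4, 2, 0, 12, 11], 22, [(661, [37, 38], [3, 4, 2, 5, 0, 3, 4]), (666, [42, 43, 42, 43, 43, 43, 42, 43, 42], [1, 3, 4, 5, 3, 1, 3, 1, 4, 2, 5, 3])], [], 0),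
  (1, 0, [], 0, [], [], 828),
  (0, 6, [13, 10, 8, 6, 4, 6, 4, 2, 8, 11, 8], 14, [(613, [37, 38], [5, 3, 4, 3, 1, 5, 3, 4, 3]), (777, [41, 41, 39, 40], [0, 3, 1, 3, 4, 2, 3, 4, 2, 5]), (796, [38, 37], [4, 2, 2, 3, 4, 2, 3, 5])], [], 0),
  (1, 0, [], 0, [], [], 830),
  (0, 6, [0, 2, 8, 10, 8, 6, 4, 2, 6, 10], 22, [(653, [37, 38], [3, 0, 4, 2, 2, 3, 5, 3, 1, 3]), (187, [43, 42], [0, 2, 2, 3, 1, 4, 2, 5, 3, 1, 4, 3])], [], 0),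
  (1, 0, [], 0, [], [], 832),
  (0, 6, [0, 13, 10, 8, 6, 4, 2, 6, 4, 10, 13], 22, [(830, [], [1, 4, 2, 2, 5, 0]), (600, [41, 41, 39, 41, 39], [2, 2, 4, 5, 3, 1, 3, 1, 4, 5, 3, 1])], [], 0),
  (1, 0, [], 0, [], [], 834),
  (0, 6, [0, 6, 4, 2, 8, 11, 11, 8, 6], 8, [(619, [38, 37], [2, 2, 3, 5, 3, 1]), (610, [39, 41, 39, 41], [1, 3, 1, 3, 5, 3, 1, 3, 5]), (343, [], [0, 1, 4, 2, 2, 3, 1, 3, 5, 3])], [], 0),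
  (1, 0, [], 0, [], [], 836),
  (0, 6, [0, 2, 6, 4, 2, 12, 11, 8, 6, 10], 14, [(774, [37, 38, 37], [5, 3, 4, 3, 4, 2, 4]), (197, [45, 33], [3, 0, 1, 3, 4, 2, 3, 1, 5]), (598, [40, 41, 41, 39, 40, 41], [2, 3, 5, 0, 3, 1, 3, 4, 2, 3])], [], 0),
  (1, 0, [], 0, [], [], 838),
  (0, 6, [4, 6, 4, 2, 6, 10, 8, 6, 4, 2, 0, 11, 8], 14, [(512, [], [4, 3, 0, 4, 2, 2, 5, 3, 4]), (669, [], [2, 3, 1, 5, 0, 3, 4, 3, 1]), (146, [43, 42, 43, 43, 43, 42, 43, 42], [0, 2, 3, 1, 4, 3, 4, 2, 2, 3, 5, 3])], [], 0),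
  (1, 0, [], 0, [], [], 840),
  (0, 6, [6, 4, 6, 10, 8, 6, 4, 2, 12, 11, 8], 16, [(239, [38], [1, 2, 2, 3, 1, 5, 0]), (163, [35, 35, 31, 36, 36], [4, 3, 0, 4, 2, 4, 3, 1, 3, 5, 3]), (421, [45], [0, 2, 2, 3, 1, 4, 3, 1, 4, 2, 5, 3])], [], 0),
  (1, 0, [], 0, [], [], 842),
  (0, 6, [6, 4, 6, 4, 10, 8, 6, 4, 2, 0, 6, 10, 8, 11], 22, [(675, [38], [3, 4, 2, 2, 5, 3, 1, 4, 2]), (660, [], [0, 1, 3, 5, 3, 4, 2, 3, 4, 3, 4])], [], 0),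
  (1, 0, [], 0, [], [], 844),
  (0, 6, [11, 13, 11, 8, 6, 4, 2, 6, 11, 8, 6, 4, 2, 6, 4, 13, 13, 11, 1, 1, 3, 1, 10, 3, 13, 1], 8, [(180, [37, 38], [2, 2, 4, 3, 4, 2, 5]), (302, [33, 34, 44], [2, 2, 5, 3, 0, 4, 2, 3, 1, 5, 3]), (620, [39, 39, 41, 39, 40, 41], [2, 3, 0, 1, 3, 5, 3])], [], 0),
  (1, 0, [], 0, [], [], 846),
  (0, 6, [4, 2, 6, 4, 10, 8, 6, 4, 2, 0, 6, 4, 11, 13], 16, [(384, [], [0, 2, 2, 3, 5, 3, 1]), (365, [27, 29, 36, 29], [2, 4, 2, 3, 5, 0, 3, 4, 2, 2]), (547, [37, 38, 37], [3, 4, 2, 3, 1, 4, 5, 0, 3])], [], 0),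
  (1, 0, [], 0, [], [], 848),
  (0, 6, [4, 6, 11, 8, 6, 4, 2, 6, 10, 8], 14, [(774, [37, 38], [3, 0, 5, 3, 4, 2, 3, 4, 2, 2]), (246, [33, 34, 45], [0, 1, 4, 2, 5, 3, 1, 4]), (685, [42], [0, 1, 2, 3, 1, 4, 3, 4, 3, 5])], [], 0),
  (1, 0, [], 0, [], [], 850),
  (0, 6, [6, 4, 11, 8, 6, 4, 2, 6, 4, 8, 10, 10], 15, [(143, [38], [0, 2, 2, 3, 1, 4, 3, 5, 3, 1, 3]), (664, [], [4, 3, 4, 2, 3, 1, 4, 3, 1, 4]), (367, [43, 43, 43, 42], [2, 2, 3, 1, 3, 4, 2, 5, 3, 1, 3, 1])], [], 0),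
  (1, 0, [], 0, [], [], 852),
  (0, 6, [2, 10, 10, 8, 6, 4, 2, 11, 11, 8, 6, 4, 2, 6], 14, [(681, [], [0, 2, 4, 3, 1, 5, 3, 4, 2, 3]), (545, [35, 27, 31], [0, 1, 5]), (567, [], [1, 4, 3, 0, 5, 3, 1, 4])], [], 0),
  (1, 0, [], 0, [], [], 854),
  (0, 6, [6, 4, 2, 10, 8, 12, 11, 8, 6, 4], 14, [(587, [38, 37], [2, 4, 3, 1, 4, 5, 3, 1, 3]), (245, [40, 39, 40, 41, 41], [0, 2, 2, 3, 1, 3, 4, 5, 3, 1]), (199, [44, 45, 45], [0, 2, 3, 5, 3, 4, 2, 3, 1, 4, 5])], [], 0),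
  (1, 0, [], 0, [], [], 856),
  (0, 6, [6, 8, 6, 4, 2, 13, 10, 8, 6, 4, 10, 8], 14, [(494, [37, 38, 37], [0, 1, 3, 1, 3, 5, 3, 1, 3]), (264, [34, 33, 45], [3, 5, 3, 4]), (793, [42, 43, 42, 43, 43, 43, 43, 42], [1, 2, 4, 3, 1, 4, 2, 5, 0, 3, 1])], [], 0),
  (1, 0, [], 0, [], [], 858),
  (0, 6, [4, 2, 6, 8, 12, 10, 8, 6, 4, 6, 4, 2, 8, 10, 10, 5, 10, 13, 7, 7, 12, 10], 22, [(709, [38, 37], [0, 4, 2, 3, 1, 3, 4, 2, 5]), (535, [34], [2, 3, 1, 3, 5, 3, 1, 4, 3, 4])], [], 0),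
  (1, 0, [], 0, [], [], 860),
  (0, 6, [0, 2, 0, 6, 10, 10, 8, 6, 4, 2, 6, 10, 8, 6, 4, 6, 12, 9, 13, 11, 1, 5], 9, [(483, [], [1, 3, 4, 2, 2, 3, 1, 4, 2, 5]), (605, [], [1, 2, 3, 5, 3, 4, 2, 3, 1, 5, 3]), (138, [39, 39, 40, 39, 40], [3, 4, 5, 3, 4, 2, 4])], [], 0),
  (1, 0, [], 0, [], [], 862),
  (0, 6, [4, 2, 0, 6, 4, 2, 10, 10, 8, 6, 4, 10, 8, 11, 12], 8, [(396, [], [1, 2, 4, 3]), (641, [], [1, 4, 2, 3, 4, 2, 2, 3, 1, 4, 2]), (377, [], [3, 4, 5, 3, 4, 3, 5])], [], 0),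
  (1, 0, [], 0, [], [], 864),
  (0, 6, [2, 10, 8, 6, 4, 11, 8, 6, 4, 2, 0, 12], 22, [(508, [37], [4, 2, 2, 5, 0, 3, 1, 4, 2, 3, 4]), (189, [43, 42], [3, 1, 3, 1, 4, 2, 4, 5, 3, 1, 3])], [], 0),
  (1, 0, [], 0, [], [], 866),
  (0, 6, [4, 2, 0, 6, 4, 2, 8, 6, 4, 11, 8, 6, 4, 13], 8, [(645, [], [1, 5, 3, 1, 4, 3, 4, 5, 3, 1, 3]), (273, [], [1, 3, 4, 3, 5, 3, 4, 2, 2, 3, 5]), (242, [45, 33, 45, 34], [0, 1, 2, 4, 2, 3, 4, 5, 3, 1])], [], 0),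
  (1, 0, [], 0, [], [], 868),
  (0, 6, [2, 0, 6, 4, 2, 10, 8, 6, 4, 10, 10, 12], 14, [(346, [38, 37], [0, 2, 3, 1, 5, 3, 1, 4, 3, 4]), (460, [], [0, 3, 4, 3, 4, 2, 2]), (760, [], [4, 2, 3, 1, 4, 3])], [], 0),
  (1, 0, [], 0, [], [], 870),
  (0, 6, [2, 0, 6, 4, 2, 0, 13, 11, 8, 6, 11, 8, 10, 5, 10, 12, 7, 5, 13, 1, 9], 22, [(870, [], [0, 1, 4, 2, 3, 0, 4]), (348, [], [2, 4, 2, 3])], [], 0),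
  (1, 0, [], 0, [], [], 872),
  (0, 6, [0, 13, 11, 8, 6, 4, 2, 11, 8, 6, 4], 8, [(772, [37, 38, 37], [1, 2, 2, 5, 3, 0, 1, 3]), (171, [42, 43, 43, 43, 43, 42, 43, 42], [4, 3, 4, 5, 0, 3, 1, 4]), (122, [45], [2, 3, 0, 1, 3, 4, 3, 1, 5])], [], 0),
  (1, 0, [], 0, [], [], 874),
  (0, 6, [6, 13, 11, 8, 6, 4, 6, 4, 2, 0, 10, 8], 9, [(501, [37], [3, 0, 4, 2, 4]), (366, [37], [0, 2, 3, 4, 2, 4, 5, 3, 1, 3, 5]), (505, [43, 42, 43, 43, 43, 43, 42, 43], [0, 2, 3, 4, 2, 3, 4, 3, 5, 3, 1])], [], 0),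
  (1, 0, [], 0, [], [], 876),
  (0, 6, [6, 10, 8, 6, 4, 2, 11, 8, 6, 4, 2, 12], 15, [(438, [], [2, 5, 0]), (664, [42, 43, 43, 42, 43, 43, 43, 43], [2, 2, 3, 0, 4, 2, 5, 3, 4, 2]), (375, [42, 43, 42, 43, 43], [3, 1, 4, 2, 3, 4, 2, 2, 3, 5, 0])], [], 0),
  (1, 0, [], 0, [], [], 878),
  (0, 6, [0, 10, 8, 6, 4, 2, 11, 11, 8, 6], 33, [(772, [], [2, 4, 2, 2, 5, 3, 1, 4, 3, 1, 5]), (757, [42, 43, 42, 43, 43, 43], [0, 2, 4, 3, 1, 4, 3, 4, 2, 5]), (754, [34, 33, 45], [1, 4, 5, 3, 1, 3, 4, 5])], [], 0),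
  (1, 0, [], 0, [], [], 880),
  (0, 6, [0, 2, 6, 10, 8, 6, 4, 6, 11, 8, 11, 8, 6, 4, 2, 6, 3, 1, 3, 1, 11, 13, 9, 9, 5, 1, 7, 3, 1, 5, 12, 3], 15, [(617, [38, 37], [1, 2, 2, 4, 2, 5, 0, 3, 4, 3, 1]), (612, [39, 40, 39, 40, 41], [4, 2, 2, 5, 3, 4, 2, 3, 4, 3, 4]), (510, [37, 38, 37], [2, 3, 4, 2, 3])], [], 0),
  (1, 0, [], 0, [], [], 882),
  (0, 6, [0, 10, 8, 6, 4, 2, 11, 8, 6, 4, 10], 33, [(772, [], [0, 1, 3, 4, 2, 2, 3, 4, 3, 1, 4, 2]), (668, [42, 43], [4, 5, 0, 3, 1, 3, 4, 5]), (755, [], [1, 2, 2, 5, 0, 3, 1, 3, 4, 2, 5, 3])], [], 0),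
  (1, 0, [], 0, [], [], 884),
  (0, 6, [0, 2, 8, 6, 4, 2, 6, 11, 8, 6, 12, 10, 8], 9, [(755, [38, 37], [2, 2, 4, 2, 3, 1, 3, 1, 4, 5, 3]), (724, [34, 33, 44], [5, 3, 1, 3, 4, 2, 2, 3, 1]), (881, [37], [2, 3, 4, 2, 5, 3, 4, 3, 1, 5])], [], 0),
  (1, 0, [], 0, [], [], 886),
  (0, 6, [0, 4, 2, 6, 4, 2, 11, 8, 6, 12, 11], 22, [(840, [], [1, 4, 2, 5, 3, 0]), (260, [44], [1, 5, 3, 0, 1, 4, 2, 3, 1, 4])], [], 0),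
  (1, 0, [], 0, [], [], 888),
  (0, 6, [2, 4, 6, 10, 8, 6, 4, 6, 4, 2, 8, 6, 4], 9, [(808, [37, 38, 37], [1, 2, 5, 3]), (606, [39, 39, 40, 41, 41, 39], [0, 2, 2, 3, 1, 4, 2, 5]), (499, [45, 34, 45], [4, 2, 3, 0, 4, 5, 3, 4, 2, 2])], [], 0),
  (1, 0, [], 0, [], [], 890),
  (0, 6, [8, 6, 4, 6, 10, 8, 6, 4, 2, 6, 4, 8, 10, 8, 11], 22, [(139, [38, 37], [0, 1, 4, 3, 1, 3, 4, 2, 5, 3, 1]), (592, [], [4, 3, 1, 4, 2, 3, 1, 5, 3, 4, 2])], [], 0),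
  (1, 0, [], 0, [], [], 892),
  (0, 6, [0, 6, 10, 8, 6, 4, 2, 6, 12, 10, 8, 6, 4, 2], 14, [(374, [], [3, 1, 5, 3, 4, 2, 4, 3, 1]), (189, [42, 43, 43, 43], [2, 5, 3, 0, 1, 3, 4, 2, 5]), (892, [38], [1, 3, 4, 2, 5, 3, 1, 3, 4, 2, 5])], [], 0),
  (1, 0, [], 0, [], [], 894),
  (0, 6, [4, 6, 8, 12, 10, 8, 6, 4, 2, 6, 8], 22, [(850, [], [1, 2, 4]), (851, [27, 28, 35, 36], [1, 3, 5, 0, 3, 4, 2, 3, 4])], [], 0),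
  (1, 0, [], 0, [], [], 896),
  (0, 6, [4, 8, 6, 4, 11, 8, 6, 4, 2, 6, 4, 8, 11], 14, [(126, [38], [2, 2, 4, 3, 4, 2, 5, 3, 1, 4, 3]), (102, [20, 23, 20, 23, 20, 21, 23], [0, 1, 4, 2, 2, 3, 0, 1, 4, 3]), (650, [], [3, 1, 4, 3, 4, 2, 3, 5])], [], 0),
  (1, 0, [], 0, [], [], 898),
  (0, 6, [4, 2, 6, 11, 11, 8, 6, 4, 2, 6, 11, 13], 22, [(605, [37], [2, 3, 1, 4, 3, 4, 5, 3, 1, 3, 1]), (303, [40, 41, 41, 39, 40, 41], [0, 1, 4, 3, 4, 2, 3, 1, 4, 5])], [], 0),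
  (1, 0, [], 0, [], [], 900),
  (0, 6, [4, 6, 10, 8, 6, 4, 2, 6, 4, 8, 11, 11], 15, [(340, [37, 38], [0, 2, 3, 5, 3, 4, 2, 4, 3]), (545, [27, 36, 28, 35, 35], [2, 2, 3, 1, 5, 0, 3, 4, 2, 3, 1]), (396, [], [1, 2, 4, 2, 3, 1, 4, 3, 4, 2, 5])], [], 0),
  (1, 0, [], 0, [], [], 902),
  (0, 6, [8, 6, 12, 11, 8, 6, 4, 2, 6, 4, 2, 6, 11, 8, 6, 13, 11, 5, 1, 13, 3, 12, 10, 9], 14, [(135, [], [1, 2, 5, 3, 4, 2, 4, 3, 4, 2, 4]), (610, [39, 41, 41, 39, 41], [1, 4, 3, 4, 2, 3, 1, 3]), (343, [], [0, 1, 4, 2, 4, 3, 1, 5, 3, 1, 4])], [], 0),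
  (1, 0, [], 0, [], [], 904),
  (0, 6, [2, 8, 6, 4, 10, 8, 6, 4, 2, 6, 11, 11], 15, [(308, [], [2, 2, 4, 2, 5]), (222, [25, 25, 46, 46], [2, 2, 4, 2, 3, 4, 2, 3, 4]), (241, [42, 43, 43, 43, 43, 42], [0, 2, 3, 4, 2, 2, 5, 3, 1, 3])], [], 0),
  (1, 0, [], 0, [], [], 906),
  (0, 6, [0, 6, 4, 10, 8, 6, 4, 2, 10, 8, 6, 11, 8, 11, 8, 3, 1, 3, 1, 11, 13, 9, 9, 5, 1, 7, 3, 1, 5, 12, 3], 14, [(75, [], [2, 2, 3, 4, 2, 4, 3, 4, 3, 5]), (74, [16, 16, 17, 19, 14, 17, 15, 18, 17, 15], [3, 5, 3, 1, 4, 3, 4, 2, 5]), (529, [], [3, 0, 5, 3, 1, 4, 3, 4])], [], 0),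
  (1, 0, [], 0, [], [], 908),
  (0, 6, [6, 4, 6, 10, 8, 6, 4, 2, 6, 10, 12], 22, [(663, [38], [4, 2, 2, 3, 4, 2, 3, 1, 5, 0, 3]), (210, [], [0, 3, 4, 2, 2, 3, 4, 5, 3])], [], 0),
  (1, 0, [], 0, [], [], 910),
  (0, 6, [2, 4, 10, 8, 6, 4, 2, 11, 8, 6, 12], 15, [(344, [37, 38], [2, 3, 0, 4, 3, 1, 3, 4]), (274, [], [0, 1, 4, 2, 4, 3]), (801, [42, 43, 42, 43, 43, 43, 42], [4, 5, 3, 1, 3, 1, 4, 2, 4, 5])], [], 0),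
  (1, 0, [], 0, [], [], 912),
  (0, 6, [4, 6, 11, 11, 8, 6, 4, 2, 10, 8, 10, 8, 6, 4, 6, 11, 9, 7, 3, 10, 7, 12, 10, 10, 13, 7, 7, 13, 11, 11], 22, [(887, [37], [0, 1, 2, 4, 2, 2, 3, 0, 4, 2, 4]), (879, [38, 37], [0, 1, 4, 2, 5, 3, 4, 2, 2, 3, 4, 3])], [], 0),
  (1, 0, [], 0, [], [], 914),
  (0, 6, [6, 10, 8, 6, 4, 6, 4, 10, 8, 6, 4, 2, 6, 4, 6], 15, [(878, [], [1, 2, 2, 3, 0, 3]), (894, [37], [0, 4, 2, 3, 4, 2, 3, 4, 2]), (895, [39, 39, 40, 41, 39, 40], [0, 3, 1, 3, 4, 2, 2, 3, 1, 3])], [], 0),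
  (1, 0, [], 0, [], [], 916),
  (0, 6, [4, 11, 11, 8, 6, 4, 2, 11, 8, 6, 12], 14, [(806, [], [4, 5, 3, 1]), (722, [45, 33, 44], [2, 3, 4, 3, 1, 4, 2, 3, 5, 3, 1]), (784, [37], [4, 2, 3, 1, 3, 5, 3])], [], 0),
  (1, 0, [], 0, [], [], 918),
  (0, 6, [0, 4, 6, 11, 8, 6, 4, 2, 11, 8, 6, 12, 10, 8, 11, 3, 1, 3, 1, 11, 13, 9, 9, 5, 1, 7, 3, 1, 5, 12, 3], 14, [(314, [], [1, 3, 0, 4, 2, 5, 3, 4, 3]), (658, [42, 43, 43, 43, 42, 43, 42], [0, 2, 4, 3, 0, 1, 3]), (116, [], [3, 1, 4, 2, 4, 3, 1, 3])], [], 0),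
  (1, 0, [], 0, [], [], 920),
  (0, 6, [6, 11, 8, 6, 4, 2, 6, 11, 8, 6, 4, 10, 8, 12], 14, [(426, [], [0, 2, 4, 3, 4, 3, 5, 3, 4, 3]), (153, [45], [2, 2, 5, 0, 3, 4, 2, 4, 3, 1]), (431, [], [4, 2, 3, 1, 4, 2, 3, 1, 4, 5])], [], 0),
  (1, 0, [], 0, [], [], 922),
  (0, 6, [2, 4, 6, 4, 2, 10, 8, 6, 4, 10, 10, 8], 8, [(420, [38], [4, 3, 1, 4, 2, 4, 3, 4, 2, 3]), (260, [], [0, 1, 5, 3, 4, 2, 3, 1, 5]), (509, [42, 43, 43, 42, 43, 43, 43, 43, 42], [2, 3, 1, 3, 1, 4, 2, 3, 5])], [], 0),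
  (1, 0, [], 0, [], [], 924),
  (0, 6, [0, 2, 4, 2, 6, 4, 2, 11, 8, 6, 11, 13], 9, [(306, [37, 38], [2, 3, 1, 5, 3, 1, 3, 4, 2]), (731, [38], [1, 3, 5, 3, 1, 4, 3, 1, 4]), (463, [34, 44, 45, 45], [0, 1, 4, 3, 4, 2, 3, 4, 3, 5])], [], 0),
  (1, 0, [], 0, [], [], 926),
  (0, 6, [2, 4, 2, 6, 4, 2, 0, 11, 8, 6, 4, 10, 13, 10], 17, [(271, [37, 38], [1, 2, 4, 5, 0, 3, 1, 3, 4, 2, 3]), (244, [45, 45, 33], [2, 5, 3, 1, 3, 4, 2, 2, 3, 1]), (590, [39, 39, 39, 41, 41], [1, 3, 1, 5, 0, 3, 1, 4, 2, 4, 3])], [], 0),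
  (1, 0, [], 0, [], [], 928),
  (0, 6, [0, 10, 10, 8, 6, 4, 10, 8, 6, 4, 2, 0, 11, 8, 13], 16, [(418, [37, 38], [1, 2, 4, 2, 3, 1, 4, 5]), (237, [43, 42, 43, 43, 43, 43, 42, 43, 43], [5, 0, 3, 1, 3, 4, 2, 5, 3, 1]), (385, [27, 35, 27, 36], [3, 5, 3, 4, 2, 2])], [], 0),
  (1, 0, [], 0, [], [], 930),
  (0, 6, [2, 10, 8, 6, 4, 2, 11, 11, 8, 6, 11], 33, [(784, [], [1, 4, 2, 2, 3, 4, 2, 3, 1, 3]), (435, [42, 43, 43, 43, 43, 42, 43, 43], [4, 3, 1, 4, 2, 3, 4, 3]), (506, [37], [4, 3, 4, 2, 3, 1, 3, 4, 3])], [], 0)]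

def stepC6 : List (Nat × Nat × List Nat × Nat × List (Nat × List Nat × List Nat) × List (Nat × List Nat × List Nat) × Nat) := [(1, 0, [], 0, [], [], 932),
  (0, 6, [0, 2, 0, 11, 8, 6, 10, 8, 6, 4, 2, 0, 6], 15, [(441, [], [3, 1, 3, 4, 2, 3, 4]), (352, [38, 37], [3, 0, 4, 2, 5, 3, 4]), (541, [33, 33, 45, 34], [0, 4, 2, 3, 1, 3, 1, 5, 3, 1])], [], 0),
  (1, 0, [], 0, [], [], 934),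
  (0, 6, [2, 0, 6, 4, 2, 10, 8, 10, 8, 6, 4, 2, 6, 4], 22, [(833, [], [0, 2, 3, 1, 4, 2, 5, 3, 1, 4, 3]), (845, [37, 38], [2, 4, 3, 4, 2, 3])], [], 0),
  (1, 0, [], 0, [], [], 936),
  (0, 6, [2, 0, 11, 8, 6, 4, 2, 6, 4, 6, 8, 6, 12, 11], 14, [(506, [], [4, 3, 4]), (911, [45], [2, 3, 1, 4, 5, 3, 4, 3]), (815, [38, 37], [0, 2, 2, 3, 4, 2, 3, 4, 2, 3])], [], 0),
  (1, 0, [], 0, [], [], 938),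
  (0, 6, [0, 2, 0, 6, 13, 10, 8, 6, 4, 2, 0, 6, 10, 13], 9, [(326, [], [0, 1, 4, 2, 4, 5, 0]), (439, [42], [1, 2, 4, 2, 3, 4, 2, 3, 4]), (770, [], [0, 4, 2, 3, 4, 5, 3, 4, 2, 2, 3, 4])], [], 0),
  (1, 0, [], 0, [], [], 940),
  (0, 6, [2, 0, 6, 8, 10, 8, 6, 4, 2, 6, 10, 8, 12, 10], 9, [(530, [], [2, 2, 4]), (738, [33, 44, 45], [2, 2, 5, 0, 3, 4, 3, 1, 3]), (932, [38, 37], [0, 3, 1, 3, 1, 5, 3, 1, 4, 3])], [], 0),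
  (1, 0, [], 0, [], [], 942),
  (0, 6, [4, 2, 0, 11, 8, 6, 4, 2, 6, 10, 8, 6], 8, [(575, [], [1, 4, 3, 4, 2, 5, 0, 3, 1, 3, 5]), (691, [37, 38, 37], [1, 2, 4, 3, 4, 2, 5, 0]), (155, [27, 35, 35, 28], [1, 2, 3, 5, 0, 3, 1, 3, 4, 2, 3])], [], 0),
  (1, 0, [], 0, [], [], 944),
  (0, 6, [0, 2, 10, 8, 6, 4, 13, 11, 8, 6, 4, 2, 10, 8, 11], 22, [(844, [38], [0, 2, 3, 1, 5, 3, 4, 2, 3, 1, 5]), (828, [38, 37], [0, 1, 3, 4, 2, 4, 3, 4, 2, 3, 1])], [], 0),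
  (1, 0, [], 0, [], [], 946),
  (0, 6, [2, 0, 6, 10, 8, 6, 4, 2, 6, 11, 11, 8, 6, 4, 11, 8], 22, [(426, [37], [0, 1, 4, 2, 3, 4, 2, 2, 3, 4]), (839, [34, 33, 45], [1, 3, 5, 3, 1, 4, 3, 5])], [], 0),
  (1, 0, [], 0, [], [], 948),
  (0, 6, [11, 11, 8, 6, 4, 6, 4, 2, 11, 8, 6, 4, 6, 13, 10, 9, 12, 5, 10, 12, 7, 13], 8, [(661, [37, 38], [2, 2, 3, 0, 4, 2, 5]), (727, [42, 43, 42, 43, 43, 43, 43, 42, 43, 43], [2, 2, 4, 5, 3, 4, 2, 4, 3, 4]), (595, [33, 45, 44], [2, 3, 0, 5, 3, 4, 2, 3, 1, 5])], [], 0),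
  (1, 0, [], 0, [], [], 950),
  (0, 6, [0, 2, 10, 8, 6, 4, 13, 11, 8, 6, 4, 2, 0, 6], 8, [(946, [], [4, 5, 0, 5]), (182, [37, 38], [1, 2, 4, 2, 5, 0, 3]), (601, [33, 34, 45], [0, 3, 4, 2, 4, 3, 5])], [], 0),
  (1, 0, [], 0, [], [], 952),
  (0, 6, [0, 4, 6, 8, 10, 8, 6, 4, 2, 6, 4, 10, 10, 8], 14, [(663, [37], [0, 4, 2, 5, 3, 4, 2, 3, 1, 4]), (889, [43, 43, 42], [4, 3, 0, 1, 3, 5, 3, 4, 2, 2]), (925, [], [1, 2, 3, 5, 3, 4, 2, 2, 3])], [], 0),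
  (1, 0, [], 0, [], [], 954),
  (0, 6, [0, 4, 2, 11, 8, 11, 8, 6, 4, 2, 11, 8, 6], 8, [(798, [], [0, 2, 2, 4, 2, 5, 0]), (426, [38, 37], [4, 2, 2, 3, 1, 4, 3, 5, 0]), (302, [33], [0, 2, 4, 2, 2, 3, 1, 4, 5, 3, 1])], [], 0),
  (1, 0, [], 0, [], [], 956),
  (0, 6, [13, 10, 8, 6, 4, 2, 6, 4, 2, 11, 8, 6], 8, [(830, [], [0, 4]), (592, [], [2, 4, 2, 2, 5, 0, 3]), (831, [39, 39, 40, 39, 40], [1, 2, 4, 3, 1, 3])], [], 0),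
  (1, 0, [], 0, [], [], 958),
  (0, 6, [4, 11, 8, 6, 4, 10, 8, 6, 4, 2, 0, 6, 4, 6, 11], 15, [(806, [], [4, 2, 2, 3, 0, 5, 3, 4, 3]), (726, [33, 44, 45, 45], [0, 2, 2, 4, 3, 4, 2, 3, 1, 3, 4, 3]), (757, [43, 43, 43, 42, 43], [3, 1, 4, 2, 5, 3, 1, 4, 3, 4, 3])], [], 0),
  (1, 0, [], 0, [], [], 960),
  (0, 6, [0, 11, 8, 6, 4, 2, 6, 10, 8, 6, 4, 11, 11], 15, [(344, [37, 38], [1, 4, 3, 1, 4, 3, 5, 3, 4, 3]), (710, [33, 33, 45, 34], [0, 2, 2, 3, 1, 4, 3, 4, 2, 4]), (818, [], [1, 4, 2, 4, 5, 3, 4, 2, 2, 3, 5])], [], 0),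
  (1, 0, [], 0, [], [], 962),
  (0, 6, [0, 2, 4, 6, 10, 13, 10, 8, 6, 4, 2, 6], 22, [(552, [37, 38], [1, 2, 2, 3, 1, 4, 3, 4, 2, 2, 3]), (933, [45, 33], [4, 2, 2, 3, 0, 4, 3])], [], 0),
  (1, 0, [], 0, [], [], 964),
  (0, 6, [2, 6, 4, 2, 6, 10, 13, 10, 8, 6, 4, 2, 0, 6, 4], 17, [(356, [], [1, 2, 5, 3, 0]), (418, [37], [1, 2, 2, 4, 3, 0, 5, 3, 1, 3, 5]), (670, [42, 43, 43, 42, 43], [1, 2, 2, 3, 1, 3, 5, 3, 1, 4, 3])], [], 0),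
  (1, 0, [], 0, [], [], 966),
  (0, 6, [2, 4, 6, 4, 11, 11, 8, 6, 4, 2, 0, 6, 10, 8, 10, 12], 22, [(613, [], [0, 1, 2, 3, 4, 2, 4, 3, 1, 3]), (287, [39, 39, 40, 39, 40, 41, 41], [2, 2, 4, 5, 3, 0, 4, 2, 4, 3])], [], 0),
  (1, 0, [], 0, [], [], 968),
  (0, 6, [6, 4, 6, 4, 10, 8, 13, 11, 8, 6, 4, 2, 6, 8, 5, 10, 13, 7, 7, 12, 10], 14, [(494, [37, 38, 37], [0, 1, 2, 5, 3, 4, 2, 2, 3, 1]), (553, [34, 45, 45], [2, 2, 4, 5, 3, 0, 4, 2, 4]), (540, [], [2, 3, 0, 1, 4, 3, 5, 3, 4])], [], 0),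
  (1, 0, [], 0, [], [], 970),
  (0, 6, [4, 6, 8, 6, 4, 10, 8, 6, 4, 2, 6, 4, 8, 11], 22, [(735, [38, 37], [1, 3, 0, 4, 2, 5, 3, 4, 2]), (199, [34, 33, 45, 45], [2, 3, 4, 3, 5, 3, 4, 2])], [], 0),
  (1, 0, [], 0, [], [], 972),
  (0, 6, [2, 4, 6, 4, 10, 10, 8, 6, 4, 2, 6, 8, 11, 12], 22, [(139, [37, 38], [3, 5, 3, 4, 2, 4, 3, 1, 4, 2]), (893, [39, 39, 40, 39, 40], [1, 2, 2, 3, 1, 3, 4, 5, 3, 1, 4])], [], 0),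
  (1, 0, [], 0, [], [], 974),
  (0, 6, [6, 4, 2, 6, 12, 11, 8, 6, 4, 2, 0, 6, 11, 12], 22, [(615, [38, 37], [0, 2, 4, 3, 1, 3, 1, 4, 2, 5]), (287, [39, 41, 39, 40, 41], [1, 3, 1, 5, 0, 3, 4, 2, 3, 4, 3])], [], 0),
  (1, 0, [], 0, [], [], 976),
  (0, 6, [0, 6, 4, 6, 13, 10, 8, 6, 4, 2, 6, 4, 6, 4, 11, 8, 12, 12, 5, 7, 9, 3, 7, 7, 7, 11], 14, [(414, [38, 37], [0, 4, 3, 4, 2, 3, 5, 3, 1, 4, 3]), (515, [43, 43, 42, 43, 43, 42], [1, 4, 2, 2, 3, 1]), (432, [37], [3, 5, 3, 4, 2, 4, 3, 1, 4, 2, 4])], [], 0),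
  (1, 0, [], 0, [], [], 978),
  (0, 6, [6, 4, 2, 6, 10, 8, 6, 4, 2, 6, 4, 11, 11], 22, [(663, [38], [4, 2, 2, 3, 4, 3, 1, 5]), (265, [43, 43, 42, 43, 42], [0, 2, 3, 5, 3, 4, 2, 4, 3, 1])], [], 0),
  (1, 0, [], 0, [], [], 980),
  (0, 6, [2, 4, 6, 8, 11, 8, 6, 4, 2, 6, 4, 10, 10], 9, [(334, [37, 38], [1, 4, 2, 3, 0, 4, 5, 3, 1, 4]), (628, [40, 39, 40, 39], [0, 2, 3, 1, 4, 3, 1, 5, 3, 1]), (678, [35, 35, 36, 28], [4, 5, 3, 1, 4, 3, 4, 2, 4, 5])], [], 0),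
  (1, 0, [], 0, [], [], 982),
  (0, 6, [6, 4, 10, 8, 6, 4, 2, 0, 11, 8, 6, 4, 11, 8, 12, 5, 10, 12, 7, 5, 13, 1, 9], 22, [(548, [37, 38, 37], [5, 3, 4, 2, 3, 1, 3, 5, 3]), (425, [37], [0, 1, 4, 3, 4, 5, 3, 4, 3, 1])], [], 0),
  (1, 0, [], 0, [], [], 984),
  (0, 6, [0, 4, 6, 12, 11, 8, 6, 4, 10, 8, 6, 4, 2], 22, [(887, [37], [2, 3, 1, 4, 2, 3, 4, 2, 4]), (804, [], [0, 1, 2, 2, 4, 2, 3, 1, 4, 5, 3])], [], 0),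
  (1, 0, [], 0, [], [], 986),
  (0, 6, [4, 11, 8, 6, 4, 2, 12, 10, 8, 6, 11, 8, 6, 4, 11], 14, [(370, [37], [4, 3, 0, 4, 2, 5]), (262, [33, 45, 34, 33], [0, 1, 2, 4, 3, 1, 4, 2, 3, 4]), (892, [38], [4, 2, 4, 3, 4, 2, 3, 1, 4, 3, 1])], [], 0),
  (1, 0, [], 0, [], [], 988),
  (0, 6, [6, 8, 10, 8, 6, 4, 2, 11, 8, 6, 4, 2, 11, 9, 11, 12, 9, 7, 13, 3, 5, 11, 3, 13, 10, 10, 13, 3, 7, 13], 15, [(947, [], [1, 2, 2, 3, 1, 5, 3, 4]), (673, [], [0, 1, 3, 1, 3]), (945, [43, 43, 42, 43, 43, 43, 43], [1, 5, 3, 4, 3, 1, 4, 5, 3])], [], 0),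
  (1, 0, [], 0, [], [], 990),
  (0, 6, [6, 4, 2, 11, 8, 6, 4, 2, 0, 10, 8, 6, 11, 13], 14, [(838, [], [0, 3, 0, 1, 4, 2, 4, 3]), (248, [33, 45, 34, 33], [4, 2, 2, 3, 5, 0, 3, 1, 3]), (793, [43, 43, 43, 42, 43], [1, 2, 5, 3, 4, 3])], [], 0),
  (1, 0, [], 0, [], [], 992),
  (0, 6, [0, 11, 8, 11, 8, 6, 4, 2, 0, 6, 4, 10, 8, 6, 4, 9, 7, 3, 10, 7, 12, 10, 10, 13, 7, 7, 13, 11, 11], 14, [(374, [38], [1, 2, 4, 2, 3, 4, 2, 3, 4, 2, 2, 5]), (439, [42, 43, 42, 43, 43, 43, 43, 42], [1, 2, 3, 1, 4, 2, 3]), (512, [37], [0, 4, 2, 5, 3, 4, 2, 2, 3])], [], 0),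
  (1, 0, [], 0, [], [], 994),
  (0, 6, [0, 10, 8, 6, 4, 2, 6, 4, 6, 8, 6, 11, 8, 6, 12, 10, 1, 5, 7, 1, 3, 13, 7, 7, 3, 1, 10, 3, 5, 10, 7], 14, [(538, [38], [0, 1, 3, 1, 3, 4, 3, 4, 2, 5]), (738, [44], [0, 2, 2, 5, 3, 1, 4, 3, 5]), (426, [], [0, 2, 5, 3, 4, 2, 2, 3, 4, 3, 1, 5])], [], 0),
  (1, 0, [], 0, [], [], 996),
  (0, 6, [8, 11, 8, 6, 4, 2, 6, 4, 8, 12, 11, 8, 6], 8, [(846, [], [2, 2, 5, 3, 0, 4]), (199, [33, 34, 45], [0, 4, 3, 4, 3, 1, 5, 3, 4]), (600, [39, 40, 41, 39, 41, 41], [1, 2, 3, 1, 5, 3, 4, 2, 3, 5])], [], 0),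
  (1, 0, [], 0, [], [], 998),
  (0, 6, [4, 2, 0, 6, 11, 8, 6, 4, 2, 6, 11, 11, 8], 8, [(867, [37], [2, 4, 2, 2, 5, 3, 4, 3]), (974, [37, 38, 37], [1, 2, 2, 4, 2, 5, 3, 4, 3, 1, 3]), (866, [38], [2, 3, 0, 4, 2, 3, 4, 2, 5, 3])], [], 0),
  (1, 0, [], 0, [], [], 1000),
  (0, 6, [0, 4, 2, 0, 6, 10, 10, 8, 6, 4, 2, 6, 4, 11, 11], 8, [(397, [], [0, 1, 2, 3, 1, 3, 5, 3, 1]), (850, [37], [0, 1, 2, 2, 3, 1, 5]), (449, [36, 35, 31, 36], [0, 1, 5, 3, 1, 4, 2, 4, 3, 1, 4])], [], 0),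
  (1, 0, [], 0, [], [], 1002),
  (0, 6, [2, 4, 2, 6, 4, 6, 11, 8, 6, 4, 2, 0, 6, 4], 8, [(804, [37, 38, 37], [0, 2, 2, 5, 3, 1, 3]), (118, [43, 43, 42, 43, 43, 43], [2, 2, 3, 1, 4, 5, 3, 1, 4, 2]), (752, [45, 34], [2, 2, 3, 4, 3, 1, 4, 5, 3, 4, 3])], [], 0),
  (1, 0, [], 0, [], [], 1004),
  (0, 6, [0, 6, 8, 6, 4, 6, 10, 8, 6, 4, 6, 10, 8, 11, 13, 10, 10, 10, 7, 12, 11, 3, 13, 5, 12, 7, 5], 14, [(830, [38, 37], [2, 3, 4, 2, 2, 3, 4, 2, 3, 4, 3]), (281, [39, 40, 39, 40, 39], [1, 2, 5, 3, 0, 1, 4, 3, 4, 2, 5]), (495, [34], [4, 3, 4, 2, 4, 5, 3, 4, 2, 2, 3])], [], 0),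
  (1, 0, [], 0, [], [], 1006),
  (0, 6, [0, 4, 2, 6, 10, 10, 8, 6, 4, 2, 6, 8, 12, 11], 14, [(464, [37, 38], [0, 1, 4, 3, 1, 3, 4, 2, 4, 3]), (465, [42, 43, 43, 42, 43, 43, 43, 43, 42], [2, 3, 1, 4, 5, 3, 4, 2, 3, 4, 5]), (832, [38, 37], [2, 4, 3, 4, 2, 2, 5, 3, 1, 4, 2])], [], 0),
  (1, 0, [], 0, [], [], 1008),
  (0, 6, [4, 8, 6, 12, 10, 8, 6, 4, 6, 4, 2, 10, 8, 11, 11], 15, [(874, [37, 38], [1, 2, 3, 0, 4, 2, 4, 5]), (297, [43, 42, 43, 43, 43, 43], [0, 3, 1, 3, 5, 3]), (750, [45, 45], [0, 1, 2, 2, 4, 3, 4])], [], 0),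
  (1, 0, [], 0, [], [], 1010),
  (0, 6, [8, 10, 8, 6, 4, 6, 4, 2, 0, 11, 8, 6, 11, 12], 16, [(653, [37, 38], [3, 4, 3, 5, 3, 1, 4]), (672, [42, 43, 42, 43, 43, 43, 43, 42, 43], [0, 2, 2, 3, 4, 3, 4, 2, 4, 5]), (1011, [37, 38], [2, 2, 4, 2, 5, 3, 4, 2, 4, 3, 1, 4])], [], 0),
  (1, 0, [], 0, [], [], 1012),
  (0, 6, [10, 10, 8, 6, 4, 2, 6, 10, 10, 8, 6, 4, 2, 0, 6, 5, 10, 12, 7, 5, 13, 1, 9], 16, [(584, [37], [4, 2, 3, 1, 3, 4, 2, 3, 4, 2, 3]), (529, [], [0, 3, 4, 3, 4, 5, 3, 1, 4]), (513, [37, 38], [1, 4, 2, 3, 4, 5, 3, 1, 4, 2, 3])], [], 0),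
  (1, 0, [], 0, [], [], 1014),
  (0, 6, [0, 4, 8, 10, 8, 6, 4, 2, 10, 8, 6, 4, 11, 8, 10, 10], 22, [(950, [], [0, 3, 4, 2, 2, 3, 1, 4, 2]), (596, [39, 39, 39, 39, 41], [2, 3, 4, 3, 4, 2, 5, 3])], [], 0),
  (1, 0, [], 0, [], [], 1016),
  (0, 6, [0, 4, 2, 8, 6, 4, 11, 11, 8, 6, 4, 2, 6, 10, 12], 15, [(308, [], [2, 3, 1, 4, 5, 0]), (224, [25, 25, 26, 25, 26, 32], [0, 2, 3, 1, 4, 3, 4]), (297, [], [4, 5, 3, 1, 4, 3])], [], 0),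
  (1, 0, [], 0, [], [], 1018),
  (0, 6, [4, 8, 6, 10, 8, 6, 4, 6, 4, 2, 10, 10, 12], 16, [(858, [38], [4, 2, 4, 3, 0, 4, 2, 4]), (259, [37, 38], [2, 3, 1, 3, 1, 5, 3, 4, 2, 3]), (718, [33, 33], [4, 3, 5, 0])], [], 0),
  (1, 0, [], 0, [], [], 1020),
  (0, 6, [0, 4, 2, 6, 8, 11, 8, 6, 4, 2, 10, 8, 6, 4, 12], 33, [(798, [], [0, 2, 4, 2, 2, 5, 3, 4, 2, 3, 1]), (438, [38, 37], [3, 4, 3, 5, 3, 1, 4, 3, 4, 2]), (299, [42, 43, 42, 43, 43, 43, 42, 43, 42], [1, 2, 4, 3, 5, 0, 3, 1, 4, 2, 3])], [], 0),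
  (1, 0, [], 0, [], [], 1022),
  (0, 6, [0, 4, 12, 11, 8, 6, 4, 2, 10, 8, 6, 10], 22, [(956, [], [2, 3]), (831, [39, 39, 40, 41, 39, 41], [1, 2, 3, 1, 4, 2, 3, 4, 2, 3, 5])], [], 0),
  (1, 0, [], 0, [], [], 1024),
  (0, 6, [0, 4, 2, 0, 11, 8, 6, 4, 10, 8, 6, 4, 2, 11, 13, 11], 14, [(129, [], [4, 2, 3, 1, 4, 5, 3, 1, 3]), (619, [37, 38], [4, 2, 4, 3, 0, 4, 2, 2, 5, 3]), (608, [39, 41, 41, 39], [5, 3, 4, 2, 2, 3, 1, 4, 3])], [], 0),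
  (1, 0, [], 0, [], [], 1026),
  (0, 6, [10, 10, 8, 6, 4, 2, 6, 4, 2, 6, 10, 8, 6, 10, 12, 10, 5, 10, 13, 7, 7, 12, 10], 15, [(679, [], [0, 3, 4, 2, 4, 3, 1, 3, 4, 2, 5]), (629, [35, 31, 36, 36], [0, 2, 3, 4, 2, 4, 3, 1, 5, 3]), (594, [39, 40, 41, 41, 39], [0, 1, 4, 2, 2, 3, 5, 3, 4, 2])], [], 0),
  (1, 0, [], 0, [], [], 1028),
  (0, 6, [4, 6, 11, 11, 8, 6, 4, 2, 10, 8, 6, 4, 2, 10], 14, [(366, [37], [1, 2, 4, 3, 4, 2, 2, 5, 3, 1, 3, 1]), (291, [42, 43, 43, 43, 43, 42, 43, 43], [1, 5, 3, 4, 3, 1, 4, 2, 5]), (734, [34], [2, 2, 5, 3, 1, 4, 2, 3, 1, 4])], [], 0),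
  (1, 0, [], 0, [], [], 1030),
  (0, 6, [0, 4, 2, 10, 8, 6, 4, 2, 0, 11, 8, 6, 4, 10, 8, 13, 5, 10, 12, 7, 5, 13, 1, 9], 15, [(669, [], [0, 3, 4, 3, 1, 3, 4, 2, 5, 3]), (161, [], [1, 2, 4, 5, 3, 0, 4, 2, 2, 3, 4]), (302, [], [0, 3, 5, 3, 4, 2, 3, 1, 4, 5, 3])], [], 0),
  (1, 0, [], 0, [], [], 1032),
  (0, 6, [0, 4, 2, 11, 8, 6, 4, 2, 6, 11, 8, 6, 4, 13, 11], 14, [(774, [], [0, 3, 1, 5, 3, 4, 2, 2, 3, 1, 3]), (706, [33, 33, 45, 45], [1, 4, 2, 3, 1, 4, 5, 3, 4, 2]), (674, [42], [2, 3, 5, 3, 4, 3, 4, 2, 2])], [], 0),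
  (1, 0, [], 0, [], [], 1034),
  (0, 6, [0, 2, 6, 12, 11, 8, 6, 4, 2, 10, 8, 6, 4, 2, 12, 12, 11, 3, 9, 3, 12, 3, 13, 3, 3, 11, 7, 3, 3, 12], 9, [(501, [37, 38, 37], [4, 2, 5, 0, 3, 4, 2, 2, 3]), (914, [], [1, 3, 4, 3, 4, 2, 4, 5, 3]), (576, [38, 37], [1, 4, 2, 2, 5, 0, 3, 4])], [], 0),
  (1, 0, [], 0, [], [], 1036),
  (0, 6, [0, 2, 6, 4, 2, 6, 11, 8, 6, 10, 8, 6, 12, 12, 5, 7, 9, 3, 7, 7, 7, 11], 22, [(941, [38], [2, 4, 2, 5, 3, 0, 1, 3]), (862, [], [0, 4, 2, 2, 3, 5, 3, 4, 3])], [], 0),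
  (1, 0, [], 0, [], [], 1038),
  (0, 6, [4, 2, 6, 4, 6, 13, 11, 8, 6, 4, 2, 6, 10, 8, 11], 22, [(570, [], [2, 2, 4, 2]), (636, [43, 42], [3, 1, 4, 2, 5, 3, 4, 2, 2, 3, 1])], [], 0),
  (1, 0, [], 0, [], [], 1040),
  (0, 6, [2, 4, 2, 6, 12, 10, 8, 6, 4, 6, 4, 2, 0, 8, 6], 22, [(544, [38], [2, 3, 1, 3, 5, 3, 1, 4, 3, 1, 3]), (236, [35, 27, 35, 36, 36], [2, 2, 4, 2, 3, 0, 5, 3])], [], 0),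
  (1, 0, [], 0, [], [], 1042),
  (0, 6, [6, 10, 8, 6, 4, 2, 6, 4, 10, 8, 6, 4, 2, 6, 12], 15, [(764, [], [4, 2, 4, 3, 5, 3, 1]), (128, [], [0, 2, 2, 4, 3, 0, 4, 2, 4, 3]), (935, [37], [2, 3, 0, 4, 5, 3, 4, 2])], [], 0),
  (1, 0, [], 0, [], [], 1044),
  (0, 6, [4, 2, 6, 10, 8, 6, 11, 11, 8, 6, 4, 2, 6, 4], 33, [(806, [], [0, 2, 2, 4, 3, 1, 5, 3, 1, 4]), (847, [33, 45, 45], [1, 2, 4, 5, 0, 3, 1, 4, 2, 4, 3]), (808, [], [2, 3, 5, 3, 4, 3, 1, 5, 3])], [], 0),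
  (1, 0, [], 0, [], [], 1046),
  (0, 6, [6, 8, 13, 10, 8, 6, 4, 6, 4, 2, 8, 6, 4, 10, 9, 3, 1, 13, 1, 1], 17, [(637, [37, 38], [3, 0, 1, 4, 3, 5, 3, 4]), (210, [43, 42, 43, 43, 43], [1, 2, 2, 4, 3, 1, 5, 0, 3, 4, 2]), (710, [45, 34, 45], [3, 1, 5, 3, 1, 3, 4, 2])], [], 0),
  (1, 0, [], 0, [], [], 1048),
  (0, 6, [0, 2, 6, 4, 10, 8, 6, 4, 2, 0, 6, 4, 8, 6, 13, 10, 5, 10, 13, 7, 7, 12, 10], 22, [(554, [38], [4, 3, 4, 2, 5, 3, 4, 2, 3]), (923, [37], [5, 0, 3, 1, 3, 4])], [], 0),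
  (1, 0, [], 0, [], [], 1050),
  (0, 6, [0, 2, 6, 4, 2, 6, 4, 10, 8, 6, 4, 2, 6, 4, 11, 12], 17, [(468, [38], [4, 3, 4, 2, 3, 1, 4, 3, 5, 3]), (218, [25, 26, 46, 46], [0, 1, 2, 2, 4, 3, 1, 4, 5, 3, 1, 4]), (670, [43, 42, 43, 43, 42], [4, 3, 0, 1, 4, 5, 3, 1, 4])], [], 0),
  (1, 0, [], 0, [], [], 1052),
  (0, 6, [0, 2, 4, 6, 8, 10, 8, 6, 4, 2, 6, 12, 11], 15, [(201, [37, 38], [0, 3, 0, 4, 3, 1, 3, 4, 2, 2]), (251, [39, 39, 39, 39, 39], [1, 2, 2, 3, 4, 2, 4, 5, 3, 1, 4]), (720, [], [0, 2, 2, 5, 3, 1, 4, 2, 3, 4, 5])], [], 0),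
  (1, 0, [], 0, [], [], 1054),
  (0, 6, [4, 2, 6, 4, 6, 10, 8, 6, 4, 6, 10, 8, 11, 11, 8, 10, 10, 10, 7, 12, 11, 3, 13, 5, 12, 7, 5], 16, [(558, [37], [4, 2, 5, 0, 3, 4, 2, 2, 3, 1]), (1014, [37], [0, 2, 4, 2, 3, 0, 4, 3, 1]), (890, [37, 38], [4, 2, 2, 5, 3, 4, 2, 4, 3, 4, 3])], [], 0),
  (1, 0, [], 0, [], [], 1056),
  (0, 6, [4, 6, 4, 8, 6, 11, 8, 6, 4, 2, 6, 4, 11], 17, [(787, [37, 38, 37], [4, 2, 3, 4, 2, 3]), (826, [38], [1, 4, 5, 3, 4, 2, 2, 3, 4, 2, 5]), (730, [44, 45], [1, 2, 2, 5, 0, 3, 1, 4, 3, 4, 5])], [], 0),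
  (1, 0, [], 0, [], [], 1058),
  (0, 6, [4, 11, 8, 6, 4, 10, 8, 6, 4, 2, 0, 6, 13, 11, 8], 14, [(737, [38, 37], [3, 0, 1, 4, 2, 3, 5, 3, 4, 2]), (170, [33, 44], [1, 2, 2, 3, 1, 4, 3, 5, 0]), (670, [42, 43, 43, 43, 42, 43, 42], [3, 4, 3, 1, 3, 4, 2, 5, 3, 1])], [], 0),
  (1, 0, [], 0, [], [], 1060),
  (0, 6, [2, 4, 11, 8, 6, 10, 8, 6, 4, 2, 6, 8, 12, 10, 8, 10], 8, [(530, [37, 38, 37], [4, 2, 2]), (621, [34, 33], [3, 1, 3, 4, 2, 2, 3, 1]), (1047, [], [0, 2, 4, 2, 3, 1, 3, 4, 5, 3, 1])], [], 0),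
  (1, 0, [], 0, [], [], 1062),
  (0, 6, [4, 6, 4, 8, 6, 11, 8, 6, 4, 2, 6, 11, 8, 11, 8, 7, 3, 3, 7, 7, 7, 9, 12, 3, 3, 11], 15, [(1048, [37], [0, 2, 4, 2, 2, 5, 0]), (1012, [38, 37], [0, 3, 4, 2, 4, 3, 1, 4, 2, 3]), (407, [38], [0, 3, 1, 3, 4, 3, 4, 5, 3, 4])], [], 0),
  (1, 0, [], 0, [], [], 1064),
  (0, 6, [2, 6, 4, 2, 13, 11, 8, 6, 4, 2, 10, 8, 6], 14, [(406, [], [1, 2, 5, 0, 5]), (1038, [37], [0, 1, 3, 0, 1, 4, 2, 4, 3, 4]), (912, [37, 38], [1, 2, 3, 0, 4, 2, 3, 5, 3, 4, 2])], [], 0),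
  (1, 0, [], 0, [], [], 1066),
  (0, 6, [4, 6, 4, 2, 11, 11, 8, 6, 4, 10, 8, 6, 10, 8, 3, 5, 7, 5, 7, 11, 1, 7, 1, 7, 9], 16, [(1058, [], [0, 2, 2, 3, 4, 2, 3, 1, 3, 5]), (420, [37], [1, 5, 0, 3, 1, 3]), (722, [34, 44], [2, 2, 3, 1, 3, 4, 2, 3, 1, 5, 0])], [], 0),
  (1, 0, [], 0, [], [], 1068),
  (0, 6, [0, 6, 8, 6, 11, 8, 6, 4, 6, 10, 8, 10, 12, 5, 7, 9, 3, 7, 7, 7, 11], 22, [(425, [], [0, 1, 2, 2, 3, 1, 3, 5, 3, 4]), (550, [38, 37], [1, 2, 2, 3, 1, 3, 5, 3, 1])], [], 0),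
  (1, 0, [], 0, [], [], 1070),
  (0, 6, [8, 6, 4, 2, 6, 10, 8, 6, 4, 2, 13, 10, 8, 6, 4, 7, 3, 3, 7, 7, 7, 9, 12, 3, 3, 11], 9, [(139, [38, 37], [1, 3, 4, 2, 4, 3, 1, 5, 3]), (596, [40, 41, 41, 39, 40, 41], [0, 2, 3, 4, 3, 1, 3, 4, 5]), (329, [], [0, 3, 4, 2, 3, 5, 3, 1, 3])], [], 0),
  (1, 0, [], 0, [], [], 1072),
  (0, 6, [6, 11, 8, 6, 4, 2, 6, 4, 2, 8, 6, 10, 8, 6, 4], 14, [(897, [], [2, 3, 1, 5, 3, 1, 3, 4, 3, 4]), (482, [], [0, 2, 4, 2, 2, 3, 4, 3, 1, 3, 4]), (328, [], [1, 3, 4, 2, 5, 3, 4, 2, 4, 3, 1])], [], 0),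
  (1, 0, [], 0, [], [], 1074),
  (0, 6, [2, 8, 6, 11, 8, 6, 4, 2, 6, 4, 2, 13, 11, 8, 6, 10, 9, 11, 1, 5, 7, 1, 9, 13, 5, 3, 11, 13, 9], 14, [(235, [], [0, 2, 2, 3, 1, 4, 2, 3, 4, 5]), (629, [35, 35, 36, 36, 28], [1, 4, 3, 4, 2, 4, 5, 3, 4, 3]), (1047, [41, 39, 41, 41, 39], [0, 1, 3, 1, 4, 2, 3, 4, 5, 3, 1])], [], 0),
  (1, 0, [], 0, [], [], 1076),
  (0, 6, [0, 8, 6, 4, 6, 10, 8, 6, 4, 2, 6, 10, 8, 6, 4, 2], 14, [(320, [37, 38], [0, 4, 2, 2, 3, 4, 3, 4, 2, 4, 5]), (195, [33, 44, 44], [1, 5, 0, 3, 1, 3, 4, 2, 3, 1]), (996, [37], [2, 4, 2, 3, 1, 4, 3, 4, 2])], [], 0),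
  (1, 0, [], 0, [], [], 1078),
  (0, 6, [0, 6, 4, 8, 10, 8, 6, 4, 13, 10, 8, 6, 4, 11, 8, 10, 9, 11, 12, 9, 7, 13, 3, 5, 11, 3, 13, 10, 10, 13, 3, 7, 13], 9, [(850, [37], [4, 2, 2, 5, 0]), (545, [36, 35, 28, 36], [1, 3, 4, 3, 4, 2, 4, 3, 1, 4, 3]), (396, [], [2, 3, 1, 3, 5, 3, 4, 2, 4, 3, 1])], [], 0),
  (1, 0, [], 0, [], [], 1080),
  (0, 6, [2, 4, 6, 4, 6, 10, 10, 8, 6, 4, 2, 6, 11, 8, 11], 14, [(920, [], [0, 1, 3, 5, 3, 4, 2, 2, 3, 5]), (665, [42, 43, 42, 43, 43, 43, 43, 42, 43], [1, 3, 4, 5, 0, 3, 1, 3, 4, 3]), (919, [43, 42, 43, 43, 43, 43], [0, 2, 3, 4, 2, 2, 3, 1, 3, 4])], [], 0),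
  (1, 0, [], 0, [], [], 1082),
  (0, 6, [0, 4, 11, 8, 6, 12, 11, 8, 6, 4, 2, 6, 4, 11], 17, [(784, [37, 38, 37], [1, 4, 3, 0, 5, 3, 4, 2, 4, 3]), (231, [43, 43, 43, 43, 42, 43, 43], [1, 4, 3, 4, 3, 5, 3, 4, 2, 2, 3]), (629, [27, 28, 35], [2, 3, 0, 1, 4, 3, 4, 5])], [], 0),
  (1, 0, [], 0, [], [], 1084),
  (0, 6, [2, 6, 8, 11, 8, 6, 4, 2, 6, 4, 2, 0, 13, 10, 8, 6], 15, [(514, [], [0, 1, 2, 3, 0]), (291, [42, 43, 42, 43, 43], [5, 3, 4, 2, 2, 3, 4, 2, 3]), (240, [33, 45], [4, 2, 4, 3, 1, 4, 2, 3, 5])], [], 0),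
  (1, 0, [], 0, [], [], 1086),
  (0, 6, [8, 10, 8, 6, 4, 10, 8, 6, 4, 2, 0, 11, 8, 6, 12], 16, [(955, [37], [1, 4, 2, 4, 3, 4, 3, 1, 3, 5]), (554, [37], [4, 2, 5, 3, 0, 4, 2, 3, 4, 5]), (768, [37], [0, 1, 2, 4, 2, 3, 4, 2, 3, 4, 5, 3])], [], 0),
  (1, 0, [], 0, [], [], 1088),
  (0, 6, [0, 4, 6, 8, 10, 8, 6, 4, 2, 0, 6, 4, 10, 8, 10, 12, 5, 10, 12, 7, 5, 13, 1, 9], 14, [(910, [37, 38], [0, 2, 3, 5, 3, 4, 3, 4, 2, 2, 5]), (817, [45, 44, 45], [4, 5, 0, 3, 1]), (1011, [37, 38], [4, 2, 2, 3, 1, 4, 2, 3, 4, 3, 1])], [], 0),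
  (1, 0, [], 0, [], [], 1090),
  (0, 6, [0, 6, 4, 11, 8, 6, 4, 2, 10, 8, 6, 10, 10], 8, [(182, [], [5, 3, 4, 2]), (738, [34, 45, 45, 33], [2, 3, 4, 2, 2, 3, 4, 2, 3, 4, 2]), (1072, [38, 37], [0, 2, 4, 2, 3, 1, 5, 3, 1, 4, 2])], [], 0)]

def stepC7 : List (Nat × Nat × List Nat × Nat × List (Nat × List Nat × List Nat) × List (Nat × List Nat × List Nat) × Nat) := [(1, 0, [], 0, [], [], 1092),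
  (0, 6, [0, 8, 6, 4, 6, 10, 8, 6, 4, 2, 11, 11, 8, 6, 4, 7, 3, 3, 7, 7, 7, 9, 12, 3, 3, 11], 9, [(188, [38, 37], [4, 2, 3, 4, 2, 3, 1, 4, 2, 5]), (261, [42, 43, 43, 42, 43, 43, 43], [1, 3, 1, 4, 2, 4, 5, 3, 1, 3, 4, 2]), (387, [33, 34, 45], [1, 4, 2, 4, 5, 0, 3, 1, 3, 4])], [], 0),
  (1, 0, [], 0, [], [], 1094),
  (0, 6, [2, 4, 6, 4, 8, 10, 13, 10, 8, 6, 4, 2, 6, 4, 8, 6], 9, [(725, [37, 38, 37], [0, 3, 5, 3, 4, 3, 4]), (726, [45, 33, 45], [3, 1, 3, 1, 4, 3, 5, 3, 4]), (343, [42, 43, 43, 43, 43, 42, 43, 43, 43], [0, 1, 2, 4, 5, 3, 4, 2, 4])], [], 0),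
  (1, 0, [], 0, [], [], 1096),
  (0, 6, [4, 6, 8, 6, 4, 6, 10, 8, 6, 4, 2, 10, 10, 8, 6, 12, 7, 13, 7, 9, 11, 3, 9, 3, 5, 10, 7, 10, 10, 1, 1, 5, 13], 14, [(550, [37, 38, 37], [2, 2, 4, 3, 4, 5, 0, 3]), (824, [37, 38], [0, 1, 4, 2, 2, 3, 1, 4, 2, 3, 4]), (356, [], [1, 4, 2, 3, 1, 5, 3, 4, 3, 4])], [], 0),
  (1, 0, [], 0, [], [], 1098),
  (0, 6, [2, 4, 6, 4, 6, 8, 6, 10, 8, 6, 4, 2, 6, 8], 22, [(1070, [38], [3, 1, 3, 4, 2, 5, 3, 4, 2]), (543, [38, 37], [1, 2, 2, 4, 5, 0, 3, 4, 3, 1])], [], 0),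
  (1, 0, [], 0, [], [], 1100),
  (0, 6, [4, 6, 4, 2, 11, 8, 6, 4, 6, 12, 12, 11, 3, 9, 3, 12, 3, 13, 3, 3, 11, 7, 3, 3, 12], 33, [(897, [], [0, 5, 3, 4, 2, 3, 1, 3, 5]), (1042, [38], [3, 4, 2, 2, 5, 0, 3, 1, 4]), (241, [42, 43, 43, 43, 42, 43, 42], [1, 3, 1, 5, 3, 4, 2, 2, 3, 4])], [], 0),
  (1, 0, [], 0, [], [], 1102),
  (0, 6, [2, 6, 4, 10, 8, 6, 4, 2, 0, 6, 4, 2, 8, 11, 8, 12, 3, 7, 12, 3, 3, 1, 5, 1], 22, [(1101, [38], [2, 4, 3, 0, 1, 3, 4, 3, 5]), (580, [38], [2, 3, 4, 3, 1, 4, 2, 3, 4, 3, 1])], [], 0),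
  (1, 0, [], 0, [], [], 1104),
  (0, 6, [2, 6, 4, 10, 8, 6, 4, 2, 11, 8, 6, 4, 2, 6, 11, 8], 17, [(472, [37, 38], [3, 4, 2, 2, 3, 1, 3, 5]), (599, [33, 45, 44], [4, 5, 3, 0, 1, 3, 4, 5]), (1033, [40, 41, 41], [1, 4, 3, 0, 1, 4, 2, 5, 3, 4, 2, 4])], [], 0),
  (1, 0, [], 0, [], [], 1106),
  (0, 6, [6, 4, 6, 10, 8, 6, 4, 6, 8, 11, 11, 8, 7, 1, 1, 5, 5, 5, 3, 7, 9, 7], 9, [(749, [37, 38], [0, 1, 4, 3, 5, 3, 4, 3]), (286, [33, 45, 34], [0, 4, 3, 5, 3, 1, 4, 2, 4, 3, 5]), (632, [41, 39, 40, 39], [2, 3, 1, 4, 3, 5, 0, 3, 1, 4])], [], 0),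
  (1, 0, [], 0, [], [], 1108),
  (0, 6, [8, 6, 4, 6, 11, 8, 6, 4, 2, 0, 13, 10, 8, 5, 10, 12, 7, 5, 13, 1, 9], 14, [(741, [37, 38], [2, 5, 3, 4, 2, 2, 3, 4, 2, 5, 3]), (264, [33, 44, 44], [0, 4, 2, 3, 4, 2, 2, 3, 4, 3, 4]), (707, [42], [1, 2, 4, 2, 3, 1, 4, 3, 4, 3])], [], 0),
  (1, 0, [], 0, [], [], 1110),
  (0, 6, [8, 6, 4, 2, 10, 10, 8, 6, 10, 8, 13, 11, 5, 11, 11, 1, 13, 3, 1, 11, 5, 7, 5, 10, 9, 7, 3, 10, 5], 15, [(669, [38, 37], [3, 1, 3, 1, 4, 5, 3, 1, 3, 4, 5]), (249, [42, 43, 42, 43, 42], [4, 3, 1, 4, 2, 4, 3, 4, 3]), (211, [44, 45, 45], [0, 2, 4, 3, 1, 3, 1, 5, 3])], [], 0),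
  (1, 0, [], 0, [], [], 1112),
  (0, 6, [0, 6, 4, 10, 8, 6, 13, 11, 8, 6, 4, 2, 6, 4, 11, 8, 10, 10, 10, 7, 12, 11, 3, 13, 5, 12, 7, 5], 16, [(496, [37, 38, 37], [4, 2, 5, 3, 0, 4, 2, 2]), (269, [], [2, 3, 0, 4, 2, 3, 1, 5, 3, 1]), (333, [34, 44, 45], [2, 5, 3, 1, 3, 4, 2, 2, 3])], [], 0),
  (1, 0, [], 0, [], [], 1114),
  (0, 6, [6, 4, 2, 6, 12, 11, 8, 6, 4, 2, 0, 10, 8, 6, 12, 12, 10, 10, 9, 1, 5, 9, 9, 3, 13, 3, 7, 13, 9, 9, 13], 22, [(1114, [], [3, 1, 5, 0, 3, 4, 3]), (1078, [38, 37], [2, 4, 3, 0, 4, 2, 2, 5])], [], 0),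
  (1, 0, [], 0, [], [], 1116),
  (0, 6, [0, 2, 6, 4, 2, 6, 12, 10, 8, 6, 4, 6, 4, 8, 10, 10, 5, 13, 1, 1, 13, 1, 3, 12, 9, 5, 3, 13, 1, 13], 22, [(543, [38], [0, 3, 5, 3, 1, 4, 3, 4, 2, 5, 3]), (1104, [38], [1, 3, 5, 3, 4, 3, 1, 3])], [], 0),
  (1, 0, [], 0, [], [], 1118),
  (0, 6, [4, 6, 8, 6, 4, 2, 0, 6, 11, 8, 6, 4, 2, 0, 11, 3, 7, 12, 3, 3, 1, 5, 1], 15, [(546, [37, 38, 37], [0, 1, 3, 4, 5, 3, 1, 3, 1, 4, 2]), (490, [38, 37], [0, 2, 2, 4, 2, 5, 3, 1, 3, 4, 3]), (365, [35, 27, 35, 36, 36], [0, 3, 1, 5, 3, 1, 3])], [], 0),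
  (1, 0, [], 0, [], [], 1120),
  (0, 6, [6, 8, 6, 4, 6, 8, 13, 10, 8, 6, 4, 6, 11, 8, 10, 10, 10, 7, 12, 11, 3, 13, 5, 12, 7, 5], 22, [(1045, [37], [2, 3, 4, 3, 5, 3, 1, 4, 2, 4]), (1086, [37, 38, 37], [0, 1, 3, 4, 2, 3, 4, 2, 2, 3, 4, 3, 5])], [], 0),
  (1, 0, [], 0, [], [], 1122),
  (0, 6, [6, 8, 6, 4, 6, 4, 12, 10, 8, 6, 4, 2, 6, 10, 8], 15, [(890, [38], [4, 2, 3, 1, 3, 5, 3, 1, 3]), (806, [37], [5, 0, 3, 4, 2, 2, 3, 1, 5, 3]), (421, [33, 34], [4, 3, 4, 2, 4, 5, 3, 4, 2, 3])], [], 0),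
  (1, 0, [], 0, [], [], 1124),
  (0, 6, [4, 6, 4, 11, 8, 6, 4, 13, 10, 8, 6, 4, 2, 0, 11, 9, 11, 12, 9, 7, 13, 3, 5, 11, 3, 13, 10, 10, 13, 3, 7, 13], 22, [(1102, [], [1, 4, 2, 3, 0, 4, 2, 5, 3]), (997, [34, 45, 45], [5, 0, 3, 1, 4, 3, 1, 5])], [], 0),
  (1, 0, [], 0, [], [], 1126),
  (0, 6, [8, 6, 4, 11, 8, 6, 4, 2, 6, 10, 8, 6, 4, 3, 9, 3, 12, 3, 13, 3, 3, 11, 7, 3, 3, 12], 14, [(1107, [38], [3, 0, 5, 3, 1, 4, 2, 4, 3, 5]), (307, [37], [0, 4, 2, 2, 3, 5, 3, 4, 2, 3, 5]), (763, [], [3, 0, 4, 3, 1, 5, 3, 1])], [], 0),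
  (1, 0, [], 0, [], [], 1128),
  (0, 6, [2, 10, 8, 6, 4, 10, 8, 6, 4, 10, 8, 6, 4, 10, 8, 12, 1, 7, 3, 10, 10, 5, 7, 9], 15, [(329, [37], [5, 3, 4, 3, 1, 5]), (201, [], [0, 4, 2, 4, 3, 4, 2, 3, 1, 4]), (614, [39, 39, 40, 41, 39, 40], [4, 2, 2, 3, 4, 5, 0, 3, 4, 2])], [], 0),
  (1, 0, [], 0, [], [], 1130),
  (0, 6, [2, 4, 6, 4, 13, 10, 8, 6, 4, 2, 11, 8, 6, 11, 8, 13, 5, 3, 1, 7, 11, 3, 12, 1, 5, 13, 1, 1, 1, 3, 11, 7, 7], 16, [(880, [], [0, 4, 3, 4, 2, 3, 5, 3, 1, 4]), (364, [37, 38], [4, 2, 2, 3, 0, 5, 3, 1, 4, 2]), (238, [29, 35, 35], [0, 2, 3, 1, 5, 3, 1, 3, 4, 2, 2, 5])], [], 0),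
  (1, 0, [], 0, [], [], 1132),
  (0, 6, [2, 4, 6, 4, 2, 13, 10, 8, 6, 4, 2, 6, 11, 8, 6, 4], 8, [(494, [], [5, 3, 1, 3]), (292, [], [5, 0, 3, 1, 4, 3, 1, 5]), (238, [30, 36, 29, 36], [2, 2, 4, 2, 3, 4, 3, 4, 5, 3, 4, 3])], [], 0),
  (1, 0, [], 0, [], [], 1134),
  (0, 6, [0, 11, 11, 8, 6, 4, 11, 8, 6, 4, 10, 8, 6, 4, 2], 22, [(584, [37, 38, 37], [0, 2, 4, 2, 2, 3, 5, 3, 4, 3, 5]), (490, [38, 37], [0, 1, 2, 3, 1, 3, 4, 2, 3])], [], 0),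
  (1, 0, [], 0, [], [], 1136),
  (0, 6, [6, 10, 10, 8, 6, 4, 6, 11, 8, 6, 10, 12, 5, 7, 9, 3, 7, 7, 7, 11], 15, [(900, [37, 38, 37], [2, 3, 0, 4, 2, 3, 5, 3, 1]), (901, [33, 34], [1, 2, 5, 3, 0, 1]), (1068, [], [0, 1, 3, 0, 4, 2, 3, 1])], [], 0),
  (1, 0, [], 0, [], [], 1138),
  (0, 6, [2, 6, 4, 6, 10, 8, 6, 4, 2, 0, 13, 10, 8, 6], 15, [(408, [], [1, 2, 4, 2, 3]), (693, [38], [2, 2, 3, 1, 4, 2, 3, 4, 3, 1, 3, 1]), (629, [28, 35, 36, 35, 36], [2, 2, 3, 1, 3, 4, 2, 3, 5, 0])], [], 0),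
  (1, 0, [], 0, [], [], 1140),
  (0, 6, [2, 4, 6, 4, 6, 10, 8, 6, 4, 10, 8, 6, 11, 8, 12, 10, 1, 9, 10, 12, 10, 10, 5, 10, 13, 13, 11, 3, 10, 10], 8, [(546, [37, 38, 37], [1, 5, 3, 4, 2, 2, 3, 4, 2, 3, 1]), (917, [38, 37], [0, 2, 2, 3, 1, 3, 5, 3, 1, 3, 4]), (669, [38, 37], [1, 2, 4, 2, 2, 5, 3, 1, 4])], [], 0),
  (1, 0, [], 0, [], [], 1142),
  (0, 6, [0, 8, 6, 4, 6, 10, 8, 6, 4, 2, 6, 12, 10, 8, 6, 10, 5, 10, 13, 7, 7, 12, 10], 9, [(188, [38, 37], [2, 4, 2, 3, 4, 2, 3, 1, 4, 5]), (664, [43, 43, 43, 42, 43, 43], [4, 2, 2, 5, 3, 4, 3, 4, 2]), (375, [42, 43, 42, 43, 43], [1, 3, 1, 5, 3, 4, 2, 3])], [], 0),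
  (1, 0, [], 0, [], [], 1144),
  (0, 6, [8, 6, 4, 12, 10, 8, 6, 4, 6, 10, 8, 6, 11, 8, 10, 3, 11, 13, 1, 5, 10, 1, 12, 7, 9, 5, 7], 9, [(1128, [], [0, 2, 3, 4, 2, 2, 5, 3, 1]), (1032, [], [1, 2, 3, 4, 2, 3, 1, 4, 2, 3]), (957, [40, 41, 41, 39], [2, 3, 4, 2, 3, 1, 5, 0, 3, 1])], [], 0),
  (1, 0, [], 0, [], [], 1146),
  (0, 6, [2, 4, 6, 4, 10, 8, 6, 4, 12, 10, 8, 6, 10, 8, 10, 1, 9, 10, 12, 10, 10, 5, 10, 13, 13, 11, 3, 10, 10], 15, [(263, [38, 37], [0, 3, 1, 5, 3, 1, 4, 2, 3, 4, 2, 5]), (714, [], [0, 3, 4, 2, 2, 3, 4, 2, 3, 4, 3, 4]), (849, [], [3, 4, 2, 3, 5, 0, 3, 1, 4, 3])], [], 0),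
  (1, 0, [], 0, [], [], 1148),
  (0, 6, [4, 6, 4, 2, 11, 11, 8, 6, 4, 10, 8, 6, 11, 8, 12, 1, 9, 10, 12, 10, 10, 5, 10, 13, 13, 11, 3, 10, 10], 33, [(414, [38, 37], [1, 4, 2, 3, 4, 2, 2, 5, 3, 1, 4]), (509, [42, 43, 43, 43, 43, 42, 43, 43, 43], [4, 5, 3, 0, 4]), (923, [], [4, 2, 3, 1, 3, 4, 2, 3, 4, 2])], [], 0),
  (1, 0, [], 0, [], [], 1150),
  (0, 6, [10, 8, 6, 4, 6, 11, 8, 6, 4, 2, 11, 8, 6, 4], 14, [(360, [38, 37], [2, 2, 3, 5, 3, 4, 2, 4, 3]), (176, [], [4, 3, 0, 5, 3, 1]), (648, [43, 42], [3, 1, 3, 1, 4, 2, 3, 1, 4, 5, 3])], [], 0),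
  (1, 0, [], 0, [], [], 1152),
  (0, 6, [8, 6, 4, 10, 8, 6, 4, 10, 10, 8, 6, 4, 2, 11, 5, 13, 1, 1, 13, 1, 3, 12, 9, 5, 3, 13, 1, 13], 14, [(316, [37, 38], [2, 2, 3, 1, 5, 0, 3, 4, 3, 1]), (337, [42, 43, 43, 43, 43, 42, 43, 42], [4, 2, 3, 4, 5, 0, 3, 1, 4, 3]), (1147, [], [2, 2, 4, 3, 4, 2, 2, 3, 5, 3])], [], 0),
  (1, 0, [], 0, [], [], 1154),
  (0, 6, [0, 6, 4, 12, 10, 8, 6, 4, 2, 11, 8, 6, 4, 11, 8, 7, 10, 10, 1, 11, 3, 3, 5, 3, 11, 5, 7, 5, 7, 3], 33, [(190, [38], [0, 1, 4, 2, 4, 3, 1, 3, 4, 5]), (367, [43, 42, 43, 42], [1, 2, 4, 5, 3, 0, 1, 3]), (487, [37, 38, 37], [0, 2, 2, 3, 1, 3, 4, 3, 1])], [], 0),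
  (1, 0, [], 0, [], [], 1156),
  (0, 6, [6, 4, 12, 10, 8, 6, 11, 8, 6, 4, 2, 6, 4, 8, 10, 7, 3, 3, 7, 7, 7, 9, 12, 3, 3, 11], 14, [(330, [38], [0, 4, 5, 3, 1, 3, 4, 2, 2]), (189, [43, 42, 43, 43, 43, 43, 42, 43, 43], [2, 3, 4, 2, 4, 5, 3, 4, 2, 3, 5]), (279, [], [1, 5, 3, 1, 4, 2, 3])], [], 0),
  (1, 0, [], 0, [], [], 1158),
  (0, 6, [0, 6, 4, 6, 8, 6, 4, 6, 10, 8, 6, 4, 6, 11, 12, 12, 11, 3, 9, 3, 12, 3, 13, 3, 3, 11, 7, 3, 3, 12], 9, [(1002, [37, 38], [2, 2, 4, 3, 4, 2, 5, 3]), (186, [38], [3, 5, 0, 3, 1, 3, 4, 2, 3, 4, 3]), (527, [42, 43, 43], [0, 3, 1, 5, 3, 4, 3, 4, 2])], [], 0),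
  (1, 0, [], 0, [], [], 1160),
  (0, 6, [6, 4, 8, 6, 4, 6, 12, 10, 8, 10, 8, 6, 4, 2, 6, 5, 13, 1, 1, 13, 1, 3, 12, 9, 5, 3, 13, 1, 13], 17, [(576, [38, 37], [4, 2, 2, 3, 4, 2, 3, 1, 3, 5, 3]), (216, [25, 26, 32, 46], [1, 2, 3, 1, 4, 2, 3, 4, 2, 3, 5]), (225, [42, 43, 42, 43, 43, 43, 42], [1, 2, 2, 3, 4, 2, 3, 1, 4, 2, 3])], [], 0),
  (1, 0, [], 0, [], [], 1162),
  (0, 6, [0, 4, 8, 6, 4, 11, 8, 6, 10, 8, 6, 4, 2, 6, 10, 8, 5, 12, 7, 9, 1, 5, 12, 1, 12, 5, 9, 10, 5, 7], 16, [(1115, [], [2, 3, 4, 2, 3, 4, 2, 3, 4]), (1072, [37], [5, 0, 3, 4, 2, 2, 3, 4, 2, 5, 3]), (1086, [38], [1, 3, 4, 3, 4, 2, 5, 3, 1, 3, 4])], [], 0),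
  (1, 0, [], 0, [], [], 1164),
  (0, 6, [6, 4, 6, 4, 2, 8, 13, 11, 8, 6, 12, 12, 5, 7, 9, 3, 7, 7, 7, 11], 8, [(910, [], [2, 2, 5, 3, 4, 2, 4]), (756, [34, 45, 45], [2, 3, 4, 3, 4, 5, 3, 1, 3]), (757, [42, 43, 42], [0, 2, 2, 5, 3, 1, 4, 2, 3, 1, 5])], [], 0),
  (1, 0, [], 0, [], [], 1166),
  (0, 6, [4, 2, 6, 11, 8, 6, 4, 6, 4, 2, 8, 6, 12, 11], 8, [(508, [], [1, 2, 4, 2, 2, 5]), (265, [42, 43, 42, 43, 43], [2, 3, 4, 2, 5, 3, 4, 2, 3, 4]), (683, [33, 45], [4, 3, 1, 4, 2, 4, 5, 3, 1])], [], 0),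
  (1, 0, [], 0, [], [], 1168),
  (0, 6, [4, 6, 8, 10, 10, 8, 6, 4, 6, 4, 2, 8, 6, 4, 6, 5, 10, 12, 7, 5, 13, 1, 9], 17, [(920, [38, 37], [4, 2, 5, 3, 1, 3, 4, 2, 5]), (203, [42, 43, 43, 43], [0, 4, 2, 2, 3, 4, 2, 5, 3, 1]), (493, [42, 43, 43, 43, 43, 42, 43], [0, 4, 2, 3, 4, 2, 4, 3, 5, 3])], [], 0),
  (1, 0, [], 0, [], [], 1170),
  (0, 6, [0, 6, 13, 10, 8, 6, 4, 6, 10, 8, 6, 10, 12, 5, 7, 9, 3, 7, 7, 7, 11], 8, [(1136, [38, 37], [0, 1, 2, 2, 4, 2, 3, 5, 3, 4]), (401, [29, 35, 31], [0, 2, 3, 1, 5, 3, 4, 2, 3, 4]), (863, [37, 38, 37], [0, 4, 3, 1, 3, 4, 2, 4, 5])], [], 0),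
  (1, 0, [], 0, [], [], 1172),
  (0, 6, [2, 0, 6, 4, 2, 6, 8, 6, 11, 8, 6, 4, 6, 10, 8, 7, 1, 1, 5, 5, 5, 3, 7, 9, 7], 22, [(561, [38], [0, 5, 3, 1, 3, 4, 2, 4, 5, 3, 1]), (1040, [], [3, 0, 4, 2, 2, 3, 4, 2, 3])], [], 0),
  (1, 0, [], 0, [], [], 1174),
  (0, 6, [6, 8, 6, 4, 10, 8, 6, 4, 10, 8, 6, 4, 2, 11, 7, 1, 1, 5, 5, 5, 3, 7, 9, 7], 16, [(796, [], [0, 1, 2, 2, 4, 3, 5, 3]), (602, [40, 41, 41], [1, 2, 3, 4, 3, 4, 2, 5, 3, 1]), (1041, [38], [0, 2, 5, 3, 1, 4, 2, 3, 4, 2])], [], 0),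
  (1, 0, [], 0, [], [], 1176),
  (0, 6, [2, 6, 4, 8, 6, 11, 8, 6, 4, 6, 8, 13, 11, 8, 6, 4, 9, 3, 1, 13, 1, 1], 22, [(561, [38], [3, 1, 4, 2, 4, 3, 4, 2, 5, 3]), (570, [], [0, 1, 4, 2, 2, 5, 3, 1])], [], 0),
  (1, 0, [], 0, [], [], 1178),
  (0, 6, [0, 8, 6, 4, 10, 8, 6, 4, 2, 11, 8, 6, 12, 11, 8, 6], 22, [(1176, [], [1, 2, 3, 1, 4]), (655, [38, 37], [0, 3, 4, 2, 3, 4, 5, 3])], [], 0),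
  (1, 0, [], 0, [], [], 1180),
  (0, 6, [2, 6, 4, 10, 8, 6, 4, 2, 6, 8, 11, 11, 8, 6, 4, 2], 15, [(755, [37, 38], [1, 2, 2, 3, 1, 4, 5, 0, 3, 1, 4]), (272, [34, 44, 45, 45], [0, 1, 2, 4, 3, 1, 4, 5, 3, 4, 2]), (685, [42, 43, 42], [4, 2, 3, 1, 3, 4, 3, 4, 5])], [], 0),
  (1, 0, [], 0, [], [], 1182),
  (0, 6, [0, 4, 6, 4, 12, 10, 8, 6, 4, 2, 10, 8, 6, 10, 8, 12, 5, 1, 7, 3, 5, 3, 1, 3, 13], 33, [(414, [37, 38, 37], [3, 4, 5, 3, 4, 2, 4, 3]), (1087, [43, 43, 43, 43, 42, 43], [2, 3, 1, 3, 4, 2, 3, 5, 0, 3]), (1118, [37], [2, 4, 2, 2, 3, 1, 4, 2, 3, 4, 2])], [], 0),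
  (1, 0, [], 0, [], [], 1184),
  (0, 6, [0, 2, 4, 2, 6, 4, 8, 6, 11, 8, 6, 4, 6, 4, 11, 9, 3, 10, 9, 12, 9, 3, 3, 5, 9, 3], 22, [(1172, [37, 38, 37], [1, 3, 4, 2, 4, 3, 1, 3, 5]), (1039, [37, 38], [0, 2, 2, 4, 3, 5, 3, 1, 3])], [], 0),
  (1, 0, [], 0, [], [], 1186),
  (0, 6, [8, 6, 4, 6, 8, 13, 10, 8, 6, 4, 6, 8, 10, 12, 12, 5, 7, 9, 3, 7, 7, 7, 11], 22, [(1186, [37, 38], [1, 3, 4, 2, 2, 3, 1, 4, 2, 3, 1]), (941, [38], [3, 0, 5, 3, 1, 4, 3, 4])], [], 0),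
  (1, 0, [], 0, [], [], 1188),
  (0, 6, [2, 4, 6, 4, 8, 10, 8, 6, 4, 2, 6, 4, 8, 6, 11, 8, 12, 9, 13, 11, 1, 5], 8, [(613, [], [2, 4, 3, 1, 3, 5, 3, 4, 3, 5]), (594, [39, 41, 39, 40], [4, 2, 4, 3, 1, 4, 2, 4, 3, 5]), (746, [44], [0, 3, 5, 3, 4, 3, 4, 2, 4])], [], 0),
  (1, 0, [], 0, [], [], 1190),
  (0, 6, [2, 4, 6, 4, 8, 6, 11, 8, 6, 4, 2, 6, 12, 11], 22, [(1112, [], [5, 3, 0, 1]), (571, [43, 43, 42, 43, 43, 42], [3, 4, 5, 0, 3, 4, 2, 2])], [], 0),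
  (1, 0, [], 0, [], [], 1192),
  (0, 6, [0, 4, 2, 6, 4, 8, 6, 10, 8, 6, 4, 2, 6, 11, 8], 33, [(853, [38], [2, 4, 2, 2, 3, 0, 1, 4, 3, 5]), (778, [], [1, 3, 1, 4, 3, 4, 2, 2, 3, 5]), (851, [28, 29, 35, 35], [2, 4, 5, 0, 3, 4, 2, 2, 3, 1])], [], 0),
  (1, 0, [], 0, [], [], 1194),
  (0, 6, [2, 4, 6, 4, 2, 11, 8, 6, 4, 2, 11, 8, 6, 11, 8, 11, 7, 9, 9, 9, 10, 5, 10, 10], 17, [(1142, [], [1, 4, 2, 2, 5, 3, 4, 2, 4, 3]), (123, [43, 43, 43, 43], [2, 4, 3, 4, 3, 5, 3]), (193, [45, 33, 44], [3, 5, 3, 1, 4, 3, 4, 5])], [], 0),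
  (1, 0, [], 0, [], [], 1196),
  (0, 6, [6, 8, 6, 4, 10, 8, 6, 11, 8, 10, 12, 12, 5, 7, 9, 3, 7, 7, 7, 11], 15, [(925, [37], [4, 3, 4, 3, 1, 5, 3, 1, 4]), (906, [37, 38, 37], [2, 2, 5, 3, 0, 4, 2, 3, 5]), (541, [45, 44], [1, 2, 4, 2, 2, 3, 0, 4, 5])], [], 0),
  (1, 0, [], 0, [], [], 1198),
  (0, 6, [8, 13, 10, 8, 6, 4, 10, 8, 6, 4, 10, 8, 6, 11, 12, 12, 11, 3, 9, 3, 12, 3, 13, 3, 3, 11, 7, 3, 3, 12], 22, [(671, [37, 38], [1, 3, 1, 4, 3, 5, 3, 1, 3, 4, 2, 5]), (611, [43, 42, 43, 43, 43], [4, 2, 4, 5, 3, 0, 1, 4, 3])], [], 0),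
  (1, 0, [], 0, [], [], 1200),
  (0, 6, [0, 8, 6, 11, 8, 6, 4, 6, 13, 10, 8, 6, 4, 2, 11, 12, 3, 9, 9, 10, 7, 10, 13, 9, 10, 3, 5], 15, [(329, [38], [0, 2, 2, 4, 2, 5, 3, 4, 2, 3]), (970, [38], [4, 3, 0, 4, 5, 3, 4, 2]), (294, [45], [2, 2, 4, 3, 0, 1, 3, 5, 3, 1, 4])], [], 0),
  (1, 0, [], 0, [], [], 1202),
  (0, 6, [11, 8, 6, 4, 6, 11, 11, 8, 6, 4, 2, 6, 11, 8, 11, 12, 7, 13, 5, 3, 12, 10, 12, 1], 15, [(178, [37, 38], [1, 2, 4, 2, 3, 4, 2, 4, 3, 5, 3, 4]), (187, [42, 43, 42], [1, 2, 2, 4, 3, 4, 2, 4]), (1105, [], [1, 2, 3, 4, 2, 2, 5, 3, 1, 3])], [], 0),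
  (1, 0, [], 0, [], [], 1204),
  (0, 6, [2, 8, 6, 4, 13, 10, 8, 6, 4, 2, 11, 8, 6, 4, 2, 7, 11, 1, 5, 7, 11, 12, 12, 11, 7, 5, 10, 13, 5], 8, [(1012, [37], [4, 2, 2, 3, 4, 3, 4, 5]), (1018, [37], [0, 3, 1, 5, 3, 4, 3, 4]), (607, [33, 33, 45, 34], [3, 0, 1, 3, 4, 2, 5, 3, 1, 4])], [], 0),
  (1, 0, [], 0, [], [], 1206),
  (0, 6, [0, 11, 8, 6, 4, 6, 10, 8, 6, 4, 10, 8, 6, 4, 11, 11, 5, 13, 1, 1, 13, 1, 3, 12, 9, 5, 3, 13, 1, 13], 15, [(263, [], [4, 2, 3, 5, 3, 4, 2, 4]), (298, [34, 45], [1, 2, 4, 2, 3, 5, 3, 4, 2, 2]), (223, [42, 43, 42, 43], [2, 3, 1, 5, 0, 3, 4, 3, 1])], [], 0),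
  (1, 0, [], 0, [], [], 1208),
  (0, 7, [2, 11, 8, 11, 8, 6, 4, 2, 6, 8], 16, [(957, [41, 41, 39, 40, 41, 41], [0, 4, 3, 4, 2, 4, 3, 1, 3]), (1161, [], [4, 2, 4, 5, 0]), (814, [38, 37], [2, 2, 3, 4, 3, 4, 5, 3, 4])], [], 0),
  (1, 0, [], 0, [], [], 1210),
  (0, 7, [2, 10, 8, 6, 4, 2, 10, 8, 6], 15, [(138, [39, 39], [1, 2, 5, 0, 5]), (661, [37], [4, 2, 3, 1, 4, 3, 4, 3]), (919, [43, 43, 43], [0, 1, 4, 3, 4, 2, 3, 4, 3, 4, 2])], [], 0),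
  (1, 0, [], 0, [], [], 1212),
  (0, 7, [2, 6, 10, 8, 6, 4, 6, 4, 2, 8, 12], 22, [(630, [39, 39, 41, 41, 39, 41], [0, 2, 3, 5, 3, 4, 3, 4, 5, 3]), (720, [], [0, 1, 2, 2, 3, 4, 3, 4, 2, 4, 3, 4])], [], 0),
  (1, 0, [], 0, [], [], 1214),
  (0, 7, [0, 2, 0, 11, 8, 6, 4, 2, 0, 6, 4, 11], 17, [(98, [39, 40, 41, 39, 40], [2, 2, 4, 2, 3, 0, 4, 5, 3]), (224, [26, 32], [0, 2, 3, 4, 3, 1, 4, 3, 5, 3]), (451, [42, 43, 42, 43, 43, 43], [4, 2, 4, 3, 4, 2, 2, 5, 0, 3, 1])], [], 0),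
  (1, 0, [], 0, [], [], 1216),
  (0, 7, [6, 11, 8, 6, 4, 6, 4, 2, 13, 10, 8, 6, 4, 6, 4, 7, 3, 3, 7, 7, 7, 9, 12, 3, 3, 11], 14, [(116, [39, 41, 41, 39, 40, 41], [4, 3, 1, 4, 5, 3, 1, 4, 2, 4]), (519, [42, 43, 42, 43, 43, 43, 42], [1, 3, 0, 4, 2, 4, 3, 1, 4, 2]), (866, [], [0, 1, 3, 5, 3, 4, 2, 3, 4, 3, 4])], [], 0),
  (1, 0, [], 0, [], [], 1218),
  (0, 7, [4, 6, 8, 10, 8, 6, 4, 2, 6, 4, 13], 8, [(590, [39, 39, 39, 39, 41, 41], [2, 5, 3, 1, 4, 2, 3, 1, 3]), (496, [37, 38, 37], [3, 4, 2, 5, 3, 4, 2, 4, 3, 1, 5, 3]), (902, [38], [1, 3, 0, 4, 2, 3, 5, 3, 1])], [], 0),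
  (1, 0, [], 0, [], [], 1220),
  (0, 7, [6, 11, 8, 6, 4, 2, 6, 4, 12, 11, 8], 22, [(303, [40, 41, 41, 39, 40, 41], [1, 4, 2, 2, 5, 3, 4, 2, 3, 1, 5]), (499, [33, 33, 45], [3, 0, 4, 5, 3, 1, 3, 4, 2, 3])], [], 0),
  (1, 0, [], 0, [], [], 1222),
  (0, 7, [4, 6, 11, 8, 6, 4, 2, 6, 12, 11, 8, 11, 12], 17, [(1210, [39, 39, 39, 39, 41, 41], [1, 2, 2, 3, 0, 4, 3, 1]), (379, [], [0, 1, 3, 1, 3, 4, 2, 3, 1, 5, 3]), (558, [37, 38, 37], [4, 3, 0, 4, 2, 5, 3, 1, 4, 3])], [], 0),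
  (1, 0, [], 0, [], [], 1224),
  (0, 7, [2, 8, 11, 8, 6, 4, 2, 10, 8, 6, 13], 8, [(185, [41, 41, 39, 41, 41], [3, 0, 4, 2, 3, 5, 3, 1, 3]), (361, [], [2, 2, 3, 1, 4, 3, 4, 3]), (843, [38, 37], [0, 4, 3, 4, 3, 1, 5, 3, 1, 4])], [], 0),
  (1, 0, [], 0, [], [], 1226),
  (0, 7, [2, 0, 6, 10, 8, 6, 4, 2, 6, 8, 11, 8, 12], 15, [(303, [39, 39, 41, 41], [2, 3, 4, 2, 4, 3, 4, 2, 3, 4, 5]), (623, [34, 33, 44], [2, 2, 4, 3, 1, 5, 0, 3, 4, 3]), (1210, [39, 41, 39, 40], [0, 1, 4, 2, 3, 5, 3, 1, 3, 1, 4])], [], 0),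
  (1, 0, [], 0, [], [], 1228),
  (0, 7, [0, 6, 11, 8, 6, 4, 2, 6, 8, 11, 8, 6, 4, 6, 12, 10], 8, [(797, [39, 39, 39, 41, 41], [2, 4, 5, 3, 4, 2, 3, 4, 3, 4, 5]), (1164, [38], [4, 2, 4, 3, 1, 3, 4, 2, 3]), (727, [42, 43, 43, 42, 43, 42], [0, 3, 1, 4, 2, 3, 1, 4, 3, 4, 2, 3])], [], 0),
  (1, 0, [], 0, [], [], 1230),
  (0, 7, [4, 6, 11, 8, 6, 4, 2, 6, 4, 2, 11, 12], 17, [(98, [39, 39, 41, 41, 39, 41], [1, 2, 4, 5, 0, 3]), (222, [25, 25, 26, 25, 32, 26, 32], [4, 2, 2, 3, 5, 3, 4, 2, 3, 1, 5]), (509, [43, 43, 43], [0, 3, 5, 3, 4, 2, 2, 3, 1, 4, 2])], [], 0),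
  (1, 0, [], 0, [], [], 1232),
  (0, 7, [6, 10, 10, 8, 6, 4, 6, 4, 2, 11, 8, 12], 8, [(630, [41, 41, 39, 41, 39], [3, 0, 1, 4, 3, 4, 2, 2]), (569, [45, 33, 45, 34], [2, 2, 4, 3, 5, 3, 4, 3, 4]), (524, [38], [0, 2, 4, 2, 3, 4, 2, 4, 3, 5, 3, 4])], [], 0),
  (1, 0, [], 0, [], [], 1234),
  (0, 7, [0, 2, 0, 10, 8, 6, 4, 6, 10, 8, 10, 8, 6, 4, 2, 11, 7, 3, 3, 7, 7, 7, 9, 12, 3, 3, 11], 17, [(125, [39, 39, 41, 41], [2, 4, 3, 0, 5, 3, 4, 3, 1]), (137, [33, 45, 34, 33], [1, 4, 2, 3, 5, 3, 1, 3, 1, 4, 2]), (1218, [40, 39, 40, 39, 40], [1, 3, 4, 2, 2, 3, 1, 3, 1, 5])], [], 0),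
  (1, 0, [], 0, [], [], 1236),
  (0, 7, [4, 8, 6, 11, 8, 6, 4, 2, 0, 6, 13, 10, 8, 6, 11, 1, 12, 5, 9, 1, 10, 3, 7, 13, 5, 9, 1, 3, 1, 9, 11, 13], 14, [(634, [], [1, 2, 3, 5, 0, 3]), (97, [25, 26, 25, 26, 46], [0, 2, 5, 3, 4, 2, 3, 4, 5, 3]), (335, [39], [2, 3, 4, 2, 4, 3, 5, 3, 1, 3, 1])], [], 0),
  (1, 0, [], 0, [], [], 1238),
  (0, 7, [8, 6, 10, 8, 6, 4, 2, 6, 11, 11], 15, [(659, [39, 40, 39, 40, 41, 39], [4, 3, 1, 3, 5, 3, 4, 3, 4]), (656, [43, 43, 43, 43, 42, 43, 43, 43], [1, 4, 2, 2, 3, 1, 3, 4, 5, 3]), (672, [43, 42, 43, 43, 43, 43, 42], [0, 3, 1, 3, 4, 5, 3, 1, 4])], [], 0),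
  (1, 0, [], 0, [], [], 1240),
  (0, 7, [2, 6, 8, 6, 10, 8, 6, 4, 2, 6, 4, 10, 8, 13], 8, [(295, [39, 40, 41, 39, 40, 41], [2, 2, 4, 2, 3, 4, 5, 3, 1, 4]), (541, [], [0, 1, 2, 2, 4, 3, 0, 4, 2]), (947, [38, 37], [0, 2, 3, 1, 3, 5, 3, 1, 3, 4, 2, 5])], [], 0),
  (1, 0, [], 0, [], [], 1242),
  (0, 7, [6, 8, 13, 10, 8, 6, 4, 2, 10, 8, 6, 4, 6, 11, 8, 13, 10, 13, 9, 9, 7, 12, 9], 16, [(797, [39, 39, 41, 39, 40], [0, 2, 4, 2, 2, 3, 4, 3, 5, 3, 4, 3]), (1176, [], [1, 2, 3, 1, 5, 0, 3, 1, 4, 3, 5]), (1080, [37, 38, 37], [0, 3, 4, 2, 2, 3, 4, 3])], [], 0),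
  (1, 0, [], 0, [], [], 1244),
  (0, 7, [6, 10, 8, 6, 4, 11, 8, 6, 4, 2, 10, 13], 14, [(185, [39, 40, 39, 40, 41, 39], [0, 2, 5, 3, 4, 2, 3, 1, 3, 4, 3]), (1170, [37, 38], [1, 2, 3, 4, 5, 3, 1]), (425, [38, 37], [2, 3, 0, 1, 3, 5, 3, 1, 4])], [], 0),
  (1, 0, [], 0, [], [], 1246),
  (0, 7, [10, 8, 6, 4, 2, 6, 8, 11, 11, 8, 6, 4, 2], 14, [(185, [39, 40, 39, 41], [1, 4, 2, 3, 5, 0, 3, 4, 3]), (1110, [], [0, 1, 2, 3, 4, 2, 2, 3, 1, 4, 5]), (841, [33, 44, 34], [1, 5, 3, 1, 3, 4])], [], 0),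
  (1, 0, [], 0, [], [], 1248),
  (0, 8, [2, 6, 4, 8, 6, 4, 2, 0, 6, 4, 2, 8], 22, [(727, [43, 43, 42, 43, 42], [1, 2, 3, 1, 5, 0, 3, 4, 2, 3, 4]), (847, [44, 44], [3, 1, 4, 3, 5, 3, 4, 3, 5])], [], 0),
  (1, 0, [], 0, [], [], 1250),
  (0, 8, [0, 2, 6, 12], 22, [(801, [43, 43, 42, 43, 43], [3, 4, 2, 2, 3, 4, 2, 5, 0, 3]), (826, [], [3, 4, 2, 2, 3, 4, 2, 3, 1])], [], 0)]

def stepC8 : List (Nat × Nat × List Nat × Nat × List (Nat × List Nat × List Nat) × List (Nat × List Nat × List Nat) × Nat) := [(1, 0, [], 0, [], [], 1252),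
  (0, 8, [0, 2, 10, 8, 13, 11], 15, [(889, [42, 43, 43], [1, 2, 2, 5, 3, 4, 3, 4, 2, 4, 5]), (1227, [], [1, 2, 2, 5, 3, 1, 3, 4, 2, 3, 1]), (797, [40, 39, 41, 39, 41], [1, 5, 3, 0, 1, 4, 2, 4])], [], 0),
  (1, 0, [], 0, [], [], 1254),
  (0, 8, [6, 4, 2, 10, 8, 6, 4, 6, 12, 10, 8, 11], 16, [(636, [43, 43, 42, 43, 43, 42], [4, 5, 3, 1, 4, 3, 4, 2, 2]), (1255, [37, 38, 37], [1, 4, 2, 4, 3, 5, 3, 1, 4, 2, 3]), (636, [42, 43, 43, 43, 42, 43], [1, 5, 3, 1, 4, 2, 3, 1, 5])], [], 0),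
  (1, 0, [], 0, [], [], 1256),
  (0, 8, [6, 4, 2, 6, 8, 10, 8, 11, 12], 22, [(261, [42, 43, 43, 42, 43], [2, 3, 1, 3, 4, 5, 3, 4, 2, 3]), (1111, [], [0, 2, 4, 3, 1, 5, 3, 4, 2, 3])], [], 0),
  (1, 0, [], 0, [], [], 1258),
  (0, 8, [2, 4, 6, 11, 8, 6, 10, 8, 11], 22, [(979, [43, 43, 42, 43, 43, 43, 43], [2, 2, 3, 4, 2, 4, 3, 1, 5]), (970, [], [2, 3, 4, 2, 4, 3, 4, 5])], [], 0),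
  (1, 0, [], 0, [], [], 1260),
  (0, 8, [0, 4, 2, 10, 8, 6, 4, 2, 6, 4, 2, 6, 4, 8], 9, [(415, [42, 43, 43, 42, 43, 43, 43, 43], [1, 2, 3, 4, 2, 3, 4, 3, 4, 5]), (1164, [37, 38], [0, 1, 3, 4, 2, 3, 1, 5, 3]), (793, [42, 43, 43, 43, 43, 42], [2, 4, 2, 3, 4, 2, 3, 4, 5, 0])], [], 0),
  (1, 0, [], 0, [], [], 1262),
  (0, 8, [0, 2, 0, 6, 10, 10, 8, 6, 4, 6, 8], 17, [(685, [42, 43, 43, 43], [1, 2, 3, 4, 3, 5, 3, 1, 3, 5]), (365, [28, 29, 35, 35], [1, 4, 5, 3, 0, 4, 2, 4, 3]), (1052, [38, 37], [0, 4, 5, 3, 1, 4, 2, 3, 4, 5, 3])], [], 0),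
  (1, 0, [], 0, [], [], 1264),
  (0, 8, [6, 4, 2, 0, 12, 10, 8], 33, [(921, [42, 43, 43, 42, 43, 43], [0, 2, 3, 5, 3, 4, 2, 2, 3, 1, 3]), (194, [37], [2, 3, 4, 3, 4, 2, 2, 5]), (783, [34, 33, 45, 45], [0, 1, 3, 1, 5, 3, 1, 4])], [], 0),
  (1, 0, [], 0, [], [], 1266),
  (0, 8, [2, 4, 8, 6, 4, 2, 6, 8], 8, [(571, [42, 43, 42, 43, 42], [0, 2, 2, 3, 4, 3, 1, 4, 2, 3]), (543, [37], [2, 3, 5, 0, 3, 1, 4, 2, 3, 5]), (866, [], [0, 3, 5, 3, 1, 4, 3, 1, 4, 5, 3, 4])], [], 0),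
  (1, 0, [], 0, [], [], 1268),
  (0, 8, [4, 2, 8, 6, 10, 8, 6, 4, 2, 0, 6, 4, 2], 15, [(375, [43, 43, 42, 43, 43, 43], [1, 2, 3, 4, 2, 2, 3, 1, 5, 0]), (1017, [], [1, 4, 2, 2, 3, 1, 5, 0, 3, 1]), (745, [37, 38], [3, 1, 3, 1, 4, 2, 4, 3, 5])], [], 0),
  (1, 0, [], 0, [], [], 1270),
  (0, 8, [0, 12, 11, 8, 6, 4, 2], 33, [(203, [42, 43, 43, 43, 43, 42, 43, 43, 43], [1, 4, 3, 4, 2, 2, 5, 0, 3, 1, 3]), (161, [42, 43, 43, 42, 43, 43, 42], [3, 1, 4, 2, 3, 1, 5, 0, 3, 4]), (712, [34, 45], [1, 2, 4, 3, 4, 2, 2, 5, 3, 1, 4])], [], 0),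
  (1, 0, [], 0, [], [], 1272),
  (0, 8, [0, 8, 10, 8, 6, 4, 2, 12, 10, 8, 11], 16, [(241, [42, 43, 42, 43, 43, 43, 43, 42, 43], [1, 4, 2, 4, 5, 3, 4, 2, 4]), (1167, [33, 34, 45, 45], [4, 2, 3, 5, 3, 4, 3, 1, 3, 1]), (516, [37, 38, 37], [3, 1, 4, 2, 3, 5, 3, 1, 3, 5])], [], 0),
  (1, 0, [], 0, [], [], 1274),
  (0, 8, [2, 6, 8, 6, 13, 11], 22, [(743, [42, 43, 42, 43, 43, 43, 42, 43], [4, 2, 4, 5, 3, 4]), (933, [33, 44, 44], [4, 3, 0, 4, 2, 5, 3, 1, 4])], [], 0),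
  (1, 0, [], 0, [], [], 1276),
  (0, 8, [0, 4, 2, 6, 11, 11, 11, 8], 16, [(265, [42, 43, 42, 43, 43, 43, 42, 43, 42], [3, 1, 4, 5, 3, 1, 4]), (911, [33, 33, 44], [0, 4, 2, 2, 3, 1, 3, 4, 2, 4, 3, 1]), (1132, [38, 37], [1, 4, 3, 0, 5, 3, 1, 4])], [], 0),
  (1, 0, [], 0, [], [], 1278),
  (0, 8, [4, 6, 4, 2, 8, 10, 12, 10], 15, [(519, [42, 43, 42, 43, 43, 42], [0, 4, 2, 3, 4, 2, 2, 3, 4, 3, 1, 4]), (184, [37, 38, 37], [1, 2, 3, 0, 4, 3, 5, 3, 1, 3, 5]), (1226, [39, 40, 39, 41, 41], [2, 3])], [], 0),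
  (1, 0, [], 0, [], [], 1280),
  (0, 8, [0, 2, 6, 13, 10, 8, 6, 10, 10, 8], 33, [(223, [42], [1, 2, 2, 3, 5, 3, 1, 4, 2, 3, 1, 3]), (577, [25], [0, 1, 3, 1, 5, 3, 1, 4, 3, 4, 2, 5, 3]), (927, [37], [0, 4, 2, 2, 3, 4, 2, 3, 1, 4, 3, 1])], [], 0),
  (1, 0, [], 0, [], [], 1282),
  (0, 8, [2, 8, 6, 4, 2, 12, 10, 8], 22, [(363, [42, 43, 43, 43, 43, 42], [1, 4, 2, 3, 0, 4, 3, 1, 3]), (729, [38], [2, 2, 5, 3, 0, 1, 4, 3, 4, 2, 2])], [], 0),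
  (1, 0, [], 0, [], [], 1284),
  (0, 8, [8, 6, 4, 2, 12, 11], 8, [(875, [42, 43, 42, 43, 42], [1, 3, 1, 3, 4, 3, 5, 3, 4, 2, 4]), (1219, [], [0, 3, 4, 2, 3, 1, 4, 3, 1, 4, 2]), (614, [39, 41], [4, 3, 4, 2, 2, 3, 4, 3, 1, 5])], [], 0),
  (1, 0, [], 0, [], [], 1286),
  (0, 8, [4, 8, 6, 4, 2, 0, 6, 10, 8], 22, [(1268, [], [1, 3, 0, 5, 3, 4]), (1094, [37, 38], [1, 4, 2, 3, 0, 4, 2, 4, 5, 3])], [], 0),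
  (1, 0, [], 0, [], [], 1288),
  (0, 8, [2, 0, 4, 8, 6, 4, 2, 10, 10, 8, 12], 22, [(435, [43, 43, 43, 43, 42, 43, 43], [1, 3, 1, 3, 4, 5, 3, 4, 2, 3, 4]), (428, [], [1, 4, 5, 3, 0, 4, 2, 2, 3, 4])], [], 0),
  (1, 0, [], 0, [], [], 1290),
  (0, 8, [2, 8, 6, 4, 2, 6, 4, 2, 6, 4, 10, 13, 10], 14, [(757, [42, 43, 43, 43, 42, 43, 42], [3, 1, 4, 2, 3, 4, 2, 5, 3]), (943, [45, 33, 45, 34], [1, 2, 2, 4, 3, 1, 4, 3, 5]), (487, [37, 38, 37], [2, 2, 4, 2, 5, 3, 4, 2, 2, 3, 1])], [], 0),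
  (1, 0, [], 0, [], [], 1292),
  (0, 8, [2, 4, 8, 13, 10, 8, 6, 4, 10], 9, [(571, [43, 42, 43, 42], [0, 2, 2, 4, 3, 4, 3, 5, 3, 4, 3]), (609, [38], [0, 2, 2, 3, 4, 2, 5, 3, 1, 3, 5]), (989, [39, 39, 41, 39, 41], [2, 2, 3, 1, 4, 2, 5, 3, 4, 2])], [], 0),
  (1, 0, [], 0, [], [], 1294),
  (0, 8, [2, 10, 8, 6, 13, 11, 8, 6, 10], 15, [(355, [42, 43, 43, 43, 42, 43, 43, 42], [2, 2, 4, 3, 1, 3, 1, 5, 3]), (1006, [37], [1, 2, 3, 1, 3, 5, 3, 1, 4, 3, 4]), (881, [37, 38], [0, 1, 4, 2, 3, 4, 3, 4, 2, 2])], [], 0),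
  (1, 0, [], 0, [], [], 1296),
  (0, 8, [0, 6, 4, 2, 8, 6, 11, 8, 6, 4, 6, 10, 10], 22, [(805, [43, 42], [3, 4, 5, 3, 4, 3, 1, 3]), (879, [38, 37], [0, 3, 1, 3, 5, 3, 1, 4, 2, 3])], [], 0),
  (1, 0, [], 0, [], [], 1298),
  (0, 8, [0, 2, 4, 2, 0, 6, 11, 8, 6, 4, 10, 12], 8, [(1280, [], [0, 2, 4, 2, 5, 3, 4, 2, 3]), (1136, [37], [0, 4, 2, 2, 3, 4, 2, 3, 1, 5]), (779, [28, 35, 31], [2, 2, 3, 1, 3, 4, 2, 4, 5, 3, 1, 3])], [], 0),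
  (1, 0, [], 0, [], [], 1300),
  (0, 8, [0, 2, 11, 8, 6, 4, 2, 6, 4, 2, 6, 4, 11, 12], 33, [(161, [], [2, 4, 2, 5, 0, 3, 4, 3]), (847, [33, 33, 44], [0, 1, 2, 4, 3, 4, 2, 4]), (837, [37, 38, 37], [0, 2, 2, 4, 2, 3, 4, 2, 3, 1, 3])], [], 0),
  (1, 0, [], 0, [], [], 1302),
  (0, 8, [0, 2, 6, 8, 6, 10, 8, 6, 4, 11, 11], 8, [(1286, [], [2, 4, 2, 5, 3]), (617, [38], [1, 2, 3, 4, 2, 4, 5, 0]), (1212, [39, 41, 41, 39, 41, 39], [3, 0, 5, 3, 4, 2, 3, 1])], [], 0),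
  (1, 0, [], 0, [], [], 1304),
  (0, 8, [6, 8, 6, 4, 2, 0, 6, 4, 11], 14, [(171, [42, 43, 42, 43, 43, 43, 43, 42, 43], [1, 4, 3, 4, 2, 3, 5, 3, 1, 3]), (911, [33, 45, 44], [1, 2, 2, 3, 1, 3, 5, 3, 1, 4, 3, 4]), (1155, [37, 38, 37], [4, 2, 2, 3, 1, 3, 4, 5, 0, 3])], [], 0),
  (1, 0, [], 0, [], [], 1306),
  (0, 8, [4, 6, 10, 8, 10, 8, 6, 4, 2, 6, 4, 2, 6, 4, 7, 3, 3, 7, 7, 7, 9, 12, 3, 3, 11], 8, [(291, [43, 42, 43, 43, 43, 43, 42, 43], [2, 3, 1, 3, 4, 2, 2, 3, 4, 5]), (748, [33, 45], [2, 2, 3, 1, 3, 5, 3, 1, 3, 1]), (475, [], [0, 2, 2, 3, 4, 2, 5])], [], 0),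
  (1, 0, [], 0, [], [], 1308),
  (0, 8, [0, 4, 2, 10, 8, 6, 13, 11, 8, 11], 8, [(233, [42, 43, 43, 42, 43, 43], [0, 3, 1, 4, 3, 4, 2, 4, 5]), (684, [36], [1, 3, 4, 2, 2, 3, 4, 2, 3, 4, 2, 3]), (417, [43, 42, 43, 43, 43], [2, 2, 3, 4, 2, 5, 3, 1, 3])], [], 0),
  (1, 0, [], 0, [], [], 1310),
  (0, 8, [6, 4, 2, 8, 6, 4, 2, 6, 4, 6, 12, 10], 22, [(805, [43, 42], [0, 1, 4, 2, 3, 4, 3, 1]), (731, [37, 38, 37], [2, 2, 3, 1, 3, 4, 2, 5, 0])], [], 0),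
  (1, 0, [], 0, [], [], 1312),
  (0, 8, [4, 10, 8, 6, 4, 2, 6, 4, 6, 10, 8, 12, 11], 17, [(987, [42, 43, 42, 43, 43, 43, 42, 43, 43], [4, 3, 1, 4, 5, 3, 1, 4, 3]), (1062, [38, 37], [0, 4, 2, 5, 3, 4, 2, 2, 3, 5]), (927, [37], [1, 3, 4, 2, 3, 4, 3, 4, 5, 3])], [], 0),
  (1, 0, [], 0, [], [], 1314),
  (0, 8, [0, 2, 6, 4, 2, 6, 8, 6, 12, 11, 8], 14, [(123, [43, 43, 43, 43, 42, 43], [3, 1, 4, 5, 3, 4, 3, 1]), (599, [33, 34], [1, 4, 2, 2, 3, 1, 5, 0]), (1216, [40, 39, 40, 41, 39], [2, 3, 1, 5, 3, 1, 3, 4, 5, 3, 1])], [], 0),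
  (1, 0, [], 0, [], [], 1316),
  (0, 8, [2, 8, 6, 4, 2, 6, 12, 11, 8, 6, 4, 2, 0], 8, [(1294, [43, 42, 43, 43, 42], [1, 2, 5, 3, 0, 4, 2, 4, 3, 1]), (669, [38, 37], [2, 3, 4, 5, 3, 4, 2, 2, 3, 1]), (493, [43, 43, 42, 43], [5, 3, 1, 3, 4, 3, 4, 2, 2])], [], 0),
  (1, 0, [], 0, [], [], 1318),
  (0, 3, [2, 11, 8, 6], 22, [(218, [25, 26], [0, 2, 2, 3, 0]), (1310, [43, 43, 43, 43, 42], [1, 4, 2, 3, 4, 2, 5, 3, 1, 3, 1])], [], 0),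
  (1, 0, [], 0, [], [], 1320),
  (0, 3, [2, 10, 8, 6], 8, [(649, [46, 46, 32], [0, 1, 4, 3, 1, 4, 2, 5, 3, 4, 2, 4]), (493, [42], [1, 2, 3, 0, 1, 4, 2, 5, 3, 4, 2, 4]), (769, [], [1, 2, 2, 3, 1, 4, 5, 3, 1, 3, 4, 5])], [], 0),
  (1, 0, [], 0, [], [], 1322),
  (0, 3, [2, 11, 8, 6, 10], 8, [(676, [25, 25, 26, 25], [0, 1, 4, 3, 4, 2, 4]), (734, [33, 44, 45], [0, 1, 2, 3, 1]), (927, [], [1, 3, 1, 5, 3, 1, 3, 4, 3, 4])], [], 0),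
  (1, 0, [], 0, [], [], 1324),
  (0, 3, [0, 11, 8, 6, 4, 2, 6], 14, [(676, [], [1, 4, 3, 1]), (683, [33, 44, 45], [1, 4, 2, 4, 3, 4, 5, 3]), (1137, [27, 31, 35, 35], [1, 5, 3, 0, 4, 2, 2, 3])], [], 0),
  (1, 0, [], 0, [], [], 1326),
  (0, 3, [0, 10, 8, 6, 4, 2, 6], 15, [(649, [46, 46, 32], [0, 1, 4, 3, 1, 4, 2, 5, 3, 4, 2, 4]), (493, [42], [1, 2, 3, 0, 1, 4, 5, 3, 4, 2, 2]), (1003, [38], [1, 4, 2, 5, 0, 3, 1, 3, 4, 3, 1])], [], 0),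
  (1, 0, [], 0, [], [], 1328),
  (0, 3, [0, 6, 11, 8, 6, 4, 2, 6], 17, [(1322, [], [1, 5]), (972, [37, 38, 37], [4, 2, 2, 5, 3, 0, 1, 3, 5]), (895, [39, 39, 40, 39, 40, 41, 41], [4, 2, 5, 0, 3, 1, 4, 3, 4, 3])], [], 0),
  (1, 0, [], 0, [], [], 1330),
  (0, 3, [0, 8, 10, 8, 6, 4, 2, 6], 22, [(224, [25, 26, 25, 26], [2]), (1288, [42, 43, 43, 42], [1, 5, 3, 4, 2, 3, 1, 4, 5])], [], 0),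
  (1, 0, [], 0, [], [], 1332),
  (0, 3, [11, 8, 6, 4, 2, 10, 8, 6], 15, [(469, [25, 25, 26, 46, 26, 32, 46], [4, 3, 5, 3, 1, 4, 2, 3, 5]), (522, [], [2, 3, 1, 4, 5, 3, 1, 4, 3, 5]), (1330, [26, 32, 25, 46], [1, 2, 2, 3, 4, 3, 1, 3])], [], 0),
  (1, 0, [], 0, [], [], 1334),
  (0, 3, [2, 0, 6, 10, 8, 6, 4, 2, 6], 15, [(97, [26, 26, 32], [2, 4, 5, 3, 1, 3, 1]), (251, [41, 39, 40, 41], [0, 3, 1, 5, 3, 1, 3]), (847, [44, 44], [1, 5, 3, 4, 2, 4, 3, 4, 3, 1, 5])], [], 0),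
  (1, 0, [], 0, [], [], 1336),
  (0, 3, [2, 0, 6, 11, 8, 6, 4, 2, 6], 9, [(212, [], [1, 5]), (702, [33, 33, 45], [0, 1, 3, 4, 2, 5, 3, 1, 3, 1]), (896, [37, 38], [2, 5, 3, 4, 2, 3, 1, 4, 3, 4])], [], 0),
  (1, 0, [], 0, [], [], 1338),
  (0, 3, [0, 4, 6, 11, 8, 6, 4, 2, 6], 15, [(72, [26, 25, 26, 32, 26], [1, 2, 5, 3, 4, 3, 1, 5]), (471, [], [2, 4, 3, 4, 2, 3, 4, 3, 4]), (560, [37], [0, 2, 4, 3, 4, 2, 2, 3])], [], 0),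
  (1, 0, [], 0, [], [], 1340),
  (0, 4, [6, 4, 2, 6, 10], 17, [(680, [28, 36, 29, 36], [2, 2, 5, 3, 0, 1, 3]), (1119, [38], [0, 3, 5, 3, 4, 2, 3, 1, 4]), (1091, [38], [2, 3, 4, 5, 3, 4, 2, 3, 1])], [], 0),
  (1, 0, [], 0, [], [], 1342),
  (0, 4, [6, 4, 2, 6, 11, 11], 15, [(30, [36], [1, 2, 4, 2, 3, 5, 3]), (60, [27, 30, 31], [1, 4, 3, 1, 4, 5, 3, 1, 3, 5]), (1109, [25, 32, 46, 32, 46], [3, 1, 4, 2, 5, 3, 4, 3, 4, 2, 2])], [], 0),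
  (1, 0, [], 0, [], [], 1344),
  (0, 4, [6, 4, 2, 8, 6, 11], 9, [(109, [36, 29, 36], [1, 4, 2, 5, 3, 1, 4, 2, 3, 1, 4, 2]), (785, [42], [1, 2, 2, 3, 1, 4, 5, 3, 1, 4]), (723, [37], [1, 4, 3, 4, 5, 3, 1, 4, 3, 4, 2])], [], 0),
  (1, 0, [], 0, [], [], 1346),
  (0, 4, [0, 6, 4, 2, 10, 8, 6], 9, [(228, [], [1, 5]), (195, [], [0, 1, 3, 1, 3, 5, 3, 1, 3, 5]), (947, [], [2, 2, 3, 5, 0, 3, 4, 2, 3, 5])], [], 0),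
  (1, 0, [], 0, [], [], 1348),
  (0, 4, [0, 6, 4, 2, 8, 6, 11], 8, [(228, [], [1, 2, 4, 2, 2, 5]), (726, [33, 45, 45], [1, 4, 5, 3, 4, 2, 2]), (743, [43, 43, 43, 42, 43, 43, 43], [4, 2, 3, 5, 3, 4, 2, 4, 3, 1, 4])], [], 0),
  (1, 0, [], 0, [], [], 1350),
  (0, 4, [6, 4, 2, 10, 10, 8, 6], 15, [(90, [31, 36, 36], [2, 3, 5, 3, 4, 2, 2, 3, 1, 5]), (98, [39, 39, 40, 39, 40, 41, 41], [0, 4, 3, 4, 2, 2, 3, 4, 3, 1, 4]), (1109, [25, 26, 25, 26], [3, 1, 3, 4, 5, 0, 3, 4, 2])], [], 0),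
  (1, 0, [], 0, [], [], 1352),
  (0, 4, [6, 4, 2, 10, 8, 6, 10], 9, [(678, [], [0, 2, 2, 4]), (782, [37, 38, 37], [1, 2, 2, 4, 5, 3, 0, 1, 4, 2, 3]), (463, [44, 34], [4, 3, 1, 3, 1, 5, 3, 4, 2, 4])], [], 0),
  (1, 0, [], 0, [], [], 1354),
  (0, 4, [6, 4, 2, 8, 6, 12, 11], 9, [(385, [36, 29, 36], [0, 1, 2, 4, 2, 2, 3, 5]), (848, [37], [2, 3, 4, 5, 3, 1, 4, 3, 4, 5]), (1090, [37, 38], [1, 2, 4, 3, 4, 2, 2, 3, 4, 3])], [], 0),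
  (1, 0, [], 0, [], [], 1356),
  (0, 4, [0, 6, 4, 2, 10, 10, 8, 6], 22, [(629, [27, 28, 31], [0, 4, 2, 3, 1, 3, 4, 2, 3, 4]), (1216, [], [2, 2, 4, 3, 4, 2, 4, 3, 4, 2])], [], 0),
  (1, 0, [], 0, [], [], 1358),
  (0, 4, [6, 4, 2, 8, 10, 8, 6, 10], 14, [(228, [36, 36, 29], [5, 0, 3, 1, 4, 3, 4, 2, 5]), (256, [33, 33], [0, 4, 3, 1, 3, 4, 2, 2, 3, 1]), (525, [44, 45, 45], [0, 3, 4, 3, 4, 5])], [], 0),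
  (1, 0, [], 0, [], [], 1360),
  (0, 4, [2, 0, 6, 4, 2, 11, 8, 6, 10], 8, [(60, [27, 36, 36, 35], [0, 1, 2, 2, 3, 4, 5, 3, 1, 3, 1]), (471, [26, 25, 46, 32], [2, 4, 3, 4, 2, 3, 1, 5, 3]), (560, [], [1, 2, 3, 4, 2, 3, 4, 2, 3, 4])], [], 0),
  (1, 0, [], 0, [], [], 1362),
  (0, 4, [2, 0, 6, 4, 2, 11, 8, 6, 11], 9, [(155, [27, 30, 36, 36, 35], [4, 5, 3, 1, 3, 1, 4]), (945, [42], [2, 3, 0, 1, 4, 3, 4, 2]), (770, [], [3, 0, 4, 2, 4, 3, 4])], [], 0),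
  (1, 0, [], 0, [], [], 1364),
  (0, 4, [2, 0, 6, 4, 2, 8, 6, 13, 11], 14, [(60, [35, 27, 36, 36], [4, 2, 3, 4, 2, 2, 3, 4, 2, 3]), (1332, [25, 25, 46, 26, 32, 32], [2, 3, 5, 0, 3, 1, 4, 3, 1]), (896, [37], [5, 0, 3, 4])], [], 0),
  (1, 0, [], 0, [], [], 1366),
  (0, 4, [2, 0, 6, 4, 2, 8, 6, 12, 11], 17, [(230, [], [1, 2, 4, 2, 2, 5]), (805, [43, 43, 43, 42], [3, 4, 2, 2, 3, 4, 2, 3, 5, 3]), (1191, [37, 38], [1, 4, 3, 1, 4, 2, 4, 3, 4, 2, 5])], [], 0),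
  (1, 0, [], 0, [], [], 1368),
  (0, 4, [6, 4, 6, 11, 8, 6, 4, 2, 6], 16, [(1348, [], []), (946, [], [2, 4, 2, 3, 4, 2, 3, 4]), (543, [], [1, 2, 3, 0, 1, 5, 3, 1, 4, 3])], [], 0),
  (1, 0, [], 0, [], [], 1370),
  (0, 4, [6, 4, 8, 6, 12, 10, 8, 6, 4, 2, 6], 15, [(629, [30, 35], [1, 4, 2, 5, 3, 0, 4, 2, 3, 4, 2]), (831, [39], [0, 1, 4, 3, 1, 3, 4, 2, 2, 3, 5]), (1010, [], [0, 4, 2, 2, 3, 4, 3, 4, 5, 3])], [], 0),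
  (1, 0, [], 0, [], [], 1372),
  (0, 4, [2, 6, 4, 11, 8, 6, 10, 8, 6, 4, 2, 6], 15, [(1362, [], [1]), (561, [], [2, 2, 3, 1, 5, 3, 4, 2, 3, 1, 5]), (1361, [38, 37], [2, 2, 3, 5, 3, 1, 4, 3, 1, 4, 5, 3])], [], 0),
  (1, 0, [], 0, [], [], 1374),
  (0, 5, [2, 6, 11], 8, [(168, [45, 33, 44, 45], [0, 1, 4, 3, 1, 5, 3, 1, 3, 4, 5]), (708, [33, 33, 45], [0, 2, 2, 3, 1]), (980, [38, 37], [2, 2, 3, 4, 3, 5, 3, 4, 2, 3, 4])], [], 0),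
  (1, 0, [], 0, [], [], 1376),
  (0, 5, [0, 4, 2, 6], 8, [(166, [45, 33, 44, 45], [1, 4, 5, 3, 4, 2, 3, 4, 2, 3]), (415, [42, 43, 43, 42, 43, 43], [4, 3, 1, 3, 4, 2, 5, 3, 1, 3]), (411, [38], [2, 3, 5, 3, 4, 2, 4, 3, 1])], [], 0),
  (1, 0, [], 0, [], [], 1378),
  (0, 5, [0, 2, 6, 10], 17, [(257, [33, 45, 44], [3, 5, 3, 1, 4, 3, 1, 3, 5]), (752, [33, 45], [1, 2, 3, 5, 0, 3, 4, 2, 3, 4, 5]), (995, [38, 37], [1, 4, 2, 4, 3, 4, 2, 2, 3, 5, 3])], [], 0),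
  (1, 0, [], 0, [], [], 1380),
  (0, 5, [0, 2, 6, 11], 9, [(246, [], []), (1282, [43, 43, 43, 42], [0, 1, 2, 4, 3, 1, 4, 2, 4]), (306, [37, 38], [0, 3, 4, 2, 3, 4, 2, 2, 3, 5, 3])], [], 0),
  (1, 0, [], 0, [], [], 1382),
  (0, 5, [4, 2, 6, 10], 22, [(248, [], []), (1179, [43, 43, 42, 43, 42], [1, 2, 3, 4, 3, 5, 3, 1, 3])], [], 0),
  (1, 0, [], 0, [], [], 1384),
  (0, 5, [0, 2, 10, 8, 6], 8, [(246, [], [1]), (1282, [43, 43, 43, 42], [0, 1, 2, 4, 3, 4, 2, 4]), (1283, [38], [1, 3, 5, 3, 1, 3, 1, 4, 2, 4, 5, 3])], [], 0),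
  (1, 0, [], 0, [], [], 1386),
  (0, 5, [0, 2, 6, 12, 10], 9, [(700, [], [1, 3, 5]), (1301, [37, 38, 37], [2, 4, 5, 3, 0, 4, 2, 2, 3, 4, 2, 5]), (662, [42, 43, 42, 43], [1, 2, 4, 3, 5, 3, 1, 4, 2])], [], 0),
  (1, 0, [], 0, [], [], 1388),
  (0, 5, [6, 4, 2, 6, 10], 15, [(246, [], []), (1387, [43, 43, 43, 42], [2, 2, 5, 3, 4, 2, 3, 5]), (499, [33, 33, 44, 44], [1, 5, 0, 3, 1, 3, 4, 2, 3, 4, 3])], [], 0),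
  (1, 0, [], 0, [], [], 1390),
  (0, 5, [4, 2, 6, 12, 10], 15, [(1388, [], []), (663, [], [4, 3, 1, 5, 3, 1, 4, 2]), (1165, [43, 43, 42, 43, 43], [3, 1, 4, 2, 3, 5, 3, 1, 4, 3])], [], 0),
  (1, 0, [], 0, [], [], 1392),
  (0, 5, [4, 2, 6, 12, 11], 9, [(333, [33, 45, 44], [0, 2, 3, 4, 2, 4, 3, 5, 3]), (1031, [38], [0, 1, 4, 3, 4, 2, 3, 4, 2, 2, 5]), (1090, [], [4, 2, 5, 0, 3, 4, 2, 3, 4, 5])], [], 0),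
  (1, 0, [], 0, [], [], 1394),
  (0, 5, [0, 4, 2, 10, 8, 6], 17, [(168, [45, 33, 44, 45], [1, 4, 3, 5, 0, 3, 1, 3, 4]), (473, [33, 44, 45, 45], [1, 5, 3, 4, 2, 2, 3, 1, 3, 1]), (1175, [38, 37], [0, 2, 5])], [], 0),
  (1, 0, [], 0, [], [], 1396),
  (0, 5, [0, 2, 12, 11, 8, 6], 22, [(595, [33, 45, 44], [0, 3, 4, 5, 3, 1, 3, 4, 2, 2, 5]), (951, [39, 41, 39, 41, 39], [1, 2, 3, 1, 3, 5, 3, 1, 4])], [], 0),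
  (1, 0, [], 0, [], [], 1398),
  (0, 5, [10, 8, 6, 4, 2, 6], 8, [(1386, [], [5]), (1252, [42, 43, 42, 43, 43, 43, 43, 42], [1, 4, 3, 4, 2, 2, 3, 5, 3]), (1394, [45], [1, 2, 4, 2, 5, 3, 0, 1, 4, 3, 4, 2])], [], 0),
  (1, 0, [], 0, [], [], 1400),
  (0, 5, [6, 4, 2, 11, 8, 6], 8, [(1382, [], [1, 5]), (1383, [37], [0, 3, 4, 2, 3, 4, 2, 5, 3, 4, 2, 4]), (1390, [], [0, 4, 3, 5, 3, 1, 4, 3, 4, 5])], [], 0),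
  (1, 0, [], 0, [], [], 1402),
  (0, 5, [0, 6, 4, 2, 6, 10, 10], 15, [(169, [33, 45, 45], [0, 1, 2, 4, 2, 3, 1, 4, 2]), (1376, [33, 44, 45], [0, 3, 0]), (467, [33, 33], [3, 0, 1, 4, 3, 1, 5, 3, 4])], [], 0),
  (1, 0, [], 0, [], [], 1404),
  (0, 5, [0, 4, 6, 4, 2, 8, 6], 15, [(244, [34], [0, 3, 0, 1]), (594, [39, 39, 40, 39, 40, 41], [0, 1, 2, 4, 3, 1, 3, 4, 2, 5, 3]), (1382, [33, 33, 45], [2, 2, 3, 0, 4, 5, 3, 1, 3, 4])], [], 0),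
  (1, 0, [], 0, [], [], 1406),
  (0, 5, [0, 4, 2, 11, 11, 8, 6], 15, [(262, [], []), (703, [], [5, 3, 4, 3, 5]), (563, [45, 45, 33], [1, 4, 2, 2, 3, 1, 3, 5, 3, 4, 3])], [], 0),
  (1, 0, [], 0, [], [], 1408),
  (0, 5, [0, 4, 2, 10, 10, 8, 6], 22, [(199, [33, 45, 45], [0, 1, 2, 4, 3, 1, 4]), (857, [39, 40, 41, 39, 41, 41], [1, 4, 2, 3, 1, 4, 3, 4, 2])], [], 0),
  (1, 0, [], 0, [], [], 1410),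
  (0, 5, [0, 4, 2, 10, 8, 6, 10], 8, [(166, [45, 33, 44, 45], [3, 5, 3, 4, 2, 2, 3, 4, 3, 5]), (1310, [43, 43, 42, 43, 42], [4, 2, 3, 1, 4, 2, 5, 0]), (1053, [37, 38], [1, 2, 2, 4, 3, 4, 2, 4, 3, 1, 3, 5])], [], 0)]

def stepC9 : List (Nat × Nat × List Nat × Nat × List (Nat × List Nat × List Nat) × List (Nat × List Nat × List Nat) × Nat) := [(1, 0, [], 0, [], [], 1412),
  (0, 5, [0, 4, 2, 10, 8, 6, 11], 15, [(714, [], [0, 1, 2, 2]), (725, [37], [3, 4, 2, 2, 3, 4]), (744, [44, 45, 45], [2, 2, 4, 2, 3, 5, 3, 1, 4])], [], 0),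
  (1, 0, [], 0, [], [], 1414),
  (0, 5, [0, 2, 10, 10, 8, 6, 10], 8, [(246, [], [4]), (223, [43, 43, 43], [3, 4, 2, 5, 3, 4, 2, 4, 3]), (1322, [46, 25, 32], [2, 3, 4, 2, 3, 1, 4, 3, 4, 2, 5])], [], 0),
  (1, 0, [], 0, [], [], 1416),
  (0, 5, [0, 2, 10, 8, 6, 13, 10], 22, [(1386, [], [2, 2]), (1262, [], [1, 2, 3, 4, 2, 4, 5, 3, 1, 4])], [], 0),
  (1, 0, [], 0, [], [], 1418),
  (0, 5, [0, 2, 10, 8, 6, 12, 10], 17, [(333, [33, 45, 44], [0, 2, 3, 4, 2, 4, 5, 3, 4]), (1018, [37, 38], [1, 4, 3, 0, 5, 3, 1, 4, 3]), (901, [33, 33, 45], [1, 2, 4, 2, 2, 3, 5, 3, 4, 3, 5])], [], 0),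
  (1, 0, [], 0, [], [], 1420),
  (0, 5, [0, 2, 11, 8, 6, 12, 11], 33, [(246, [], [3, 0, 4, 2, 3, 1, 3]), (785, [], [2, 4, 2, 3, 1, 5, 3, 1, 3]), (828, [37, 38, 37], [1, 2, 2, 3, 4, 3, 1, 3, 4, 2, 3])], [], 0),
  (1, 0, [], 0, [], [], 1422),
  (0, 5, [8, 10, 8, 6, 4, 2, 6], 33, [(1079, [34, 44, 45, 45], [4, 2, 3, 1, 4, 5, 0, 3]), (1164, [37, 38], [0, 2, 2, 4, 3, 1, 4, 3, 1]), (979, [42, 43, 43, 42, 43, 43, 43, 43], [4, 5, 3, 0, 1, 3])], [], 0),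
  (1, 0, [], 0, [], [], 1424),
  (0, 5, [10, 8, 6, 4, 2, 6, 11], 9, [(1103, [44, 44], [1, 4, 5, 3, 4, 2, 2]), (570, [38, 37], [2, 2, 3, 4, 3, 1, 5, 3, 4, 3]), (945, [42, 43, 43, 43, 43, 42, 43, 43, 43], [0, 2, 3, 1, 3, 5])], [], 0),
  (1, 0, [], 0, [], [], 1426),
  (0, 5, [6, 4, 2, 12, 10, 8, 6], 8, [(1388, [], [1, 5]), (826, [38], [1, 2, 2, 4, 2, 3, 5, 3, 4, 3, 4]), (1406, [45], [1, 2, 4, 2, 2, 5, 0, 5])], [], 0),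
  (1, 0, [], 0, [], [], 1428),
  (0, 5, [0, 8, 11, 8, 6, 4, 2, 6], 22, [(170, [44, 45, 45], [1, 5, 3, 1, 3, 4, 2, 2, 5]), (793, [42, 43, 43, 43, 42, 43, 43], [1, 2, 2, 3, 4, 2, 4, 3, 5, 3, 1])], [], 0),
  (1, 0, [], 0, [], [], 1430),
  (0, 5, [0, 11, 8, 6, 4, 2, 6, 11], 8, [(911, [34, 33, 45, 45], [0, 3, 1, 3, 5, 3, 1, 4, 2, 4]), (1145, [37, 38, 37], [1, 4, 2, 4, 3, 4, 5, 3, 1, 3, 4]), (1144, [37], [2, 3, 0, 1, 4, 5, 3, 4, 2])], [], 0),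
  (1, 0, [], 0, [], [], 1432),
  (0, 5, [0, 11, 8, 6, 4, 2, 6, 10], 15, [(166, [45, 33, 44, 45], [0, 2, 2, 3, 1, 3, 1, 4, 3, 5, 3]), (666, [42], [1, 2, 3, 5, 0]), (923, [38, 37], [2, 2, 3, 0, 1, 4, 5, 3])], [], 0),
  (1, 0, [], 0, [], [], 1434),
  (0, 5, [0, 10, 8, 6, 4, 2, 6, 10], 15, [(169, [33, 45, 45], [0, 1, 2, 4, 2, 2, 3, 1, 4]), (209, [33, 45, 34], [3, 4, 2, 4, 5, 0, 3, 1, 4, 3, 5]), (793, [43, 43, 43, 42], [1, 4, 3, 1, 4, 2, 3, 4])], [], 0),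
  (1, 0, [], 0, [], [], 1436),
  (0, 5, [0, 4, 6, 4, 2, 11, 8, 6], 15, [(631, [], [0, 2, 3, 4, 3, 1, 4, 2]), (1234, [41, 41, 39, 40, 41], [1, 2, 2, 3, 0, 1]), (563, [45, 34, 33, 45], [0, 4, 3, 4, 2, 2, 3, 4, 3, 1, 4])], [], 0),
  (1, 0, [], 0, [], [], 1438),
  (0, 5, [0, 6, 4, 2, 12, 10, 8, 6], 9, [(706, [], [4, 3, 1]), (979, [43, 42, 43, 43, 43, 42, 43, 42], [0, 4, 2, 2, 5, 3, 4, 3, 5]), (992, [37], [4, 2, 2, 3, 4, 2, 3, 4, 3, 5, 0])], [], 0),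
  (1, 0, [], 0, [], [], 1440),
  (0, 5, [0, 6, 4, 2, 11, 11, 8, 6], 15, [(539, [34], [3, 1, 3, 4, 2, 4, 3, 4, 2, 4, 3]), (591, [], [1, 2, 3, 4, 2, 4, 3, 4, 3]), (1207, [39, 39, 39, 40, 41, 39], [1, 3, 1, 5, 3])], [], 0),
  (1, 0, [], 0, [], [], 1442),
  (0, 5, [0, 6, 4, 2, 12, 11, 8, 6], 9, [(535, [34], [2, 3, 0, 1, 3, 4, 2, 2, 3, 5]), (1335, [], [3, 0, 1, 3, 5, 3, 4, 2, 4, 3]), (309, [25, 26, 46], [2, 3, 0, 1, 3, 4, 5, 3, 4, 2])], [], 0),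
  (1, 0, [], 0, [], [], 1444),
  (0, 5, [0, 6, 4, 2, 11, 8, 6, 10], 15, [(712, [], [0, 1, 2, 4, 2, 2]), (712, [34], [1, 3, 5, 3, 1, 4, 2, 3, 5]), (1390, [45, 44, 45], [2, 4, 5, 0, 3, 1, 3, 4, 2])], [], 0),
  (1, 0, [], 0, [], [], 1446),
  (0, 5, [0, 4, 2, 10, 8, 6, 13, 10], 15, [(724, [], [1]), (703, [], [3, 4, 2, 5, 3, 4, 3, 1, 5, 3]), (885, [33, 45, 45], [1, 2, 2, 5, 3, 0, 1, 4, 3, 4, 5])], [], 0),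
  (1, 0, [], 0, [], [], 1448),
  (0, 5, [0, 6, 4, 2, 11, 8, 6, 11], 9, [(240, [], [1, 2, 4, 2, 2, 5]), (299, [43, 43, 42, 43, 43, 43, 43, 42], [1, 3, 5, 3, 1, 4, 3, 1, 4, 5, 3, 4]), (535, [34], [0, 1, 2, 2, 3, 4, 2, 5, 3, 4])], [], 0),
  (1, 0, [], 0, [], [], 1450),
  (0, 5, [0, 4, 2, 12, 10, 8, 6, 11], 15, [(209, [44, 44], [2, 4, 3, 0, 4, 2, 4, 3, 1, 3]), (189, [42], [5, 0, 3, 1, 4, 3, 4, 5]), (361, [], [1, 2, 2, 4, 2, 3, 1, 4, 2, 5, 3])], [], 0),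
  (1, 0, [], 0, [], [], 1452),
  (0, 5, [8, 11, 8, 6, 4, 2, 6, 11], 14, [(477, [33, 45, 44], [1, 2, 4, 3, 1, 4, 2, 5, 0, 3]), (1359, [38, 37], [3, 1, 5, 0, 3, 1, 4]), (1352, [29, 36, 35], [0, 4, 2, 2, 3, 4, 3, 1, 3])], [], 0),
  (1, 0, [], 0, [], [], 1454),
  (0, 5, [13, 11, 8, 6, 4, 2, 6, 11], 14, [(700, [], [1, 2, 3, 4, 5]), (263, [], [3, 0, 1, 3, 4, 5, 3]), (847, [45, 34, 33, 45], [5, 3, 1, 4, 3, 1])], [], 0),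
  (1, 0, [], 0, [], [], 1456),
  (0, 5, [10, 8, 6, 4, 2, 6, 13, 10], 33, [(1420, [], [3, 4, 2, 4, 3, 4, 5, 3, 4]), (605, [37], [1, 5, 0, 3, 4, 3, 1, 3]), (614, [39, 41, 41, 39, 40, 41], [0, 1, 2, 4, 3, 4, 3, 5])], [], 0),
  (1, 0, [], 0, [], [], 1458),
  (0, 5, [4, 6, 4, 2, 10, 10, 8, 6], 33, [(718, [], [1, 2, 2, 3, 1, 5, 0, 3, 4, 2, 4]), (912, [], [0, 1, 3, 4, 3, 1, 3, 4, 2, 3, 4]), (1034, [37], [3, 1, 4, 2, 3, 4, 3, 5, 3])], [], 0),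
  (1, 0, [], 0, [], [], 1460),
  (0, 5, [4, 6, 4, 2, 12, 10, 8, 6], 8, [(276, [], [1, 5]), (301, [42, 43, 43, 43, 43, 42, 43, 42], [3, 1, 3, 4, 2, 3, 4, 3, 4]), (583, [45, 33, 44, 45], [5, 0, 3, 1, 4, 2, 3, 1, 5, 3])], [], 0),
  (1, 0, [], 0, [], [], 1462),
  (0, 5, [8, 6, 4, 2, 12, 10, 8, 6], 9, [(1392, [34], [3, 1, 5, 0]), (832, [37, 38, 37], [4, 2, 3, 0, 1, 4, 2, 3, 4]), (581, [], [1, 3, 4, 5, 3, 4, 2, 2])], [], 0),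
  (1, 0, [], 0, [], [], 1464),
  (0, 5, [11, 8, 6, 4, 2, 11, 8, 6], 8, [(193, [33, 33, 45, 34], [2, 3, 0, 5, 3, 1, 4, 3, 1]), (1122, [37, 38], [0, 3, 0, 4, 2, 2]), (1143, [43, 42, 43], [2, 4, 5, 3, 4, 2, 3, 4, 2, 3, 5])], [], 0),
  (1, 0, [], 0, [], [], 1466),
  (0, 5, [8, 6, 4, 2, 12, 11, 8, 6], 9, [(1394, [34], [3, 1, 5, 0]), (1005, [38, 37], [0, 3, 4, 5, 3, 1, 4, 3, 4, 2, 4]), (554, [38, 37], [2, 3, 1, 4, 2, 3, 1, 4, 3])], [], 0),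
  (1, 0, [], 0, [], [], 1468),
  (0, 5, [4, 6, 4, 2, 8, 10, 8, 6], 33, [(276, [], [4, 2, 5, 3, 0, 4, 2, 3, 1, 3]), (439, [43, 43, 43, 43, 42, 43], [1, 4, 2, 2, 3]), (488, [38, 37], [1, 3, 1, 4, 2, 3, 1, 3, 4, 3, 4, 2])], [], 0),
  (1, 0, [], 0, [], [], 1470),
  (0, 5, [6, 4, 2, 8, 11, 8, 6, 11], 22, [(1231, [45, 34, 33, 45], [0, 2, 3, 1, 3, 4, 2, 3, 4, 2, 3]), (953, [39, 39, 39, 40, 41, 41], [0, 2, 2, 3, 4, 2, 3, 4, 3, 4, 5])], [], 0),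
  (1, 0, [], 0, [], [], 1472),
  (0, 5, [6, 4, 2, 13, 11, 8, 6, 10], 15, [(726, [], [4, 2, 4, 5]), (757, [43, 43, 43, 42, 43], [2, 4, 2, 2, 3, 5, 0, 3, 4, 3]), (1442, [34, 33, 45], [0, 3, 5, 3, 1, 3, 1, 4])], [], 0),
  (1, 0, [], 0, [], [], 1474),
  (0, 5, [0, 8, 13, 11, 8, 6, 4, 2, 6], 14, [(145, [45, 45, 33], [2, 3, 1, 4, 3, 4, 5, 3, 1, 4]), (662, [42, 43, 42, 43, 43, 43, 42, 43, 42], [2, 4, 2, 3, 4, 3, 1, 4]), (661, [], [2, 2, 3, 1, 5, 3, 1, 4, 3, 4])], [], 0),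
  (1, 0, [], 0, [], [], 1476),
  (0, 5, [0, 10, 8, 6, 4, 2, 6, 13, 11], 9, [(724, [], [1, 5]), (627, [], [0, 1, 2, 3, 4, 2, 3, 4, 2, 3, 4, 3]), (443, [39, 39, 40, 41, 39, 40], [0, 4, 2, 3, 4, 2, 4, 3, 4, 2, 5])], [], 0),
  (1, 0, [], 0, [], [], 1478),
  (0, 5, [0, 11, 8, 6, 4, 2, 10, 8, 6], 9, [(911, [34, 33, 45, 45], [0, 3, 1, 3, 5, 3, 4, 2, 4]), (1145, [37, 38, 37], [1, 4, 2, 3, 1, 3, 4, 3, 5, 3, 1, 3]), (474, [], [1, 2, 4, 2, 3, 1, 4, 3, 5])], [], 0),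
  (1, 0, [], 0, [], [], 1480),
  (0, 5, [0, 11, 8, 6, 4, 2, 11, 8, 6], 14, [(266, [34], [0, 3, 0, 1]), (1480, [45, 44, 45], [4, 2, 3, 4, 2, 4, 3, 5, 3, 1, 3]), (574, [37, 38], [2, 2, 3, 4, 3, 5, 3, 4, 2, 4])], [], 0),
  (1, 0, [], 0, [], [], 1482),
  (0, 5, [0, 6, 4, 2, 8, 12, 11, 8, 6], 14, [(724, [34], [0, 1, 2, 3, 0, 4, 2]), (829, [37], [0, 2, 2, 3, 4, 2, 5, 3, 1, 3, 4]), (508, [37, 38, 37], [0, 2, 4, 2, 2, 3, 5, 3, 4, 3])], [], 0),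
  (1, 0, [], 0, [], [], 1484),
  (0, 5, [0, 6, 4, 2, 8, 12, 10, 8, 6], 17, [(706, [], [4, 2, 3, 4, 2, 2]), (277, [43, 43, 42, 43, 43, 43, 43, 42], [0, 4, 3, 1, 4, 2, 4, 5]), (1446, [45, 33, 45, 34], [2, 2, 3, 1, 5, 3, 1, 3, 4, 3, 4])], [], 0),
  (1, 0, [], 0, [], [], 1486),
  (0, 5, [0, 4, 6, 4, 2, 11, 8, 6, 11], 22, [(621, [45, 33], [0, 1, 2, 4, 3, 1, 4, 5, 3, 1, 4]), (1244, [41, 39], [0, 2, 2, 3, 4, 3, 1, 5])], [], 0),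
  (1, 0, [], 0, [], [], 1488),
  (0, 5, [0, 8, 6, 4, 2, 11, 8, 6, 11], 9, [(240, [34], [2, 2, 3, 4, 2, 4, 5, 0]), (1274, [42, 43, 42, 43, 43, 43, 43, 42, 43], [0, 1, 2, 3, 1, 4, 3, 4, 3]), (833, [], [4, 2, 5, 3, 4, 3, 4, 5, 3])], [], 0),
  (1, 0, [], 0, [], [], 1490),
  (0, 5, [0, 6, 4, 2, 10, 8, 6, 13, 11], 14, [(209, [44, 34], [2, 2, 4, 2, 3, 0, 1, 4, 3]), (208, [42, 43, 43, 42, 43, 43, 43, 43, 42], [1, 3, 4, 5, 3, 1, 3, 1, 5]), (535, [44], [1, 3, 4, 2, 5, 0, 3, 1, 4, 3])], [], 0),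
  (1, 0, [], 0, [], [], 1492),
  (0, 5, [0, 6, 4, 2, 11, 8, 6, 13, 11], 15, [(280, [34], [0, 3, 0, 4]), (697, [39, 41], [4, 5, 3, 4, 3, 1, 5, 3, 1]), (183, [34, 33, 45], [2, 4, 3, 0, 1, 4, 5, 3])], [], 0),
  (1, 0, [], 0, [], [], 1494),
  (0, 5, [2, 4, 6, 10, 8, 6, 4, 2, 6], 15, [(387, [33, 45, 34], [1, 2, 3, 4, 2, 3, 4, 3, 1, 4, 2]), (717, [], [5, 3, 0, 4, 2, 3, 4, 2, 5, 3]), (736, [44, 45, 45], [1, 2, 2, 3, 1, 4, 3, 4, 2, 3])], [], 0),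
  (1, 0, [], 0, [], [], 1496),
  (0, 5, [6, 8, 6, 10, 8, 6, 4, 2, 6], 22, [(1273, [33, 44], [3, 4, 2, 3, 4, 3, 4, 2, 5]), (161, [43, 43, 42, 43, 42], [1, 2, 2, 3, 1, 4, 2, 3, 4, 5, 0])], [], 0),
  (1, 0, [], 0, [], [], 1498),
  (0, 5, [8, 6, 11, 8, 6, 4, 2, 6, 10], 8, [(720, [34], [0, 5, 0]), (555, [38], [2, 2, 4, 3, 5, 0]), (380, [38], [2, 2, 3, 0, 5, 3, 4])], [], 0),
  (1, 0, [], 0, [], [], 1500),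
  (0, 5, [2, 4, 6, 4, 2, 12, 10, 8, 6], 22, [(607, [45, 33, 45, 34], [0, 1, 4, 3, 5]), (1207, [39, 41, 41, 39, 41, 39], [0, 3, 1, 4, 5, 3, 4, 2])], [], 0),
  (1, 0, [], 0, [], [], 1502),
  (0, 5, [2, 4, 6, 4, 2, 12, 11, 8, 6], 9, [(181, [44], [2, 4, 3, 5, 0, 3, 4, 2, 3, 4]), (938, [37], [1, 2, 4, 3, 0, 4, 2, 4, 3, 1, 4]), (814, [], [1, 3, 1, 4, 3, 1, 3])], [], 0),
  (1, 0, [], 0, [], [], 1504),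
  (0, 5, [6, 8, 6, 4, 2, 13, 10, 8, 6], 14, [(1422, [], [1, 4, 2]), (490, [38], [0, 2, 4, 2, 5]), (1360, [28, 30, 36], [1, 2, 3, 5, 3, 4, 2, 2, 3, 1, 3, 5])], [], 0),
  (1, 0, [], 0, [], [], 1506),
  (0, 5, [10, 8, 6, 4, 2, 10, 8, 6, 10], 16, [(1386, [], [1, 4]), (1286, [], [2, 2, 5, 3, 1, 4, 3, 4, 2, 4, 3]), (855, [37], [4, 2, 4, 3, 0, 1, 5, 3, 1])], [], 0),
  (1, 0, [], 0, [], [], 1508),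
  (0, 5, [2, 4, 6, 4, 2, 11, 8, 6, 11], 9, [(158, [34], [3, 4, 2, 2, 5]), (1250, [42, 43, 43, 42, 43, 43, 43], [4, 3, 4, 2, 3, 4, 3, 1, 4, 3]), (770, [37, 38], [3, 4, 2, 5, 0, 3, 4])], [], 0),
  (1, 0, [], 0, [], [], 1510),
  (0, 5, [4, 6, 4, 2, 8, 10, 8, 6, 11], 33, [(718, [], [2, 3, 1, 4, 5, 3, 4, 2, 2]), (414, [38], [2, 2, 4, 3, 5, 3, 1, 4, 3, 1, 5]), (1302, [42, 43, 43, 43, 43, 42, 43, 43, 43], [0, 2, 4, 2, 3, 1, 4, 3, 1, 3])], [], 0),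
  (1, 0, [], 0, [], [], 1512),
  (0, 5, [0, 4, 10, 8, 6, 4, 2, 11, 8, 6], 22, [(623, [44, 44], [0, 2, 4, 2, 3, 4, 3, 1, 4, 2, 4]), (1220, [39, 39, 41], [1, 5, 0, 3, 1, 3, 4, 2, 5])], [], 0),
  (1, 0, [], 0, [], [], 1514),
  (0, 5, [0, 4, 8, 6, 4, 2, 13, 11, 8, 6], 14, [(847, [44, 34], [2, 4, 2, 3, 5, 0, 3, 4, 2, 3, 1]), (561, [38], [4, 3, 4, 3, 1, 5, 3, 4, 3]), (422, [], [3, 4, 3, 1, 4, 2, 5, 3, 1])], [], 0),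
  (1, 0, [], 0, [], [], 1516),
  (0, 5, [0, 6, 10, 8, 6, 4, 2, 11, 8, 6], 9, [(266, [], [1, 4, 5]), (1023, [33, 34], [1, 3, 4, 2, 5, 0, 3, 4]), (1068, [37, 38], [0, 2, 4, 2, 3, 1, 4, 3, 4, 2, 4, 5])], [], 0),
  (1, 0, [], 0, [], [], 1518),
  (0, 5, [2, 4, 6, 4, 2, 11, 8, 6, 12, 11], 8, [(181, [44], [0, 2, 2, 4, 3, 1, 3, 4, 3, 5]), (426, [], [0, 4, 2, 3, 0, 4, 2, 3, 4, 2]), (1470, [45, 34, 45], [2, 3, 0, 1, 3, 4, 2, 3, 4, 2, 3])], [], 0),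
  (1, 0, [], 0, [], [], 1520),
  (0, 6, [2], 17, [(1383, [38], [3, 1, 4, 3, 1, 4, 5, 3, 4, 2]), (300, [33, 34], [0, 2, 2, 3, 4, 2, 3, 4, 3, 4]), (773, [43, 42, 43, 43, 43, 43, 42, 43], [2, 3, 0, 1, 5, 3, 1])], [], 0),
  (1, 0, [], 0, [], [], 1522),
  (0, 6, [2, 10], 26, [(1522, [], []), (381, [38], [0, 2, 4, 3, 4, 5, 3, 1, 4, 2, 4]), (870, [], [4, 3, 4, 2, 5, 3, 4, 2, 4]), (824, [], [3, 1, 5, 3, 1, 4]), (872, [], [0, 4, 2, 3, 4, 5, 3, 4, 2, 2]), (349, [], [0, 4, 3, 4, 2, 3, 5, 3, 1]), (402, [], [0, 2, 4, 3, 4, 2, 2, 3, 5, 3, 4])], [], 0),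
  (1, 0, [], 0, [], [], 1524),
  (0, 6, [2, 6, 10], 9, [(873, [38], [0, 4, 2, 3, 1, 4, 2, 3, 1, 5, 3]), (745, [37, 38], [0, 2, 2, 5, 3, 1, 3, 4, 2, 5]), (1390, [], [0, 3, 1, 3, 1, 4, 2, 3, 4, 2])], [], 0),
  (1, 0, [], 0, [], [], 1526),
  (0, 6, [2, 6, 11], 22, [(619, [38, 37], [2, 5, 3, 4, 2]), (1047, [39, 39], [3, 4, 5, 3, 1, 3, 1, 5])], [], 0),
  (1, 0, [], 0, [], [], 1528),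
  (0, 6, [2, 11, 11], 15, [(1227, [], [0, 3, 4, 2, 3, 4, 3, 1, 4, 2, 3, 4]), (1222, [39, 39, 39, 39], [4, 3, 1, 4, 2, 4, 3, 1]), (923, [37], [4, 2, 4, 3, 0, 1, 3, 5, 3])], [], 0),
  (1, 0, [], 0, [], [], 1530),
  (0, 6, [0, 4, 2, 6], 8, [(1522, [], [5]), (772, [], [1, 2, 2, 3, 0, 5, 3, 1]), (1296, [42, 43], [4, 2, 2, 5, 3, 4, 3, 4, 5])], [], 0),
  (1, 0, [], 0, [], [], 1532),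
  (0, 6, [4, 2, 6, 10], 8, [(645, [38], [1, 3, 0, 4, 2, 3, 5, 3, 1, 4]), (1260, [43, 42, 43, 43, 43, 43], [4, 3, 1, 4, 2, 4, 5, 3, 1, 4]), (1486, [33, 44, 45, 45], [2, 3, 5, 0, 3, 1, 3, 4])], [], 0),
  (1, 0, [], 0, [], [], 1534),
  (0, 6, [2, 11, 8, 6], 8, [(873, [38], [2, 5, 0, 3, 4, 2, 3, 1, 4, 3]), (745, [37, 38], [1, 2, 2, 5, 3, 1, 3, 4, 2, 5]), (736, [33, 44, 45], [1, 2, 3, 4, 3, 4, 2, 4, 5])], [], 0),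
  (1, 0, [], 0, [], [], 1536),
  (0, 6, [2, 10, 8, 6], 22, [(1393, [], [0, 3, 1, 4, 3, 5, 3, 1, 4, 2, 3, 1]), (1394, [], [1, 4, 2, 2, 3, 1, 3, 5, 3, 1, 3])], [], 0),
  (1, 0, [], 0, [], [], 1538),
  (0, 6, [0, 6, 4, 2, 6], 8, [(1383, [38], [1, 4, 3, 1, 4, 5, 0, 3, 4, 2]), (595, [34, 33, 45, 45], [0, 3, 1, 4, 5, 3, 1, 3, 4, 2]), (185, [40, 39, 41], [1, 2, 3, 1, 3, 5, 3, 1, 3])], [], 0),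
  (1, 0, [], 0, [], [], 1540),
  (0, 6, [0, 4, 2, 6, 10], 14, [(1526, [], []), (1171, [], [1, 4, 2, 2, 5, 3, 1, 4, 2, 3, 1]), (1391, [37], [1, 4])], [], 0),
  (1, 0, [], 0, [], [], 1542),
  (0, 6, [0, 2, 11, 8, 6], 8, [(645, [38], [1, 3, 0, 4, 2, 5, 3, 4]), (289, [43, 43, 42], [1, 2, 3, 1, 4, 2, 3, 1, 3, 5]), (298, [34, 33, 44], [2, 2, 5, 3, 4, 3, 1, 3, 1, 5])], [], 0),
  (1, 0, [], 0, [], [], 1544),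
  (0, 6, [0, 2, 6, 12, 10], 22, [(1323, [], [2, 3, 1, 5, 3, 1, 4, 2, 3]), (1320, [25, 25, 26, 25], [2, 3, 1, 3, 5, 0, 3, 4, 2, 3, 1])], [], 0),
  (1, 0, [], 0, [], [], 1546),
  (0, 6, [6, 4, 2, 6, 11], 14, [(645, [38], [1, 3, 0, 4, 2, 5, 3, 1, 4]), (1545, [42, 43, 43, 42], [0, 3, 4, 3, 1, 4, 2, 4, 3, 4]), (899, [], [3, 0, 5, 3, 1])], [], 0),
  (1, 0, [], 0, [], [], 1548),
  (0, 6, [6, 4, 2, 8, 6], 15, [(1417, [], [2, 4, 3, 0, 1, 4]), (284, [], [1, 4, 2, 2, 5, 0, 3, 4, 2, 3, 4, 5]), (519, [42, 43, 42, 43], [2, 3, 1, 5, 0, 3, 4, 2, 2, 3])], [], 0),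
  (1, 0, [], 0, [], [], 1550),
  (0, 6, [4, 2, 6, 11, 11], 8, [(701, [], [2, 3, 4, 5, 0]), (1392, [34], [1, 2, 2, 5, 3, 0, 1, 3, 5]), (986, [37], [1, 3, 4, 2, 2, 3, 4])], [], 0),
  (1, 0, [], 0, [], [], 1552),
  (0, 6, [0, 4, 2, 11, 8, 6], 33, [(381, [38], [0, 1, 2, 3, 4, 2, 2, 3, 4, 3, 5]), (745, [37, 38], [0, 2, 3, 4, 3, 1, 4, 2, 4, 3, 1]), (625, [34, 45, 45], [1, 2, 3, 4, 2, 4, 5])], [], 0),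
  (1, 0, [], 0, [], [], 1554),
  (0, 6, [0, 4, 2, 6, 10, 10], 22, [(1542, [], []), (907, [33, 45], [5, 3, 4, 2, 3, 1, 3, 4])], [], 0),
  (1, 0, [], 0, [], [], 1556),
  (0, 6, [0, 2, 10, 10, 8, 6], 17, [(701, [], [0, 2, 3, 0, 1, 4]), (1428, [34], [0, 2, 2, 3, 1, 3, 1]), (1194, [37, 38, 37], [0, 1, 2, 5, 3])], [], 0),
  (1, 0, [], 0, [], [], 1558),
  (0, 6, [0, 2, 12, 10, 8, 6], 17, [(717, [38], [0, 2, 4, 2, 2, 3, 1, 4, 3, 5, 3, 1]), (244, [44, 34], [0, 1, 3, 1, 3, 4, 2, 3, 1, 3, 4]), (1033, [39, 40, 41, 41], [3, 4, 3, 1, 5, 3, 1, 3, 5])], [], 0),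
  (1, 0, [], 0, [], [], 1560),
  (0, 6, [0, 2, 10, 8, 6, 11], 14, [(1471, [37, 38, 37], [4, 3, 0, 1, 3, 4, 2, 4, 5, 3]), (262, [33, 44, 44], [0, 1, 4, 2, 3, 0, 1, 4, 2]), (723, [], [4, 2, 3, 4, 5, 3, 4, 2, 4])], [], 0),
  (1, 0, [], 0, [], [], 1562),
  (0, 6, [11, 8, 6, 4, 2, 6], 8, [(1544, [], [5]), (1477, [42, 43, 43, 42, 43, 42], [2, 4, 3, 4, 2, 5]), (885, [34, 44, 45], [2, 2, 4, 2, 3, 1, 4, 3, 1, 5])], [], 0),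
  (1, 0, [], 0, [], [], 1564),
  (0, 6, [6, 4, 2, 10, 8, 6], 9, [(899, [], [0, 1, 2, 4, 3, 1, 4, 5, 3, 1, 4]), (1549, [], [2, 3, 5, 0, 3, 4, 2, 3, 5]), (899, [], [1, 4, 3, 0, 1, 4, 5, 3, 4, 2, 2])], [], 0),
  (1, 0, [], 0, [], [], 1566),
  (0, 6, [6, 4, 2, 11, 8, 6], 22, [(182, [], [2, 3, 5, 3]), (1408, [33, 44, 45, 45], [0, 2, 2, 3, 4, 2, 4, 3, 1, 3])], [], 0),
  (1, 0, [], 0, [], [], 1568),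
  (0, 6, [4, 2, 12, 11, 8, 6], 22, [(983, [37, 38, 37], [0, 1, 4, 3, 1, 3, 4]), (486, [], [0, 1, 4, 3, 4, 3, 1])], [], 0),
  (1, 0, [], 0, [], [], 1570),
  (0, 6, [4, 2, 10, 10, 8, 6], 17, [(701, [], [2, 3, 1, 4, 5, 0]), (292, [33, 45], [3, 1, 3, 4, 2, 4]), (365, [30, 36, 29, 36], [1, 4, 2, 3, 0, 4, 2, 3, 5, 3])], [], 0)]

def stepC10 : List (Nat × Nat × List Nat × Nat × List (Nat × List Nat × List Nat) × List (Nat × List Nat × List Nat) × Nat) := [(1, 0, [], 0, [], [], 1572),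
  (0, 6, [4, 2, 12, 10, 8, 6], 33, [(701, [], [0, 4, 2, 2, 3, 5, 3, 1, 4]), (1420, [], [2, 3, 4, 3, 4, 5, 3, 1, 3, 5]), (1004, [37], [4, 2, 3, 0, 1, 4, 3, 5, 3, 1, 4])], [], 0),
  (1, 0, [], 0, [], [], 1574),
  (0, 6, [4, 2, 11, 8, 6, 10], 17, [(766, [], [4, 3, 5]), (900, [38], [0, 2, 3, 4, 3, 4, 2, 2, 5]), (714, [34, 45, 45, 33], [4, 2, 2, 3, 1, 4, 3, 5, 3, 1])], [], 0),
  (1, 0, [], 0, [], [], 1576),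
  (0, 6, [2, 10, 8, 10, 8, 6], 14, [(1501, [38, 37], [1, 2, 3, 5, 0, 3, 4, 2, 3, 5]), (1512, [34, 33], [1, 3, 0, 4, 5, 3, 1, 3, 4, 2]), (1249, [], [1, 4, 2, 4, 5, 3, 0, 1, 4, 2, 3])], [], 0),
  (1, 0, [], 0, [], [], 1578),
  (0, 6, [2, 10, 8, 6, 13, 10], 14, [(1265, [37, 38], [1, 4, 2, 4, 3, 4, 5, 3, 4, 2]), (202, [43, 43, 43, 43, 42, 43, 43], [0, 1, 3, 1, 4, 5, 3, 1, 3]), (670, [42, 43], [4, 2, 5, 0, 3, 1, 3, 5])], [], 0),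
  (1, 0, [], 0, [], [], 1580),
  (0, 6, [2, 12, 10, 8, 6, 11], 17, [(1524, [], [4, 2, 4]), (653, [37, 38, 37], [3, 0, 4, 2, 2, 3, 5, 3, 1]), (465, [42, 43, 42, 43, 43, 43, 43, 42, 43, 43], [1, 2, 5, 3, 4, 3, 1, 3, 1, 5])], [], 0),
  (1, 0, [], 0, [], [], 1582),
  (0, 6, [2, 11, 8, 6, 12, 11], 22, [(774, [], [5, 3, 4, 2]), (750, [], [1, 2, 2, 4, 3, 1, 5, 0, 3, 1])], [], 0),
  (1, 0, [], 0, [], [], 1584),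
  (0, 6, [0, 10, 8, 6, 4, 2, 6], 22, [(800, [], [1, 2, 5, 3]), (1264, [42, 43, 42, 43, 43, 43, 42, 43, 42], [0, 1, 4, 3, 4, 2, 3, 4, 2, 2, 3, 4])], [], 0),
  (1, 0, [], 0, [], [], 1586),
  (0, 6, [0, 6, 4, 2, 6, 10, 10], 8, [(619, [38, 37], [2, 3, 5, 3, 4, 2]), (608, [39, 41, 41, 39], [0, 3, 4, 2, 5, 3, 4, 3, 4, 2, 2]), (1035, [38, 37], [3, 1, 5, 3, 4, 3, 1])], [], 0),
  (1, 0, [], 0, [], [], 1588),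
  (0, 6, [0, 6, 4, 2, 10, 8, 6], 9, [(1526, [], [1, 5]), (1359, [37, 38, 37], [2, 2, 4, 2, 5, 3, 4, 2, 3, 4]), (1352, [27, 28, 29], [1, 4, 2, 5, 3, 4, 2, 3, 4, 3])], [], 0),
  (1, 0, [], 0, [], [], 1590),
  (0, 6, [0, 6, 4, 2, 11, 8, 6], 9, [(1528, [], [1, 5]), (1026, [], [1, 2, 4, 3, 5]), (423, [38, 37], [0, 2, 2, 3, 1, 4, 2, 3, 5])], [], 0),
  (1, 0, [], 0, [], [], 1592),
  (0, 6, [0, 4, 2, 11, 11, 8, 6], 22, [(1265, [37], [3, 4, 3, 1, 3, 5, 3, 4, 3]), (1256, [], [0, 1, 4, 2, 2, 3, 0, 4])], [], 0),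
  (1, 0, [], 0, [], [], 1594),
  (0, 6, [0, 4, 2, 12, 11, 8, 6], 33, [(1524, [], [0, 3, 1, 3, 5, 3, 4, 2, 3, 4, 3, 1]), (1594, [38], [0, 1, 2, 2, 3, 4, 3, 1, 4, 2, 3]), (1015, [38], [3, 0, 4, 2, 2, 5, 3, 1, 3, 4])], [], 0),
  (1, 0, [], 0, [], [], 1596),
  (0, 6, [0, 4, 2, 10, 10, 8, 6], 8, [(381, [38], [4, 3, 5, 3, 1, 4, 3, 4, 3]), (1535, [38, 37], [4, 2, 4, 3, 1, 3, 5, 3, 1, 4]), (1221, [38], [2, 2, 4, 2, 5, 3, 4, 2, 4, 3, 1, 4])], [], 0),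
  (1, 0, [], 0, [], [], 1598),
  (0, 6, [0, 4, 2, 12, 10, 8, 6], 17, [(403, [38], [0, 1, 2, 3, 1, 4, 3, 4, 2, 2, 3, 5, 3]), (1299, [37], [1, 3, 1, 3, 4, 2, 2, 3, 4, 3, 1]), (636, [42, 43, 42, 43, 43], [1, 4, 2, 5, 3, 0, 1, 4, 3])], [], 0),
  (1, 0, [], 0, [], [], 1600),
  (0, 6, [0, 4, 2, 11, 8, 6, 10], 16, [(1530, [], [1, 4]), (1594, [37], [0, 3, 0]), (1173, [37, 38, 37], [1, 3, 1, 3, 4, 2, 4, 3, 4, 2, 4])], [], 0),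
  (1, 0, [], 0, [], [], 1602),
  (0, 6, [0, 2, 12, 11, 8, 6, 10], 14, [(798, [], [0, 4, 2, 4]), (833, [37], [0, 4, 2, 2, 3, 4, 2, 4, 3, 1, 5, 3]), (946, [37, 38], [1, 2, 5, 0, 3, 1, 4, 3, 4, 5])], [], 0),
  (1, 0, [], 0, [], [], 1604),
  (0, 6, [0, 2, 10, 8, 6, 12, 10], 17, [(717, [38], [1, 2, 2, 3, 1, 3, 4, 2, 5, 3]), (1476, [45, 34], [1, 3, 0, 3, 4]), (773, [42, 43, 43, 43, 43, 42, 43, 43], [1, 2, 2, 4, 3, 1, 3, 5, 3])], [], 0),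
  (1, 0, [], 0, [], [], 1606),
  (0, 6, [0, 2, 11, 11, 8, 6, 11], 9, [(645, [38], [1, 3, 0, 4, 5, 3, 1, 4, 2]), (1123, [42, 43, 42, 43, 43, 43, 43, 42], [0, 1, 3, 0, 4, 2, 3, 1, 4]), (139, [38, 37], [2, 2, 3, 4, 2, 4, 3, 1, 4, 5])], [], 0),
  (1, 0, [], 0, [], [], 1608),
  (0, 6, [0, 2, 12, 11, 8, 6, 11], 8, [(679, [], [0, 1, 2, 3, 4, 2, 4]), (629, [31, 35, 36, 36], [2, 2, 4, 3, 4, 3, 5, 3, 4, 3]), (831, [39], [2, 4, 2, 2, 3, 5, 0, 3, 1])], [], 0),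
  (1, 0, [], 0, [], [], 1610),
  (0, 6, [0, 2, 13, 10, 8, 6, 11], 8, [(717, [38], [1, 4, 2, 3, 1, 4, 3, 1, 5, 3]), (1432, [33, 33], [3, 1, 3, 4, 3, 5, 0, 3]), (1011, [38, 37], [0, 3, 0, 1, 4, 2, 4, 3, 1])], [], 0),
  (1, 0, [], 0, [], [], 1612),
  (0, 6, [6, 10, 8, 6, 4, 2, 6], 9, [(1544, [], [1, 5]), (1477, [42, 43, 43, 42, 43, 42], [2, 4, 3, 1, 4, 2, 5]), (1029, [34, 33], [2, 2, 4, 3, 1, 3, 5, 3, 4, 2])], [], 0),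
  (1, 0, [], 0, [], [], 1614),
  (0, 6, [8, 11, 8, 6, 4, 2, 6], 9, [(617, [38, 37], [1, 3, 4, 3, 1, 5, 3, 4, 3, 4]), (198, [39, 40], [0, 4, 2, 3, 5, 3, 4, 3, 1, 3, 1]), (744, [45, 34], [1, 2, 2, 5, 0, 5])], [], 0),
  (1, 0, [], 0, [], [], 1616),
  (0, 6, [10, 10, 8, 6, 4, 2, 6], 15, [(701, [], [0, 2, 3, 0, 1, 4]), (1388, [34], [2, 2, 3, 5, 3, 1, 3, 5]), (941, [38, 37], [3, 1, 4, 3, 5, 3, 1, 3, 4, 5])], [], 0),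
  (1, 0, [], 0, [], [], 1618),
  (0, 6, [11, 8, 6, 4, 2, 6, 10], 15, [(679, [], [0, 1, 3, 4, 2, 4]), (1354, [], [1, 2, 2, 4, 3, 4, 2, 3, 4, 3, 1, 4]), (1275, [38, 37], [4, 3, 1, 3, 4])], [], 0),
  (1, 0, [], 0, [], [], 1620),
  (0, 6, [4, 6, 4, 2, 10, 8, 6], 17, [(1542, [], [1, 5]), (698, [33, 33], [2, 2, 3, 5, 0, 3, 4, 3]), (977, [34, 33], [0, 2, 4, 2, 5])], [], 0),
  (1, 0, [], 0, [], [], 1622),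
  (0, 6, [4, 6, 4, 2, 11, 8, 6], 22, [(1341, [], [2, 3, 4, 2, 5, 3, 4, 2, 2]), (1330, [25, 26, 25, 46, 25], [1, 5, 3, 0, 1, 4, 2, 4, 3, 4, 2, 5])], [], 0),
  (1, 0, [], 0, [], [], 1624),
  (0, 6, [6, 4, 2, 12, 10, 8, 6], 17, [(1546, [], [1, 5]), (915, [37, 38, 37], [0, 3, 1, 3, 5, 3, 4, 2, 3, 4, 3, 1]), (1122, [38], [1, 4, 3, 4, 2, 3, 5, 3, 1, 3])], [], 0),
  (1, 0, [], 0, [], [], 1626),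
  (0, 6, [6, 4, 2, 11, 11, 8, 6], 17, [(1301, [], [0, 4, 2, 3, 1, 4, 2, 3, 5]), (154, [43, 42, 43, 43, 43, 43], [1, 2, 5, 0, 3, 1, 4, 2, 3, 1]), (1342, [35, 28, 36], [0, 2, 4, 2, 2, 5, 3, 4, 2, 3])], [], 0),
  (1, 0, [], 0, [], [], 1628),
  (0, 6, [6, 4, 2, 8, 11, 8, 6], 22, [(816, [], [2, 5, 3, 1]), (1452, [34, 45, 45, 33], [1, 2, 2, 4, 3, 0, 4, 2, 4, 3])], [], 0),
  (1, 0, [], 0, [], [], 1630),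
  (0, 6, [6, 4, 2, 8, 10, 8, 6], 22, [(1397, [], [2, 4, 3, 0]), (288, [34], [1, 2, 4, 2, 3, 1, 3, 4, 2])], [], 0),
  (1, 0, [], 0, [], [], 1632),
  (0, 6, [6, 4, 2, 11, 8, 6, 10], 8, [(1301, [], [0, 4, 2, 3, 1, 4, 2, 3, 1, 4, 5]), (289, [42, 43, 43, 42], [0, 1, 4, 2, 4, 3, 1, 4, 2, 3, 4]), (183, [33, 45], [1, 2, 2, 3, 0, 1, 5, 3, 1, 4, 3])], [], 0),
  (1, 0, [], 0, [], [], 1634),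
  (0, 6, [6, 4, 2, 10, 8, 6, 11], 33, [(1301, [], [1, 2, 2, 3, 1, 3, 4, 5, 3]), (277, [42, 43, 43, 42], [3, 0, 4, 2, 4, 3, 4, 2]), (1412, [], [4, 2, 3, 4, 3, 4, 2, 4, 3])], [], 0),
  (1, 0, [], 0, [], [], 1636),
  (0, 6, [6, 4, 2, 8, 6, 13, 11], 15, [(1552, [37, 38, 37], [0, 2, 2, 3, 0, 4]), (367, [43, 43, 43, 42, 43], [4, 2, 2, 3, 0, 4, 3, 5]), (500, [37], [1, 4, 2, 4, 5, 3, 4, 3, 5])], [], 0),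
  (1, 0, [], 0, [], [], 1638),
  (0, 6, [4, 2, 13, 10, 8, 6, 11], 17, [(717, [38], [3, 4, 5, 3, 4, 2, 3, 1, 4, 3]), (1351, [34, 45, 45, 33], [0, 2, 4, 2, 5, 3, 1, 3, 5]), (1358, [28, 35, 36, 36], [0, 4, 2, 4, 3, 4, 2, 5, 3, 1, 4])], [], 0),
  (1, 0, [], 0, [], [], 1640),
  (0, 6, [4, 2, 11, 8, 6, 12, 11], 22, [(782, [], [0, 2, 5, 0]), (1496, [33, 44, 45], [3, 1, 3, 1, 5, 3, 1, 4, 3, 5])], [], 0),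
  (1, 0, [], 0, [], [], 1642),
  (0, 6, [0, 8, 11, 8, 6, 4, 2, 6], 14, [(873, [38], [1, 2, 4, 3, 4, 2, 4, 3, 5, 3]), (1503, [], [0, 1, 4, 2, 4, 3, 4, 5, 3, 1]), (1486, [44, 34], [0, 2, 3, 1, 3, 4, 3, 1, 3, 4, 2])], [], 0),
  (1, 0, [], 0, [], [], 1644),
  (0, 6, [0, 11, 8, 6, 4, 2, 6, 11], 33, [(1578, [], [2, 2, 3, 4, 2, 4, 3, 4, 5, 3, 4]), (185, [39, 39, 40, 41, 39, 41], [1, 2, 2, 3, 4, 2, 3, 1, 3, 5, 3]), (916, [37, 38], [3, 4, 2, 2, 3, 4, 5, 3, 4, 2, 3])], [], 0),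
  (1, 0, [], 0, [], [], 1646),
  (0, 6, [0, 11, 8, 6, 4, 2, 6, 10], 8, [(774, [], [3, 5, 3, 4]), (264, [33, 33, 45, 45], [3, 1, 3, 4, 2, 4, 5, 3, 1, 3]), (1310, [43, 43, 42, 43, 43], [0, 4, 2, 3, 0, 4, 2, 2])], [], 0),
  (1, 0, [], 0, [], [], 1648),
  (0, 6, [0, 10, 8, 6, 4, 2, 6, 10], 16, [(1393, [], [0, 3, 1, 4, 3, 5, 3, 1, 4, 2, 3]), (1512, [33, 45, 44], [0, 2, 4, 3, 1, 4, 5, 3, 1, 4]), (1617, [38, 37], [0, 1, 3, 1, 3, 4, 3, 4, 2, 5])], [], 0),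
  (1, 0, [], 0, [], [], 1650),
  (0, 6, [0, 4, 6, 4, 2, 10, 8, 6], 15, [(617, [38], [4, 3, 1, 5, 3, 4, 3, 4, 5]), (600, [40, 41, 39, 41], [2, 2, 4, 3, 4, 5, 3, 1, 3, 4, 2]), (569, [45, 33, 45, 34], [3, 4, 3, 5, 3, 1, 4])], [], 0),
  (1, 0, [], 0, [], [], 1652),
  (0, 6, [0, 4, 6, 4, 2, 11, 8, 6], 22, [(840, [], [0, 1, 4, 5, 0]), (1404, [44], [0, 4, 2, 3, 1, 3, 4, 2, 4, 5, 3])], [], 0),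
  (1, 0, [], 0, [], [], 1654),
  (0, 6, [0, 8, 6, 4, 2, 11, 8, 6], 22, [(755, [38, 37], [1, 5, 3, 1, 4, 2, 4, 3, 4, 2]), (1159, [33, 33, 45, 34], [3, 1, 3, 4, 3, 4, 2, 5])], [], 0),
  (1, 0, [], 0, [], [], 1656),
  (0, 6, [0, 6, 4, 2, 11, 11, 8, 6], 33, [(1526, [], [4, 2, 2, 5, 3, 0, 4, 2, 3, 1, 3]), (1359, [37, 38], [0, 2, 4, 5, 0]), (238, [31, 36, 29], [1, 2, 2, 3, 4, 2, 3, 5, 3, 1, 3])], [], 0),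
  (1, 0, [], 0, [], [], 1658),
  (0, 6, [0, 6, 4, 2, 8, 10, 8, 6], 9, [(1526, [], [2, 4, 2, 2, 5]), (386, [37, 38], [3, 0, 1, 3, 4, 2, 3, 5, 3, 1]), (607, [33, 34, 45], [0, 1, 4, 3, 4, 5, 3, 4, 2])], [], 0),
  (1, 0, [], 0, [], [], 1660),
  (0, 6, [0, 4, 6, 4, 2, 8, 6, 10], 15, [(899, [37, 38, 37], [0, 1, 4, 2, 3, 1, 3, 4, 5]), (1083, [], [0, 4, 2, 3, 1, 3, 1, 4]), (1385, [], [0, 1, 3, 4, 2, 2, 3, 1, 4])], [], 0),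
  (1, 0, [], 0, [], [], 1662),
  (0, 6, [0, 6, 4, 2, 11, 8, 6, 10], 8, [(619, [38, 37], [2, 3, 5, 3, 4, 2, 4]), (1216, [39, 39, 40, 39], [0, 1, 3, 1, 4, 3, 4, 2, 5]), (1359, [37], [2, 2, 3, 1, 3, 4, 2, 5, 3, 1, 3, 1])], [], 0),
  (1, 0, [], 0, [], [], 1664),
  (0, 6, [0, 4, 2, 13, 11, 8, 6, 10], 8, [(349, [38], [2, 4, 5, 0, 3, 1, 3, 4, 2, 3]), (1614, [], [0, 4, 2, 3, 5, 3, 1]), (1577, [], [1, 3, 1, 4, 2, 5, 3, 4, 2])], [], 0),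
  (1, 0, [], 0, [], [], 1666),
  (0, 6, [0, 6, 4, 2, 10, 8, 6, 11], 33, [(619, [38, 37], [0, 2, 3, 4, 5, 3, 1, 4, 2, 3]), (624, [39, 39, 39, 39, 40, 41], [4, 2, 2, 3, 0, 4, 3, 1, 5, 3]), (901, [33, 33, 45, 34], [1, 4, 3, 0, 1, 4, 2, 4, 3, 1, 5])], [], 0),
  (1, 0, [], 0, [], [], 1668),
  (0, 6, [0, 6, 4, 2, 11, 8, 6, 11], 8, [(1383, [38], [1, 3, 5, 3, 4, 2, 4, 3, 1, 3]), (1442, [45, 34, 33, 45], [0, 2, 3, 1, 4, 3, 1, 5]), (1423, [38, 37], [1, 2, 2, 3, 1, 5, 0, 3, 1])], [], 0),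
  (1, 0, [], 0, [], [], 1670),
  (0, 6, [0, 4, 2, 13, 10, 8, 6, 11], 22, [(806, [37, 38, 37], [0, 4, 2, 5]), (1474, [34, 33], [2, 3, 5, 3, 4, 3, 1, 3])], [], 0),
  (1, 0, [], 0, [], [], 1672),
  (0, 6, [4, 6, 10, 8, 6, 4, 2, 6], 22, [(848, [], [2, 5, 3, 0]), (1575, [38], [0, 4, 3, 1, 5, 3, 1, 4, 2, 3, 4])], [], 0),
  (1, 0, [], 0, [], [], 1674),
  (0, 6, [4, 6, 11, 8, 6, 4, 2, 6], 33, [(1594, [37, 38, 37], [4, 2, 2, 3, 1, 5, 3, 4, 2, 4]), (1646, [37, 38], [2, 3, 1, 3, 4, 3, 5]), (1190, [37, 38, 37], [1, 4, 5, 0, 3, 4, 2, 3, 4])], [], 0),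
  (1, 0, [], 0, [], [], 1676),
  (0, 6, [6, 12, 11, 8, 6, 4, 2, 6], 8, [(1560, [], [1, 5]), (1650, [], [2, 2, 3, 1, 3, 4, 5, 0, 3, 1, 3]), (581, [38], [2, 2, 3, 4, 3, 4, 2])], [], 0),
  (1, 0, [], 0, [], [], 1678),
  (0, 6, [8, 12, 11, 8, 6, 4, 2, 6], 16, [(1570, [37, 38, 37], [0, 3, 0, 1]), (1064, [38], [0, 4, 2, 3, 1, 4, 2, 3, 5]), (556, [37, 38, 37], [0, 2, 2, 3, 1, 3, 5, 3, 1, 3, 4, 5])], [], 0),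
  (1, 0, [], 0, [], [], 1680),
  (0, 6, [10, 8, 10, 8, 6, 4, 2, 6], 14, [(701, [], [0, 3, 0, 1, 4, 2]), (170, [], [0, 2, 2, 3, 5, 3, 4, 2, 3, 1]), (1288, [43, 43, 42, 43, 43, 43], [0, 2, 2, 3, 4, 2, 3, 1, 4, 2, 3])], [], 0),
  (1, 0, [], 0, [], [], 1682),
  (0, 6, [8, 12, 10, 8, 6, 4, 2, 6], 9, [(1574, [37, 38, 37], [3, 5, 0]), (669, [37], [1, 3, 4, 2, 3, 5, 3, 4, 2, 4, 3, 4]), (1312, [43, 42, 43, 43, 43, 42, 43, 42], [0, 2, 4, 3, 1, 3, 4, 2, 5])], [], 0),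
  (1, 0, [], 0, [], [], 1684),
  (0, 6, [6, 10, 8, 6, 4, 2, 6, 11], 8, [(1675, [37, 38, 37], [1, 3, 4, 3, 1, 3, 4, 3]), (1554, [], [1, 2, 2, 3, 4, 2, 4, 3, 1, 5]), (1085, [39, 39, 40, 41, 39, 40], [2, 3, 1, 5, 3])], [], 0),
  (1, 0, [], 0, [], [], 1686),
  (0, 6, [6, 11, 8, 6, 4, 2, 6, 11], 17, [(778, [], [2, 3, 5, 3, 4, 2, 4]), (60, [35, 28, 36], [1, 2, 3, 5, 3, 4, 2, 3, 1]), (1326, [26, 25, 46, 46], [4, 3, 5, 3, 1, 3, 1])], [], 0),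
  (1, 0, [], 0, [], [], 1688),
  (0, 6, [12, 11, 8, 6, 4, 2, 6, 11], 17, [(1604, [], [5]), (1469, [37, 38, 37], [5, 3, 4, 2, 3, 4, 2]), (1418, [45], [1, 5, 3, 1, 4, 3, 4, 2])], [], 0),
  (1, 0, [], 0, [], [], 1690),
  (0, 6, [10, 8, 6, 4, 2, 6, 13, 11], 33, [(778, [], [4, 2, 4, 3, 5, 3, 4, 3, 4]), (1368, [28, 35, 36, 35], [0, 1, 3, 4, 2, 4, 5, 3, 1, 3, 5]), (843, [37], [1, 2, 2, 4, 3, 4, 3, 1, 3])], [], 0),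
  (1, 0, [], 0, [], [], 1692),
  (0, 6, [10, 8, 6, 4, 2, 6, 12, 11], 8, [(1606, [], [5]), (772, [], [1, 4, 2, 4, 5, 3, 1]), (1113, [43, 42, 43, 43, 43, 42, 43], [1, 3, 1, 5, 3, 1, 3, 4, 5])], [], 0),
  (1, 0, [], 0, [], [], 1694),
  (0, 6, [6, 11, 8, 6, 4, 2, 6, 10], 8, [(1562, [], [4, 5]), (274, [34, 44, 45], [1, 4, 2, 4, 3, 1, 5, 3, 1, 3]), (801, [42, 43, 42, 43, 43, 43, 42], [2, 3, 1, 5, 3, 1, 4, 3, 4, 5, 3])], [], 0),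
  (1, 0, [], 0, [], [], 1696),
  (0, 6, [12, 11, 8, 6, 4, 2, 6, 10], 9, [(1610, [], [5]), (813, [37, 38, 37], [1, 2, 3, 1, 5, 3, 1]), (983, [], [0, 3, 4, 3, 1, 3, 1, 4, 5])], [], 0),
  (1, 0, [], 0, [], [], 1698),
  (0, 6, [11, 8, 6, 4, 2, 6, 13, 10], 15, [(762, [], [0, 1, 2, 4, 2, 2]), (486, [37, 38, 37], [1, 3, 1, 4, 5, 3, 1, 3, 4, 5]), (1571, [37], [4, 3, 0, 4, 5, 3, 1])], [], 0),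
  (1, 0, [], 0, [], [], 1700),
  (0, 6, [10, 8, 6, 4, 2, 6, 13, 10], 15, [(589, [38], [1, 2, 2, 4, 3, 1, 3, 5, 3]), (626, [39, 39, 41, 41, 39, 41], [3, 1, 4, 3, 1, 4, 5, 3, 1, 4, 2]), (1061, [38, 37], [5, 3, 0, 1, 4, 2, 4, 3, 1])], [], 0),
  (1, 0, [], 0, [], [], 1702),
  (0, 6, [11, 8, 6, 4, 2, 6, 12, 10], 8, [(1063, [37], [1, 2, 2, 4, 3, 0, 5, 3, 4, 2, 4]), (1435, [38, 37], [1, 2, 3, 0, 1, 4, 2, 3, 4]), (1398, [45, 34, 33, 45], [0, 1, 2, 3, 4, 2, 4, 5, 3, 4])], [], 0),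
  (1, 0, [], 0, [], [], 1704),
  (0, 6, [2, 4, 6, 4, 2, 10, 8, 6], 15, [(314, [37, 38], [3, 0, 4, 2, 3, 4, 2, 3, 4, 2]), (146, [], [4, 2, 4, 5, 3, 1, 4, 3, 4, 5]), (1502, [], [4, 2, 5, 3, 4, 2, 2, 3, 4, 5])], [], 0),
  (1, 0, [], 0, [], [], 1706),
  (0, 6, [2, 4, 6, 4, 2, 11, 8, 6], 9, [(308, [37, 38], [0, 5, 3, 4, 3, 1]), (1037, [25, 32, 46, 32], [4, 2, 5, 0, 3, 4, 3]), (866, [38], [3, 4, 2, 3, 4, 3, 4, 2, 5])], [], 0),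
  (1, 0, [], 0, [], [], 1708),
  (0, 6, [4, 8, 6, 4, 2, 10, 8, 6], 8, [(1542, [37, 38, 37], [3, 1, 5, 0]), (1498, [33, 45, 34], [1, 5, 3, 0, 1, 4, 2]), (1390, [33, 34], [1, 4, 2, 4, 3, 1, 5, 3, 4, 2])], [], 0),
  (1, 0, [], 0, [], [], 1710),
  (0, 6, [4, 6, 4, 2, 12, 10, 8, 6], 14, [(1596, [], [1]), (412, [38, 37], [3, 0, 1, 4, 2, 5, 3]), (613, [38], [4, 2, 4, 5, 3, 0, 4, 3, 1, 3, 5])], [], 0),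
  (1, 0, [], 0, [], [], 1712),
  (0, 6, [4, 6, 4, 2, 12, 11, 8, 6], 14, [(1600, [], [1]), (1653, [37, 38], [2, 4, 2, 3, 1, 4, 2, 3, 1]), (888, [], [0, 2, 3, 1, 4, 3, 4, 2, 4, 5])], [], 0),
  (1, 0, [], 0, [], [], 1714),
  (0, 6, [11, 8, 6, 4, 2, 10, 8, 6], 9, [(1675, [37, 38, 37], [1, 3, 4, 3, 1, 3, 4, 2, 3, 4, 2, 2]), (1509, [37], [0, 1, 3, 1, 3, 4, 2, 3, 1, 4, 5]), (1428, [45, 33], [4, 2, 2, 5, 3, 0, 4, 3])], [], 0),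
  (1, 0, [], 0, [], [], 1716),
  (0, 6, [10, 8, 6, 4, 2, 10, 8, 6], 8, [(778, [], [2, 2, 3, 5, 3, 1]), (163, [27, 28], [2, 5, 0, 3, 1, 3, 4, 2, 3, 4, 2, 5]), (1378, [45, 33], [0, 2, 3, 5, 3])], [], 0),
  (1, 0, [], 0, [], [], 1718),
  (0, 6, [8, 6, 4, 2, 13, 10, 8, 6], 22, [(1319, [37, 38], [2, 3, 1, 4, 3, 5, 0, 3, 1, 3]), (1318, [43, 43, 43, 43, 42, 43, 43, 43], [1, 4, 2, 2, 3, 4, 2, 3, 4, 3])], [], 0),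
  (1, 0, [], 0, [], [], 1720),
  (0, 6, [10, 8, 6, 4, 2, 11, 8, 6], 17, [(1562, [], [1, 5]), (262, [44], [0, 2, 3, 5, 3, 4, 3, 1, 5]), (1126, [38, 37], [3, 4, 3, 4, 2, 5, 3, 1, 3, 5])], [], 0),
  (1, 0, [], 0, [], [], 1722),
  (0, 6, [8, 6, 4, 2, 13, 11, 8, 6], 8, [(1552, [37, 38, 37], [2, 2, 3, 1, 5, 0]), (203, [42, 43, 42, 43, 43, 43], [0, 4, 3, 4, 2, 3, 4, 3, 1, 5, 3]), (670, [42, 43, 43, 43, 43, 42, 43, 43], [1, 2, 2, 4, 3, 1, 4, 2, 5, 0])], [], 0),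
  (1, 0, [], 0, [], [], 1724),
  (0, 6, [8, 6, 4, 2, 12, 11, 8, 6], 22, [(858, [], [0, 1, 2, 2]), (940, [37, 38], [0, 3, 4, 2, 2, 3, 1, 3, 4, 2, 3, 4])], [], 0),
  (1, 0, [], 0, [], [], 1726),
  (0, 6, [4, 6, 4, 2, 8, 11, 8, 6], 22, [(1337, [38], [1, 2, 2, 3, 4, 5, 0, 3, 1, 3, 4]), (1037, [25, 25, 26, 25, 26, 32, 26], [2, 4, 5, 3, 1, 4, 2, 4, 3, 5])], [], 0),
  (1, 0, [], 0, [], [], 1728),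
  (0, 6, [6, 4, 2, 8, 10, 8, 6, 10], 9, [(1323, [], [2, 3, 0, 4, 5, 3, 1, 4, 3, 5]), (1324, [26, 25, 25], [0, 2, 3, 4, 2, 3, 4, 2, 2, 3, 4, 2]), (1052, [], [2, 2, 4, 3, 5, 3, 1, 3, 1, 4])], [], 0),
  (1, 0, [], 0, [], [], 1730),
  (0, 6, [6, 4, 2, 8, 13, 11, 8, 6], 9, [(1301, [], [0, 4, 2, 3, 1, 4, 3, 4, 5]), (148, [42, 43, 43], [0, 1, 2, 2, 3, 4, 5, 3, 4, 2, 4]), (419, [42, 43, 43, 42, 43, 43], [0, 4, 3, 4, 3, 5, 3, 1, 4, 3])], [], 0)]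

end CfsgLib.Coset.Th
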