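import Cfsg.Agent.Coset.Th.Derive
import Cfsg.Agent.Coset.Th.StepData1

/-! Kernel checks of the derivation, part 1. -/

set_option autoImplicit false
set_option maxRecDepth 100000
set_option Elab.async false

namespace CfsgLib.Coset.Th

theorem chunk5 : checkAll stepC5 773 47 933 47 = true := by decide +kernel

theorem chunk6 : checkAll stepC6 933 47 1093 47 = true := by decide +kernel

theorem chunk7 : checkAll stepC7 1093 47 1253 47 = true := by decide +kernel

theorem chunk8 : checkAll stepC8 1253 47 1413 47 = true := by decide +kernel

theorem chunk9 : checkAll stepC9 1413 47 1573 47 = true := by decide +kernel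

theorem chunk10 : checkAll stepC10 1573 47 1733 47 = true := by decide +kernel

end CfsgLib.Coset.Th
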