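import Mathlib.Data.List.Basic

/-! A derivation of the coset facts of the Thompson presentation. -/

set_option autoImplicit false
set_option maxRecDepth 100000

namespace CfsgLib.Coset.Th

def stepC11 : List (Nat × Nat × List Nat × Nat × List (Nat × List Nat × List Nat) × List (Nat × List Nat × List Nat) × Nat) := [(1, 0, [], 0, [], [], 1732),
  (0, 6, [4, 6, 4, 2, 8, 10, 8, 6], 8, [(1542, [], [2, 4, 2, 2, 5]), (728, [45, 33, 44, 45], [0, 2, 3, 4, 2, 4, 3, 1, 4, 2, 5]), (324, [37, 38], [1, 2, 2, 5, 0, 3, 1, 4, 3, 1])], [], 0),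
  (1, 0, [], 0, [], [], 1734),
  (0, 6, [6, 4, 2, 8, 13, 10, 8, 6], 22, [(856, [], [0, 2]), (973, [40, 41, 41, 39, 40, 41], [5, 3, 4, 2, 3, 1, 4, 3, 1, 5])], [], 0),
  (1, 0, [], 0, [], [], 1736),
  (0, 6, [4, 6, 4, 2, 11, 8, 6, 10], 8, [(776, [], [0, 4, 5, 0]), (1230, [39, 39, 41, 39, 41], [2, 4, 3, 0, 1, 4, 5, 3, 1]), (541, [33, 33], [1, 2, 2, 3, 1, 3, 5, 3, 4, 2, 3])], [], 0),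
  (1, 0, [], 0, [], [], 1738),
  (0, 6, [8, 6, 4, 2, 10, 8, 6, 10], 22, [(796, [], [0, 1, 2, 2]), (1047, [], [4, 2, 2, 3, 1, 4, 5, 0, 3, 1, 4])], [], 0),
  (1, 0, [], 0, [], [], 1740),
  (0, 6, [6, 4, 2, 13, 10, 8, 6, 10], 9, [(1323, [], [0, 1, 3, 4, 2, 4, 3, 4, 2, 2, 3]), (218, [25, 25, 26, 25], [0, 3, 4, 2, 3, 4, 3, 1, 4]), (1181, [43, 43, 43, 42, 43, 43], [1, 3, 1, 3, 4, 2, 4, 5, 3, 1])], [], 0),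
  (1, 0, [], 0, [], [], 1742),
  (0, 6, [6, 4, 2, 10, 8, 6, 13, 10], 15, [(1574, [37, 38, 37], [0, 3, 0, 4, 2, 4]), (1229, [38], [0, 4, 3, 1, 4, 5, 3, 1, 3, 5]), (1238, [40, 41, 39, 40, 41], [0, 2, 2, 4, 3, 5, 3, 4, 2, 3])], [], 0),
  (1, 0, [], 0, [], [], 1744),
  (0, 6, [6, 4, 2, 10, 8, 6, 12, 10], 8, [(1546, [], [4, 5]), (1415, [], [2, 5, 3, 1, 4, 2, 3, 4, 5]), (1408, [], [5, 3, 4, 3, 1, 4, 2, 5])], [], 0),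
  (1, 0, [], 0, [], [], 1746),
  (0, 6, [8, 6, 4, 2, 10, 8, 6, 11], 15, [(782, [37, 38, 37], [5, 0, 3, 4]), (1478, [33, 34, 45], [1, 5, 3, 4, 2, 2, 3, 1, 3, 1]), (846, [37], [5, 3, 1, 4, 2, 3, 4, 2, 3, 5])], [], 0),
  (1, 0, [], 0, [], [], 1748),
  (0, 6, [6, 4, 2, 12, 10, 8, 6, 11], 8, [(899, [], [0, 1, 2, 4, 3, 1, 4, 2, 5, 3, 4]), (1208, [37], [4, 3, 0, 1, 5, 3, 4, 2, 4]), (1324, [26, 46], [0, 1, 3, 1, 4, 2, 5, 3, 1, 3, 5])], [], 0),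
  (1, 0, [], 0, [], [], 1750),
  (0, 6, [8, 6, 4, 2, 11, 8, 6, 11], 14, [(1471, [], [4, 3, 1, 3, 4, 2, 5, 0]), (371, [33, 45, 34], [4, 2, 4, 3, 0, 5, 3]), (1670, [], [1, 2, 2, 4, 3, 1, 3, 4, 3])], [], 0),
  (1, 0, [], 0, [], [], 1752),
  (0, 6, [6, 4, 2, 12, 11, 8, 6, 11], 8, [(1323, [], [0, 1, 3, 4, 2, 4, 3, 4, 2, 3, 1]), (218, [25, 25, 26, 25], [0, 3, 4, 2, 3, 4, 3, 4, 2]), (1143, [43, 43, 43, 42, 43, 43, 42], [5, 3, 0, 1, 3, 4, 2, 2, 3])], [], 0),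
  (1, 0, [], 0, [], [], 1754),
  (0, 6, [6, 4, 2, 11, 8, 6, 12, 11], 14, [(1705, [37, 38, 37], [1, 5, 3, 4, 3, 1, 4, 2, 3]), (1403, [37, 38], [1, 2, 2, 3, 4, 2, 4, 3, 1]), (734, [44, 34, 33], [1, 2, 4, 2, 5, 3, 4, 2, 4, 3, 5])], [], 0),
  (1, 0, [], 0, [], [], 1756),
  (0, 6, [6, 4, 2, 6, 8, 10, 8, 6], 9, [(1445, [37, 38, 37], [2, 4, 3, 4, 5, 3, 4, 2]), (169, [45], [1, 3, 1, 4, 2, 3, 4, 3, 1, 5]), (1452, [45, 34, 33], [5, 3, 4, 2, 3, 5])], [], 0),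
  (1, 0, [], 0, [], [], 1758),
  (0, 6, [2, 0, 6, 4, 2, 11, 11, 8, 6], 8, [(310, [], [1, 5]), (378, [], [0, 3, 0, 4, 2, 3, 4, 2, 3, 4]), (872, [], [0, 2, 3, 4, 3, 1, 3, 1, 4, 2, 4])], [], 0),
  (1, 0, [], 0, [], [], 1760),
  (0, 6, [0, 4, 6, 10, 8, 6, 4, 2, 6], 9, [(617, [38], [4, 3, 1, 5, 3, 4, 3, 4]), (98, [39, 40, 39, 40, 41, 41], [2, 3, 5, 3, 1, 3, 4, 2, 3, 1]), (1109, [25, 26, 25, 26], [1, 2, 4, 3, 4, 3, 5, 3, 1, 4, 3])], [], 0),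
  (1, 0, [], 0, [], [], 1762),
  (0, 6, [0, 4, 6, 11, 8, 6, 4, 2, 6], 8, [(1129, [], [2, 3, 0, 4, 3, 1, 3, 4, 5]), (1699, [37, 38, 37], [1, 4, 3, 4, 2, 3, 4, 2, 2, 5]), (1060, [], [0, 2, 4, 3, 4, 2, 3, 4, 5])], [], 0),
  (1, 0, [], 0, [], [], 1764),
  (0, 6, [0, 8, 6, 10, 8, 6, 4, 2, 6], 14, [(1526, [37, 38, 37], [0, 3, 0, 1]), (1571, [37], [0, 4, 3, 1, 3, 4, 2, 5]), (1305, [38, 37], [2, 4, 2, 3, 1, 3, 5, 3, 1, 3])], [], 0),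
  (1, 0, [], 0, [], [], 1766),
  (0, 6, [0, 11, 8, 11, 8, 6, 4, 2, 6], 8, [(1597, [37, 38, 37], [2, 2, 3, 4, 3, 5, 3, 1, 4]), (735, [38, 37], [0, 1, 3, 4, 2, 4, 3, 1, 5]), (1402, [44, 34, 33], [0, 2, 3, 5, 3, 1, 3, 4, 2, 4, 5, 3])], [], 0),
  (1, 0, [], 0, [], [], 1768),
  (0, 6, [0, 6, 8, 10, 8, 6, 4, 2, 6], 9, [(1597, [], [1, 2, 3, 0, 4, 2, 3, 4, 3]), (1672, [], [1, 4, 3, 4, 2, 3, 4, 2, 2, 3, 4]), (550, [37, 38, 37], [1, 2, 3, 1, 3, 4, 2, 5, 3, 1, 3, 4])], [], 0),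
  (1, 0, [], 0, [], [], 1770),
  (0, 6, [0, 10, 8, 10, 8, 6, 4, 2, 6], 8, [(1578, [], [5]), (893, [39, 39, 40, 39, 40, 41], [0, 4, 3, 1, 4, 2, 3, 4]), (1656, [], [1, 2, 4, 5, 3, 4, 2, 4, 3, 4])], [], 0),
  (1, 0, [], 0, [], [], 1772),
  (0, 6, [0, 6, 11, 8, 6, 4, 2, 6, 11], 14, [(619, [38, 37], [2, 5, 3, 4, 2, 4]), (614, [39, 40, 39, 40, 41, 41], [4, 3, 0, 5, 3, 1, 4, 3, 1]), (1161, [37, 38], [0, 4, 2, 5, 3, 4, 2])], [], 0),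
  (1, 0, [], 0, [], [], 1774),
  (0, 6, [0, 12, 11, 8, 6, 4, 2, 6, 11], 22, [(1497, [], [3, 1, 4, 2, 5, 3, 1, 3]), (1514, [34, 44], [1, 2, 3, 4, 3, 1, 4, 2, 4, 5])], [], 0),
  (1, 0, [], 0, [], [], 1776),
  (0, 6, [0, 10, 10, 8, 6, 4, 2, 6, 11], 33, [(1597, [], [1, 2, 4, 3, 4, 2, 3, 4, 3, 1, 3]), (776, [37, 38, 37], [4, 3, 1, 3, 4, 2, 2]), (1218, [40, 41, 39, 40, 41], [2, 4, 2, 3, 4, 5, 3])], [], 0),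
  (1, 0, [], 0, [], [], 1778),
  (0, 6, [0, 10, 8, 6, 4, 2, 6, 13, 11], 17, [(1580, [], [5]), (1602, [38, 37], [1, 2, 4, 2, 2, 3, 0, 4, 5]), (1132, [37], [4, 3, 5, 3, 4, 3, 4, 5])], [], 0),
  (1, 0, [], 0, [], [], 1780),
  (0, 6, [0, 10, 8, 6, 4, 2, 6, 12, 11], 22, [(800, [], [1, 2, 2, 5, 3]), (1256, [42, 43, 42, 43, 43, 43, 42, 43, 42], [1, 2, 3, 0, 4, 3, 1, 3, 5])], [], 0),
  (1, 0, [], 0, [], [], 1782),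
  (0, 6, [0, 6, 10, 8, 6, 4, 2, 6, 10], 9, [(774, [], [3, 5, 3]), (1496, [33, 44], [3, 1, 3, 1, 4, 5, 3, 1]), (753, [37, 38, 37], [0, 1, 2, 2, 3, 0, 4, 2, 3, 1])], [], 0),
  (1, 0, [], 0, [], [], 1784),
  (0, 6, [0, 6, 11, 8, 6, 4, 2, 6, 10], 9, [(1393, [], [2, 3, 4, 2, 2, 3, 4, 2, 4, 3, 4, 3]), (563, [], [2, 3, 4, 2, 2, 3, 4, 2, 4, 3, 4, 3]), (1745, [37], [2, 4, 3, 1, 4, 2, 3, 4, 5])], [], 0),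
  (1, 0, [], 0, [], [], 1786),
  (0, 6, [0, 12, 10, 8, 6, 4, 2, 6, 10], 8, [(1582, [], [5]), (464, [], [1, 2, 3, 5, 3, 4, 2, 4, 3, 1, 3]), (1306, [42, 43, 42, 43, 43, 43, 43], [0, 4, 3, 4, 2, 3, 5, 3])], [], 0),
  (1, 0, [], 0, [], [], 1788),
  (0, 6, [0, 11, 8, 6, 4, 2, 6, 13, 10], 15, [(1524, [], [1, 4, 2, 2]), (1538, [38], [0, 2, 2, 3, 0]), (1647, [38], [0, 1, 2, 2, 4, 3, 1, 3, 4, 3, 5])], [], 0),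
  (1, 0, [], 0, [], [], 1790),
  (0, 6, [0, 11, 8, 6, 4, 2, 6, 12, 10], 8, [(1584, [], [5]), (476, [38], [1, 4, 2, 2, 3, 5, 3, 1, 4, 2, 3]), (1749, [44, 34], [2, 4, 3, 4, 2, 3, 5, 3, 4, 3])], [], 0),
  (1, 0, [], 0, [], [], 1792),
  (0, 6, [0, 4, 8, 6, 4, 2, 10, 8, 6], 8, [(899, [37, 38, 37], [4, 3, 0, 1, 3, 4, 2]), (1451, [38, 37], [0, 3, 4, 2, 3, 1, 3, 4, 2, 3, 4, 2]), (240, [], [0, 4, 2, 2, 3, 1, 3, 4, 2, 5, 3])], [], 0),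
  (1, 0, [], 0, [], [], 1794),
  (0, 6, [0, 4, 6, 4, 2, 12, 10, 8, 6], 15, [(1570, [], [1]), (1064, [38], [4, 2, 3, 0, 4, 2, 3, 5, 3]), (776, [38, 37], [1, 2, 2, 4, 3, 5, 0, 3, 1, 3])], [], 0),
  (1, 0, [], 0, [], [], 1796),
  (0, 6, [0, 4, 6, 4, 2, 11, 11, 8, 6], 16, [(1552, [], []), (437, [43, 43, 43, 42, 43, 42], [1, 2, 5, 3, 4, 2, 3, 4, 2, 2, 3]), (1187, [38], [0, 2, 5, 3, 4, 2, 3, 4, 2, 3, 4])], [], 0),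
  (1, 0, [], 0, [], [], 1798),
  (0, 6, [0, 10, 8, 6, 4, 2, 10, 8, 6], 8, [(772, [], [1, 3, 1]), (662, [], [1, 3, 0, 4, 2, 5, 3, 4, 2]), (925, [37, 38, 37], [0, 1, 2, 2, 3, 1, 5, 3, 1, 4, 2, 3])], [], 0),
  (1, 0, [], 0, [], [], 1800),
  (0, 6, [0, 10, 8, 6, 4, 2, 11, 8, 6], 15, [(1578, [], [1]), (1033, [39, 39, 40, 41, 41], [0, 4, 2, 4, 3, 4, 3, 5, 3, 1]), (1718, [38, 37], [4, 2, 3, 4, 5, 3, 1, 3])], [], 0),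
  (1, 0, [], 0, [], [], 1802),
  (0, 6, [0, 6, 4, 2, 8, 10, 8, 6, 10], 17, [(1383, [38], [1, 2, 4, 3, 1, 5, 3, 1, 3, 4, 3]), (1231, [33, 44, 45, 45], [1, 3, 4, 2, 3, 4, 3, 1, 4, 2]), (1201, [39, 40, 39, 40], [0, 1, 2, 2, 4, 2, 3, 4, 2, 3, 4])], [], 0),
  (1, 0, [], 0, [], [], 1804),
  (0, 6, [0, 6, 4, 2, 8, 12, 11, 8, 6], 33, [(1526, [], [1, 5, 3, 0, 4, 2, 3, 1, 3]), (1187, [37], [0, 2, 3, 4, 2, 4, 3, 4, 2, 3, 5]), (1171, [37, 38, 37], [2, 2, 3, 4, 3, 4, 2, 5, 3, 4])], [], 0),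
  (1, 0, [], 0, [], [], 1806),
  (0, 6, [0, 6, 4, 2, 10, 8, 10, 8, 6], 22, [(842, [], [1, 4, 2, 2, 5]), (1692, [37, 38], [2, 4, 2, 3, 0, 4, 2, 4, 5])], [], 0),
  (1, 0, [], 0, [], [], 1808),
  (0, 6, [0, 6, 4, 2, 8, 11, 8, 6, 11], 16, [(1383, [38], [3, 1, 4, 3, 1, 4, 2, 5, 3, 4]), (1410, [33, 33, 44], [2, 3, 1, 4, 3, 4, 2, 4, 5, 3]), (1395, [37, 38, 37], [1, 3, 1, 3, 4, 2, 5, 3, 1])], [], 0),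
  (1, 0, [], 0, [], [], 1810),
  (0, 6, [0, 4, 6, 4, 2, 11, 8, 6, 10], 16, [(1552, [], [1, 4]), (1545, [42, 43, 43, 43, 43, 42, 43, 43], [1, 2, 3, 1, 3, 5, 3, 4, 2, 4]), (1710, [37], [0, 1, 2, 3, 5, 3, 1, 4, 3])], [], 0),
  (1, 0, [], 0, [], [], 1812),
  (0, 6, [0, 4, 6, 4, 2, 8, 6, 12, 10], 22, [(1407, [37], [2, 3, 5, 3, 1, 3, 1]), (1663, [45], [0, 2, 3, 0, 1, 3, 4, 2, 3, 4, 3])], [], 0),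
  (1, 0, [], 0, [], [], 1814),
  (0, 6, [0, 8, 6, 4, 2, 10, 8, 6, 10], 17, [(1383, [38, 37], [2, 2, 4, 2, 3, 1, 3, 4, 2]), (1424, [45, 33], [2, 2, 4, 2, 5, 3, 0, 1, 3, 5]), (1161, [38], [1, 3, 1, 4, 5, 3, 4])], [], 0),
  (1, 0, [], 0, [], [], 1816),
  (0, 6, [0, 6, 4, 2, 13, 10, 8, 6, 10], 8, [(1383, [38], [1, 4, 3, 1, 4, 5, 0, 3]), (1273, [33, 45, 34, 33], [0, 3, 4, 2, 4, 3, 4, 2, 3, 4, 2, 5]), (493, [42, 43, 43, 43], [1, 2, 4, 2, 2, 5, 0, 3, 4])], [], 0),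
  (1, 0, [], 0, [], [], 1818),
  (0, 6, [0, 6, 4, 2, 11, 11, 8, 6, 10], 33, [(1383, [38], [4, 2, 4, 3, 4, 5]), (244, [34, 33], [0, 4, 3, 1, 3, 4, 2, 2, 3, 5]), (596, [40, 39, 41, 41], [0, 1, 2, 4, 2, 2, 3, 0, 4, 2])], [], 0),
  (1, 0, [], 0, [], [], 1820),
  (0, 6, [0, 6, 4, 2, 10, 8, 6, 12, 10], 22, [(1590, [], [2]), (966, [37], [1, 2, 2, 5, 3, 1, 4, 2])], [], 0),
  (1, 0, [], 0, [], [], 1822),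
  (0, 6, [0, 6, 4, 2, 8, 11, 8, 6, 10], 9, [(619, [38, 37], [2, 2, 3, 5, 3, 4]), (1201, [39], [2, 3, 1, 4, 5, 0, 3]), (1135, [37, 38], [0, 4, 2, 2, 3, 0, 4])], [], 0),
  (1, 0, [], 0, [], [], 1824),
  (0, 6, [0, 4, 6, 4, 2, 10, 8, 6, 11], 15, [(782, [], [0, 4, 5, 0]), (1478, [33, 34, 45], [4, 2, 5, 3, 0, 1, 4, 3, 4, 2]), (560, [38], [1, 2, 4, 3, 0, 1, 5, 3, 1, 4, 3])], [], 0),
  (1, 0, [], 0, [], [], 1826),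
  (0, 6, [0, 6, 4, 2, 13, 10, 8, 6, 11], 15, [(772, [37, 38, 37], [1, 2, 2, 3, 0, 5, 3, 4]), (727, [42, 43, 43, 43, 42, 43, 42], [1, 2, 3, 4, 2, 2, 3, 1, 4, 3, 1]), (724, [33, 45, 34], [2, 2, 3, 1, 4, 5, 3, 4, 2])], [], 0),
  (1, 0, [], 0, [], [], 1828),
  (0, 6, [0, 6, 4, 2, 12, 10, 8, 6, 11], 9, [(1526, [], [4, 2, 4, 5]), (1389, [38, 37], [2, 4, 3, 4, 5, 3, 1]), (1167, [45, 33, 44], [0, 4, 2, 3, 4, 2, 3, 1, 4, 5])], [], 0),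
  (1, 0, [], 0, [], [], 1830),
  (0, 6, [0, 6, 4, 2, 12, 11, 8, 6, 11], 16, [(1383, [38], [3, 1, 4, 2, 3, 4, 2, 4, 5, 3]), (742, [], [1, 2, 2, 4, 3, 1, 3, 4, 5, 3, 1]), (373, [42, 43, 42], [0, 2, 3, 1, 3, 4, 3, 1, 3, 5])], [], 0),
  (1, 0, [], 0, [], [], 1832),
  (0, 6, [0, 6, 4, 2, 10, 8, 6, 13, 11], 22, [(836, [], [2, 2]), (938, [37], [1, 2, 2, 3, 5, 3, 1, 4, 3, 1, 4, 5])], [], 0),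
  (1, 0, [], 0, [], [], 1834),
  (0, 6, [0, 6, 4, 2, 11, 8, 6, 13, 11], 22, [(842, [], [1, 4, 2, 5]), (792, [37, 38], [1, 3, 1, 4, 2, 4, 5, 0])], [], 0),
  (1, 0, [], 0, [], [], 1836),
  (0, 6, [0, 6, 4, 2, 8, 10, 8, 6, 11], 33, [(619, [38, 37], [2, 3, 4, 2, 5, 0, 3, 1, 3]), (596, [39, 39, 40, 39, 41, 41], [0, 2, 3, 1, 4, 3, 1, 4, 2, 4]), (900, [37], [2, 2, 3, 0, 4, 3, 5, 3, 1, 3])], [], 0),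
  (1, 0, [], 0, [], [], 1838),
  (0, 6, [0, 6, 4, 2, 6, 8, 10, 8, 6], 8, [(1513, [], [0, 1, 3, 5, 3, 1, 4, 3, 1, 4, 5]), (1499, [], [0, 2, 2, 3, 0, 4, 2, 4, 3, 1]), (319, [33, 33, 44, 44], [1, 2, 2, 3, 4, 3, 5, 3, 1, 4])], [], 0),
  (1, 0, [], 0, [], [], 1840),
  (0, 6, [2, 4, 6, 10, 8, 6, 4, 2, 6], 15, [(461, [37, 38], [2, 4, 2, 2, 3]), (701, [38], [0, 4, 2, 2, 3, 1, 3, 1, 5, 3]), (1398, [], [0, 1, 4, 2, 3, 4, 2, 3, 4, 2, 2])], [], 0),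
  (1, 0, [], 0, [], [], 1842),
  (0, 6, [6, 4, 6, 11, 8, 6, 4, 2, 6], 14, [(1121, [], [1, 3, 1, 3, 5]), (389, [], [0, 1, 3, 4, 3, 4, 2, 4, 3, 4]), (400, [], [0, 1, 2, 2, 4, 3, 4, 2, 3, 1, 3, 5])], [], 0),
  (1, 0, [], 0, [], [], 1844),
  (0, 6, [4, 8, 6, 10, 8, 6, 4, 2, 6], 17, [(1554, [37, 38, 37], [3, 1, 5, 0]), (620, [39, 40, 39], [3, 4, 2, 3, 4, 2, 3, 4, 5, 0]), (631, [34, 33, 45], [1, 3, 5, 3, 1, 4, 2])], [], 0),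
  (1, 0, [], 0, [], [], 1846),
  (0, 6, [4, 6, 10, 10, 8, 6, 4, 2, 6], 15, [(1556, [], [1]), (1678, [], [0, 3, 4, 5, 3, 1, 4, 2, 3, 1, 5]), (1198, [38], [0, 1, 4, 3, 0, 1])], [], 0),
  (1, 0, [], 0, [], [], 1848),
  (0, 6, [4, 6, 12, 10, 8, 6, 4, 2, 6], 17, [(1596, [], [1, 5]), (530, [37, 38, 37], [2, 4, 2, 3, 0, 5]), (1261, [45, 33, 44, 45], [4, 2, 3, 4, 2, 4, 3, 4, 2, 5])], [], 0),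
  (1, 0, [], 0, [], [], 1850),
  (0, 6, [4, 6, 12, 11, 8, 6, 4, 2, 6], 33, [(1554, [37, 38, 37], [0, 1, 3, 5, 3, 4, 2, 3, 4, 3, 1]), (1210, [39, 39, 41, 39, 40, 41], [2, 5, 3, 4, 3, 5]), (1007, [38, 37], [2, 2, 4, 2, 3, 0, 1, 3, 4, 5, 3])], [], 0),
  (1, 0, [], 0, [], [], 1852),
  (0, 6, [8, 11, 8, 6, 4, 2, 11, 8, 6], 8, [(782, [37, 38, 37], [3, 5, 0, 3, 1]), (1103, [33, 44, 45], [0, 1, 2, 2, 3, 1, 3, 4, 5, 3, 4, 2]), (990, [38], [3, 5, 3])], [], 0),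
  (1, 0, [], 0, [], [], 1854),
  (0, 6, [8, 6, 13, 11, 8, 6, 4, 2, 6], 15, [(1552, [37, 38, 37], [0, 2, 2, 3, 0, 1]), (987, [], [2, 4, 5, 3, 1, 4, 2, 3, 1, 4, 5]), (1097, [37, 38], [1, 4, 3, 1, 5, 3, 4, 3, 1])], [], 0),
  (1, 0, [], 0, [], [], 1856),
  (0, 6, [8, 6, 12, 11, 8, 6, 4, 2, 6], 8, [(1574, [37, 38, 37], [3, 1, 5, 0]), (669, [37], [4, 2, 2, 3, 4, 3, 5, 3, 1, 4, 3]), (285, [42, 43, 43, 43, 42, 43, 43, 42], [5, 3, 4, 2, 3, 4, 5, 3, 1])], [], 0),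
  (1, 0, [], 0, [], [], 1858),
  (0, 6, [4, 6, 8, 11, 8, 6, 4, 2, 6], 33, [(1598, [37, 38, 37], [1, 2, 4, 2, 3, 4, 2, 5, 3, 4]), (973, [39, 39, 41], [1, 2, 4, 3, 0, 4, 2]), (1653, [38], [0, 3, 0, 4, 2, 3, 1, 4, 3, 4])], [], 0),
  (1, 0, [], 0, [], [], 1860),
  (0, 6, [6, 8, 10, 8, 6, 4, 2, 6, 11], 9, [(1612, [], [4, 2, 5]), (912, [37, 38, 37], [4, 3, 4, 2, 3, 5, 3, 4, 3]), (1067, [], [2, 4, 2, 3, 4, 2, 2, 3, 4, 2, 3, 4])], [], 0),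
  (1, 0, [], 0, [], [], 1862),
  (0, 6, [6, 11, 8, 11, 8, 6, 4, 2, 6], 14, [(1301, [], [0, 4, 2, 3, 1, 4, 2, 3, 4]), (1485, [43, 42], [2, 2, 4, 2, 3, 0, 5, 3, 4, 2]), (977, [33, 45, 34], [2, 4, 2, 3, 5, 3, 1, 3, 5])], [], 0),
  (1, 0, [], 0, [], [], 1864),
  (0, 6, [6, 8, 13, 11, 8, 6, 4, 2, 6], 33, [(1574, [37, 38, 37], [1, 2, 2, 4, 2, 3, 4, 2, 5, 3, 4]), (691, [38, 37], [2, 2, 3, 1, 3, 4, 5, 3, 1, 3, 5]), (1352, [35, 35, 31], [1, 2, 3, 0, 1, 4, 2, 5, 3, 4, 2])], [], 0),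
  (1, 0, [], 0, [], [], 1866),
  (0, 6, [6, 8, 12, 11, 8, 6, 4, 2, 6], 9, [(1608, [], [4, 2, 5]), (1212, [39, 40, 39, 41], [2, 3, 1, 4, 2, 5, 3, 1, 3, 4, 5]), (854, [], [2, 3, 0, 5, 3, 4, 2, 2])], [], 0),
  (1, 0, [], 0, [], [], 1868),
  (0, 6, [8, 11, 8, 11, 8, 6, 4, 2, 6], 14, [(766, [], [4, 2, 2, 3, 1, 4, 2]), (1105, [37, 38, 37], [0, 4, 2, 3, 1, 3, 4, 3, 1, 5]), (1070, [38, 37], [2, 2, 4, 5, 0, 3, 4, 2, 4])], [], 0),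
  (1, 0, [], 0, [], [], 1870),
  (0, 6, [6, 10, 8, 10, 8, 6, 4, 2, 6], 9, [(1606, [], [1, 2, 4, 2, 5]), (653, [37], [5, 3, 4, 3, 1, 4, 2, 4, 3, 1]), (493, [42, 43, 43, 43, 42], [0, 4, 2, 4, 3, 0, 1, 4])], [], 0),
  (1, 0, [], 0, [], [], 1872),
  (0, 6, [6, 8, 12, 10, 8, 6, 4, 2, 6], 9, [(784, [], [2, 5, 0, 5]), (233, [42, 43, 43, 43, 42], [3, 1, 4, 2, 5, 3, 1]), (545, [27, 35, 35, 36], [3, 1, 5, 0, 3, 1, 4, 2, 3])], [], 0),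
  (1, 0, [], 0, [], [], 1874),
  (0, 6, [8, 6, 10, 8, 6, 4, 2, 6, 11], 8, [(1576, [37, 38, 37], [2, 2, 3, 4, 2, 4, 5, 0]), (368, [37, 38], [1, 3, 1, 3, 5, 3, 1, 4]), (1117, [34, 45], [1, 4, 3, 5, 3, 1, 3, 4, 2, 5, 3])], [], 0),
  (1, 0, [], 0, [], [], 1876),
  (0, 6, [6, 10, 10, 8, 6, 4, 2, 6, 11], 15, [(899, [], [0, 1, 2, 4, 3, 1, 4, 3, 5, 3]), (1587, [37], [1, 2, 2, 5, 0, 3, 1, 3, 4, 5, 3]), (410, [], [5, 3, 4, 3, 1, 4, 5, 3, 4, 2])], [], 0),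
  (1, 0, [], 0, [], [], 1878),
  (0, 6, [6, 11, 11, 8, 6, 4, 2, 6, 11], 15, [(1546, [], [2, 2, 4]), (731, [], [0, 1, 4, 2, 4, 3, 4, 2, 3, 4, 2, 3]), (1396, [45, 33, 45], [3, 1, 4, 5, 3])], [], 0),
  (1, 0, [], 0, [], [], 1880),
  (0, 6, [6, 12, 11, 8, 6, 4, 2, 6, 11], 16, [(782, [37, 38, 37], [5, 0, 3, 1, 4, 2, 4]), (1472, [45, 33, 45], [2, 2, 4, 2, 5, 0, 3, 4, 2, 3]), (1004, [38, 37], [2, 3, 5, 3, 4, 2, 2, 3, 4, 2, 3])], [], 0),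
  (1, 0, [], 0, [], [], 1882),
  (0, 6, [6, 10, 8, 6, 4, 2, 6, 13, 11], 8, [(1574, [37, 38, 37], [3, 4, 2, 4, 5, 0]), (1848, [37], [0, 2, 2, 3, 1, 3, 4, 3, 1, 3]), (1762, [], [3, 4, 3, 1, 3, 4, 2, 4])], [], 0),
  (1, 0, [], 0, [], [], 1884),
  (0, 6, [6, 8, 11, 8, 6, 4, 2, 6, 11], 17, [(1640, [37, 38, 37], [2, 3, 4, 5, 0]), (719, [38], [3, 1, 3, 1, 4, 2, 4, 3, 5, 3, 1]), (553, [45, 34, 45], [4, 2, 2, 5, 3, 0, 4])], [], 0),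
  (1, 0, [], 0, [], [], 1886),
  (0, 6, [4, 6, 10, 8, 6, 4, 2, 6, 10], 14, [(1556, [], [1, 2, 4, 2, 2]), (1702, [37], [0, 1, 4, 3, 4, 3, 5, 3]), (1289, [38], [5, 0, 3, 1, 4, 2, 3, 1, 5, 3])], [], 0),
  (1, 0, [], 0, [], [], 1888),
  (0, 6, [6, 13, 10, 8, 6, 4, 2, 6, 10], 15, [(1546, [], [4, 2, 4]), (1507, [37, 38, 37], [1, 2, 2, 4, 2, 5, 3, 1, 4, 3, 1]), (1456, [45, 44, 45], [0, 2, 4, 2, 3, 4, 5, 3, 1, 4])], [], 0),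
  (1, 0, [], 0, [], [], 1890),
  (0, 6, [6, 12, 10, 8, 6, 4, 2, 6, 10], 8, [(1610, [], [4, 5]), (1819, [37, 38], [1, 4, 2, 3, 4, 2, 5, 3, 4, 3]), (1144, [38, 37], [2, 3, 1, 4, 3, 5, 3, 4, 2])], [], 0)]

def stepC12 : List (Nat × Nat × List Nat × Nat × List (Nat × List Nat × List Nat) × List (Nat × List Nat × List Nat) × Nat) := [(1, 0, [], 0, [], [], 1892),
  (0, 6, [8, 6, 11, 8, 6, 4, 2, 6, 10], 33, [(1608, [], [0, 2, 3, 4, 2, 2, 3, 5, 3, 1, 4]), (606, [39, 39, 41, 41, 39, 40], [0, 4, 2, 4, 3, 4, 5, 3, 1]), (901, [45, 33], [1, 2, 2, 3, 4, 3, 5, 3, 1, 4, 3])], [], 0),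
  (1, 0, [], 0, [], [], 1894),
  (0, 6, [6, 11, 11, 8, 6, 4, 2, 6, 10], 17, [(1570, [37, 38, 37], [2, 2, 3, 4, 5, 0]), (379, [], [0, 1, 4, 3, 1, 4, 2, 4, 3]), (1082, [38], [2, 3, 1, 5, 3, 1, 3, 4, 3, 4, 2])], [], 0),
  (1, 0, [], 0, [], [], 1896),
  (0, 6, [6, 12, 11, 8, 6, 4, 2, 6, 10], 15, [(1323, [], [2, 4, 2, 3, 4, 5, 3, 1, 3, 1]), (1324, [32, 32, 25, 46], [3, 0, 1, 3, 4, 2, 5, 3, 1, 3, 4, 2]), (1052, [], [0, 1, 2, 2, 4, 3, 4, 5])], [], 0),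
  (1, 0, [], 0, [], [], 1898),
  (0, 6, [6, 11, 8, 6, 4, 2, 6, 12, 10], 17, [(1705, [37, 38, 37], [1, 5, 3, 4, 3, 1, 4, 2, 3, 5]), (838, [38, 37], [2, 3, 0, 4, 2, 3, 4, 3, 1, 5]), (1506, [33, 34, 45, 45], [4, 2, 5, 3, 1, 4, 2, 3, 4, 2, 5])], [], 0),
  (1, 0, [], 0, [], [], 1900),
  (0, 6, [6, 8, 10, 8, 6, 4, 2, 6, 10], 17, [(798, [37, 38, 37], [4, 2, 4, 3, 0, 4, 2, 2, 5]), (581, [37, 38], [1, 3, 4, 3, 4, 2, 2, 5]), (1030, [37, 38, 37], [4, 3, 5, 3, 1, 3, 1, 4, 2, 5])], [], 0),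
  (1, 0, [], 0, [], [], 1902),
  (0, 6, [0, 2, 4, 6, 4, 2, 10, 8, 6], 15, [(314, [37, 38], [4, 2, 3, 0, 4, 2, 3, 4, 2]), (146, [], [1, 4, 2, 5, 3, 0, 4, 3, 1, 5]), (583, [45, 33, 44, 45], [1, 3, 4, 2, 3, 1, 3, 4, 3])], [], 0),
  (1, 0, [], 0, [], [], 1904),
  (0, 6, [0, 2, 4, 6, 4, 2, 11, 8, 6], 8, [(308, [37, 38], [0, 3, 5, 3, 4, 3, 1]), (1340, [26, 25, 46], [1, 2, 5, 0, 3, 4, 2, 4, 3, 4]), (1155, [37, 38, 37], [4, 3, 4, 5, 3, 1, 3, 4])], [], 0),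
  (1, 0, [], 0, [], [], 1906),
  (0, 6, [2, 4, 6, 4, 2, 12, 10, 8, 6], 15, [(328, [37, 38], [3, 0, 4, 2, 3, 4, 2, 3, 4, 2]), (460, [38], [1, 2, 2, 4, 2, 3, 1, 3, 4, 3, 1]), (1706, [38, 37], [4, 2, 5, 3, 4, 2, 2, 3, 4, 5])], [], 0),
  (1, 0, [], 0, [], [], 1908),
  (0, 6, [2, 4, 6, 4, 2, 12, 11, 8, 6], 17, [(271, [37, 38], [2, 4, 2, 2, 5, 3, 1, 3, 4, 2]), (264, [45, 34], [1, 3, 4, 2, 2, 3, 5, 0]), (1318, [43, 43], [0, 4, 3, 1, 3, 4, 2, 3, 5])], [], 0),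
  (1, 0, [], 0, [], [], 1910),
  (0, 6, [4, 11, 8, 6, 4, 2, 10, 8, 6], 8, [(1602, [], [1, 5]), (1623, [38, 37], [4, 5, 0, 3, 4, 2, 3, 4, 3, 1, 4]), (1762, [], [3, 4, 2, 4, 3, 4, 5, 3, 4, 2])], [], 0),
  (1, 0, [], 0, [], [], 1912),
  (0, 6, [4, 10, 8, 6, 4, 2, 10, 8, 6], 8, [(1587, [37, 38], [4, 3, 1, 5, 3, 1]), (318, [37, 38], [1, 3, 1, 3, 4, 3, 4, 5, 3, 1]), (1462, [34, 45], [0, 2, 5, 3, 4, 3])], [], 0),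
  (1, 0, [], 0, [], [], 1914),
  (0, 6, [4, 8, 6, 4, 2, 13, 10, 8, 6], 15, [(1594, [37, 38, 37], [0, 2, 2, 3, 0, 1]), (1681, [38, 37], [0, 3, 1, 3, 4, 5, 3, 1, 4, 3]), (1195, [37, 38], [1, 3, 1, 3, 4, 2, 4, 5, 3, 1, 3])], [], 0),
  (1, 0, [], 0, [], [], 1916),
  (0, 6, [4, 8, 6, 4, 2, 12, 11, 8, 6], 22, [(1765, [38], [0, 3, 5, 3, 4, 3, 1]), (1527, [38, 37], [0, 3, 4, 2, 4, 3, 4, 2, 4, 5])], [], 0),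
  (1, 0, [], 0, [], [], 1918),
  (0, 6, [6, 10, 8, 6, 4, 2, 10, 8, 6], 8, [(1675, [37, 38, 37], [3, 4, 3, 1, 3, 4, 3]), (1564, [], [1, 2, 2, 3, 4, 2, 4, 3, 1, 5]), (1569, [37, 38], [1, 4, 2, 4, 5, 0, 3, 4, 2, 3, 1])], [], 0),
  (1, 0, [], 0, [], [], 1920),
  (0, 6, [6, 8, 6, 4, 2, 12, 10, 8, 6], 14, [(1608, [], [1, 4, 2]), (138, [40, 41, 39, 40], [2, 2, 4, 3, 0, 1, 5, 3, 4, 2, 3]), (1319, [38], [1, 2, 4, 3, 0, 5, 3, 4, 3, 1, 5])], [], 0),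
  (1, 0, [], 0, [], [], 1922),
  (0, 6, [6, 10, 8, 6, 4, 2, 11, 8, 6], 25, [(904, [], [5, 3, 1]), (506, [], [0, 1, 2, 2, 4, 3, 1, 4, 5, 3]), (1159, [33, 45, 44], [1, 4, 2, 4, 3, 1, 5, 3, 1, 3, 4]), (1657, [], [2, 3, 0, 1, 3, 4, 2, 2, 3, 4, 3]), (235, [38, 37], [1, 3, 4, 2, 2, 3, 4, 2, 5, 0]), (232, [], [1, 4, 2, 3, 4, 3, 1, 5, 3, 1, 3]), (1292, [43, 43, 43, 43, 42, 43, 43], [3, 0, 1, 3, 5, 3, 4, 2, 2, 3, 1])], [], 0),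
  (1, 0, [], 0, [], [], 1924),
  (0, 6, [6, 11, 8, 6, 4, 2, 11, 8, 6], 8, [(1562, [], [1, 4, 5]), (1671, [34, 44, 45], [3, 1, 4, 3, 5, 3, 4, 3, 1, 4]), (1696, [], [3, 0, 4, 3, 5, 3, 1, 3, 1])], [], 0),
  (1, 0, [], 0, [], [], 1926),
  (0, 6, [6, 8, 6, 4, 2, 13, 11, 8, 6], 22, [(1740, [], [2, 2]), (1060, [], [1, 4, 3, 5, 3, 1, 4, 3, 4, 5])], [], 0),
  (1, 0, [], 0, [], [], 1928),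
  (0, 6, [11, 8, 6, 4, 2, 12, 11, 8, 6], 9, [(1063, [37], [4, 2, 4, 3, 0, 5, 3, 4, 2, 2]), (1435, [38, 37], [0, 2, 4, 3, 1, 4, 3, 4, 2, 4]), (1520, [33, 45, 44], [1, 4, 2, 3, 5, 0, 3, 4, 3])], [], 0),
  (1, 0, [], 0, [], [], 1930),
  (0, 6, [4, 6, 4, 2, 8, 10, 8, 6, 10], 16, [(1532, [], [4]), (1040, [37, 38, 37], [3, 4, 2, 3, 1, 4, 2, 5, 3, 4]), (555, [37, 38], [3, 1, 5, 0, 3, 4, 2, 2, 3, 5])], [], 0),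
  (1, 0, [], 0, [], [], 1932),
  (0, 6, [4, 6, 4, 2, 11, 8, 11, 8, 6], 8, [(776, [], [0, 1, 4, 5, 0]), (598, [40, 39, 41, 41], [4, 2, 3, 4, 3, 1, 5, 0, 3, 4]), (1440, [34, 33], [1, 2, 4, 3, 1, 4, 2, 3, 5, 3, 4])], [], 0),
  (1, 0, [], 0, [], [], 1934),
  (0, 6, [6, 8, 6, 4, 2, 10, 8, 6, 10], 9, [(1417, [], [2, 4, 3, 0, 1, 5]), (883, [34, 44], [5, 3, 0, 4, 2, 4, 3, 4, 2, 2, 5]), (1056, [37, 38], [3, 4, 2, 2, 3, 4, 3, 1, 5, 0])], [], 0),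
  (1, 0, [], 0, [], [], 1936),
  (0, 6, [6, 4, 2, 10, 8, 13, 11, 8, 6], 33, [(1301, [], [3, 4, 2, 4, 3, 5, 0, 3, 1]), (289, [42, 43, 43], [0, 2, 4, 2, 2, 5, 3, 4, 3, 1, 5]), (1408, [34], [1, 3, 1, 4, 2, 4, 3, 4, 2, 3, 1])], [], 0),
  (1, 0, [], 0, [], [], 1938),
  (0, 6, [6, 4, 6, 4, 2, 8, 10, 8, 6], 8, [(1513, [], [0, 1, 3, 5, 3, 1, 4, 3, 1, 4]), (1392, [33, 34, 45, 45], [2, 4, 2, 3, 4, 2, 2, 3, 1, 5]), (381, [38], [1, 2, 4, 3, 4, 3, 5])], [], 0),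
  (1, 0, [], 0, [], [], 1940),
  (0, 6, [4, 6, 4, 2, 8, 13, 10, 8, 6], 17, [(1556, [], [4, 2, 2, 5]), (1611, [], [3, 0, 1, 3, 4, 2, 4, 5, 3]), (1742, [37, 38], [3, 5, 3, 1, 4, 2, 3, 1, 4, 3, 5])], [], 0),
  (1, 0, [], 0, [], [], 1942),
  (0, 6, [4, 6, 4, 2, 8, 12, 10, 8, 6], 33, [(1556, [], [0, 1, 3, 1, 4, 2, 4, 3, 5, 3, 1, 4]), (1110, [], [0, 2, 3, 1, 3, 4, 2, 3]), (977, [], [1, 2, 2, 4, 3, 4, 2, 2, 5, 0])], [], 0),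
  (1, 0, [], 0, [], [], 1944),
  (0, 6, [8, 6, 4, 2, 10, 8, 10, 8, 6], 22, [(1916, [38], [0, 1, 3, 0, 1, 4, 2, 4]), (361, [], [0, 5, 3, 1, 4, 2, 4, 3, 4, 5, 3])], [], 0),
  (1, 0, [], 0, [], [], 1946),
  (0, 6, [6, 8, 6, 4, 2, 11, 8, 6, 11], 8, [(1417, [], [2, 4, 2, 2, 3, 0, 1, 4, 2, 5]), (1811, [34, 45, 45, 33], [0, 1, 5, 3, 4, 2, 4, 3, 1, 5]), (1383, [38], [2, 4, 2, 3, 5, 3, 1, 3, 4, 2])], [], 0),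
  (1, 0, [], 0, [], [], 1948),
  (0, 6, [2, 4, 6, 4, 2, 11, 8, 6, 10], 9, [(128, [37, 38], [0, 5, 3, 4, 2, 3, 4]), (935, [37], [2, 3, 1, 4, 5, 3, 1, 4]), (1716, [], [4, 2, 2, 3, 0, 4, 5, 3, 4])], [], 0),
  (1, 0, [], 0, [], [], 1950),
  (0, 6, [4, 6, 4, 2, 10, 10, 8, 6, 10], 8, [(1542, [], [4, 5]), (1440, [33], [0, 1, 2, 2, 3, 0, 1, 4]), (1487, [37], [0, 1, 2, 4, 2, 2, 3, 4, 3, 1])], [], 0),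
  (1, 0, [], 0, [], [], 1952),
  (0, 6, [4, 6, 4, 2, 13, 10, 8, 6, 10], 8, [(1532, [], [2, 2, 4, 5]), (924, [38, 37], [0, 1, 2, 3, 4, 3, 1, 3, 4, 2, 4]), (1139, [38, 37], [1, 4, 2, 3, 4, 3, 1, 5, 0, 3])], [], 0),
  (1, 0, [], 0, [], [], 1954),
  (0, 6, [4, 6, 4, 2, 13, 11, 8, 6, 10], 33, [(1556, [], [0, 3, 4, 2, 2, 3, 5, 3, 1, 4]), (804, [], [0, 1, 2, 2, 3, 4, 3, 1, 4]), (1274, [43, 43, 42, 43, 42], [2, 3, 1, 3, 4, 3, 5, 0, 3, 4])], [], 0),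
  (1, 0, [], 0, [], [], 1956),
  (0, 6, [4, 6, 4, 2, 10, 8, 6, 13, 10], 15, [(1600, [37, 38, 37], [0, 3, 0, 4, 2, 4]), (1598, [38, 37], [2, 3, 5, 3, 4, 2, 3, 4, 3, 1]), (1240, [41, 41, 39, 41, 39], [2, 3, 4, 2, 2, 3, 4, 5, 0, 3, 1])], [], 0),
  (1, 0, [], 0, [], [], 1958),
  (0, 6, [10, 8, 6, 4, 2, 10, 8, 6, 10], 14, [(1608, [], [1, 2, 4, 2, 2]), (1222, [39, 39, 41, 41, 39, 41], [4, 2, 3, 0, 1, 4, 2, 3, 1, 5]), (923, [37], [4, 5, 0, 3, 4, 2, 2, 3, 4, 2, 5])], [], 0),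
  (1, 0, [], 0, [], [], 1960),
  (0, 6, [6, 8, 6, 4, 2, 11, 8, 6, 10], 17, [(1552, [37, 38, 37], [2, 2, 3, 4, 2, 4, 5, 0]), (208, [42, 43, 42, 43, 43, 42], [2, 5, 3, 4, 3, 1, 3, 5]), (1494, [34, 33, 45, 45], [3, 0, 1, 3, 4, 2, 3, 4, 3, 5])], [], 0),
  (1, 0, [], 0, [], [], 1962),
  (0, 6, [4, 6, 4, 2, 8, 11, 8, 6, 10], 33, [(1542, [], [2, 2, 5, 3, 0, 4, 2, 3, 1, 3]), (290, [34, 45, 45, 33], [0, 1, 4, 2, 3, 4, 5, 3, 1, 4, 3]), (1298, [42, 43, 43, 43, 42, 43, 43, 43, 43], [0, 3, 4, 2, 3, 4, 3, 5, 3, 1])], [], 0),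
  (1, 0, [], 0, [], [], 1964),
  (0, 6, [4, 6, 4, 2, 11, 11, 8, 6, 11], 14, [(1596, [37, 38, 37], [0, 2, 2, 3, 0, 4]), (830, [38], [2, 4, 2, 3, 1, 4, 2, 5]), (1797, [39, 39, 39, 40], [4, 3, 0, 1, 3, 5, 3, 4, 2])], [], 0),
  (1, 0, [], 0, [], [], 1966),
  (0, 6, [4, 6, 4, 2, 12, 11, 8, 6, 11], 8, [(1532, [], [4, 2, 4, 5]), (567, [37, 38, 37], [4, 2, 4, 3, 4, 2, 4, 5, 3, 4, 2]), (1927, [38, 37], [1, 4, 3, 4, 2, 2, 5, 3, 4])], [], 0),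
  (1, 0, [], 0, [], [], 1968),
  (0, 6, [4, 6, 4, 2, 11, 8, 6, 13, 11], 9, [(1542, [], [1, 4, 2, 2, 5]), (1440, [33], [0, 1, 2, 2, 3, 0, 4, 2]), (854, [38], [2, 4, 2, 2, 3, 1, 4, 2, 3, 4])], [], 0),
  (1, 0, [], 0, [], [], 1970),
  (0, 6, [4, 6, 4, 2, 11, 8, 6, 12, 11], 14, [(1594, [37, 38, 37], [0, 2, 3, 0, 4]), (1333, [38], [1, 2, 3, 0, 4, 3]), (218, [25, 26, 46, 32, 32, 26], [2, 5, 3, 4, 2, 3, 4, 3])], [], 0),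
  (1, 0, [], 0, [], [], 1972),
  (0, 6, [11, 8, 6, 4, 2, 10, 8, 6, 11], 8, [(1574, [37, 38, 37], [2, 3, 4, 2, 4, 5, 0]), (591, [38, 37], [0, 2, 3, 1, 4, 2, 3, 4, 2, 5, 3]), (1555, [39, 40, 41, 39, 40], [3, 4, 2, 2, 3, 1, 3, 4, 5, 0])], [], 0),
  (1, 0, [], 0, [], [], 1974),
  (0, 6, [8, 6, 4, 2, 12, 10, 8, 6, 11], 14, [(983, [], [0, 3, 4, 3, 1, 3, 1]), (1080, [38, 37], [0, 3, 1, 5, 3, 4, 2, 3, 4]), (1243, [37, 38, 37], [4, 2, 2, 5, 3])], [], 0),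
  (1, 0, [], 0, [], [], 1976),
  (0, 6, [11, 8, 6, 4, 2, 11, 8, 6, 11], 8, [(1544, [], [1, 2, 4, 2, 2, 5]), (1553, [42, 43, 43, 43, 42, 43, 43, 43], [5, 3, 1, 4, 2, 4, 3, 4, 5]), (1541, [37, 38, 37], [0, 1, 2, 2, 3, 5, 3, 1, 3, 4, 2])], [], 0),
  (1, 0, [], 0, [], [], 1978),
  (0, 6, [10, 8, 6, 4, 2, 11, 8, 6, 11], 33, [(1705, [37, 38, 37], [0, 1, 2, 3, 5, 3, 4, 3, 4, 2, 2]), (330, [37, 38], [1, 3, 1, 5, 3, 1, 3, 4, 2, 4]), (1087, [43, 43, 43, 43], [0, 1, 3, 4, 5, 3])], [], 0),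
  (1, 0, [], 0, [], [], 1980),
  (0, 6, [8, 6, 4, 2, 11, 8, 6, 13, 11], 17, [(1534, [37, 38, 37], [2, 3, 4, 2, 4, 5, 0]), (400, [], [2, 4, 5, 3]), (851, [28, 31, 35], [0, 3, 4, 2, 3, 4, 3, 1, 4, 2])], [], 0),
  (1, 0, [], 0, [], [], 1982),
  (0, 6, [4, 6, 4, 2, 8, 10, 8, 6, 11], 17, [(1556, [], [1, 2, 2, 4, 2, 5]), (755, [38, 37], [2, 3, 0, 1, 3, 5, 3, 4]), (1428, [44, 44], [0, 3, 5, 3, 4, 2, 2])], [], 0),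
  (1, 0, [], 0, [], [], 1984),
  (0, 6, [4, 6, 4, 2, 6, 8, 10, 8, 6], 9, [(1445, [37, 38, 37], [2, 4, 3, 4, 3, 5, 3, 4, 2]), (254, [45, 33, 45], [4, 2, 3, 1, 3, 4, 5]), (432, [], [5, 0, 3, 1, 4, 2, 4, 3, 5])], [], 0),
  (1, 0, [], 0, [], [], 1986),
  (0, 6, [2, 0, 6, 12, 10, 8, 6, 4, 2, 6], 15, [(759, [], [1, 4, 2, 3, 1, 5, 3, 4, 2, 2]), (472, [], [2, 2, 3, 4, 2, 3, 4, 2, 3, 1, 3, 4]), (981, [45, 34], [0, 1, 2, 2, 5, 3, 4, 2, 3, 1, 4, 5])], [], 0),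
  (1, 0, [], 0, [], [], 1988),
  (0, 6, [2, 0, 6, 8, 11, 8, 6, 4, 2, 6], 22, [(432, [], []), (1308, [43, 42, 43, 43], [4, 3, 1, 3, 1, 4, 2, 4, 5])], [], 0),
  (1, 0, [], 0, [], [], 1990),
  (0, 6, [2, 0, 6, 8, 10, 8, 6, 4, 2, 6], 9, [(641, [], [3, 1, 5, 0, 3, 4, 3]), (1143, [42, 43, 42, 43, 43, 43, 42], [0, 3, 5, 3, 1, 4, 2, 3, 4]), (1981, [], [5, 3, 0, 4, 3, 1, 3, 4])], [], 0),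
  (1, 0, [], 0, [], [], 1992),
  (0, 6, [2, 0, 6, 10, 8, 6, 4, 2, 6, 10], 9, [(770, [], [1, 4, 3, 5, 3, 1, 4]), (1389, [37, 38], [1, 2, 3, 4, 5, 3, 1, 3, 1, 4, 3]), (457, [45, 33, 45, 34], [0, 4, 2, 3, 4, 3, 1, 4, 2, 5, 3])], [], 0),
  (1, 0, [], 0, [], [], 1994),
  (0, 6, [2, 0, 11, 8, 6, 4, 2, 11, 8, 6], 8, [(770, [], [1, 4, 3, 5, 3]), (1511, [37], [0, 2, 2, 4, 3, 4, 2, 2, 3, 1]), (1510, [33, 34], [1, 2, 2, 4, 3, 0, 4])], [], 0),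
  (1, 0, [], 0, [], [], 1996),
  (0, 6, [0, 6, 4, 6, 11, 8, 6, 4, 2, 6], 15, [(1548, [], [1]), (1567, [], [2, 3, 5, 0, 3, 4, 2, 3, 1, 5]), (565, [37, 38], [0, 2, 3, 4, 5, 3, 1, 4, 2, 4, 3])], [], 0),
  (1, 0, [], 0, [], [], 1998),
  (0, 6, [0, 4, 8, 6, 10, 8, 6, 4, 2, 6], 9, [(1544, [37, 38, 37], [3, 1, 5, 0]), (187, [], [2, 5, 0, 3, 1]), (1634, [], [0, 1, 3, 5, 3])], [], 0),
  (1, 0, [], 0, [], [], 2000),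
  (0, 6, [0, 4, 6, 12, 11, 8, 6, 4, 2, 6], 8, [(1574, [], [1, 5]), (954, [37, 38, 37], [0, 4, 2, 2, 3, 0, 4, 2, 3, 1, 3]), (1960, [37], [1, 4, 3, 1, 3, 4, 5, 3, 1])], [], 0),
  (1, 0, [], 0, [], [], 2002),
  (0, 6, [0, 11, 8, 6, 10, 8, 6, 4, 2, 6], 9, [(1597, [37, 38, 37], [2, 2, 3, 4, 3, 5, 3, 4]), (735, [38, 37], [0, 1, 3, 4, 2, 4, 3, 5]), (740, [34, 33, 44], [1, 2, 2, 4, 2, 5, 3])], [], 0),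
  (1, 0, [], 0, [], [], 2004),
  (0, 6, [0, 8, 6, 12, 10, 8, 6, 4, 2, 6], 33, [(1597, [], [1, 3, 4, 3]), (806, [37, 38, 37], [0, 3, 4, 2, 3, 4, 2, 5, 3, 4, 2, 4]), (971, [33, 34, 45], [2, 3, 0, 1, 3, 4, 2, 5])], [], 0),
  (1, 0, [], 0, [], [], 2006),
  (0, 6, [0, 6, 8, 6, 11, 8, 6, 4, 2, 6], 9, [(1597, [], [1, 2, 3, 0, 4, 2, 3, 4, 3, 1]), (1554, [37, 38, 37], [3, 1, 3, 4, 2, 2, 5, 3, 1, 4, 3, 5]), (1214, [39], [2, 4, 2, 3, 4, 2, 5, 0, 3, 1, 4])], [], 0),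
  (1, 0, [], 0, [], [], 2008),
  (0, 6, [0, 8, 11, 8, 6, 4, 2, 11, 8, 6], 9, [(774, [37, 38, 37], [0, 5, 3, 4, 3, 1, 5]), (706, [], [0, 1, 3, 4, 3, 4, 2, 4, 3, 1, 4, 2]), (805, [43, 43, 42, 43, 43, 43, 43], [4, 2, 4, 3, 1, 4, 3, 4, 2, 2])], [], 0),
  (1, 0, [], 0, [], [], 2010),
  (0, 6, [0, 10, 8, 6, 11, 8, 6, 4, 2, 6], 15, [(1393, [], [0, 3, 1, 4, 3, 5, 3, 1, 4, 2, 3]), (1512, [33, 45, 44], [3, 1, 4, 5, 3, 1, 3, 4, 2]), (1877, [], [2, 4, 2, 2, 3, 0, 1, 5, 3])], [], 0),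
  (1, 0, [], 0, [], [], 2012),
  (0, 6, [0, 6, 11, 8, 11, 8, 6, 4, 2, 6], 9, [(1536, [37, 38, 37], [2, 2, 3, 4, 2, 5, 0]), (1333, [], [2, 4, 2, 3, 0, 1, 3, 5, 3, 4]), (1109, [25, 25, 26, 32, 32, 46], [0, 4, 2, 3, 1, 4, 3, 1, 4, 2, 4])], [], 0),
  (1, 0, [], 0, [], [], 2014),
  (0, 6, [0, 6, 8, 12, 11, 8, 6, 4, 2, 6], 17, [(1580, [37, 38, 37], [2, 3, 4, 2, 5, 0]), (1149, [37, 38, 37], [3, 1, 5, 3, 1, 3, 4]), (787, [38], [3, 1, 5, 0, 3, 4, 2, 2, 3, 5])], [], 0),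
  (1, 0, [], 0, [], [], 2016),
  (0, 6, [0, 10, 8, 13, 11, 8, 6, 4, 2, 6], 22, [(834, [], [0, 2]), (1466, [33, 33, 44], [2, 2, 3, 4, 2, 3, 1, 5, 0])], [], 0),
  (1, 0, [], 0, [], [], 2018),
  (0, 6, [0, 6, 10, 8, 10, 8, 6, 4, 2, 6], 22, [(1833, [38, 37], [0, 2, 4, 2, 3, 4, 2, 3, 5, 3]), (1303, [], [0, 2, 3, 5, 3, 1, 4, 2])], [], 0),
  (1, 0, [], 0, [], [], 2020),
  (0, 6, [0, 6, 8, 11, 8, 6, 4, 2, 6, 10], 15, [(1383, [38], [3, 1, 4, 3, 1, 4, 2, 5, 3, 1, 4]), (847, [33, 34, 45, 45], [2, 3, 0, 1, 3, 4, 2, 5, 3, 1, 3, 4]), (1787, [37], [1, 4, 2, 2, 3, 1, 5, 3, 4, 2, 4])], [], 0),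
  (1, 0, [], 0, [], [], 2022),
  (0, 6, [0, 6, 8, 13, 10, 8, 6, 4, 2, 6], 16, [(1584, [37, 38, 37], [0, 3, 0, 4, 2]), (425, [38, 37], [0, 4, 3, 1, 4, 3, 4, 2, 5, 3, 4, 2]), (1571, [], [2, 4, 3, 1, 3, 1, 4, 2, 4, 3])], [], 0),
  (1, 0, [], 0, [], [], 2024),
  (0, 6, [0, 10, 8, 13, 10, 8, 6, 4, 2, 6], 22, [(1788, [], [2]), (1644, [38, 37], [1, 2, 4, 5, 0, 3, 1, 4, 2, 3, 5])], [], 0),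
  (1, 0, [], 0, [], [], 2026),
  (0, 6, [0, 4, 6, 10, 8, 6, 4, 2, 6, 11], 14, [(1417, [37, 38, 37], [2, 3, 0, 4, 3]), (1450, [45, 45, 33], [3, 1, 4, 2, 3, 1, 4, 5]), (1093, [37], [1, 3, 0, 4, 2, 4, 3])], [], 0),
  (1, 0, [], 0, [], [], 2028),
  (0, 6, [0, 6, 10, 10, 8, 6, 4, 2, 6, 11], 14, [(1526, [], [4]), (1612, [37, 38, 37], [0, 2, 2, 3, 1, 3, 4, 5, 3, 1]), (1361, [37, 38], [3, 1, 4, 3, 5, 0, 3])], [], 0),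
  (1, 0, [], 0, [], [], 2030),
  (0, 6, [0, 6, 13, 10, 8, 6, 4, 2, 6, 11], 14, [(1383, [38], [3, 1, 4, 3, 1, 4, 5, 3]), (1462, [33, 45, 34], [2, 2, 3, 5, 3, 1, 3, 4, 2, 3, 4]), (843, [38, 37], [2, 2, 3, 1, 5, 0, 3, 4, 2, 3])], [], 0),
  (1, 0, [], 0, [], [], 2032),
  (0, 6, [0, 8, 6, 11, 8, 6, 4, 2, 6, 11], 22, [(1901, [37], [2, 2, 5, 3, 0, 1, 4, 3, 1, 5]), (852, [], [4, 2, 2, 3, 1, 3, 1, 4, 5])], [], 0),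
  (1, 0, [], 0, [], [], 2034),
  (0, 6, [0, 6, 12, 11, 8, 6, 4, 2, 6, 11], 8, [(774, [37, 38, 37], [4, 5, 3, 4, 2, 3, 4, 5]), (1404, [], [4, 2, 5, 3, 4, 2, 3, 4, 5]), (1034, [38, 37], [4, 2, 3, 0, 1, 3, 4, 2, 5, 3, 1, 3])], [], 0),
  (1, 0, [], 0, [], [], 2036),
  (0, 6, [0, 6, 10, 8, 6, 4, 2, 6, 12, 11], 17, [(1578, [], [4, 2, 4, 5]), (1207, [39, 40, 39], [4, 2, 3, 0, 1, 3, 4, 2, 3]), (1554, [], [0, 1, 4, 2, 4, 3, 1, 5, 3])], [], 0),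
  (1, 0, [], 0, [], [], 2038),
  (0, 6, [0, 4, 6, 10, 8, 6, 4, 2, 6, 10], 8, [(782, [], [3, 0, 3, 4]), (835, [45, 33, 44, 45], [0, 4, 3, 1, 4, 3, 5, 3, 4, 2]), (1899, [], [2, 2, 3, 4, 3, 4, 2, 2, 5])], [], 0),
  (1, 0, [], 0, [], [], 2040),
  (0, 6, [0, 4, 6, 11, 8, 6, 4, 2, 6, 10], 9, [(1471, [37, 38, 37], [0, 1, 2, 3, 1, 4, 3, 1, 3, 5, 3]), (1023, [33, 33, 44], [1, 4, 5, 0, 3, 1]), (1673, [37, 38], [0, 1, 3, 1, 4, 2, 5, 3, 4, 2, 3])], [], 0),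
  (1, 0, [], 0, [], [], 2042),
  (0, 6, [0, 8, 6, 10, 8, 6, 4, 2, 6, 10], 8, [(774, [37, 38, 37], [4, 5, 3, 4, 3, 5]), (1285, [33, 44, 45, 45], [4, 2, 5, 3, 1, 3, 1, 5, 3, 4]), (1735, [43, 43, 43, 43, 42, 43, 42], [0, 1, 3, 5, 3, 1, 4, 3, 4, 2])], [], 0),
  (1, 0, [], 0, [], [], 2044),
  (0, 6, [0, 6, 13, 10, 8, 6, 4, 2, 6, 10], 8, [(772, [37, 38, 37], [1, 2, 2, 5, 3, 0, 4]), (1113, [43, 42, 43, 43, 43, 42, 43], [0, 4, 2, 4, 3, 1, 4, 2, 3]), (1947, [37, 38, 37], [0, 4, 3, 1, 4, 3, 5, 3])], [], 0),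
  (1, 0, [], 0, [], [], 2046),
  (0, 6, [0, 8, 6, 11, 8, 6, 4, 2, 6, 10], 8, [(1393, [37, 38, 37], [1, 3, 0, 1, 4, 5, 3, 1, 4, 2, 4]), (981, [45, 45, 33], [1, 2, 4, 2, 5, 3, 1, 4, 2, 3, 5]), (1781, [38], [0, 3, 4, 5, 3, 1, 4, 2, 4])], [], 0),
  (1, 0, [], 0, [], [], 2048),
  (0, 6, [0, 6, 11, 11, 8, 6, 4, 2, 6, 10], 15, [(1528, [], [1, 2, 4, 2, 2]), (1850, [], [0, 3, 4, 2, 3, 1, 3, 4, 3, 4, 2]), (1306, [42, 43, 43, 42, 43, 43, 43, 43], [1, 4, 3, 1, 4, 2, 4, 3, 5, 3])], [], 0),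
  (1, 0, [], 0, [], [], 2050),
  (0, 6, [0, 6, 12, 11, 8, 6, 4, 2, 6, 10], 14, [(1383, [38], [3, 1, 4, 2, 3, 4, 2, 4, 5, 3, 1]), (1456, [34, 45, 45], [3, 0, 4, 2, 3, 1]), (1185, [38, 37], [0, 2, 4, 3, 4, 2, 3, 1, 5, 3])], [], 0)]

def stepC13 : List (Nat × Nat × List Nat × Nat × List (Nat × List Nat × List Nat) × List (Nat × List Nat × List Nat) × Nat) := [(1, 0, [], 0, [], [], 2052),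
  (0, 6, [0, 6, 10, 8, 6, 4, 2, 6, 13, 10], 17, [(1582, [37, 38, 37], [2, 3, 4, 5, 0]), (1465, [38], [1, 3, 4, 3, 5, 3, 4, 3]), (1398, [34, 33], [2, 2, 3, 0, 4, 2, 3, 1, 3, 4, 5])], [], 0),
  (1, 0, [], 0, [], [], 2054),
  (0, 6, [0, 4, 11, 8, 6, 4, 2, 10, 8, 6], 9, [(1576, [], [1, 5]), (715, [], [3, 0, 4, 2, 4, 3, 4, 5, 3]), (738, [45, 33, 44], [0, 4, 2, 3, 4, 2, 2, 3, 1])], [], 0),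
  (1, 0, [], 0, [], [], 2056),
  (0, 6, [0, 4, 8, 6, 4, 2, 13, 10, 8, 6], 22, [(769, [37, 38], [2, 3, 0, 4, 5]), (1548, [], [0, 3, 5, 3, 4, 3, 1])], [], 0),
  (1, 0, [], 0, [], [], 2058),
  (0, 6, [0, 4, 8, 6, 4, 2, 12, 10, 8, 6], 22, [(813, [38, 37], [5, 3, 1, 3, 1, 5, 3, 1, 4]), (1870, [], [0, 2, 2, 3, 5, 3, 4, 3, 1])], [], 0),
  (1, 0, [], 0, [], [], 2060),
  (0, 6, [0, 4, 11, 8, 6, 4, 2, 11, 8, 6], 9, [(782, [], [1, 3, 0, 3]), (267, [], [1, 2, 5, 0, 3, 1, 4, 2, 3, 4, 2]), (1468, [45, 33, 45, 34], [3, 4, 2, 3, 4, 3, 1, 4, 5, 3])], [], 0),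
  (1, 0, [], 0, [], [], 2062),
  (0, 6, [0, 6, 11, 8, 6, 4, 2, 10, 8, 6], 9, [(772, [], [1, 2, 3, 4, 2, 2]), (1889, [42, 43], [0, 1, 4, 2, 3, 4, 3, 1, 5, 3, 4]), (1217, [37, 38, 37], [3, 4, 2, 5, 3, 1, 3, 1])], [], 0),
  (1, 0, [], 0, [], [], 2064),
  (0, 6, [0, 13, 11, 8, 6, 4, 2, 10, 8, 6], 14, [(1584, [], [1, 2]), (1088, [37], [2, 5, 3, 4, 2, 2, 3, 4, 3, 1, 5]), (1682, [37], [1, 2, 2, 3, 4, 5, 3, 4, 2, 2])], [], 0),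
  (1, 0, [], 0, [], [], 2066),
  (0, 6, [0, 10, 8, 6, 4, 2, 13, 10, 8, 6], 16, [(1580, [], []), (671, [], [0, 2, 4, 2, 3, 5, 3, 1, 3, 5]), (801, [43, 42, 43], [1, 4, 3, 5, 3, 4, 2, 3, 1, 4, 3])], [], 0),
  (1, 0, [], 0, [], [], 2068),
  (0, 6, [0, 6, 11, 8, 6, 4, 2, 11, 8, 6], 33, [(1580, [], [1, 5, 3, 0, 4, 2, 3, 1, 3]), (1130, [38, 37], [0, 4, 2, 3, 0, 4, 2, 3, 4, 2, 2]), (1097, [38], [4, 3, 5, 0, 3, 1, 4, 3, 4])], [], 0),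
  (1, 0, [], 0, [], [], 2070),
  (0, 6, [0, 11, 11, 8, 6, 4, 2, 11, 8, 6], 9, [(1580, [37, 38, 37], [2, 3, 1, 5, 0]), (484, [38], [1, 4, 5, 3, 4, 2, 2, 3, 1]), (1262, [43, 43, 43, 43, 42], [1, 4, 3, 1, 4, 2, 4, 3, 1])], [], 0),
  (1, 0, [], 0, [], [], 2072),
  (0, 6, [0, 8, 10, 8, 6, 4, 2, 11, 8, 6], 8, [(1393, [37, 38, 37], [1, 3, 0, 1, 4, 5, 3, 4, 2]), (1464, [34], [3, 4, 2, 3, 4, 2, 4]), (866, [37], [1, 4, 3, 1, 5, 3, 1, 4, 2, 3, 5])], [], 0),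
  (1, 0, [], 0, [], [], 2074),
  (0, 6, [0, 13, 10, 8, 6, 4, 2, 11, 8, 6], 33, [(1597, [], [0, 2, 5, 3, 4, 3, 5]), (873, [38], [0, 2, 3, 4, 3, 1, 3, 4, 2, 4, 5]), (1686, [], [1, 3, 1, 5, 3, 4, 3, 1, 4])], [], 0),
  (1, 0, [], 0, [], [], 2076),
  (0, 6, [0, 12, 10, 8, 6, 4, 2, 11, 8, 6], 9, [(1582, [], [1, 5]), (464, [], [1, 3, 0, 5, 3, 4, 2, 2, 3, 1, 3]), (1851, [43, 42, 43], [4, 2, 4, 5, 3, 4, 3, 1])], [], 0),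
  (1, 0, [], 0, [], [], 2078),
  (0, 6, [0, 11, 8, 6, 4, 2, 12, 11, 8, 6], 9, [(1584, [], [1, 5]), (476, [38], [0, 2, 2, 4, 3, 4, 2, 3, 4, 3, 5]), (1079, [33, 34, 45], [2, 5, 3, 4, 3, 1, 5, 3, 4, 2])], [], 0),
  (1, 0, [], 0, [], [], 2080),
  (0, 6, [0, 4, 6, 4, 2, 8, 13, 11, 8, 6], 9, [(1552, [], [1, 2, 2, 4, 5]), (1294, [43, 42, 43, 42], [0, 4, 2, 2, 3, 4, 2, 4, 3]), (1032, [38, 37], [5, 3, 4, 2, 3, 5])], [], 0),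
  (1, 0, [], 0, [], [], 2082),
  (0, 6, [0, 4, 6, 4, 2, 8, 12, 11, 8, 6], 14, [(784, [37, 38, 37], [1, 4, 5, 3, 0, 4, 2]), (1973, [43, 42, 43, 43, 43, 42], [3, 1, 3, 1, 4, 2, 4]), (1968, [], [0, 4, 3, 4, 2, 5, 3, 1, 3, 1, 4, 2])], [], 0),
  (1, 0, [], 0, [], [], 2084),
  (0, 6, [0, 6, 8, 6, 4, 2, 10, 8, 6, 10], 9, [(1383, [38, 37], [2, 2, 4, 2, 3, 1, 3, 1, 4, 2]), (1384, [34], [3, 1, 4, 2, 3, 4, 3, 1, 4, 2, 4]), (1011, [37, 38], [4, 2, 4, 3, 1, 4, 2, 3, 5])], [], 0),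
  (1, 0, [], 0, [], [], 2086),
  (0, 6, [0, 4, 6, 4, 2, 10, 8, 10, 8, 6], 22, [(888, [], [2, 2, 3]), (1274, [43, 43, 43, 42, 43], [2, 3, 1, 3, 5, 3, 1, 4, 2, 3])], [], 0),
  (1, 0, [], 0, [], [], 2088),
  (0, 6, [0, 4, 6, 4, 2, 8, 11, 8, 6, 11], 9, [(1417, [37, 38, 37], [0, 2, 4, 3, 4, 2, 3, 4, 2, 2, 5]), (1749, [34, 44, 45, 45], [3, 5, 3, 4, 2, 3, 1, 4, 3, 1, 4]), (1955, [], [1, 3, 1, 4, 3, 5, 3, 1, 3, 4, 2, 2])], [], 0),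
  (1, 0, [], 0, [], [], 2090),
  (0, 6, [0, 4, 6, 4, 2, 8, 13, 10, 8, 6], 33, [(1534, [], [4, 2, 5, 3, 0, 4, 2, 3, 1, 3]), (1617, [38, 37], [0, 1, 4, 2, 3, 0, 4, 2, 2, 3, 4, 2]), (1898, [], [1, 2, 2, 3, 4, 2, 3, 1, 4, 2, 3])], [], 0),
  (1, 0, [], 0, [], [], 2092),
  (0, 6, [0, 8, 6, 4, 2, 10, 8, 10, 8, 6], 22, [(429, [38, 37], [0, 3, 1, 4, 5, 3, 4, 2]), (905, [], [0, 2, 4, 2, 3, 1, 3, 4, 5, 3])], [], 0),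
  (1, 0, [], 0, [], [], 2094),
  (0, 6, [0, 6, 4, 2, 12, 10, 8, 10, 8, 6], 8, [(1526, [], [1, 4, 2, 4, 5]), (1389, [38, 37], [2, 4, 3, 4, 5, 3]), (728, [45], [0, 2, 3, 5, 3, 1, 3, 4, 2])], [], 0),
  (1, 0, [], 0, [], [], 2096),
  (0, 6, [0, 6, 8, 6, 4, 2, 11, 8, 6, 11], 22, [(1699, [37, 38, 37], [2, 3, 5, 3, 4, 2, 2]), (790, [], [3, 0, 1, 3, 4, 2, 4, 3, 1, 3, 4])], [], 0),
  (1, 0, [], 0, [], [], 2098),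
  (0, 6, [0, 4, 8, 6, 4, 2, 10, 8, 6, 10], 8, [(1323, [37, 38, 37], [2, 3, 0, 1, 3, 5, 3, 1]), (1328, [], [0, 1, 2, 2, 3, 0]), (2069, [], [0, 3, 4, 2, 5, 3, 4, 2, 4, 3, 1])], [], 0),
  (1, 0, [], 0, [], [], 2100),
  (0, 6, [0, 4, 6, 4, 2, 13, 10, 8, 6, 10], 8, [(1417, [37, 38, 37], [0, 2, 4, 3, 4, 2, 2, 3, 4, 5]), (1543, [33, 44, 45], [0, 1, 2, 3, 4, 3, 5, 3, 4, 3, 5]), (1666, [37, 38, 37], [3, 4, 5, 0, 3, 1, 4, 3, 5])], [], 0),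
  (1, 0, [], 0, [], [], 2102),
  (0, 6, [0, 4, 6, 4, 2, 11, 11, 8, 6, 10], 33, [(1417, [37, 38, 37], [3, 4, 2, 3, 1, 3, 4, 3, 5, 3]), (199, [33, 34, 44], [0, 3, 1, 5, 3, 4, 2, 4, 3]), (1242, [40, 39, 41, 39, 41], [1, 3, 0, 1, 4, 5, 3, 1, 4])], [], 0),
  (1, 0, [], 0, [], [], 2104),
  (0, 6, [0, 4, 6, 4, 2, 10, 8, 6, 13, 10], 22, [(1652, [], [2, 2]), (1157, [38, 37], [2, 4, 2, 3, 5, 0, 3, 1, 4, 2])], [], 0),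
  (1, 0, [], 0, [], [], 2106),
  (0, 6, [0, 10, 8, 6, 4, 2, 10, 8, 6, 10], 17, [(1538, [], [4, 5]), (1918, [], [2, 3, 1, 4, 5, 3, 4, 2, 3, 1, 5]), (1546, [38, 37], [2, 3, 1, 4, 3, 4, 5, 3, 1, 3])], [], 0),
  (1, 0, [], 0, [], [], 2108),
  (0, 6, [0, 4, 6, 4, 2, 13, 10, 8, 6, 11], 15, [(778, [37, 38, 37], [0, 2, 4, 5]), (1350, [36, 35], [1, 2, 4, 2, 3, 5, 3, 1, 3, 5]), (459, [], [4, 5, 3, 0, 1, 4, 2, 3])], [], 0),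
  (1, 0, [], 0, [], [], 2110),
  (0, 6, [0, 4, 6, 4, 2, 12, 10, 8, 6, 11], 15, [(983, [37, 38, 37], [0, 1, 4, 3, 1, 3]), (1935, [], [2, 3, 0, 1, 4, 3, 4, 5, 3, 1, 3]), (1738, [], [0, 3, 1, 4, 3, 4, 2, 4, 3, 4, 2])], [], 0),
  (1, 0, [], 0, [], [], 2112),
  (0, 6, [0, 4, 8, 6, 4, 2, 11, 8, 6, 11], 8, [(1323, [37, 38, 37], [3, 0, 1, 3, 5, 3, 1, 4, 2]), (1336, [25, 26, 25, 26, 32], [0, 2, 2, 3, 1, 3, 1, 5, 3]), (1481, [38], [1, 4, 2, 4, 3, 4, 2, 3, 4, 2, 5, 3])], [], 0),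
  (1, 0, [], 0, [], [], 2114),
  (0, 6, [0, 4, 6, 4, 2, 12, 11, 8, 6, 11], 16, [(1417, [37, 38, 37], [2, 3, 0, 4, 2, 3, 1, 4]), (1117, [34, 44, 45, 45], [2, 5, 3, 4, 3, 4, 2]), (1205, [37, 38, 37], [0, 2, 3, 4, 2, 4, 3, 5, 3, 4])], [], 0),
  (1, 0, [], 0, [], [], 2116),
  (0, 6, [0, 4, 6, 4, 2, 10, 8, 6, 13, 11], 22, [(2082, [], []), (295, [39, 40, 39, 41, 41], [2, 2, 3, 4, 3, 1, 5, 0, 3, 1])], [], 0),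
  (1, 0, [], 0, [], [], 2118),
  (0, 6, [0, 4, 6, 4, 2, 11, 8, 6, 13, 11], 16, [(1534, [], [4, 2, 2]), (1756, [], [0, 3, 1, 5, 3, 1, 4, 2, 3, 4]), (1155, [37], [0, 1, 4, 2, 3, 1, 3, 4, 2, 2, 5])], [], 0),
  (1, 0, [], 0, [], [], 2120),
  (0, 6, [0, 11, 8, 6, 4, 2, 11, 8, 6, 11], 22, [(962, [], [0, 2, 2, 4, 2]), (2097, [37], [2, 4, 3, 5, 3, 1, 4, 3])], [], 0),
  (1, 0, [], 0, [], [], 2122),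
  (0, 6, [0, 8, 6, 4, 2, 12, 11, 8, 6, 11], 9, [(1383, [38, 37], [0, 4, 2, 4, 3, 0, 1, 3, 4, 2]), (195, [33, 33, 45, 34], [4, 2, 3, 5, 0, 3, 1, 3, 4, 5]), (1177, [38, 37], [4, 5, 3, 1, 3, 4, 2])], [], 0),
  (1, 0, [], 0, [], [], 2124),
  (0, 6, [0, 2, 4, 6, 10, 8, 6, 4, 2, 6], 9, [(314, [37, 38], [4, 2, 3, 0, 4, 2, 3, 4, 2, 5]), (642, [43, 42, 43, 43, 43, 42, 43, 43], [1, 2, 5, 3, 4, 3, 1, 4, 3, 5]), (662, [43, 43, 43], [2, 2, 3, 0, 4, 2, 4, 3, 4, 5, 3])], [], 0),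
  (1, 0, [], 0, [], [], 2126),
  (0, 6, [8, 6, 4, 6, 11, 8, 6, 4, 2, 6], 9, [(804, [], [2, 2, 3, 1]), (889, [42, 43, 43, 43, 42, 43, 43, 42], [2, 3, 4, 2, 4, 3, 4, 2, 5, 0]), (556, [37], [0, 2, 2, 4, 2, 5, 3, 4, 2, 3, 5])], [], 0),
  (1, 0, [], 0, [], [], 2128),
  (0, 6, [6, 4, 6, 12, 11, 8, 6, 4, 2, 6], 22, [(976, [], [0, 2, 2, 3, 0]), (1492, [], [1, 4, 2, 3, 0, 5, 3, 1, 4, 3])], [], 0),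
  (1, 0, [], 0, [], [], 2130),
  (0, 6, [6, 4, 6, 10, 10, 8, 6, 4, 2, 6], 15, [(1588, [], [1]), (1034, [], [2, 2, 3, 1, 5, 0, 3, 4, 2, 4, 3]), (2042, [38], [2, 2, 5, 3, 1, 3, 4, 2, 3, 4])], [], 0),
  (1, 0, [], 0, [], [], 2132),
  (0, 6, [6, 4, 6, 12, 10, 8, 6, 4, 2, 6], 8, [(949, [], [2, 4, 2, 5, 0, 3, 1, 3, 4, 2]), (1980, [37], [0, 1, 4, 3, 1, 4, 5, 3, 4]), (964, [38, 37], [3, 4, 3, 1, 4, 5, 3, 4])], [], 0),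
  (1, 0, [], 0, [], [], 2134),
  (0, 6, [4, 8, 6, 13, 10, 8, 6, 4, 2, 6], 22, [(1983, [], [3, 1, 4, 2, 3, 1, 4, 5, 3, 1]), (411, [38, 37], [1, 2, 4, 3, 0, 5, 3, 4, 3, 1, 5])], [], 0),
  (1, 0, [], 0, [], [], 2136),
  (0, 6, [4, 8, 6, 12, 10, 8, 6, 4, 2, 6], 8, [(1596, [37, 38, 37], [3, 1, 5, 0]), (1530, [], [3, 1, 5, 3, 4, 2, 3, 4, 5]), (1556, [38, 37], [1, 2, 4, 3, 0, 4, 2, 4, 3, 1, 4])], [], 0),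
  (1, 0, [], 0, [], [], 2138),
  (0, 6, [4, 10, 8, 6, 11, 8, 6, 4, 2, 6], 8, [(1501, [38, 37], [1, 2, 3, 5, 0, 3, 4, 2, 3, 1]), (704, [45, 45, 33], [5, 3, 1, 4, 2, 3, 1, 4, 5, 3]), (1244, [41, 41, 39, 40, 41, 41], [4, 3, 1, 4, 2, 5, 3, 4, 2])], [], 0),
  (1, 0, [], 0, [], [], 2140),
  (0, 6, [4, 8, 6, 12, 11, 8, 6, 4, 2, 6], 8, [(1600, [37, 38, 37], [3, 1, 5, 0]), (1747, [], [2, 4, 2, 3, 4, 3, 4, 2, 5]), (1455, [38], [0, 1, 2, 4, 3, 1, 5, 3, 1, 3, 5])], [], 0),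
  (1, 0, [], 0, [], [], 2142),
  (0, 6, [6, 8, 10, 8, 6, 4, 2, 10, 8, 6], 14, [(1675, [37, 38, 37], [3, 4, 3, 1, 3, 4, 3, 5]), (2116, [], [2, 3, 4, 2, 3, 1, 3]), (2053, [37, 38, 37], [0, 4, 2, 2, 3, 4, 3, 1, 3, 5, 3])], [], 0),
  (1, 0, [], 0, [], [], 2144),
  (0, 6, [10, 8, 6, 12, 10, 8, 6, 4, 2, 6], 14, [(1606, [], [1]), (1790, [37], [1, 3, 1, 5, 3, 4, 3, 4, 2, 2]), (1361, [37], [1, 4, 3, 4, 5, 3, 4, 2, 4])], [], 0),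
  (1, 0, [], 0, [], [], 2146),
  (0, 6, [6, 10, 8, 6, 11, 8, 6, 4, 2, 6], 8, [(1606, [], [2, 4, 2, 5]), (653, [37], [5, 3, 4, 3, 1, 4, 2, 4, 3]), (465, [42, 43, 43, 43, 42, 43], [0, 2, 3, 4, 3, 5, 3, 4, 2, 3])], [], 0),
  (1, 0, [], 0, [], [], 2148),
  (0, 6, [8, 10, 8, 6, 11, 8, 6, 4, 2, 6], 15, [(1471, [], [1, 4, 3, 1, 3, 4, 2, 4, 5]), (1446, [33, 34, 45], [0, 2, 4, 2, 2, 5, 3, 1, 4]), (1034, [37], [3, 1, 4, 2, 3, 4, 3, 4, 2, 4, 3])], [], 0),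
  (1, 0, [], 0, [], [], 2150),
  (0, 6, [2, 4, 6, 8, 11, 8, 6, 4, 2, 6], 15, [(308, [37, 38], [4, 5, 3, 4, 3, 1, 5]), (220, [25, 25, 32, 25, 46, 26], [0, 1, 3, 4, 2, 5, 3, 4, 2, 2, 3, 5]), (519, [43, 42, 43, 43, 43, 43, 42, 43, 43], [1, 4, 2, 5, 0, 3, 4, 2, 4, 3])], [], 0),
  (1, 0, [], 0, [], [], 2152),
  (0, 6, [6, 4, 6, 8, 11, 8, 6, 4, 2, 6], 14, [(1121, [], [1, 3, 1, 3, 4, 5]), (1867, [37, 38, 37], [2, 2, 4, 5, 3, 1, 3, 4, 5]), (1063, [37], [4, 2, 2, 3, 0, 4, 3, 5, 3, 1])], [], 0),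
  (1, 0, [], 0, [], [], 2154),
  (0, 6, [4, 6, 8, 10, 8, 6, 4, 2, 6, 11], 8, [(1672, [], [4, 2, 5]), (1473, [38, 37], [0, 2, 3, 4, 2, 3, 1, 4, 3, 1]), (1464, [44, 44], [3, 4, 5, 3, 1, 3, 4])], [], 0),
  (1, 0, [], 0, [], [], 2156),
  (0, 6, [4, 6, 8, 12, 11, 8, 6, 4, 2, 6], 8, [(1265, [37], [5, 3, 0, 4, 2, 3, 1, 5, 3]), (654, [], [0, 3, 4, 2, 3, 4, 2, 3, 1, 4]), (1833, [38, 37], [0, 1, 4, 3, 4, 2, 4, 5, 3, 1])], [], 0),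
  (1, 0, [], 0, [], [], 2158),
  (0, 6, [6, 8, 6, 10, 8, 6, 4, 2, 6, 11], 16, [(1640, [37, 38, 37], [0, 3, 0, 1, 4, 2]), (982, [38, 37], [2, 3, 1, 4, 2, 3, 4, 2, 5, 3, 4]), (425, [38], [1, 2, 3, 4, 2, 5, 3, 4, 3, 5])], [], 0),
  (1, 0, [], 0, [], [], 2160),
  (0, 6, [8, 6, 11, 8, 11, 8, 6, 4, 2, 6], 8, [(1544, [], [2, 2, 4, 2, 5]), (743, [43, 42, 43, 43, 43, 42, 43, 42], [1, 2, 3, 1, 4, 5, 3, 4, 2, 3]), (1458, [33, 45, 34, 45], [0, 4, 3, 1, 3, 5, 3, 1, 4, 3])], [], 0),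
  (1, 0, [], 0, [], [], 2162),
  (0, 6, [6, 4, 6, 8, 10, 8, 6, 4, 2, 6], 15, [(1513, [], [0, 1, 3, 5, 3, 1, 4, 3, 1, 4, 5]), (1499, [], [0, 2, 2, 3, 0, 4, 2, 4, 3]), (718, [33, 45, 45], [0, 1, 4, 2, 4, 3, 4, 2, 5, 3])], [], 0),
  (1, 0, [], 0, [], [], 2164),
  (0, 6, [4, 6, 8, 11, 8, 6, 4, 2, 6, 10], 8, [(806, [], [4, 2, 3, 5, 3, 1, 4, 2]), (1749, [33, 44, 45], [2, 2, 3, 1, 4, 3, 4, 2, 3, 5]), (1929, [], [2, 3, 0, 1, 4, 5, 3, 4, 2, 2])], [], 0),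
  (1, 0, [], 0, [], [], 2166),
  (0, 6, [6, 8, 6, 11, 8, 6, 4, 2, 6, 10], 9, [(798, [37, 38, 37], [1, 2, 2, 4, 3, 0, 1, 4, 2, 5]), (891, [38, 37], [3, 1, 5, 3, 4, 2, 3, 1, 4, 3]), (876, [38, 37], [0, 1, 2, 4, 2, 3, 4, 2, 5, 3])], [], 0),
  (1, 0, [], 0, [], [], 2168),
  (0, 6, [2, 4, 6, 10, 8, 6, 4, 2, 6, 11], 9, [(330, [37, 38], [2, 4, 2, 2, 3, 0, 1, 5, 3, 4, 3]), (921, [42, 43, 43, 43, 43, 42, 43, 42], [0, 3, 4, 2, 3, 1, 5, 3, 4, 2, 2]), (897, [], [2, 4, 3, 1, 3, 1, 5, 3, 1, 4, 2])], [], 0),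
  (1, 0, [], 0, [], [], 2170),
  (0, 6, [6, 4, 6, 11, 8, 6, 4, 2, 6, 11], 33, [(1822, [], [2, 5, 3, 0, 4, 2, 3, 1, 3]), (2129, [37], [1, 2, 2, 4, 2, 3, 4, 3, 5, 3, 4]), (1099, [37], [4, 2, 5, 3, 1, 4])], [], 0),
  (1, 0, [], 0, [], [], 2172),
  (0, 6, [4, 8, 6, 10, 8, 6, 4, 2, 6, 11], 17, [(1602, [37, 38, 37], [2, 2, 3, 4, 2, 4, 5, 0]), (456, [], [3, 1, 3, 4, 2, 3, 5, 3, 1]), (195, [33, 45, 34, 33], [2, 2, 3, 1, 3, 1, 5, 3, 4])], [], 0),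
  (1, 0, [], 0, [], [], 2174),
  (0, 6, [4, 6, 13, 10, 8, 6, 4, 2, 6, 11], 16, [(1666, [], [2, 4, 2, 2]), (423, [37], [4, 2, 3, 5, 3, 1, 4]), (533, [37], [1, 5, 3, 4, 2, 2, 3, 1, 3, 4, 3])], [], 0),
  (1, 0, [], 0, [], [], 2176),
  (0, 6, [4, 6, 10, 8, 6, 4, 2, 6, 12, 11], 16, [(1501, [38, 37], [0, 4, 2, 2, 3, 1, 3, 4, 2, 3, 1]), (1384, [45, 33, 45], [2, 2, 5, 0, 3, 1, 4]), (1765, [], [1, 5, 0, 3, 1, 4, 3])], [], 0),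
  (1, 0, [], 0, [], [], 2178),
  (0, 6, [8, 10, 8, 6, 4, 2, 10, 8, 6, 11], 9, [(1608, [], [1, 2, 4, 2, 2, 5]), (1977, [39, 39, 40, 41, 39, 40, 41], [1, 4, 5, 3, 0, 1, 4, 2, 3, 5]), (1720, [], [1, 3, 1, 3, 4, 2, 3, 1, 3, 4, 3])], [], 0),
  (1, 0, [], 0, [], [], 2180),
  (0, 6, [8, 6, 13, 10, 8, 6, 4, 2, 6, 11], 15, [(1417, [], [2, 4, 2, 3, 0, 1, 4, 2]), (1117, [34, 44, 45, 45], [2, 3, 1, 3, 5]), (1877, [], [4, 3, 4, 5, 3, 1, 3, 1, 5])], [], 0),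
  (1, 0, [], 0, [], [], 2182),
  (0, 6, [6, 8, 6, 11, 8, 6, 4, 2, 6, 11], 14, [(1552, [37, 38, 37], [0, 2, 2, 3, 0, 4, 2, 4]), (375, [43, 43, 43, 42, 43, 43], [0, 1, 2, 3, 4, 2, 5, 3, 1, 4, 3]), (1145, [], [2, 2, 3, 1, 4, 3, 4, 5, 3, 1, 3])], [], 0),
  (1, 0, [], 0, [], [], 2184),
  (0, 6, [8, 11, 8, 6, 4, 2, 11, 8, 6, 11], 8, [(617, [38, 37], [1, 2, 3, 0, 4, 3, 5, 3, 4, 2, 2, 3]), (612, [39, 40, 39, 40, 41], [2, 5, 3, 0, 4, 2, 2]), (2168, [38, 37], [2, 3, 0, 4, 3, 5, 3, 4, 2])], [], 0),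
  (1, 0, [], 0, [], [], 2186),
  (0, 6, [8, 6, 11, 11, 8, 6, 4, 2, 6, 11], 22, [(1807, [], [2, 4, 2, 2, 5, 3, 4, 3, 1, 3]), (1818, [], [1, 3, 4, 2, 3, 5, 0, 3, 4, 2, 4])], [], 0),
  (1, 0, [], 0, [], [], 2188),
  (0, 6, [4, 6, 8, 11, 8, 6, 4, 2, 6, 11], 15, [(776, [], [1, 2, 3, 0, 3, 4, 2, 2]), (303, [39, 39, 40], [2, 3, 0, 1, 4, 3, 5, 3, 1, 4, 2]), (1563, [44, 45, 45], [0, 2, 2, 3, 4, 2, 4, 3, 4, 2, 4])], [], 0),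
  (1, 0, [], 0, [], [], 2190),
  (0, 6, [2, 4, 6, 11, 8, 6, 4, 2, 6, 10], 9, [(130, [37, 38], [2, 4, 5, 3, 1, 4, 2, 3, 1, 4, 2]), (1951, [38, 37], [3, 1, 4, 2, 5, 3, 4, 2, 4]), (2034, [37, 38, 37], [4, 2, 3, 1, 3, 4, 3, 1, 5])], [], 0),
  (1, 0, [], 0, [], [], 2192),
  (0, 6, [4, 8, 6, 10, 8, 6, 4, 2, 6, 10], 14, [(1556, [37, 38, 37], [0, 2, 2, 3, 0, 4, 2, 4]), (1676, [37], [1, 2, 4, 2, 3, 1, 4, 3, 4, 3]), (1656, [37, 38, 37], [3, 4, 3, 1, 5, 3, 4, 2, 2])], [], 0),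
  (1, 0, [], 0, [], [], 2194),
  (0, 6, [4, 6, 13, 10, 8, 6, 4, 2, 6, 10], 8, [(1587, [37], [0, 4, 2, 2, 3, 1, 3, 4]), (884, [], [0, 2, 3, 4, 2, 2, 5, 3, 4, 2, 3, 5]), (1949, [45, 33, 44, 45], [1, 3, 4, 2, 3, 4, 2, 4, 5, 3])], [], 0),
  (1, 0, [], 0, [], [], 2196),
  (0, 6, [4, 6, 12, 10, 8, 6, 4, 2, 6, 10], 22, [(1850, [], []), (1258, [43, 43, 43, 42, 43, 43, 43], [0, 4, 2, 2, 5, 3, 1, 3, 4, 5])], [], 0),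
  (1, 0, [], 0, [], [], 2198),
  (0, 6, [4, 6, 11, 8, 6, 4, 2, 6, 12, 10], 8, [(1594, [37, 38, 37], [2, 3, 4, 5, 0]), (1648, [37, 38], [0, 4, 3, 4, 5]), (554, [38], [1, 2, 2, 3, 1, 3, 4, 2, 3, 1])], [], 0),
  (1, 0, [], 0, [], [], 2200),
  (0, 6, [6, 8, 6, 10, 8, 6, 4, 2, 6, 10], 8, [(1604, [], [4, 2, 2, 5]), (2161, [37, 38], [1, 2, 2, 3, 1, 4, 3, 4]), (1640, [37, 38, 37], [2, 3, 1, 4, 2, 5, 3, 4])], [], 0),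
  (1, 0, [], 0, [], [], 2202),
  (0, 6, [8, 11, 8, 6, 4, 2, 11, 8, 6, 10], 9, [(786, [], [2, 2, 3, 5, 3, 1, 4]), (1417, [], [0, 3, 1, 4, 3, 1, 4, 5, 3, 4]), (734, [33, 45, 34, 33], [3, 1, 3, 1, 4, 2, 5, 3, 1, 3])], [], 0),
  (1, 0, [], 0, [], [], 2204),
  (0, 6, [8, 6, 12, 11, 8, 6, 4, 2, 6, 10], 14, [(1417, [], [2, 4, 2, 3, 0, 4]), (728, [45], [4, 2, 3, 1, 5, 3, 4, 2, 2]), (2097, [], [2, 5, 3, 0, 1, 4, 2, 3])], [], 0),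
  (1, 0, [], 0, [], [], 2206),
  (0, 6, [8, 6, 11, 11, 8, 6, 4, 2, 6, 10], 22, [(1856, [], [2]), (912, [37, 38], [2, 2, 3, 1, 4, 2, 3, 5, 3, 1, 4])], [], 0),
  (1, 0, [], 0, [], [], 2208),
  (0, 6, [0, 2, 4, 6, 4, 2, 10, 10, 8, 6], 8, [(324, [37, 38], [0, 2, 3, 5, 3, 1, 4, 3, 1]), (668, [43, 42, 43, 43, 43, 43, 42, 43, 43], [1, 2, 2, 3, 1, 4, 2, 3, 5, 3, 1]), (1587, [37], [2, 4, 2, 2, 3, 4, 2, 3, 4])], [], 0),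
  (1, 0, [], 0, [], [], 2210),
  (0, 6, [0, 2, 4, 6, 4, 2, 12, 10, 8, 6], 15, [(328, [37, 38], [4, 2, 3, 0, 4, 2, 3, 4, 2]), (460, [38], [2, 3, 5, 3, 1, 4, 3, 4, 2, 2, 5]), (1548, [38, 37], [3, 4, 3, 1, 3, 5, 0, 3, 4])], [], 0)]

def stepC14 : List (Nat × Nat × List Nat × Nat × List (Nat × List Nat × List Nat) × List (Nat × List Nat × List Nat) × Nat) := [(1, 0, [], 0, [], [], 2212),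
  (0, 6, [0, 2, 4, 6, 4, 2, 11, 11, 8, 6], 15, [(227, [37, 38], [2, 2, 3, 1]), (220, [25, 25, 26, 25, 46, 46, 25], [0, 1, 4, 3, 4, 2, 4, 3, 1]), (1837, [42, 43, 42, 43, 43, 43], [1, 3, 0, 4, 5, 3, 1, 4, 2, 3])], [], 0),
  (1, 0, [], 0, [], [], 2214),
  (0, 6, [6, 4, 11, 8, 6, 4, 2, 10, 8, 6], 8, [(1664, [], [1, 5]), (60, [28, 35, 35, 36, 36], [0, 2, 2, 5, 3, 1, 4, 3, 1]), (471, [26, 26, 46, 32], [3, 0, 1, 3, 4, 2, 2, 5, 3, 1, 3, 4])], [], 0),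
  (1, 0, [], 0, [], [], 2216),
  (0, 6, [4, 10, 8, 6, 4, 2, 13, 10, 8, 6], 22, [(1419, [], [1, 3, 4, 5, 0, 3, 4, 2, 2]), (1103, [44, 44], [1, 2, 4, 2, 3, 1, 3, 4])], [], 0),
  (1, 0, [], 0, [], [], 2218),
  (0, 6, [4, 8, 10, 8, 6, 4, 2, 11, 8, 6], 14, [(1501, [38], [1, 2, 5, 3, 4, 2, 3, 1, 5]), (250, [], [2, 4, 2, 2, 3, 4, 2, 4, 3, 4, 3]), (1085, [39, 40, 41, 39, 41, 41], [2, 2, 3, 4, 2, 3, 4])], [], 0),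
  (1, 0, [], 0, [], [], 2220),
  (0, 6, [4, 6, 10, 8, 6, 4, 2, 10, 8, 6], 9, [(1602, [], [2, 4, 2, 2, 5]), (2175, [38], [1, 2, 2, 5, 3, 1, 4, 3, 4, 5]), (2068, [37], [3, 1, 4, 3, 4, 2, 2, 5, 0, 3])], [], 0),
  (1, 0, [], 0, [], [], 2222),
  (0, 6, [8, 6, 10, 8, 6, 4, 2, 10, 8, 6], 9, [(1576, [37, 38, 37], [2, 3, 4, 2, 2, 5, 0]), (368, [37, 38], [1, 3, 1, 3, 5, 3, 4]), (1023, [33, 33, 45, 45], [2, 4, 2, 3, 0, 4, 2, 2, 3, 5])], [], 0),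
  (1, 0, [], 0, [], [], 2224),
  (0, 6, [8, 6, 11, 8, 6, 4, 2, 10, 8, 6], 9, [(1541, [], [0, 3, 5, 3, 1, 3, 4, 2, 4, 5]), (2007, [], [3, 0, 1, 3, 4, 2, 2, 3, 5, 3]), (1042, [37, 38, 37], [0, 2, 4, 3, 1, 3, 1, 4])], [], 0),
  (1, 0, [], 0, [], [], 2226),
  (0, 6, [6, 10, 8, 6, 4, 2, 13, 10, 8, 6], 9, [(1574, [37, 38, 37], [3, 1, 4, 2, 4, 5, 0]), (1848, [37], [0, 1, 2, 2, 3, 1, 3, 4, 3, 1, 3]), (1929, [38], [0, 4, 3, 4, 2, 4, 3, 1, 5])], [], 0),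
  (1, 0, [], 0, [], [], 2228),
  (0, 6, [4, 6, 10, 8, 6, 4, 2, 11, 8, 6], 33, [(1600, [37, 38, 37], [4, 3, 0, 4, 2, 2, 5, 3, 1, 4]), (436, [37, 38, 37], [0, 1, 2, 4, 2, 3, 4, 2, 3, 4, 5, 3]), (191, [42, 43, 42], [3, 1, 3, 4, 3, 4, 2, 4, 3, 1, 5])], [], 0),
  (1, 0, [], 0, [], [], 2230),
  (0, 6, [6, 12, 10, 8, 6, 4, 2, 11, 8, 6], 8, [(1610, [], [1, 4, 5]), (1072, [37, 38, 37], [1, 2, 2, 3, 0, 4, 2, 3, 4, 2, 2, 5]), (2188, [38], [3, 1, 4, 3, 4, 2, 5])], [], 0),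
  (1, 0, [], 0, [], [], 2232),
  (0, 6, [8, 6, 11, 8, 6, 4, 2, 11, 8, 6], 17, [(1471, [], [1, 4, 3, 1, 3, 4, 2]), (740, [33, 33], [3, 1, 5, 0, 3, 4, 3, 5]), (939, [37, 38], [0, 1, 3, 4, 2, 2, 5, 3, 4])], [], 0),
  (1, 0, [], 0, [], [], 2234),
  (0, 6, [6, 12, 11, 8, 6, 4, 2, 11, 8, 6], 9, [(786, [], [3, 5, 3, 4]), (1654, [37, 38, 37], [3, 0, 4, 2, 3, 4, 3]), (2015, [38, 37], [2, 2, 3, 0, 1, 3, 5, 3, 1, 4])], [], 0),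
  (1, 0, [], 0, [], [], 2236),
  (0, 6, [6, 10, 8, 6, 4, 2, 13, 11, 8, 6], 15, [(1572, [37, 38, 37], [0, 2, 3, 0, 4, 2]), (1559, [], [2, 2, 4, 3, 1, 4, 2, 3, 4]), (1835, [37, 38], [1, 5, 0, 3])], [], 0),
  (1, 0, [], 0, [], [], 2238),
  (0, 6, [6, 11, 8, 6, 4, 2, 13, 11, 8, 6], 22, [(1960, [], [2, 2]), (1801, [37], [2, 3, 4, 3, 1, 4, 2, 3, 5])], [], 0),
  (1, 0, [], 0, [], [], 2240),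
  (0, 6, [6, 11, 8, 6, 4, 2, 12, 11, 8, 6], 17, [(1705, [37, 38, 37], [5, 3, 1, 3, 4, 3, 4, 2, 5]), (1433, [], [0, 1, 2, 3, 1, 3, 4, 2, 2, 5, 3]), (1313, [45], [4, 2, 2, 3, 5, 0, 3, 4, 2, 3])], [], 0),
  (1, 0, [], 0, [], [], 2242),
  (0, 6, [4, 6, 4, 2, 10, 8, 12, 11, 8, 6], 14, [(1602, [37, 38, 37], [0, 3, 0, 4, 2]), (1863, [37], [2, 3, 4, 2, 5, 3, 4, 2, 3, 1, 5]), (812, [], [1, 3, 4, 3, 1, 4, 2, 4, 3, 1])], [], 0),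
  (1, 0, [], 0, [], [], 2244),
  (0, 6, [6, 10, 8, 6, 4, 2, 10, 8, 6, 10], 9, [(1544, [], [1, 4, 5]), (666, [42, 43, 43, 42, 43, 42], [0, 1, 3, 1, 4, 3, 4, 2, 2, 3, 4, 2]), (1634, [37, 38], [4, 5, 3, 1, 4, 2, 4, 3])], [], 0),
  (1, 0, [], 0, [], [], 2246),
  (0, 6, [11, 8, 6, 4, 2, 11, 8, 11, 8, 6], 22, [(1926, [38, 37], [0, 2, 2, 4, 5, 3, 1, 4, 2]), (1045, [37], [2, 5, 0, 3, 4, 2, 2, 3, 4, 3])], [], 0),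
  (1, 0, [], 0, [], [], 2248),
  (0, 6, [6, 4, 6, 4, 2, 8, 13, 10, 8, 6], 8, [(1588, [], [4, 2, 2, 5]), (2098, [38, 37], [1, 2, 2, 3, 4, 2, 3, 1, 5, 0]), (2076, [37, 38], [0, 2, 3, 4, 2, 2, 3, 1, 4, 3, 4])], [], 0),
  (1, 0, [], 0, [], [], 2250),
  (0, 6, [4, 6, 4, 2, 10, 8, 13, 10, 8, 6], 22, [(1964, [], [2, 2]), (1729, [38], [5, 3, 1, 4, 3, 4, 2, 3, 4])], [], 0),
  (1, 0, [], 0, [], [], 2252),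
  (0, 6, [6, 8, 6, 4, 2, 10, 8, 10, 8, 6], 22, [(1065, [38, 37], [0, 3, 4, 3, 1, 3, 5, 3, 4, 2, 2]), (1058, [], [3, 0, 4, 5, 3, 4, 2, 2])], [], 0),
  (1, 0, [], 0, [], [], 2254),
  (0, 6, [11, 8, 6, 4, 2, 10, 8, 10, 8, 6], 9, [(1574, [37, 38, 37], [3, 4, 2, 2, 5, 0]), (591, [38, 37], [4, 2, 3, 4, 3, 4, 2, 2, 5, 3]), (1047, [], [3, 1, 4, 2, 5, 3, 1, 3, 4, 3, 5])], [], 0),
  (1, 0, [], 0, [], [], 2256),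
  (0, 6, [10, 8, 6, 4, 2, 10, 8, 10, 8, 6], 8, [(784, [], [2, 2, 4, 2, 5, 0, 5]), (203, [42, 43, 43, 42, 43, 43], [2, 2, 3, 1, 3, 5, 0, 3, 1, 4, 3]), (437, [42, 43, 43, 43, 42, 43, 43, 42], [0, 1, 2, 2, 3, 1, 5, 3, 4, 3])], [], 0),
  (1, 0, [], 0, [], [], 2258),
  (0, 6, [6, 10, 8, 6, 4, 2, 11, 8, 6, 11], 8, [(1544, [], [2, 4, 2, 2, 5]), (1254, [43, 42], [2, 3, 1, 4, 2, 5, 0, 3, 1, 4]), (637, [37, 38, 37], [2, 4, 2, 3, 4, 2, 4, 3, 5, 0, 3])], [], 0),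
  (1, 0, [], 0, [], [], 2260),
  (0, 6, [6, 11, 8, 6, 4, 2, 11, 8, 6, 11], 15, [(1610, [], [1, 2, 4, 2]), (976, [38, 37], [3, 1, 3, 1, 4, 2, 3, 1, 3, 4, 5]), (1273, [44, 34], [2, 2, 5, 3, 4, 2, 3, 1])], [], 0),
  (1, 0, [], 0, [], [], 2262),
  (0, 6, [4, 6, 4, 2, 8, 10, 8, 10, 8, 6], 22, [(2252, [], [2]), (1964, [], [1, 3, 1, 4, 2, 4, 3, 5, 0, 3])], [], 0),
  (1, 0, [], 0, [], [], 2264),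
  (0, 6, [2, 4, 6, 4, 2, 13, 11, 8, 6, 10], 15, [(338, [37, 38], [4, 5, 3, 1, 4, 2, 4, 3, 4, 5]), (91, [39, 39, 41, 39, 40, 41], [0, 3, 1, 5, 3, 1, 4, 3, 4, 2, 5, 3]), (1344, [27, 36, 29], [0, 1, 4, 2, 3, 0, 4, 2, 3, 4])], [], 0),
  (1, 0, [], 0, [], [], 2266),
  (0, 6, [4, 10, 8, 6, 4, 2, 11, 8, 6, 10], 8, [(1666, [37, 38, 37], [2, 3, 4, 5, 0]), (1872, [38, 37], [1, 5, 3, 1, 4, 3]), (1045, [37], [0, 3, 0, 4, 2, 4])], [], 0),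
  (1, 0, [], 0, [], [], 2268),
  (0, 6, [8, 11, 8, 6, 4, 2, 10, 8, 6, 10], 9, [(617, [38, 37], [1, 3, 4, 3, 1, 5, 3, 4, 3]), (618, [39, 40, 39, 41, 41], [2, 3, 1, 4, 3, 5, 0, 3, 1, 4, 2]), (1536, [38], [2, 2, 5, 0, 3, 1, 4, 3, 4, 5, 3])], [], 0),
  (1, 0, [], 0, [], [], 2270),
  (0, 6, [12, 11, 8, 6, 4, 2, 10, 8, 6, 10], 14, [(1471, [], [1, 4, 2, 3, 1, 3, 4, 2, 5]), (1382, [45, 45], [0, 1, 3, 4, 2, 2, 3, 4, 3, 4, 2]), (2086, [37, 38], [0, 1, 4, 3, 4, 2, 2, 3, 5])], [], 0),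
  (1, 0, [], 0, [], [], 2272),
  (0, 6, [10, 8, 6, 4, 2, 10, 10, 8, 6, 10], 8, [(778, [], [2, 2, 3, 5, 3, 4]), (1368, [28, 30, 36], [3, 0, 4, 3, 1, 5]), (2241, [37], [1, 2, 2, 5, 0, 3, 4, 2, 3, 4, 5])], [], 0),
  (1, 0, [], 0, [], [], 2274),
  (0, 6, [13, 11, 8, 6, 4, 2, 11, 8, 6, 10], 14, [(1705, [37, 38, 37], [5, 3, 1, 3, 4, 2, 3, 4, 2]), (790, [38, 37], [1, 5, 3, 4, 2, 4, 3, 4, 2, 3, 1]), (2008, [37, 38], [1, 3, 0, 4, 2, 4, 3, 1, 3, 5])], [], 0),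
  (1, 0, [], 0, [], [], 2276),
  (0, 6, [13, 10, 8, 6, 4, 2, 11, 8, 6, 10], 9, [(798, [37, 38, 37], [1, 2, 2, 4, 3, 0, 4, 5]), (2237, [37, 38], [2, 2, 4, 3, 1, 3, 4, 5, 3, 1]), (2017, [37], [2, 4, 2, 3, 4, 2, 5, 0, 3])], [], 0),
  (1, 0, [], 0, [], [], 2278),
  (0, 6, [11, 8, 6, 4, 2, 13, 11, 8, 6, 10], 8, [(1063, [37], [4, 2, 4, 3, 0, 5, 3, 1]), (1770, [37], [0, 2, 4, 2, 2, 3, 1, 4, 3, 1, 5]), (1225, [38], [1, 2, 4, 2, 3, 5, 3, 4, 2, 3, 1])], [], 0),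
  (1, 0, [], 0, [], [], 2280),
  (0, 6, [10, 8, 6, 4, 2, 10, 8, 6, 13, 10], 8, [(1562, [], [2, 2, 4, 5]), (467, [33, 33, 44], [0, 1, 3, 1, 3, 4, 5, 3, 1, 4]), (1970, [37], [0, 2, 3, 4, 5, 3, 1, 4, 3, 1])], [], 0),
  (1, 0, [], 0, [], [], 2282),
  (0, 6, [10, 8, 6, 4, 2, 10, 8, 6, 12, 10], 33, [(784, [], [0, 1, 2, 4, 2, 2, 3, 4, 2, 3, 1, 3]), (157, [43, 43, 42, 43, 43, 43, 43, 42], [1, 2, 2, 4, 2, 3, 1, 3, 5, 3, 4]), (577, [32, 25, 46, 46], [0, 1, 3, 1, 4, 2, 5, 3])], [], 0),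
  (1, 0, [], 0, [], [], 2284),
  (0, 6, [6, 4, 6, 4, 2, 8, 11, 8, 6, 10], 8, [(1227, [], [1, 2, 2, 4, 5, 0, 3, 4, 3, 1]), (2065, [39, 39, 41, 39, 40, 41, 41], [0, 1, 4, 3, 1, 5, 3, 4, 2, 3]), (1911, [37], [2, 5, 3, 4, 3, 1, 4, 2, 3, 5])], [], 0),
  (1, 0, [], 0, [], [], 2286),
  (0, 6, [2, 4, 6, 4, 2, 12, 10, 8, 6, 11], 22, [(1950, [38], [4, 3, 1, 4, 2, 4, 3, 1, 4]), (1996, [37, 38], [0, 1, 3, 1, 3, 4, 3, 5, 3, 4, 2])], [], 0),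
  (1, 0, [], 0, [], [], 2288),
  (0, 6, [4, 11, 8, 6, 4, 2, 11, 8, 6, 11], 17, [(1554, [], [1, 2, 4, 2, 2, 5]), (957, [39, 39], [2, 4, 5, 3, 1, 4, 2]), (1030, [37], [4, 2, 3, 1, 3, 4, 3, 5, 3, 1])], [], 0),
  (1, 0, [], 0, [], [], 2290),
  (0, 6, [4, 10, 8, 6, 4, 2, 11, 8, 6, 11], 33, [(1594, [37, 38, 37], [2, 2, 3, 0, 5, 3, 4, 2, 3, 1, 3]), (330, [38], [5, 0, 3, 1, 3, 4, 2, 3, 5]), (1258, [43, 43, 43], [4, 3, 0, 1, 4, 2, 4, 5])], [], 0),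
  (1, 0, [], 0, [], [], 2292),
  (0, 6, [13, 11, 8, 6, 4, 2, 10, 8, 6, 11], 33, [(1471, [], [1, 2, 4, 2, 3, 0, 1, 4, 2]), (292, [45, 44], [3, 1, 4, 3, 1, 4, 2, 4, 3]), (1352, [36, 35, 28, 36, 35], [2, 3, 4, 2, 3, 4, 2, 4, 5, 3, 4])], [], 0),
  (1, 0, [], 0, [], [], 2294),
  (0, 6, [12, 11, 8, 6, 4, 2, 10, 8, 6, 11], 9, [(1572, [37, 38, 37], [3, 4, 2, 4, 5, 0]), (2017, [], [0, 4, 2, 4, 3, 5, 3, 1, 4, 3]), (566, [], [1, 3, 4, 5, 3, 1, 3, 1, 5, 3])], [], 0),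
  (1, 0, [], 0, [], [], 2296),
  (0, 6, [10, 8, 6, 4, 2, 13, 10, 8, 6, 11], 16, [(1606, [], [1, 4, 2, 4]), (1303, [38], [0, 2, 4, 3, 1, 4, 3, 5, 3, 1]), (144, [42, 43, 43, 43, 43, 42, 43, 43, 43], [0, 4, 2, 3, 1, 4, 5, 3, 4, 2, 2])], [], 0),
  (1, 0, [], 0, [], [], 2298),
  (0, 6, [11, 8, 6, 4, 2, 12, 10, 8, 6, 11], 14, [(784, [], [1, 4, 2, 4, 5, 0]), (571, [43, 42, 43, 43, 42], [4, 3, 1, 4, 2, 3, 1, 4]), (2196, [], [1, 3, 4, 2, 2, 3, 4, 3, 1, 4])], [], 0),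
  (1, 0, [], 0, [], [], 2300),
  (0, 6, [13, 11, 8, 6, 4, 2, 11, 8, 6, 11], 14, [(1562, [], [2, 2, 4]), (1111, [33, 34, 45], [5, 3, 1, 4, 3, 4, 2, 5, 3, 1]), (906, [], [1, 2, 4, 3, 5, 3, 4, 3, 5])], [], 0),
  (1, 0, [], 0, [], [], 2302),
  (0, 6, [12, 11, 8, 6, 4, 2, 11, 8, 6, 11], 15, [(1612, [], [2, 2, 4]), (2247, [37, 38], [4, 2, 3, 4, 2, 3, 1, 5]), (1704, [], [0, 1, 2, 4, 2, 2, 3, 1, 4])], [], 0),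
  (1, 0, [], 0, [], [], 2304),
  (0, 6, [8, 10, 8, 6, 4, 2, 11, 8, 6, 11], 9, [(1129, [37, 38, 37], [1, 3, 1, 4, 3, 5, 3, 4, 2, 3, 4]), (2043, [38], [0, 1, 2, 2, 4, 3, 4, 2, 4, 5, 3]), (1359, [], [2, 3, 1, 3, 4, 2, 2, 5, 0])], [], 0),
  (1, 0, [], 0, [], [], 2306),
  (0, 6, [10, 10, 8, 6, 4, 2, 11, 8, 6, 11], 8, [(1558, [], [1, 2, 4, 2, 2, 5]), (930, [38, 37], [0, 2, 2, 3, 4, 2, 3, 1, 5, 3, 1, 4]), (2256, [38], [1, 4, 2, 4, 3, 4, 5, 3, 1])], [], 0),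
  (1, 0, [], 0, [], [], 2308),
  (0, 6, [13, 10, 8, 6, 4, 2, 11, 8, 6, 11], 16, [(1558, [], [4, 2, 2]), (2016, [37, 38, 37], [0, 2, 4, 2, 3, 1, 3, 1, 5, 3, 4]), (1891, [38, 37], [4, 2, 3, 4, 2, 4, 3, 4, 2])], [], 0),
  (1, 0, [], 0, [], [], 2310),
  (0, 6, [10, 8, 6, 4, 2, 12, 11, 8, 6, 11], 22, [(1695, [38], [2, 2, 4, 2, 5, 0, 3, 1, 3]), (792, [], [4, 2, 2, 5, 3, 4, 3])], [], 0),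
  (1, 0, [], 0, [], [], 2312),
  (0, 6, [11, 8, 6, 4, 2, 11, 11, 8, 6, 11], 8, [(1483, [], [1, 4, 3, 1, 4, 2, 3, 5, 3, 1]), (1470, [45, 45, 33], [0, 4, 3, 1, 3, 1, 5, 3, 4, 2]), (1417, [], [3, 4, 2, 3, 1, 3, 1, 4, 2])], [], 0),
  (1, 0, [], 0, [], [], 2314),
  (0, 6, [10, 8, 6, 4, 2, 10, 8, 6, 13, 11], 8, [(1705, [37, 38, 37], [5, 3, 1, 3, 4, 2, 3, 4, 2, 5]), (1790, [38], [1, 2, 2, 3, 1, 4, 2, 5, 3, 1, 3, 4]), (1982, [], [0, 2, 3, 1, 4, 3, 5, 3, 4, 2])], [], 0),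
  (1, 0, [], 0, [], [], 2316),
  (0, 6, [11, 8, 6, 4, 2, 11, 8, 6, 12, 11], 15, [(1560, [], [4]), (1600, [38], [1, 3, 5, 3, 4, 2, 3, 1, 4]), (1060, [37], [0, 1, 2, 4, 2, 3, 1, 4, 3, 4, 2, 5])], [], 0),
  (1, 0, [], 0, [], [], 2318),
  (0, 6, [10, 8, 6, 4, 2, 11, 8, 6, 12, 11], 8, [(1705, [37, 38, 37], [5, 3, 1, 3, 4, 2, 3, 1, 5]), (521, [37, 38], [3, 1, 4, 2, 5, 0, 3, 4, 2, 2, 3]), (551, [37, 38], [2, 2, 4, 3, 5, 3, 1, 4, 3, 5])], [], 0),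
  (1, 0, [], 0, [], [], 2320),
  (0, 6, [10, 8, 6, 4, 2, 6, 8, 10, 8, 6], 8, [(1367, [], [1, 2, 5, 0, 3, 1, 4, 3]), (1366, [29, 30, 35, 35], [1, 2, 4, 3, 4, 2, 3, 1]), (897, [], [2, 3, 1, 3, 5, 3, 1, 3, 4])], [], 0),
  (1, 0, [], 0, [], [], 2322),
  (0, 6, [4, 2, 0, 6, 12, 10, 8, 6, 4, 2, 6], 9, [(316, [], [3, 1, 5]), (1298, [43, 42, 43, 42], [2, 2, 3, 1, 3, 4, 5, 3, 1, 3, 4]), (2320, [], [3, 0, 1, 3, 4, 5, 3, 4, 3])], [], 0),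
  (1, 0, [], 0, [], [], 2324),
  (0, 6, [4, 2, 0, 6, 11, 11, 8, 6, 4, 2, 6], 8, [(320, [], [3, 1, 5]), (746, [33, 33], [2, 2, 4, 3, 1, 4, 3]), (1016, [38, 37], [4, 2, 4, 5, 3, 1, 3, 1, 5])], [], 0),
  (1, 0, [], 0, [], [], 2326),
  (0, 6, [2, 0, 6, 8, 10, 8, 6, 4, 2, 6, 11], 8, [(681, [], [2, 2, 4, 3, 4, 5, 3, 4, 3]), (1342, [27, 28, 30], [3, 1, 4, 3, 5, 0, 3, 1, 3]), (546, [38, 37], [0, 3, 1, 4, 3, 4, 2, 2, 5, 3, 1, 3])], [], 0),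
  (1, 0, [], 0, [], [], 2328),
  (0, 6, [4, 2, 0, 6, 8, 10, 8, 6, 4, 2, 6], 15, [(758, [], [0, 1, 4, 3, 1, 4, 2, 4]), (587, [38, 37], [0, 5, 3, 1, 4, 3, 1, 5, 3]), (1713, [39, 40, 39], [1, 2, 4, 3, 0, 1, 4, 2, 4, 3, 5])], [], 0),
  (1, 0, [], 0, [], [], 2330),
  (0, 6, [2, 0, 6, 11, 11, 8, 6, 4, 2, 6, 11], 15, [(759, [], [1, 4, 3, 1, 5, 3, 4, 2, 2]), (478, [], [0, 1, 2, 2, 3, 1, 3, 4, 3, 4, 2, 2]), (1460, [45, 33, 44, 45], [3, 4, 2, 3, 5, 0, 3])], [], 0),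
  (1, 0, [], 0, [], [], 2332),
  (0, 6, [2, 0, 6, 13, 11, 8, 6, 4, 2, 6, 11], 8, [(334, [], [1, 2, 4, 2, 2, 5]), (630, [], [0, 2, 5, 3, 4, 3, 1, 5, 3]), (569, [45, 33, 45, 34], [0, 1, 3, 1, 5, 3])], [], 0),
  (1, 0, [], 0, [], [], 2334),
  (0, 6, [2, 0, 6, 12, 10, 8, 6, 4, 2, 6, 10], 8, [(338, [], [4, 5]), (632, [40, 41, 39, 41, 41], [2, 2, 4, 3, 4, 2, 2, 3, 1, 3]), (1163, [25, 26, 26, 46, 32], [1, 4, 3, 1, 4, 5, 0, 3, 4, 2])], [], 0),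
  (1, 0, [], 0, [], [], 2336),
  (0, 6, [2, 0, 6, 12, 11, 8, 6, 4, 2, 6, 10], 9, [(340, [], [4, 5]), (688, [28, 29], [0, 1, 2, 2, 3, 4, 3, 1, 4, 2, 4, 3]), (1362, [27, 36, 36, 29], [0, 3, 0, 4, 2, 3, 4])], [], 0),
  (1, 0, [], 0, [], [], 2338),
  (0, 6, [2, 0, 6, 10, 8, 6, 4, 2, 6, 13, 10], 8, [(269, [], [0, 4, 2, 4, 5, 3, 1, 3]), (1516, [45, 33, 45], [3, 1, 3, 5, 3, 1, 4, 3, 1, 5]), (423, [], [2, 3, 1, 3, 4, 2, 3, 4, 3, 1, 5])], [], 0),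
  (1, 0, [], 0, [], [], 2340),
  (0, 6, [2, 0, 11, 11, 8, 6, 4, 2, 10, 8, 6], 8, [(259, [], [1, 4, 2, 4, 5, 3, 1, 3, 4]), (1504, [34, 33, 45, 45], [0, 2, 3, 4, 5, 3, 1, 3, 1, 4, 2]), (1532, [38], [1, 4, 3, 0, 4, 2, 2, 5, 3, 4, 2])], [], 0),
  (1, 0, [], 0, [], [], 2342),
  (0, 6, [2, 0, 11, 11, 8, 6, 4, 2, 11, 8, 6], 8, [(336, [], [1, 5]), (2313, [42, 43, 43, 43, 43, 42, 43, 43], [0, 1, 4, 3, 4, 2, 2, 5, 3]), (925, [38], [1, 2, 2, 4, 5, 3, 4, 2, 3, 4])], [], 0),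
  (1, 0, [], 0, [], [], 2344),
  (0, 6, [2, 0, 12, 10, 8, 6, 4, 2, 11, 8, 6], 15, [(129, [], [5, 3, 1, 4, 3, 1, 5, 3, 4, 3]), (205, [], [0, 3, 1, 5, 3, 4, 2, 3, 4, 3, 1, 5]), (1113, [43, 42, 43, 43, 43, 43, 42, 43], [0, 2, 2, 4, 3, 0, 1, 3, 4])], [], 0),
  (1, 0, [], 0, [], [], 2346),
  (0, 6, [2, 0, 6, 4, 6, 10, 8, 6, 4, 2, 6], 8, [(1568, [], [3, 1, 5]), (1054, [], [1, 2, 4, 2, 5, 3, 0, 1, 4, 2, 3]), (2230, [38], [2, 3, 0, 1, 3, 4, 2, 5, 3, 1, 3, 5])], [], 0),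
  (1, 0, [], 0, [], [], 2348),
  (0, 6, [0, 8, 6, 4, 6, 11, 8, 6, 4, 2, 6], 8, [(796, [], [0, 2, 2, 5]), (594, [], [0, 1, 2, 3, 1, 4, 3]), (1422, [33, 34, 45, 45], [1, 2, 2, 4, 2, 5, 3, 0, 1, 3, 5])], [], 0),
  (1, 0, [], 0, [], [], 2350),
  (0, 6, [0, 6, 4, 6, 11, 11, 8, 6, 4, 2, 6], 33, [(1938, [], [0, 3, 1, 3, 5, 3, 4, 2, 3, 4, 3, 1]), (1154, [37, 38], [1, 4, 2, 4, 3, 5, 3, 1, 3]), (1970, [37, 38, 37], [5, 3, 1, 3, 4, 2, 2, 3, 4, 2, 4])], [], 0),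
  (1, 0, [], 0, [], [], 2352),
  (0, 6, [0, 6, 4, 6, 12, 10, 8, 6, 4, 2, 6], 22, [(1257, [], [4, 2, 3, 1, 3, 4, 2, 3, 4, 2, 2]), (1252, [], [0, 2, 3, 4, 2, 3, 5, 3, 1, 4, 3, 4])], [], 0),
  (1, 0, [], 0, [], [], 2354),
  (0, 6, [0, 4, 8, 6, 12, 10, 8, 6, 4, 2, 6], 14, [(1546, [37, 38, 37], [0, 3, 0, 1]), (2246, [38, 37], [5, 3, 4, 2, 2, 3, 1, 4, 5]), (2332, [], [0, 2, 2, 3, 5, 3, 1, 3, 4, 2, 3, 4])], [], 0),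
  (1, 0, [], 0, [], [], 2356),
  (0, 6, [0, 6, 4, 8, 6, 11, 8, 6, 4, 2, 6], 8, [(1632, [], [1, 5]), (285, [42, 43, 42, 43, 43, 43, 43, 42, 43, 43], [0, 1, 3, 4, 2, 4, 3, 4, 3, 1]), (2143, [34, 44], [2, 4, 2, 5, 3, 1, 3, 1, 4, 3])], [], 0),
  (1, 0, [], 0, [], [], 2358),
  (0, 6, [0, 4, 8, 6, 13, 11, 8, 6, 4, 2, 6], 9, [(1558, [37, 38, 37], [2, 2, 3, 1, 5, 0]), (1303, [37, 38], [4, 5, 3, 0, 4, 2, 3]), (439, [43, 42, 43], [2, 2, 4, 3, 0, 4, 5, 3, 1, 4])], [], 0),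
  (1, 0, [], 0, [], [], 2360),
  (0, 6, [0, 4, 8, 6, 12, 11, 8, 6, 4, 2, 6], 8, [(1560, [37, 38, 37], [3, 1, 5, 0]), (1796, [37], [1, 3, 0, 4, 2, 5, 3, 1, 3]), (251, [39, 41, 41, 39, 41, 39], [4, 2, 2, 3, 4, 3, 1, 4, 5])], [], 0),
  (1, 0, [], 0, [], [], 2362),
  (0, 6, [0, 6, 11, 8, 6, 10, 8, 6, 4, 2, 6], 8, [(1536, [37, 38, 37], [2, 2, 3, 1, 4, 2, 5, 0]), (1333, [], [2, 4, 2, 3, 0, 1, 3, 5, 3, 1, 4]), (1324, [25, 32, 46, 46, 32], [0, 2, 4, 3, 5, 3, 1, 3])], [], 0),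
  (1, 0, [], 0, [], [], 2364),
  (0, 6, [0, 6, 8, 6, 13, 10, 8, 6, 4, 2, 6], 9, [(1584, [], [1, 4, 2, 5]), (1017, [37, 38, 37], [1, 2, 2, 5, 3, 0, 4, 2, 4, 3, 1, 4]), (1904, [37], [0, 2, 5, 3, 4, 2, 4, 3, 4, 2, 4])], [], 0),
  (1, 0, [], 0, [], [], 2366),
  (0, 6, [0, 6, 8, 6, 13, 11, 8, 6, 4, 2, 6], 15, [(619, [38], [2, 4, 5, 3, 4, 3, 1]), (973, [39, 40, 39, 41], [1, 2, 5, 3, 4, 3, 4, 2, 2]), (2195, [38], [2, 2, 4, 2, 5, 3, 0, 1, 3, 4, 2])], [], 0),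
  (1, 0, [], 0, [], [], 2368),
  (0, 6, [0, 6, 8, 6, 12, 11, 8, 6, 4, 2, 6], 16, [(1580, [], [1, 2, 4, 2]), (2211, [37, 38], [1, 4, 2, 4, 3, 5, 3, 4, 2]), (996, [], [1, 3, 5, 3, 4, 2, 3, 1, 3, 1, 4, 5])], [], 0),
  (1, 0, [], 0, [], [], 2370),
  (0, 6, [0, 8, 10, 8, 6, 11, 8, 6, 4, 2, 6], 15, [(1393, [37, 38, 37], [1, 3, 0, 1, 4, 3, 5, 3, 4, 2]), (1512, [33, 45, 44], [0, 1, 3, 1, 4, 5, 3, 1, 3, 4, 2]), (1832, [], [2, 3, 1, 4, 2, 3, 4, 2, 2, 3])], [], 0)]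

def stepC15 : List (Nat × Nat × List Nat × Nat × List (Nat × List Nat × List Nat) × List (Nat × List Nat × List Nat) × Nat) := [(1, 0, [], 0, [], [], 2372),
  (0, 6, [0, 12, 10, 8, 6, 11, 8, 6, 4, 2, 6], 15, [(1582, [], [1]), (1935, [38], [3, 5, 3, 4, 2, 4, 3, 4, 2, 2, 3]), (2154, [], [4, 5, 3, 4])], [], 0),
  (1, 0, [], 0, [], [], 2374),
  (0, 6, [0, 6, 4, 6, 8, 11, 8, 6, 4, 2, 6], 22, [(1783, [], [3, 1, 4, 2, 4, 3, 1, 5]), (1081, [37, 38], [2, 2, 3, 5, 3, 1, 3, 4, 2, 3, 4])], [], 0),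
  (1, 0, [], 0, [], [], 2376),
  (0, 6, [0, 4, 6, 8, 10, 8, 6, 4, 2, 6, 11], 14, [(1417, [37, 38, 37], [2, 3, 0, 4, 3, 1]), (718, [33], [2, 3, 1, 4, 3, 4, 2, 4, 5, 3, 4]), (429, [38], [2, 4, 2, 2, 5, 3, 1, 3, 4, 2, 4])], [], 0),
  (1, 0, [], 0, [], [], 2378),
  (0, 6, [0, 4, 6, 8, 13, 11, 8, 6, 4, 2, 6], 9, [(1642, [], [4, 2, 5]), (486, [38], [3, 0, 1, 4, 2, 4, 3, 1, 4, 2]), (1178, [37, 38, 37], [1, 2, 5, 0, 3, 4, 2, 2, 3, 1, 3])], [], 0),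
  (1, 0, [], 0, [], [], 2380),
  (0, 6, [0, 4, 6, 8, 12, 11, 8, 6, 4, 2, 6], 17, [(784, [37, 38, 37], [1, 4, 3, 0, 5, 3, 4, 2]), (435, [43, 43], [1, 2, 4, 2, 3, 1, 4, 3, 5, 3]), (1820, [37, 38, 37], [0, 4, 3, 1, 4, 3, 5, 3, 1, 4, 2])], [], 0),
  (1, 0, [], 0, [], [], 2382),
  (0, 6, [0, 6, 8, 6, 10, 8, 6, 4, 2, 6, 11], 14, [(1383, [38, 37], [2, 3, 0, 1, 4, 3, 5, 3, 4, 3]), (256, [33, 45, 34, 45], [2, 2, 3, 1, 5, 0, 3, 1, 4, 2]), (1418, [33, 45, 45], [2, 5, 3, 4, 3, 1])], [], 0),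
  (1, 0, [], 0, [], [], 2384),
  (0, 6, [0, 6, 10, 8, 13, 11, 8, 6, 4, 2, 6], 17, [(1393, [37, 38, 37], [1, 3, 0, 1, 4, 2, 5, 3, 4, 2, 2]), (160, [45, 33, 44], [1, 4, 2, 5, 3, 4, 2, 3, 1]), (636, [42, 43, 43, 42, 43], [1, 4, 5, 3, 4, 3])], [], 0),
  (1, 0, [], 0, [], [], 2386),
  (0, 6, [0, 6, 4, 6, 8, 10, 8, 6, 4, 2, 6], 8, [(1758, [], [5]), (751, [38, 37], [0, 2, 2, 3, 1, 4, 2, 3, 1, 5, 3]), (722, [33, 33, 45, 45], [3, 1, 5, 3, 4, 2, 2, 3, 1, 3])], [], 0),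
  (1, 0, [], 0, [], [], 2388),
  (0, 6, [0, 4, 6, 8, 13, 10, 8, 6, 4, 2, 6], 8, [(1063, [37, 38], [2, 4, 3, 1, 3, 5, 3, 4, 3, 5]), (2152, [], [0, 4, 3, 4, 2, 2, 3, 4, 2, 3, 4]), (1769, [37, 38], [4, 3, 1, 4, 2, 5, 3, 1, 3])], [], 0),
  (1, 0, [], 0, [], [], 2390),
  (0, 6, [0, 8, 6, 10, 8, 10, 8, 6, 4, 2, 6], 22, [(1689, [38], [4, 5, 3, 1, 4, 3, 4, 2, 2, 5]), (852, [], [0, 1, 2, 2, 3, 1, 4, 2, 3, 4, 2, 5])], [], 0),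
  (1, 0, [], 0, [], [], 2392),
  (0, 6, [0, 6, 12, 10, 8, 10, 8, 6, 4, 2, 6], 17, [(1578, [37, 38, 37], [3, 1, 4, 2, 5, 0]), (1212, [41, 41, 39, 41], [2, 2, 3, 4, 3, 5, 0, 3, 1, 3, 5]), (1769, [38], [0, 1, 4, 2, 2, 3, 1, 3, 4, 3])], [], 0),
  (1, 0, [], 0, [], [], 2394),
  (0, 6, [0, 6, 8, 6, 11, 8, 6, 4, 2, 6, 10], 15, [(1383, [38, 37], [4, 2, 4, 3, 1, 3, 5, 0]), (847, [33, 34, 45, 45], [1, 4, 2, 4, 5, 3, 0, 1, 4, 2]), (1479, [37], [1, 2, 2, 3, 0, 4, 2, 5, 3, 4])], [], 0),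
  (1, 0, [], 0, [], [], 2396),
  (0, 6, [0, 4, 8, 6, 10, 8, 6, 4, 2, 6, 11], 8, [(1675, [], [4, 2, 2, 3, 4, 2, 5, 3, 4]), (1437, [37, 38, 37], [0, 4, 2, 4, 3, 1, 4, 3, 4, 2, 5]), (183, [44, 44], [1, 4, 2, 2, 3, 4, 3, 1, 3, 4])], [], 0),
  (1, 0, [], 0, [], [], 2398),
  (0, 6, [0, 4, 6, 10, 10, 8, 6, 4, 2, 6, 11], 9, [(1606, [37, 38, 37], [2, 3, 4, 2, 4, 5, 0]), (2260, [38, 37], [2, 4, 5, 3, 4, 2, 4, 3, 4, 3, 1]), (285, [42, 43, 43, 42, 43, 43, 42], [2, 2, 3, 4, 3, 5, 3, 4, 2, 3, 5])], [], 0),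
  (1, 0, [], 0, [], [], 2400),
  (0, 6, [0, 4, 6, 13, 10, 8, 6, 4, 2, 6, 11], 15, [(1417, [37, 38, 37], [0, 2, 4, 3, 4, 2, 2, 3, 4]), (1117, [34, 44, 45, 45], [2, 4, 5, 3, 4]), (918, [37, 38], [0, 2, 5, 3, 1, 4])], [], 0),
  (1, 0, [], 0, [], [], 2402),
  (0, 6, [0, 4, 8, 6, 11, 8, 6, 4, 2, 6, 11], 8, [(778, [37, 38, 37], [0, 1, 4, 2, 2]), (1344, [27, 28, 30], [0, 3, 1, 3, 4, 2, 2, 5, 3, 4]), (1920, [37], [0, 2, 3, 4, 3, 1, 3])], [], 0),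
  (1, 0, [], 0, [], [], 2404),
  (0, 6, [0, 4, 6, 11, 11, 8, 6, 4, 2, 6, 11], 8, [(2291, [38], [0, 1, 2, 2, 3, 4, 2]), (848, [], [0, 4, 2, 4, 3, 1, 3, 5]), (1325, [37], [0, 2, 4, 5, 3, 1, 3, 4, 2])], [], 0),
  (1, 0, [], 0, [], [], 2406),
  (0, 6, [0, 4, 6, 12, 11, 8, 6, 4, 2, 6, 11], 17, [(1483, [37, 38, 37], [3, 4, 2, 5, 3, 4, 2, 3, 1, 5]), (746, [33, 33, 45], [3, 4, 2, 2, 3, 1, 3, 1, 5]), (1539, [37], [3, 1, 3, 1, 4, 2, 5, 3, 1, 3, 4])], [], 0),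
  (1, 0, [], 0, [], [], 2408),
  (0, 6, [0, 4, 6, 10, 8, 6, 4, 2, 6, 12, 11], 17, [(2385, [37, 38], [1, 4, 2, 4, 5, 0, 3, 1, 4, 2]), (1180, [37, 38], [5, 3, 4, 3, 5]), (299, [43, 43, 42], [2, 3, 0, 4, 2, 5, 3, 4, 3])], [], 0),
  (1, 0, [], 0, [], [], 2410),
  (0, 6, [0, 11, 8, 6, 10, 8, 6, 4, 2, 6, 11], 25, [(2004, [], []), (1783, [37, 38, 37], [0, 4, 2, 3, 1, 3, 4, 2, 4, 5, 3, 1]), (1780, [], [0, 3, 4, 3, 4, 2, 2, 5, 3, 4, 2]), (1667, [37, 38, 37], [2, 2, 4, 3, 4, 2, 2, 3, 4, 3]), (1265, [37], [2, 4, 2, 2, 3, 1, 4, 2, 5, 3]), (1252, [], [5, 3, 0, 1, 3, 4, 2, 3]), (1424, [45, 33, 45, 34], [0, 2, 2, 3, 0, 1, 3, 4, 2, 3, 1])], [], 0),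
  (1, 0, [], 0, [], [], 2412),
  (0, 6, [0, 6, 8, 6, 11, 8, 6, 4, 2, 6, 11], 22, [(2006, [], [2, 2]), (1804, [], [0, 4, 2, 4, 3, 4, 3, 1, 5, 3])], [], 0),
  (1, 0, [], 0, [], [], 2414),
  (0, 6, [0, 6, 10, 8, 6, 4, 2, 11, 8, 6, 10], 9, [(1582, [37, 38, 37], [2, 3, 4, 2, 4, 5, 0]), (920, [38, 37], [0, 1, 4, 2, 4, 3, 4, 2, 3]), (1252, [43, 43, 43, 42], [0, 3, 4, 2, 5, 3, 4, 2, 3, 1, 5])], [], 0),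
  (1, 0, [], 0, [], [], 2416),
  (0, 6, [0, 8, 6, 12, 11, 8, 6, 4, 2, 6, 11], 9, [(774, [], [2, 3, 5, 3, 4]), (1347, [34, 33, 44], [1, 2, 2, 3, 4, 2, 3, 5, 3, 1]), (365, [35, 28, 36], [1, 4, 2, 3, 1, 5, 3, 4])], [], 0),
  (1, 0, [], 0, [], [], 2418),
  (0, 6, [0, 8, 6, 10, 8, 6, 4, 2, 6, 13, 11], 14, [(1528, [37, 38, 37], [0, 2, 2, 3, 0, 4]), (925, [37, 38, 37], [2, 2, 5, 0, 3]), (906, [37, 38, 37], [0, 1, 2, 3, 5, 3, 1, 3])], [], 0),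
  (1, 0, [], 0, [], [], 2420),
  (0, 6, [0, 8, 6, 10, 8, 6, 4, 2, 6, 12, 11], 17, [(1578, [37, 38, 37], [3, 4, 2, 4, 5, 0]), (588, [41, 41, 39, 40], [0, 2, 2, 3, 4, 2, 3, 5, 3, 1, 3]), (1024, [37, 38], [4, 2, 4, 3, 1, 4, 3, 4, 2, 4])], [], 0),
  (1, 0, [], 0, [], [], 2422),
  (0, 6, [0, 4, 6, 8, 11, 8, 6, 4, 2, 6, 11], 8, [(1612, [37, 38, 37], [2, 3, 4, 5, 0]), (2002, [38, 37], [0, 4, 2, 3, 4, 3, 4, 5, 3, 1]), (1076, [37], [4, 2, 3, 5, 3, 4, 3, 4, 2, 2])], [], 0),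
  (1, 0, [], 0, [], [], 2424),
  (0, 6, [0, 4, 6, 12, 10, 8, 6, 4, 2, 6, 10], 9, [(983, [37, 38, 37], [0, 1, 4, 3, 1, 3, 5]), (1641, [37, 38], [0, 1, 3, 4, 2, 4, 3, 4, 2, 4, 3, 1]), (1576, [], [0, 1, 2, 2, 4, 2, 3, 0, 4])], [], 0),
  (1, 0, [], 0, [], [], 2426),
  (0, 6, [0, 4, 8, 6, 11, 8, 6, 4, 2, 6, 10], 17, [(1562, [37, 38, 37], [3, 4, 5, 0]), (1671, [33, 44, 45, 45], [0, 2, 2, 4, 3, 4, 2, 2, 3, 5]), (855, [37], [4, 2, 3, 1, 5, 0, 3, 4, 2])], [], 0),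
  (1, 0, [], 0, [], [], 2428),
  (0, 6, [0, 4, 6, 10, 8, 6, 4, 2, 6, 13, 10], 22, [(1762, [], [2, 2]), (1992, [38, 37], [0, 2, 2, 3, 4, 2, 3, 1, 3, 5])], [], 0),
  (1, 0, [], 0, [], [], 2430),
  (0, 6, [0, 4, 6, 11, 8, 6, 4, 2, 6, 13, 10], 15, [(1534, [], [1, 4, 2, 2]), (1154, [37], [1, 2, 4, 3, 5, 3, 1, 4, 2, 3, 1]), (2213, [37, 38], [0, 1, 4, 2, 3, 4, 3, 5, 3, 4, 3])], [], 0),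
  (1, 0, [], 0, [], [], 2432),
  (0, 6, [0, 8, 6, 12, 10, 8, 6, 4, 2, 6, 10], 22, [(2006, [], []), (1820, [], [0, 1, 3, 4, 2, 3, 4, 2, 2, 5, 3])], [], 0),
  (1, 0, [], 0, [], [], 2434),
  (0, 6, [0, 8, 11, 8, 6, 4, 2, 11, 8, 6, 10], 8, [(1582, [], [2, 2, 4, 5]), (769, [38], [2, 4, 2, 5]), (1495, [37, 38], [2, 2, 4, 2, 5, 3, 1, 3, 4, 2, 5])], [], 0),
  (1, 0, [], 0, [], [], 2436),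
  (0, 6, [0, 8, 6, 12, 11, 8, 6, 4, 2, 6, 10], 8, [(1582, [37, 38, 37], [3, 4, 5, 0]), (920, [38, 37], [0, 1, 4, 2, 4, 3, 4, 3, 1]), (2263, [42, 43, 43, 42, 43, 43, 43, 43, 42], [1, 3, 4, 3, 5, 0, 3, 1])], [], 0),
  (1, 0, [], 0, [], [], 2438),
  (0, 6, [0, 8, 6, 11, 11, 8, 6, 4, 2, 6, 10], 14, [(1528, [37, 38, 37], [0, 2, 2, 3, 0, 4, 2, 4]), (1991, [37, 38, 37], [4, 2, 2, 3, 4, 2, 3, 1, 4]), (968, [38, 37], [1, 2, 4, 3, 0, 5, 3, 1, 4, 2])], [], 0),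
  (1, 0, [], 0, [], [], 2440),
  (0, 6, [0, 4, 6, 8, 10, 8, 6, 4, 2, 6, 10], 8, [(1604, [37, 38, 37], [3, 4, 2, 2, 5, 0]), (190, [37, 38, 37], [0, 1, 2, 2, 4, 3, 4, 2, 2, 5, 3]), (664, [43, 43, 42, 43, 43, 43], [2, 4, 3, 0, 5, 3, 4, 2, 3, 4])], [], 0),
  (1, 0, [], 0, [], [], 2442),
  (0, 6, [0, 6, 4, 11, 8, 6, 4, 2, 10, 8, 6], 9, [(1634, [], [1, 5]), (942, [], [1, 2, 3, 1, 3, 4, 2, 5]), (1029, [33, 45, 34], [3, 4, 3, 5, 0, 3, 4, 2, 2, 3])], [], 0),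
  (1, 0, [], 0, [], [], 2444),
  (0, 6, [0, 4, 10, 8, 6, 4, 2, 13, 10, 8, 6], 17, [(1608, [37, 38, 37], [2, 2, 3, 1, 5, 0]), (659, [39, 39, 39, 39, 40], [3, 4, 2, 4, 3, 1, 3, 1, 5]), (2263, [43, 43, 43, 43, 42, 43, 43, 43], [0, 1, 4, 3, 5, 3, 4, 3, 1])], [], 0),
  (1, 0, [], 0, [], [], 2446),
  (0, 6, [0, 4, 11, 11, 8, 6, 4, 2, 11, 8, 6], 17, [(784, [37, 38, 37], [1, 4, 3, 0, 5, 3, 1]), (2263, [42, 43, 43, 43, 42, 43, 43, 43, 43], [2, 3, 5, 3, 4, 3, 1, 3, 4]), (2161, [], [4, 2, 2, 3, 1, 4, 2, 3, 5, 3])], [], 0),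
  (1, 0, [], 0, [], [], 2448),
  (0, 6, [0, 4, 11, 8, 6, 4, 2, 12, 11, 8, 6], 8, [(1642, [], [1, 5]), (1031, [37], [1, 2, 2, 5, 3, 4, 3, 1]), (1090, [], [1, 4, 2, 2, 3, 1, 4, 2, 3])], [], 0),
  (1, 0, [], 0, [], [], 2450),
  (0, 6, [0, 4, 6, 11, 8, 6, 4, 2, 10, 8, 6], 9, [(1541, [37, 38, 37], [0, 3, 1, 3, 5, 3, 4, 2, 4]), (2112, [], [2, 4, 2, 2, 3, 4, 2, 4, 3]), (2350, [37, 38], [4, 2, 5, 0, 3, 4, 2, 2, 3, 4, 3])], [], 0),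
  (1, 0, [], 0, [], [], 2452),
  (0, 6, [0, 4, 6, 8, 6, 4, 2, 13, 10, 8, 6], 22, [(2100, [38], [0, 1, 2, 4, 3, 0, 1, 4, 2, 4]), (2132, [38], [1, 3, 4, 2, 4, 3, 4, 5, 3, 1])], [], 0),
  (1, 0, [], 0, [], [], 2454),
  (0, 6, [0, 4, 6, 8, 6, 4, 2, 12, 10, 8, 6], 14, [(784, [37, 38, 37], [1, 4, 5, 3, 0, 1, 4, 2]), (519, [43, 43, 43, 43, 42, 43, 43, 43], [3, 0, 4, 2, 3, 4, 2, 2, 5, 3]), (888, [37, 38], [0, 1, 5, 3, 1, 4])], [], 0),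
  (1, 0, [], 0, [], [], 2456),
  (0, 6, [0, 8, 6, 11, 8, 6, 4, 2, 10, 8, 6], 8, [(772, [37, 38, 37], [1, 2, 5, 3, 0, 4, 2, 2]), (674, [42, 43, 43, 42, 43, 43], [2, 3, 1, 3, 4, 2, 5, 3, 1, 3, 1]), (1696, [38], [1, 3, 4, 2, 3, 5, 0, 3, 4])], [], 0),
  (1, 0, [], 0, [], [], 2458),
  (0, 6, [0, 6, 11, 11, 8, 6, 4, 2, 10, 8, 6], 33, [(1597, [], [3, 4, 3, 4, 2, 2]), (381, [38], [4, 2, 3, 4, 2, 4, 5, 3, 1, 3]), (1617, [37, 38], [2, 3, 4, 3, 1, 3, 4, 2, 3, 4])], [], 0),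
  (1, 0, [], 0, [], [], 2460),
  (0, 6, [0, 6, 13, 11, 8, 6, 4, 2, 10, 8, 6], 22, [(1921, [37, 38], [2, 3, 0, 4, 5, 3]), (2280, [], [4, 3, 0, 1, 5, 3, 4])], [], 0),
  (1, 0, [], 0, [], [], 2462),
  (0, 6, [0, 6, 12, 11, 8, 6, 4, 2, 10, 8, 6], 17, [(774, [37, 38, 37], [4, 5, 3, 4, 2, 3, 1, 4, 5]), (2119, [45, 34, 45], [4, 2, 2, 3, 0, 1, 4, 5, 3]), (1435, [38], [1, 3, 1, 3, 5, 3, 4, 2, 3, 4, 3])], [], 0),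
  (1, 0, [], 0, [], [], 2464),
  (0, 6, [0, 6, 10, 8, 6, 4, 2, 13, 10, 8, 6], 22, [(1339, [38, 37], [1, 2, 3, 4, 2, 4, 5, 0, 3, 1, 4]), (1326, [25, 32, 46, 32, 32, 25], [3, 4, 2, 3, 4, 2])], [], 0),
  (1, 0, [], 0, [], [], 2466),
  (0, 6, [0, 6, 10, 8, 6, 4, 2, 12, 10, 8, 6], 8, [(1578, [], [1, 4, 2, 4, 5]), (951, [40], [2, 2, 5, 3, 0, 4, 3, 1, 3]), (554, [37, 38], [3, 5, 3, 4, 2, 3, 1, 4, 3, 5])], [], 0),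
  (1, 0, [], 0, [], [], 2468),
  (0, 6, [0, 4, 6, 10, 8, 6, 4, 2, 11, 8, 6], 8, [(782, [], [1, 3, 0, 3, 4]), (1347, [34], [1, 2, 4, 2, 2, 5, 3, 4, 2, 4, 3, 5]), (1358, [27, 28, 36, 35, 36], [1, 3, 0, 5, 3, 1, 3, 4, 3])], [], 0),
  (1, 0, [], 0, [], [], 2470),
  (0, 6, [0, 4, 6, 11, 8, 6, 4, 2, 11, 8, 6], 9, [(1471, [37, 38, 37], [0, 2, 3, 5, 3, 1, 3, 1, 4, 3]), (841, [33, 45, 34, 45], [4, 2, 3, 1, 4, 3, 5, 3, 4, 2]), (1777, [38], [1, 3, 5, 3, 1, 4, 3, 1, 5, 3, 4])], [], 0),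
  (1, 0, [], 0, [], [], 2472),
  (0, 6, [0, 8, 6, 10, 8, 6, 4, 2, 11, 8, 6], 9, [(774, [37, 38, 37], [4, 5, 3, 4, 3, 1, 5]), (1285, [33, 44, 45, 45], [4, 2, 5, 3, 1, 3, 1, 5, 3, 1, 4]), (1288, [43, 43, 43, 42, 43, 43, 43], [1, 4, 2, 4, 3, 4, 2, 2, 3, 1, 5])], [], 0),
  (1, 0, [], 0, [], [], 2474),
  (0, 6, [0, 6, 11, 11, 8, 6, 4, 2, 11, 8, 6], 15, [(774, [37, 38, 37], [0, 5, 3, 4, 2, 2, 3, 4, 2]), (1235, [45, 44], [1, 2, 4, 2, 2, 5, 3, 0, 4]), (2065, [39, 41, 39, 41], [2, 5, 3, 1, 3, 4, 3, 4])], [], 0),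
  (1, 0, [], 0, [], [], 2476),
  (0, 6, [0, 6, 12, 11, 8, 6, 4, 2, 11, 8, 6], 17, [(1582, [], [1, 4, 5]), (788, [37, 38], [0, 2, 2, 3, 1, 3, 4, 5, 3, 1]), (1803, [37, 38], [4, 2, 4, 5, 3, 4, 2, 3, 1, 4])], [], 0),
  (1, 0, [], 0, [], [], 2478),
  (0, 6, [0, 4, 6, 8, 6, 4, 2, 10, 8, 6, 10], 16, [(1323, [37, 38, 37], [2, 3, 0, 1, 5, 3, 1]), (1332, [26, 25, 25], [1, 2, 2, 3, 1, 5, 3, 1, 3, 5]), (1072, [], [0, 1, 4, 3, 1, 5, 3, 1, 4, 3, 4])], [], 0),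
  (1, 0, [], 0, [], [], 2480),
  (0, 6, [0, 11, 8, 6, 4, 2, 11, 8, 11, 8, 6], 8, [(1582, [37, 38, 37], [2, 2, 3, 1, 4, 5, 0]), (1217, [37, 38], [0, 3, 4, 3, 1, 3, 4, 2, 2, 3, 4]), (2065, [39, 39, 40], [4, 5, 3, 4, 3])], [], 0),
  (1, 0, [], 0, [], [], 2482),
  (0, 6, [0, 6, 11, 8, 6, 4, 2, 11, 8, 6, 11], 22, [(2369, [], [1, 2, 4, 3, 1, 3, 5, 3]), (1766, [], [1, 2, 4, 5, 3])], [], 0),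
  (1, 0, [], 0, [], [], 2484),
  (0, 6, [0, 4, 6, 4, 2, 8, 10, 8, 10, 8, 6], 33, [(1552, [], [1, 4, 2, 2, 5, 3, 0, 4, 2, 3, 1, 3]), (1266, [43, 43, 43, 42, 43, 42], [2, 4, 3, 0, 1, 3, 4, 2, 4]), (1882, [37, 38, 37], [1, 3, 0, 5, 3, 1, 3, 4, 5])], [], 0),
  (1, 0, [], 0, [], [], 2486),
  (0, 6, [0, 4, 8, 6, 4, 2, 13, 10, 8, 6, 10], 22, [(2058, [], []), (1751, [37, 38, 37], [0, 1, 2, 2, 5, 3, 1, 4, 3])], [], 0),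
  (1, 0, [], 0, [], [], 2488),
  (0, 6, [0, 4, 11, 8, 6, 4, 2, 11, 8, 6, 10], 8, [(786, [37, 38, 37], [0, 2, 2, 5, 3, 1, 3, 4, 5]), (2329, [37, 38, 37], [2, 2, 4, 2, 3]), (1157, [37, 38, 37], [1, 2, 4, 3, 1, 3, 4, 2, 3, 4, 3])], [], 0),
  (1, 0, [], 0, [], [], 2490),
  (0, 6, [0, 11, 11, 8, 6, 4, 2, 10, 8, 6, 10], 33, [(1393, [37, 38, 37], [0, 2, 3, 4, 5, 3, 1, 4, 3, 4]), (507, [34, 33], [2, 3, 1, 4, 2, 3, 4, 3]), (2172, [37, 38], [2, 3, 0, 5, 3, 1, 3, 4, 2])], [], 0),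
  (1, 0, [], 0, [], [], 2492),
  (0, 6, [0, 13, 11, 8, 6, 4, 2, 10, 8, 6, 10], 22, [(2066, [], []), (2459, [38, 37], [0, 3, 5, 3, 4, 2, 3, 1, 4, 5, 3])], [], 0),
  (1, 0, [], 0, [], [], 2494),
  (0, 6, [0, 12, 11, 8, 6, 4, 2, 10, 8, 6, 10], 33, [(1597, [37, 38, 37], [2, 3, 1, 3, 1, 5, 3, 4, 2, 2, 3]), (1897, [38, 37], [3, 1, 3, 4, 2, 2, 5, 3, 1]), (2131, [37], [1, 3, 4, 3, 4, 2])], [], 0),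
  (1, 0, [], 0, [], [], 2496),
  (0, 6, [0, 11, 11, 8, 6, 4, 2, 11, 8, 6, 10], 8, [(772, [37, 38, 37], [1, 5, 3, 0, 4]), (672, [43, 43], [1, 4, 3, 1, 4, 2, 4]), (1667, [37, 38, 37], [1, 4, 3, 0, 5, 3, 1, 3, 4, 2, 4])], [], 0),
  (1, 0, [], 0, [], [], 2498),
  (0, 6, [0, 13, 11, 8, 6, 4, 2, 11, 8, 6, 10], 8, [(1393, [37, 38, 37], [1, 3, 0, 1, 4, 5, 3, 1]), (827, [33, 44, 44], [1, 4, 2, 2, 3, 4, 3, 1, 5]), (1586, [38], [1, 2, 2, 3, 0, 5, 3, 4, 2, 3])], [], 0),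
  (1, 0, [], 0, [], [], 2500),
  (0, 6, [0, 11, 8, 6, 4, 2, 11, 11, 8, 6, 10], 16, [(1578, [], [1, 4]), (1218, [], [1, 4, 2, 4, 3, 5, 3, 1, 4, 3, 4]), (966, [37, 38], [1, 2, 2, 4, 5, 3, 0, 4, 3])], [], 0),
  (1, 0, [], 0, [], [], 2502),
  (0, 6, [0, 10, 8, 6, 4, 2, 11, 11, 8, 6, 10], 15, [(1578, [37, 38, 37], [0, 2, 2, 3, 0, 4, 2, 4]), (989, [41, 39, 41], [3, 4, 2, 3, 1, 3, 5, 3, 1, 4]), (1076, [38, 37], [0, 4, 2, 2, 3, 4, 2, 4, 5])], [], 0),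
  (1, 0, [], 0, [], [], 2504),
  (0, 6, [0, 11, 8, 6, 4, 2, 10, 8, 6, 13, 10], 8, [(774, [], [2, 3, 5, 3, 1, 4, 2]), (1347, [34, 33, 44], [1, 2, 2, 3, 4, 3, 5, 3]), (2307, [27, 35, 36, 36, 35], [2, 2, 4, 3, 0, 1, 3, 4, 5, 3, 1])], [], 0),
  (1, 0, [], 0, [], [], 2506),
  (0, 6, [0, 10, 8, 6, 4, 2, 10, 8, 6, 13, 10], 8, [(1393, [], [3, 1, 4, 3, 1, 4, 5, 3, 1, 4, 3, 5]), (700, [], [1, 2, 2, 5, 3, 4, 2, 3, 1, 5]), (1572, [37, 38, 37], [0, 1, 2, 3, 5, 3, 4, 2, 3, 1, 5])], [], 0),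
  (1, 0, [], 0, [], [], 2508),
  (0, 6, [0, 11, 8, 6, 4, 2, 10, 8, 6, 12, 10], 16, [(1578, [], [1, 2, 4]), (989, [41, 39, 41], [1, 2, 2, 3, 4, 2, 5, 3, 4, 3, 4]), (2353, [37, 38], [4, 2, 4, 3, 0, 1, 4, 2, 5])], [], 0),
  (1, 0, [], 0, [], [], 2510),
  (0, 6, [0, 10, 8, 6, 4, 2, 10, 8, 6, 12, 10], 22, [(1800, [], [2]), (2284, [37], [3, 4, 3, 1, 4, 5, 3, 4, 2])], [], 0),
  (1, 0, [], 0, [], [], 2512),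
  (0, 6, [0, 4, 11, 8, 6, 4, 2, 11, 8, 6, 11], 8, [(617, [38], [0, 2, 4, 3, 5, 3, 4, 2, 2, 3, 1]), (2281, [39, 39, 39], [3, 4, 2, 3, 1, 3, 1, 4]), (2206, [], [0, 2, 2, 3, 5, 3, 4, 3, 4, 2, 5])], [], 0),
  (1, 0, [], 0, [], [], 2514),
  (0, 6, [0, 4, 10, 8, 6, 4, 2, 11, 8, 6, 11], 8, [(1129, [], [1, 4, 3, 5, 0, 3, 4, 2, 3, 1, 4]), (751, [37, 38], [3, 1, 5, 3, 4, 2, 3, 4, 2, 3]), (997, [33, 33], [0, 1, 2, 2, 3, 4, 2, 3, 1, 5])], [], 0),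
  (1, 0, [], 0, [], [], 2516),
  (0, 6, [0, 6, 11, 8, 6, 4, 2, 10, 8, 6, 11], 8, [(1580, [], [1, 4, 2, 5]), (2335, [37, 38], [2, 2, 5, 3, 1, 3, 1, 4, 5]), (1653, [37], [0, 2, 3, 4, 2, 2, 5, 3, 4, 3, 1])], [], 0),
  (1, 0, [], 0, [], [], 2518),
  (0, 6, [0, 11, 11, 8, 6, 4, 2, 10, 8, 6, 11], 14, [(1597, [], [2, 2, 3, 1, 5, 3, 1, 4, 3, 1]), (2240, [37, 38], [0, 2, 2, 3, 4, 2, 3, 1, 4, 3, 1, 3]), (1369, [37], [2, 2, 5, 3, 1, 4, 3, 4, 2, 5])], [], 0),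
  (1, 0, [], 0, [], [], 2520),
  (0, 6, [0, 13, 11, 8, 6, 4, 2, 10, 8, 6, 11], 8, [(1538, [37, 38, 37], [2, 3, 4, 2, 4, 5, 0]), (2108, [37, 38, 37], [4, 2, 3, 1, 3, 4, 3, 5, 3, 4]), (1127, [38, 37], [1, 2, 3, 1, 5, 3, 4, 2, 2])], [], 0),
  (1, 0, [], 0, [], [], 2522),
  (0, 6, [0, 13, 10, 8, 6, 4, 2, 10, 8, 6, 11], 9, [(1597, [], [3, 1, 5, 3, 4, 2, 4, 3, 5]), (349, [38], [2, 4, 5, 0, 3, 4, 2, 3, 4, 2]), (1101, [38], [1, 2, 3, 5, 0, 3, 4, 2, 3, 4, 3])], [], 0),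
  (1, 0, [], 0, [], [], 2524),
  (0, 6, [0, 11, 8, 6, 4, 2, 13, 10, 8, 6, 11], 15, [(1526, [37, 38, 37], [0, 2, 2, 3, 0, 4]), (2516, [37, 38], [4, 2, 5, 0, 3, 1, 3, 4, 2, 5]), (1148, [37, 38, 37], [0, 1, 4, 2, 3, 4, 5, 3, 1])], [], 0),
  (1, 0, [], 0, [], [], 2526),
  (0, 6, [0, 10, 8, 6, 4, 2, 13, 10, 8, 6, 11], 22, [(986, [37], [2, 4]), (1312, [43, 42, 43, 42], [2, 4, 3, 5, 3])], [], 0),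
  (1, 0, [], 0, [], [], 2528),
  (0, 6, [0, 11, 11, 8, 6, 4, 2, 11, 8, 6, 11], 25, [(2072, [], []), (2476, [37], [0, 4, 3, 1, 4, 3, 4, 2, 4, 5, 3, 4]), (1419, [37], [4, 2, 3, 1, 4, 5]), (2401, [], [1, 4, 2, 3, 4, 2, 5, 0]), (1008, [], [1, 5, 3, 0, 1, 3]), (2171, [38, 37], [0, 3, 4, 5, 3, 4, 2, 4, 3, 5]), (416, [], [0, 2, 3, 4, 3, 1, 3, 1, 4, 2, 4])], [], 0),
  (1, 0, [], 0, [], [], 2530),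
  (0, 6, [0, 8, 10, 8, 6, 4, 2, 11, 8, 6, 11], 9, [(1538, [37, 38, 37], [2, 2, 3, 4, 2, 4, 5, 0]), (1191, [38], [3, 1, 4, 2, 4, 3, 5, 0]), (1184, [], [0, 2, 4, 2, 2, 3, 1, 4, 2, 3])], [], 0)]

end CfsgLib.Coset.Th
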