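import Cfsg.Agent.Coset.Th.Derive
import Cfsg.Agent.Coset.Th.StepData2

/-! Kernel checks of the derivation, part 2. -/

set_option autoImplicit false
set_option maxRecDepth 100000
set_option Elab.async false

namespace CfsgLib.Coset.Th

theorem chunk11 : checkAll stepC11 1733 47 1893 47 = true := by decide +kernel

theorem chunk12 : checkAll stepC12 1893 47 2053 47 = true := by decide +kernel

theorem chunk13 : checkAll stepC13 2053 47 2213 47 = true := by decide +kernel

theorem chunk14 : checkAll stepC14 2213 47 2373 47 = true := by decide +kernel

theorem chunk15 : checkAll stepC15 2373 47 2533 47 = true := by decide +kernel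

end CfsgLib.Coset.Th
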