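import Mathlib.Data.List.Basic

/-! A derivation of the coset facts of the Thompson presentation. -/

set_option autoImplicit false
set_option maxRecDepth 100000

namespace CfsgLib.Coset.Th

def stepC16 : List (Nat × Nat × List Nat × Nat × List (Nat × List Nat × List Nat) × List (Nat × List Nat × List Nat) × Nat) := [(1, 0, [], 0, [], [], 2532),
  (0, 6, [0, 13, 10, 8, 6, 4, 2, 11, 8, 6, 11], 14, [(1580, [37, 38, 37], [0, 3, 0, 4]), (2161, [38, 37], [0, 3, 4, 3, 1, 3, 4, 2, 4]), (1698, [], [1, 2, 4, 2, 2, 5, 3, 0, 4, 2, 4, 3])], [], 0),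
  (1, 0, [], 0, [], [], 2534),
  (0, 6, [0, 11, 8, 6, 4, 2, 12, 11, 8, 6, 11], 22, [(1339, [38, 37], [1, 3, 1, 4, 5, 0, 3, 4, 2, 4]), (224, [25, 32, 46, 32, 32, 25], [2, 2, 3, 1, 3, 1, 4, 2])], [], 0),
  (1, 0, [], 0, [], [], 2536),
  (0, 6, [0, 10, 8, 6, 4, 2, 12, 11, 8, 6, 11], 8, [(1538, [], [4, 2, 4, 5]), (1451, [37, 38], [4, 3, 5, 0, 3, 1, 4, 3, 1]), (607, [45, 44, 45], [1, 2, 2, 4, 5, 3, 1, 3, 5])], [], 0),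
  (1, 0, [], 0, [], [], 2538),
  (0, 6, [0, 10, 8, 6, 4, 2, 11, 11, 8, 6, 11], 8, [(1393, [], [3, 4, 2, 3, 4, 2, 2, 3, 4, 2, 3]), (2315, [34], [5, 3, 0, 4, 2, 2, 3, 4, 5]), (1858, [], [4, 2, 2, 5, 3, 4, 3, 1, 4, 2, 4, 5])], [], 0),
  (1, 0, [], 0, [], [], 2540),
  (0, 6, [0, 11, 8, 6, 4, 2, 10, 8, 6, 13, 11], 8, [(1584, [], [4, 2, 4, 5]), (1674, [38, 37], [3, 1, 4, 2, 5, 3, 4, 3, 4]), (2398, [], [4, 5, 3, 1, 4, 3, 4, 2, 2, 5])], [], 0),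
  (1, 0, [], 0, [], [], 2542),
  (0, 6, [0, 10, 8, 6, 4, 2, 10, 8, 6, 13, 11], 14, [(1393, [37, 38, 37], [1, 3, 0, 1, 4, 3, 5, 3, 1]), (2421, [45, 33, 45], [5, 3, 1, 3, 1, 4, 2, 3, 4, 5]), (2069, [37, 38, 37], [1, 3, 4, 2, 2, 3, 1, 3, 4, 2, 3])], [], 0),
  (1, 0, [], 0, [], [], 2544),
  (0, 6, [0, 10, 8, 6, 4, 2, 11, 8, 6, 13, 11], 8, [(772, [], [1, 2, 3, 4, 2, 4]), (439, [43, 43, 42, 43, 43, 43, 43, 42], [2, 4, 3, 4, 2, 2, 3, 1, 5, 3]), (1636, [38], [2, 2, 3, 4, 2, 3, 5, 3, 4, 3])], [], 0),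
  (1, 0, [], 0, [], [], 2546),
  (0, 6, [0, 11, 8, 6, 4, 2, 11, 8, 6, 12, 11], 8, [(1584, [], [1, 2, 4, 2, 2, 5]), (2040, [38], [0, 1, 3, 4, 2, 4, 5, 3, 4, 2, 4]), (1291, [], [1, 2, 4, 3, 4, 3, 5, 3, 1, 3, 5])], [], 0),
  (1, 0, [], 0, [], [], 2548),
  (0, 6, [0, 10, 8, 6, 4, 2, 11, 8, 6, 12, 11], 14, [(1536, [], [2, 4]), (2426, [38], [1, 2, 4, 2, 3, 4, 3]), (1299, [37, 38, 37], [2, 3, 1, 3, 4, 2, 4, 3, 1, 3])], [], 0),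
  (1, 0, [], 0, [], [], 2550),
  (0, 6, [0, 2, 6, 4, 6, 11, 8, 6, 4, 2, 6], 17, [(348, [], [3, 1, 5]), (1447, [38], [0, 4, 2, 2, 3, 4, 3, 5, 3, 1]), (1079, [34, 33, 44], [2, 2, 4, 3, 4, 2, 4, 3, 1, 3])], [], 0),
  (1, 0, [], 0, [], [], 2552),
  (0, 6, [0, 2, 6, 4, 6, 10, 8, 6, 4, 2, 6], 9, [(795, [], [3, 4, 3, 1, 4, 5, 3, 1, 4, 2]), (1740, [], [2, 4, 2, 3, 1, 5, 3, 4, 3, 5]), (913, [37], [2, 2, 3, 4, 2, 3, 1, 4, 2, 3, 1])], [], 0),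
  (1, 0, [], 0, [], [], 2554),
  (0, 6, [0, 2, 4, 6, 12, 10, 8, 6, 4, 2, 6], 8, [(328, [37, 38], [4, 2, 3, 0, 4, 2, 3, 4, 2, 5]), (2040, [38, 37], [0, 2, 3, 5, 3, 1, 4, 3, 4]), (1971, [37], [2, 4, 2, 2, 3, 1, 3, 5, 0, 3])], [], 0),
  (1, 0, [], 0, [], [], 2556),
  (0, 6, [0, 2, 4, 6, 11, 11, 8, 6, 4, 2, 6], 15, [(128, [37, 38], [0, 3, 5, 3, 4, 2, 3, 1, 5]), (201, [], [2, 3, 1, 4, 5, 3, 1, 3, 4, 5]), (1212, [39, 39, 41, 41], [1, 3, 1, 3, 4, 2, 4, 3, 5])], [], 0),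
  (1, 0, [], 0, [], [], 2558),
  (0, 6, [4, 2, 6, 4, 6, 11, 8, 6, 4, 2, 6], 15, [(651, [], [1, 2, 2, 3, 4, 2, 4, 3, 4]), (643, [], [0, 1, 3, 1, 3, 4, 3, 4, 2, 4, 3, 4, 2]), (1290, [42, 43, 42, 43, 43, 43, 42], [2, 5, 3, 0, 4, 2, 3, 4, 3])], [], 0),
  (1, 0, [], 0, [], [], 2560),
  (0, 6, [8, 6, 4, 6, 12, 11, 8, 6, 4, 2, 6], 8, [(1679, [], [2, 3, 1, 4, 3]), (1557, [], [1, 2, 2, 4, 3, 1, 3, 4, 2, 2, 3]), (1530, [], [2, 2, 3, 0, 4, 3, 5, 3])], [], 0),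
  (1, 0, [], 0, [], [], 2562),
  (0, 6, [6, 8, 6, 4, 6, 10, 8, 6, 4, 2, 6], 14, [(1526, [37, 38], [0, 2, 3, 5, 3, 4, 2, 2]), (2141, [], [1, 2, 4, 3, 1, 4, 2, 4, 5, 0, 3]), (2374, [38], [0, 2, 2, 3, 0, 1, 4, 3, 4, 2, 4])], [], 0),
  (1, 0, [], 0, [], [], 2564),
  (0, 6, [8, 6, 4, 6, 13, 10, 8, 6, 4, 2, 6], 14, [(350, [], [1]), (1336, [25, 25, 32, 46, 32, 32, 25], [0, 1, 4, 3, 4, 2, 3, 4, 2, 2, 3, 4]), (1871, [38], [5, 3, 4, 3, 1, 4, 5, 3])], [], 0),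
  (1, 0, [], 0, [], [], 2566),
  (0, 6, [8, 6, 4, 6, 12, 10, 8, 6, 4, 2, 6], 22, [(416, [37, 38], [0, 1, 2, 4, 3, 1, 4, 5, 3, 1, 4]), (1387, [43, 43, 43, 42, 43, 43, 42], [2, 4, 3, 1, 3, 4, 2])], [], 0),
  (1, 0, [], 0, [], [], 2568),
  (0, 6, [4, 6, 4, 8, 6, 10, 8, 6, 4, 2, 6], 14, [(1662, [], [1]), (1514, [33, 34, 45], [2, 4, 2, 5, 3, 1, 3, 4, 3]), (1861, [38], [1, 2, 2, 3, 1, 3, 5, 3, 1, 4, 3, 4])], [], 0),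
  (1, 0, [], 0, [], [], 2570),
  (0, 6, [6, 4, 11, 8, 6, 10, 8, 6, 4, 2, 6], 22, [(2329, [37], [0, 2, 4, 3, 1, 4, 5, 3, 1, 3]), (366, [], [0, 1, 2, 2, 3, 1, 3, 4, 3, 4, 5])], [], 0),
  (1, 0, [], 0, [], [], 2572),
  (0, 6, [4, 10, 8, 6, 13, 10, 8, 6, 4, 2, 6], 15, [(1265, [37, 38], [1, 4, 2, 4, 3, 4, 5, 3, 1, 4, 2]), (1987, [43, 43, 43, 42, 43, 42], [2, 4, 3, 1, 3, 5, 3, 1, 4, 3]), (2071, [38], [0, 1, 3, 1, 4, 5, 3])], [], 0),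
  (1, 0, [], 0, [], [], 2574),
  (0, 6, [4, 6, 4, 8, 6, 11, 8, 6, 4, 2, 6], 8, [(1221, [38], [4, 2, 3, 0, 4, 2, 5, 3, 4]), (630, [40, 39, 40, 41, 39], [0, 1, 4, 2, 2, 5, 3, 4, 2, 4]), (623, [44, 44], [0, 2, 5, 3, 4, 2, 3, 4, 2, 2, 5])], [], 0),
  (1, 0, [], 0, [], [], 2576),
  (0, 6, [6, 4, 10, 8, 6, 11, 8, 6, 4, 2, 6], 8, [(1808, [], [1, 5]), (1670, [], [2, 3, 4, 2, 3, 1, 5, 0, 3, 1, 4]), (708, [44, 45, 45], [2, 5, 0, 3, 4, 2, 3, 4, 2, 2])], [], 0),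
  (1, 0, [], 0, [], [], 2578),
  (0, 6, [6, 4, 8, 11, 8, 6, 4, 2, 11, 8, 6], 8, [(1810, [], [1, 5]), (847, [33, 33, 44, 44], [2, 5, 3, 1]), (2150, [], [1, 2, 5, 3, 1, 3, 5])], [], 0),
  (1, 0, [], 0, [], [], 2580),
  (0, 6, [6, 4, 8, 6, 13, 11, 8, 6, 4, 2, 6], 14, [(1638, [38, 37], [0, 4, 5, 3, 1, 4]), (2493, [37], [0, 3, 4, 2, 4, 3, 1, 3]), (2386, [], [1, 2, 2, 4, 5, 3, 4, 2, 3, 4])], [], 0),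
  (1, 0, [], 0, [], [], 2582),
  (0, 6, [4, 8, 10, 8, 6, 11, 8, 6, 4, 2, 6], 8, [(1501, [38], [1, 2, 5, 3, 4, 2, 3, 1]), (969, [45, 33, 44], [1, 2, 4, 2, 3, 1, 4]), (1082, [], [4, 2, 5, 0, 3, 4, 2, 3, 4, 5])], [], 0),
  (1, 0, [], 0, [], [], 2584),
  (0, 6, [6, 4, 6, 8, 6, 10, 8, 6, 4, 2, 6], 22, [(1048, [], [0, 2, 2, 4, 5, 0]), (1084, [38, 37], [1, 2, 3, 5, 0, 3, 4, 2, 2, 3, 5])], [], 0),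
  (1, 0, [], 0, [], [], 2586),
  (0, 6, [4, 6, 11, 8, 6, 10, 8, 6, 4, 2, 6], 9, [(1554, [37, 38, 37], [2, 2, 3, 1, 4, 2, 5, 0]), (596, [39, 39, 40, 41, 41], [0, 2, 4, 2, 3, 4, 2, 4, 5]), (1759, [37], [0, 2, 5, 3, 1, 3, 4, 2, 3, 1])], [], 0),
  (1, 0, [], 0, [], [], 2588),
  (0, 6, [6, 8, 6, 10, 8, 6, 4, 2, 10, 8, 6], 9, [(1640, [37, 38, 37], [3, 1, 4, 2, 5, 0]), (2203, [], [1, 3, 4, 3, 4, 2, 5, 3, 1, 3, 5]), (2453, [37], [2, 2, 3, 4, 3, 5, 3, 1, 4])], [], 0),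
  (1, 0, [], 0, [], [], 2590),
  (0, 6, [6, 4, 6, 8, 6, 11, 8, 6, 4, 2, 6], 8, [(1840, [], [1, 5]), (2347, [37, 38], [0, 3, 1, 5, 3, 4, 2, 2, 3, 1]), (2345, [38], [1, 3, 4, 2, 4, 5, 3, 4, 2, 3])], [], 0),
  (1, 0, [], 0, [], [], 2592),
  (0, 6, [6, 8, 10, 8, 6, 11, 8, 6, 4, 2, 6], 15, [(798, [37, 38, 37], [1, 2, 2, 4, 3, 0, 4, 2, 4]), (1205, [37, 38, 37], [0, 4, 3, 5, 3, 1, 4, 3, 4, 3]), (2170, [37, 38], [1, 2, 3, 1, 4, 5, 0, 3, 4, 2, 4])], [], 0),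
  (1, 0, [], 0, [], [], 2594),
  (0, 6, [2, 4, 6, 8, 13, 11, 8, 6, 4, 2, 6], 14, [(128, [37, 38], [4, 5, 3, 4, 3, 1, 5]), (2101, [37], [3, 4, 2, 3, 1, 3, 4, 5, 0]), (2216, [], [0, 1, 3, 1, 3, 4, 2, 4, 3, 4, 2])], [], 0),
  (1, 0, [], 0, [], [], 2596),
  (0, 6, [6, 4, 6, 11, 8, 11, 8, 6, 4, 2, 6], 14, [(1227, [], [0, 3, 1, 4, 2, 3, 1, 3, 4, 3, 4, 2]), (614, [39, 40, 39, 40, 41], [1, 3, 5, 3, 4, 3, 1, 4, 5, 3]), (1025, [38, 37], [1, 3, 1, 4, 2, 3, 4, 3, 1, 5])], [], 0),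
  (1, 0, [], 0, [], [], 2598),
  (0, 6, [6, 4, 6, 8, 10, 8, 6, 4, 2, 6, 11], 9, [(1828, [], [4, 2, 5]), (2444, [38], [2, 2, 3, 5, 3, 1, 4, 2, 3, 4, 2]), (392, [37, 38], [5, 0, 3, 4, 2, 3, 4, 2, 3, 1])], [], 0),
  (1, 0, [], 0, [], [], 2600),
  (0, 6, [4, 6, 10, 8, 12, 11, 8, 6, 4, 2, 6], 9, [(1602, [37, 38, 37], [3, 4, 2, 5, 0]), (1267, [38, 37], [0, 5, 3, 4, 3, 1, 3, 4]), (1123, [43, 43, 43, 42, 43], [1, 2, 4, 2, 5, 0, 3, 1, 3, 4, 5])], [], 0),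
  (1, 0, [], 0, [], [], 2602),
  (0, 6, [4, 6, 8, 11, 8, 11, 8, 6, 4, 2, 6], 8, [(2585, [], [1, 2, 4, 5, 0, 3, 4, 3, 1, 5]), (2068, [37], [2, 2, 3, 4, 2, 3, 5, 0, 3, 4, 3]), (557, [37], [1, 2, 2, 3, 4, 2, 3, 4, 3, 5, 3])], [], 0),
  (1, 0, [], 0, [], [], 2604),
  (0, 6, [0, 2, 4, 6, 8, 10, 8, 6, 4, 2, 6], 15, [(461, [37, 38], [2, 4, 3, 1, 3, 4, 2, 2]), (821, [], [1, 2, 2, 3, 1, 3, 5, 3, 1]), (1764, [], [3, 0, 5, 3])], [], 0),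
  (1, 0, [], 0, [], [], 2606),
  (0, 6, [2, 4, 6, 10, 8, 10, 8, 6, 4, 2, 6], 15, [(324, [37, 38], [1, 3, 1, 3, 4, 2, 3, 4, 3, 1]), (253, [], [3, 1, 4, 3, 4, 2, 2, 3]), (1496, [33, 33], [0, 4, 2, 3, 1, 3, 4, 2, 3, 4, 2, 2])], [], 0),
  (1, 0, [], 0, [], [], 2608),
  (0, 6, [6, 4, 6, 8, 11, 8, 6, 4, 2, 6, 10], 8, [(838, [], [2, 3, 1, 4, 2, 5]), (539, [34, 33, 45], [1, 4, 3, 0, 5, 3, 1, 4, 3]), (2351, [], [0, 3, 1, 5, 3, 1, 4, 2, 3, 4, 2, 5])], [], 0),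
  (1, 0, [], 0, [], [], 2610),
  (0, 6, [6, 4, 6, 10, 8, 10, 8, 6, 4, 2, 6], 8, [(1822, [], [1, 2, 4, 2, 5]), (1709, [37], [1, 2, 2, 5, 3, 0, 4]), (2290, [38, 37], [1, 5, 3, 1, 4, 2, 4, 3, 4])], [], 0),
  (1, 0, [], 0, [], [], 2612),
  (0, 6, [6, 4, 6, 8, 12, 10, 8, 6, 4, 2, 6], 22, [(908, [], [5, 3, 4, 2]), (2387, [37, 38, 37], [3, 1, 5, 3, 1, 3, 4, 2, 4, 3])], [], 0),
  (1, 0, [], 0, [], [], 2614),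
  (0, 6, [4, 8, 6, 10, 8, 10, 8, 6, 4, 2, 6], 15, [(1556, [37, 38, 37], [0, 2, 3, 0, 4, 2, 2]), (1097, [37, 38], [2, 2, 4, 5, 3, 4, 2, 3, 4, 3, 1]), (2028, [38], [2, 5, 3, 1, 3, 4, 3, 4, 2, 4, 3])], [], 0),
  (1, 0, [], 0, [], [], 2616),
  (0, 6, [4, 6, 10, 8, 13, 10, 8, 6, 4, 2, 6], 8, [(1598, [37, 38, 37], [2, 3, 1, 4, 2, 5, 0]), (198, [39, 39, 41], [0, 1, 4, 5, 3, 1, 4, 2, 4, 3]), (736, [33, 45, 34, 33], [2, 2, 4, 3, 4, 2, 3, 5])], [], 0),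
  (1, 0, [], 0, [], [], 2618),
  (0, 6, [4, 6, 8, 10, 8, 10, 8, 6, 4, 2, 6], 22, [(2198, [], [2, 2]), (1110, [], [0, 3, 4, 2, 2, 3, 4, 3, 1, 4, 2, 5])], [], 0),
  (1, 0, [], 0, [], [], 2620),
  (0, 6, [2, 4, 6, 11, 11, 8, 6, 4, 2, 6, 11], 15, [(201, [37, 38], [0, 2, 5, 3, 4, 3, 1, 5]), (251, [39, 39, 39, 39, 39], [0, 1, 4, 3, 4, 2, 5, 3, 4, 3]), (847, [44, 44], [0, 2, 2, 5, 3, 4, 2, 3, 1, 3, 5, 3])], [], 0),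
  (1, 0, [], 0, [], [], 2622),
  (0, 6, [2, 4, 6, 10, 8, 6, 4, 2, 6, 12, 11], 15, [(201, [37, 38], [2, 4, 5, 3, 4, 2, 3, 1, 4, 5]), (586, [39, 39, 39, 39], [2, 3, 5, 3, 4, 2, 2, 3, 4, 5]), (2454, [38], [0, 4, 2, 3, 1, 4, 3, 1, 3])], [], 0),
  (1, 0, [], 0, [], [], 2624),
  (0, 6, [8, 6, 4, 6, 11, 8, 6, 4, 2, 6, 11], 8, [(1816, [], [1, 2, 4, 2, 2, 5]), (1045, [], [2, 3, 4, 3, 1, 4, 2, 4, 3, 5]), (1990, [37, 38, 37], [0, 1, 2, 3, 4, 2, 3, 4, 5, 3, 1])], [], 0),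
  (1, 0, [], 0, [], [], 2626),
  (0, 6, [6, 4, 6, 13, 11, 8, 6, 4, 2, 6, 11], 16, [(1818, [], [2, 4, 2, 2]), (1517, [37, 38], [2, 4, 3, 1, 5, 0, 3, 4, 3, 1]), (499, [33, 33, 45, 34], [2, 4, 3, 4, 2, 2, 5, 0, 3, 1])], [], 0),
  (1, 0, [], 0, [], [], 2628),
  (0, 6, [6, 4, 8, 6, 10, 8, 6, 4, 2, 6, 11], 8, [(1824, [], [1, 2, 4, 2, 2, 5]), (984, [37], [0, 2, 3, 5, 3, 4, 2, 3]), (1259, [38, 37], [3, 0, 3, 4, 2, 2])], [], 0),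
  (1, 0, [], 0, [], [], 2630),
  (0, 6, [6, 4, 8, 6, 11, 8, 6, 4, 2, 6, 11], 17, [(1804, [], [1, 2, 4, 2, 2, 5]), (2118, [], [3, 0, 4, 2, 5, 3, 4, 2, 3, 1]), (1785, [], [0, 1, 2, 4, 2, 3, 1, 4, 3, 4, 2, 4])], [], 0),
  (1, 0, [], 0, [], [], 2632),
  (0, 6, [4, 8, 11, 8, 6, 4, 2, 11, 8, 6, 11], 8, [(1554, [37, 38, 37], [2, 2, 3, 4, 2, 4, 5, 0]), (612, [39, 40, 39, 40, 41, 41], [0, 2, 4, 2, 2, 3, 1, 4, 3, 4]), (1010, [38, 37], [3, 5, 3, 4, 2, 3, 1, 4, 5, 3])], [], 0),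
  (1, 0, [], 0, [], [], 2634),
  (0, 6, [4, 6, 10, 8, 6, 4, 2, 11, 8, 6, 10], 14, [(1666, [37, 38, 37], [0, 2, 3, 0, 4]), (1517, [37], [2, 3, 5, 3, 1, 4, 3, 5]), (2363, [], [0, 2, 2, 3, 4, 3, 1, 4, 2, 4, 3, 4])], [], 0),
  (1, 0, [], 0, [], [], 2636),
  (0, 6, [4, 8, 6, 10, 8, 6, 4, 2, 6, 13, 11], 8, [(1600, [], [4, 2, 4, 5]), (1569, [38], [0, 1, 4, 3, 1, 4, 2, 3, 5, 3, 1, 4]), (1465, [37, 38], [3, 4, 3, 4, 2, 5, 3])], [], 0),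
  (1, 0, [], 0, [], [], 2638),
  (0, 6, [4, 8, 6, 10, 8, 6, 4, 2, 6, 12, 11], 16, [(1501, [38], [1, 2, 5, 3, 4, 3, 4, 2, 2, 5]), (1384, [45, 33, 45], [0, 4, 3, 1, 4, 2, 3, 4, 2, 5]), (905, [38, 37], [1, 2, 3, 5, 0, 3, 1, 3, 4, 5, 3])], [], 0),
  (1, 0, [], 0, [], [], 2640),
  (0, 6, [8, 13, 10, 8, 6, 4, 2, 10, 8, 6, 11], 14, [(1558, [], [2, 2, 4]), (1634, [37, 38, 37], [2, 2, 4, 2, 5, 3, 4, 3, 1, 4, 5]), (1566, [], [1, 3, 4, 5])], [], 0),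
  (1, 0, [], 0, [], [], 2642),
  (0, 6, [10, 8, 6, 13, 10, 8, 6, 4, 2, 6, 11], 9, [(1612, [], [1, 2, 4, 2, 2, 5]), (2185, [37, 38, 37], [4, 3, 5, 3, 1, 4, 2, 3, 1, 5]), (1618, [], [1, 4, 2, 5, 3, 4, 2, 3, 1, 5])], [], 0),
  (1, 0, [], 0, [], [], 2644),
  (0, 6, [4, 6, 8, 6, 11, 8, 6, 4, 2, 6, 11], 8, [(1672, [], [2, 4, 5]), (2169, [37, 38, 37], [0, 1, 3, 4, 2, 3, 5, 3, 1, 4]), (549, [37], [1, 2, 2, 3, 1, 4, 3, 1, 5, 3, 1, 4])], [], 0),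
  (1, 0, [], 0, [], [], 2646),
  (0, 6, [6, 8, 11, 8, 6, 4, 2, 10, 8, 6, 10], 15, [(1541, [], [0, 2, 3, 5, 3, 1, 3, 1, 4]), (1567, [37, 38, 37], [1, 2, 3, 1, 4, 2, 3, 4, 2, 2, 5]), (1756, [], [2, 2, 3, 4, 2, 3, 4, 3, 4, 2])], [], 0),
  (1, 0, [], 0, [], [], 2648),
  (0, 6, [10, 8, 6, 13, 11, 8, 6, 4, 2, 6, 11], 17, [(786, [], [3, 5, 3, 1, 4, 2, 4]), (679, [], [2, 3, 1, 3, 1, 4, 5, 3, 1, 3, 4, 5]), (686, [36], [4, 2, 3, 4, 3, 1, 3, 4, 3])], [], 0),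
  (1, 0, [], 0, [], [], 2650),
  (0, 6, [10, 8, 6, 11, 11, 8, 6, 4, 2, 6, 11], 8, [(2385, [37], [2, 3, 1, 4, 5, 3, 1, 3, 4, 5]), (503, [38, 37], [5, 3, 1, 4, 2, 3, 4, 3, 5]), (2037, [], [2, 3, 1, 3, 4, 5, 3, 1, 3])], [], 0),
  (1, 0, [], 0, [], [], 2652),
  (0, 6, [8, 10, 8, 6, 4, 2, 10, 8, 6, 12, 11], 15, [(1606, [], [4]), (2582, [37], [1, 2, 3, 4, 3, 4, 2, 5, 3, 1]), (1963, [37], [1, 2, 3, 4, 2, 5, 3, 4, 3, 4])], [], 0),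
  (1, 0, [], 0, [], [], 2654),
  (0, 6, [2, 4, 6, 8, 11, 8, 6, 4, 2, 6, 11], 9, [(681, [37, 38], [1, 4, 2, 2, 5, 3, 1, 3]), (2307, [35, 27, 35, 36, 36], [0, 4, 3, 5, 3, 4, 3, 4, 2]), (1792, [38, 37], [0, 2, 2, 3, 4, 2, 4, 3, 1, 3, 4, 2])], [], 0),
  (1, 0, [], 0, [], [], 2656),
  (0, 6, [0, 2, 4, 6, 11, 8, 6, 4, 2, 6, 10], 9, [(130, [37, 38], [2, 2, 5, 3, 4, 2, 3, 4, 3, 5, 3]), (2614, [37, 38], [1, 3, 0, 5]), (2034, [], [0, 2, 4, 2, 2, 3, 4, 3, 1, 4, 2])], [], 0),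
  (1, 0, [], 0, [], [], 2658),
  (0, 6, [2, 6, 4, 6, 10, 8, 6, 4, 2, 6, 10], 17, [(132, [], [4, 5]), (1372, [30, 35, 36, 36, 35], [1, 2, 3, 5, 3, 1, 4, 3, 4]), (2419, [37, 38], [1, 3, 4, 3, 5, 0, 3, 1, 4, 3])], [], 0),
  (1, 0, [], 0, [], [], 2660),
  (0, 6, [2, 4, 6, 10, 8, 6, 4, 2, 6, 13, 10], 9, [(340, [37, 38], [4, 3, 5, 0, 3, 1, 3, 4, 2, 4]), (689, [29, 36], [1, 3, 0, 4, 2, 3, 1, 4]), (851, [29, 35, 28], [1, 2, 4, 5, 0, 3, 4, 2, 2, 3, 5])], [], 0),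
  (1, 0, [], 0, [], [], 2662),
  (0, 6, [6, 4, 6, 12, 11, 8, 6, 4, 2, 6, 10], 9, [(1830, [], [4, 5]), (1581, [37, 38, 37], [2, 2, 5, 3, 1, 3, 1, 5, 3, 1, 4]), (2563, [37, 38], [1, 2, 4, 2, 5, 3, 0, 4, 3, 1, 5])], [], 0),
  (1, 0, [], 0, [], [], 2664),
  (0, 6, [6, 4, 6, 12, 10, 8, 6, 4, 2, 6, 10], 8, [(1832, [], [4, 5]), (2241, [37, 38], [1, 4, 5, 3, 4, 2, 2, 3, 1, 3]), (2560, [37], [2, 2, 5, 3, 4, 3, 4, 2, 4, 3])], [], 0),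
  (1, 0, [], 0, [], [], 2666),
  (0, 6, [6, 4, 6, 11, 8, 6, 4, 2, 6, 13, 10], 22, [(1844, [], [2, 2]), (690, [35, 35, 27], [3, 1, 3, 5, 3, 4, 2, 3])], [], 0),
  (1, 0, [], 0, [], [], 2668),
  (0, 6, [6, 4, 6, 11, 8, 6, 4, 2, 6, 12, 10], 9, [(836, [], [2, 4, 5]), (994, [37, 38], [3, 1, 3, 4, 2, 2, 3, 1, 5]), (1868, [37, 38], [0, 3, 1, 4, 3, 1, 4, 2, 4, 5, 3])], [], 0),
  (1, 0, [], 0, [], [], 2670),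
  (0, 6, [6, 4, 8, 6, 11, 8, 6, 4, 2, 6, 10], 8, [(1838, [], [4, 5]), (1426, [34, 44, 45], [1, 3, 1, 4, 5, 3, 1, 4, 3, 5]), (2194, [37, 38], [4, 3, 1, 3, 4, 2, 2, 5, 3])], [], 0),
  (1, 0, [], 0, [], [], 2672),
  (0, 6, [4, 8, 6, 12, 11, 8, 6, 4, 2, 6, 10], 22, [(2142, [], []), (1235, [33, 45], [4, 2, 3, 1, 3, 4, 2, 3])], [], 0),
  (1, 0, [], 0, [], [], 2674),
  (0, 6, [4, 8, 6, 10, 8, 6, 4, 2, 6, 13, 10], 33, [(1501, [38], [0, 4, 3, 5, 3, 4, 2, 3, 4, 3, 5]), (2529, [33, 44, 45, 45], [0, 2, 3, 1, 3, 5, 3, 1, 3, 4]), (1616, [37], [3, 4, 2, 4, 3, 4, 5, 3, 1, 3])], [], 0),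
  (1, 0, [], 0, [], [], 2676),
  (0, 6, [4, 8, 6, 11, 8, 6, 4, 2, 6, 13, 10], 9, [(1666, [], [4, 5]), (1030, [37, 38], [2, 2, 3, 0, 1, 4, 2, 3, 4, 2, 5]), (190, [37, 38, 37], [1, 2, 2, 3, 1, 3, 4, 2, 3, 1, 3])], [], 0),
  (1, 0, [], 0, [], [], 2678),
  (0, 6, [4, 8, 6, 11, 8, 6, 4, 2, 6, 12, 10], 22, [(1197, [], [4, 2, 3, 0, 1, 3, 4, 5, 3]), (2359, [37, 38], [2, 4, 3, 4, 2, 2, 3, 1])], [], 0),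
  (1, 0, [], 0, [], [], 2680),
  (0, 6, [4, 6, 8, 6, 10, 8, 6, 4, 2, 6, 10], 8, [(806, [], [4, 3, 5, 3, 4, 2, 2]), (421, [33, 34], [4, 2, 3, 5, 3, 4, 2, 3, 4]), (1193, [38], [4, 5, 3, 0, 4, 2, 2, 3, 4])], [], 0),
  (1, 0, [], 0, [], [], 2682),
  (0, 6, [8, 11, 8, 6, 10, 8, 6, 4, 2, 6, 10], 8, [(798, [37, 38, 37], [1, 2, 2, 4, 2, 3, 0, 4, 5]), (813, [37, 38], [3, 0, 1, 4, 2, 3, 4, 3, 1, 5]), (1835, [37, 38], [0, 3, 1, 3, 1, 4, 5, 3, 1, 4, 2, 4])], [], 0),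
  (1, 0, [], 0, [], [], 2684),
  (0, 6, [10, 10, 8, 6, 4, 2, 11, 11, 8, 6, 10], 22, [(1559, [37, 38], [3, 0, 1, 4, 3, 4, 2, 4, 5, 3, 1]), (1612, [], [2, 2, 3, 1, 3, 5, 3, 4, 2, 4])], [], 0),
  (1, 0, [], 0, [], [], 2686),
  (0, 6, [8, 13, 10, 8, 6, 4, 2, 10, 8, 6, 10], 8, [(1572, [37, 38, 37], [2, 2, 3, 4, 5, 0]), (2017, [], [2, 4, 3, 4, 2, 3, 4, 2, 3, 5]), (2046, [37], [1, 4, 2, 4, 3, 4, 2, 4, 5, 3])], [], 0),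
  (1, 0, [], 0, [], [], 2688),
  (0, 6, [11, 8, 11, 8, 6, 4, 2, 11, 8, 6, 10], 16, [(1610, [], [1, 2, 2, 4]), (2606, [], [2, 3, 4, 2, 3, 1, 4, 2]), (1893, [38, 37], [2, 2, 4, 2, 3, 4, 3, 4, 2, 5])], [], 0),
  (1, 0, [], 0, [], [], 2690),
  (0, 6, [11, 11, 8, 6, 4, 2, 10, 8, 6, 13, 10], 15, [(1558, [], [1, 4, 2, 2]), (2342, [38, 37], [1, 2, 5, 3, 1, 3, 4, 3, 4, 2, 2]), (2448, [37], [0, 2, 4, 3, 4, 3, 5, 3, 1, 3])], [], 0)]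

def stepC17 : List (Nat × Nat × List Nat × Nat × List (Nat × List Nat × List Nat) × List (Nat × List Nat × List Nat) × Nat) := [(1, 0, [], 0, [], [], 2692),
  (0, 6, [8, 11, 8, 6, 4, 2, 11, 8, 6, 13, 10], 9, [(2385, [37], [2, 2, 3, 4, 2, 4, 5, 3, 1, 3, 5]), (2022, [], [0, 2, 4, 2, 3, 1, 3, 4, 3, 4, 2]), (1157, [37], [2, 4, 3, 5, 3, 1, 3, 4, 2])], [], 0),
  (1, 0, [], 0, [], [], 2694),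
  (0, 6, [2, 4, 6, 8, 10, 8, 6, 4, 2, 6, 10], 8, [(475, [37, 38], [2, 2, 4, 3, 5, 0]), (2013, [37], [1, 2, 2, 3, 0, 4, 5, 3, 1, 4]), (556, [], [0, 4, 3, 0, 1, 4, 2])], [], 0),
  (1, 0, [], 0, [], [], 2696),
  (0, 6, [0, 2, 4, 10, 8, 6, 4, 2, 11, 8, 6], 9, [(130, [37, 38], [0, 2, 2, 3, 1, 5, 3, 4, 2, 4, 3]), (964, [38, 37], [0, 2, 3, 1, 4, 3, 1, 4, 2]), (1696, [], [2, 3, 4, 2, 4, 3])], [], 0),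
  (1, 0, [], 0, [], [], 2698),
  (0, 6, [2, 6, 4, 10, 8, 6, 4, 2, 11, 8, 6], 22, [(2063, [38, 37], [1, 2, 4, 2, 3, 1, 5, 3, 4, 2]), (2514, [], [1, 4, 2, 4, 3, 5, 3, 4, 2, 2])], [], 0),
  (1, 0, [], 0, [], [], 2700),
  (0, 6, [6, 4, 13, 10, 8, 6, 4, 2, 10, 8, 6], 8, [(1818, [], [1, 5]), (1867, [38, 37], [4, 5, 3, 1, 4, 2, 3]), (836, [], [1, 2, 4, 5, 3, 4, 3, 1])], [], 0),
  (1, 0, [], 0, [], [], 2702),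
  (0, 6, [6, 4, 11, 11, 8, 6, 4, 2, 10, 8, 6], 14, [(1828, [], [1, 2]), (1629, [37, 38], [0, 3, 0, 1, 3, 4]), (1754, [], [3, 4, 2, 3, 1, 4, 2, 3, 1, 5])], [], 0),
  (1, 0, [], 0, [], [], 2704),
  (0, 6, [6, 4, 10, 8, 6, 4, 2, 13, 10, 8, 6], 22, [(913, [37, 38, 37], [1, 2, 3, 1, 3, 4, 3, 4, 5, 3, 1]), (1841, [37, 38], [2, 2, 4, 3, 0, 1, 4, 5, 3, 1, 4])], [], 0),
  (1, 0, [], 0, [], [], 2706),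
  (0, 6, [4, 6, 4, 10, 8, 6, 4, 2, 11, 8, 6], 8, [(1826, [], [1, 5]), (1722, [37, 38], [1, 2, 4, 3, 0, 5, 3]), (2195, [37, 38], [0, 4, 2, 4, 5, 3, 1, 3, 4, 2, 4, 5])], [], 0),
  (1, 0, [], 0, [], [], 2708),
  (0, 6, [8, 6, 4, 10, 8, 6, 4, 2, 11, 8, 6], 8, [(731, [37, 38, 37], [5, 3, 1, 4]), (1261, [45], [1, 3, 4, 2, 3, 5, 3, 1]), (1767, [42, 43, 43, 43, 42, 43, 42], [2, 4, 2, 3, 1, 3])], [], 0),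
  (1, 0, [], 0, [], [], 2710),
  (0, 6, [6, 4, 12, 10, 8, 6, 4, 2, 11, 8, 6], 14, [(2096, [], [1]), (1088, [38, 37], [0, 1, 4, 3, 4, 2, 3, 1, 3, 4]), (2565, [37], [2, 3, 4, 5, 3, 1, 4, 3, 4, 5])], [], 0),
  (1, 0, [], 0, [], [], 2712),
  (0, 6, [8, 6, 4, 11, 8, 6, 4, 2, 11, 8, 6], 8, [(755, [38, 37], [3, 4, 2, 4, 3, 4, 2, 3, 1, 3, 4]), (1486, [34, 33, 45, 45], [4, 2, 5, 3, 1, 3, 4, 2, 2]), (960, [37], [0, 3, 4, 2, 2, 3, 1, 3, 4, 5])], [], 0),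
  (1, 0, [], 0, [], [], 2714),
  (0, 6, [6, 4, 11, 11, 8, 6, 4, 2, 11, 8, 6], 14, [(838, [], [2, 2, 3, 1]), (1472, [33, 45, 45], [0, 4, 3, 4, 2, 3, 4, 2]), (1673, [37, 38], [2, 3, 1, 4, 3, 4])], [], 0),
  (1, 0, [], 0, [], [], 2716),
  (0, 6, [6, 4, 10, 8, 6, 4, 2, 13, 11, 8, 6], 17, [(1834, [], [1, 5]), (2344, [38], [2, 2, 4, 2, 5, 3, 0, 4, 3]), (1053, [37, 38], [0, 4, 2, 2, 3, 4, 3, 1, 4, 3])], [], 0),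
  (1, 0, [], 0, [], [], 2718),
  (0, 6, [6, 4, 11, 8, 6, 4, 2, 13, 11, 8, 6], 8, [(1836, [], [1, 5]), (1268, [42, 43, 43, 42, 43], [2, 2, 4, 2, 3, 4, 2, 4, 3, 1, 4, 3]), (2231, [37], [3, 1, 4, 3, 1, 3, 5, 3])], [], 0),
  (1, 0, [], 0, [], [], 2720),
  (0, 6, [2, 4, 6, 10, 8, 6, 4, 2, 10, 8, 6], 8, [(330, [37, 38], [0, 4, 2, 3, 4, 5, 3, 4, 2, 2, 3, 4]), (921, [42, 43, 43, 43, 43, 42, 43, 42], [4, 2, 2, 5, 3, 4, 2, 3, 1, 3]), (1587, [37, 38], [2, 3, 0, 5, 3, 1, 3, 4])], [], 0),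
  (1, 0, [], 0, [], [], 2722),
  (0, 6, [6, 4, 6, 11, 8, 6, 4, 2, 10, 8, 6], 22, [(2075, [37, 38, 37], [2, 3, 4, 3, 1, 5]), (2146, [37, 38], [1, 2, 3, 5, 3, 1, 4, 3, 4, 5])], [], 0),
  (1, 0, [], 0, [], [], 2724),
  (0, 6, [6, 4, 6, 10, 8, 6, 4, 2, 10, 8, 6], 8, [(1664, [], [2, 4, 2, 2, 5]), (2521, [30, 31, 35], [2, 2, 4, 5, 3, 1, 4, 3, 1, 5]), (2708, [37, 38], [0, 5, 3, 4, 2, 4, 3, 1, 3, 5])], [], 0),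
  (1, 0, [], 0, [], [], 2726),
  (0, 6, [4, 8, 6, 10, 8, 6, 4, 2, 10, 8, 6], 9, [(1602, [37, 38, 37], [2, 3, 4, 2, 2, 5, 0]), (2406, [], [0, 3, 1, 3, 4, 2, 3, 1, 3]), (1330, [25, 26, 25, 25, 46], [0, 1, 4, 2, 2, 3, 4, 2, 3, 1, 5])], [], 0),
  (1, 0, [], 0, [], [], 2728),
  (0, 6, [4, 8, 6, 11, 8, 6, 4, 2, 10, 8, 6], 9, [(1587, [37], [0, 4, 2, 3, 1, 3, 4, 2, 2]), (2369, [], [0, 3, 1, 3, 1, 5, 3, 1, 4, 2, 3]), (1176, [], [1, 5, 3, 1, 3, 4, 2, 4, 5, 3])], [], 0),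
  (1, 0, [], 0, [], [], 2730),
  (0, 6, [4, 6, 10, 8, 6, 4, 2, 12, 10, 8, 6], 8, [(1501, [38, 37], [0, 1, 2, 3, 4, 5, 3, 4, 2, 2, 3]), (1510, [34], [1, 2, 3, 4, 2, 2, 3, 4, 5, 3, 4]), (2178, [37, 38, 37], [0, 2, 4, 3, 1, 3, 1, 4, 5, 3])], [], 0),
  (1, 0, [], 0, [], [], 2732),
  (0, 6, [6, 4, 6, 11, 8, 6, 4, 2, 11, 8, 6], 16, [(1668, [], [4]), (2560, [38], [0, 3, 1, 4, 2, 5, 3, 4]), (2271, [38], [1, 3, 4, 3, 1, 5, 3, 4, 2, 3, 5])], [], 0),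
  (1, 0, [], 0, [], [], 2734),
  (0, 6, [6, 4, 6, 10, 8, 6, 4, 2, 11, 8, 6], 8, [(1670, [], [1, 4, 5]), (2569, [34, 45, 45, 33], [0, 3, 4, 3, 1, 4, 3, 5, 3, 4]), (322, [38], [2, 2, 4, 2, 5, 0, 3, 1])], [], 0),
  (1, 0, [], 0, [], [], 2736),
  (0, 6, [4, 6, 13, 10, 8, 6, 4, 2, 11, 8, 6], 8, [(1587, [37], [0, 4, 2, 2, 3, 1, 3, 1, 4]), (2528, [], [1, 5, 3, 1, 4, 3, 4, 2, 2, 5, 3]), (1428, [33, 33, 45], [2, 3, 1, 3, 5, 3, 4, 3, 4])], [], 0),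
  (1, 0, [], 0, [], [], 2738),
  (0, 6, [4, 8, 6, 11, 8, 6, 4, 2, 11, 8, 6], 14, [(806, [37, 38, 37], [0, 1, 2, 2, 4, 5]), (2411, [44, 45, 45], [2, 2, 4, 3, 4, 5, 3, 1, 3]), (1993, [38, 37], [0, 3, 4, 2, 2, 3, 1, 4, 3, 4])], [], 0),
  (1, 0, [], 0, [], [], 2740),
  (0, 6, [4, 6, 12, 11, 8, 6, 4, 2, 11, 8, 6], 14, [(1666, [], [2, 4, 2]), (737, [37], [4, 3, 0, 5, 3, 4, 2, 2, 3]), (1261, [33, 45, 34, 33], [0, 2, 4, 2, 5, 3, 1, 3, 4, 3, 5])], [], 0),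
  (1, 0, [], 0, [], [], 2742),
  (0, 6, [4, 6, 11, 8, 6, 4, 2, 13, 11, 8, 6], 9, [(1666, [37, 38, 37], [3, 1, 4, 5, 0]), (844, [38, 37], [1, 2, 5, 3, 0, 1, 3, 4]), (2500, [38, 37], [0, 2, 3, 0, 4, 2, 3, 1])], [], 0),
  (1, 0, [], 0, [], [], 2744),
  (0, 6, [10, 8, 6, 4, 6, 4, 2, 8, 11, 8, 6], 8, [(800, [], [1, 2, 3, 5, 3, 1, 4]), (1715, [42, 43, 42, 43, 43, 43, 42, 43, 43], [2, 3, 5, 3, 4, 3, 4, 2]), (424, [], [2, 2, 4, 5, 0, 3, 4, 2, 2])], [], 0),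
  (1, 0, [], 0, [], [], 2746),
  (0, 6, [10, 8, 6, 4, 2, 10, 8, 13, 11, 8, 6], 9, [(1562, [], [1, 2, 2, 4, 5]), (467, [33, 33, 44], [0, 1, 3, 1, 3, 4, 5, 3, 4]), (904, [], [1, 4, 3, 1, 5, 3, 1, 3, 4, 5])], [], 0),
  (1, 0, [], 0, [], [], 2748),
  (0, 6, [0, 2, 4, 6, 4, 2, 10, 8, 10, 8, 6], 14, [(259, [37, 38], [2, 2, 4, 2, 3, 0, 4, 2, 4]), (718, [33, 44, 45], [0, 2, 4, 2, 5, 3, 1, 3, 4, 5, 3]), (2282, [37, 38], [3, 5, 3, 4, 3, 1, 4, 2, 3, 5])], [], 0),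
  (1, 0, [], 0, [], [], 2750),
  (0, 6, [10, 8, 6, 4, 6, 4, 2, 8, 10, 8, 6], 15, [(2331, [37, 38], [4, 3, 0, 5, 3, 4, 2, 3]), (2700, [38, 37], [0, 1, 4, 2, 3, 4, 2, 5, 3]), (983, [38], [2, 4, 3, 0, 1, 4, 2, 5])], [], 0),
  (1, 0, [], 0, [], [], 2752),
  (0, 6, [4, 11, 8, 6, 4, 2, 10, 8, 10, 8, 6], 16, [(1600, [37, 38, 37], [0, 2, 3, 0, 4, 2, 4]), (1860, [37], [1, 4, 2, 4, 3, 5, 3, 1, 4, 3, 5]), (926, [38], [0, 2, 3, 1, 3, 1, 4, 2, 3, 4, 3])], [], 0),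
  (1, 0, [], 0, [], [], 2754),
  (0, 6, [4, 10, 8, 6, 4, 2, 10, 8, 10, 8, 6], 8, [(1265, [37, 38], [1, 4, 2, 4, 3, 4, 2, 2, 3, 5, 3]), (642, [42, 43, 42, 43, 43, 42], [4, 3, 4, 3, 5, 3, 4, 2, 2]), (662, [42, 43, 43, 43], [4, 2, 2, 3, 1, 3, 5, 0])], [], 0),
  (1, 0, [], 0, [], [], 2756),
  (0, 6, [0, 2, 4, 6, 4, 2, 11, 11, 8, 6, 10], 8, [(201, [37, 38], [3, 4, 3, 1, 3, 4, 2, 5, 0]), (1212, [39, 39, 41, 41], [1, 3, 1, 3, 4, 2, 3, 1, 5]), (1776, [37, 38], [0, 4, 3, 4, 2, 3, 4, 2, 2, 5, 3])], [], 0),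
  (1, 0, [], 0, [], [], 2758),
  (0, 6, [0, 2, 4, 6, 4, 2, 13, 11, 8, 6, 10], 15, [(338, [37, 38], [5, 3, 1, 3, 4, 2, 4, 5, 3]), (91, [39, 39, 41, 39, 40, 41], [1, 4, 5, 3, 1, 4, 2, 4, 3, 5]), (1356, [27, 35, 35, 31], [2, 3, 0, 1, 3, 4, 2, 5, 3, 1, 3, 4])], [], 0),
  (1, 0, [], 0, [], [], 2760),
  (0, 6, [2, 4, 11, 8, 6, 4, 2, 11, 8, 6, 10], 8, [(340, [37, 38], [2, 4, 3, 4, 2, 5, 3, 4, 3, 4]), (2725, [27, 28, 35, 36], [0, 1, 3, 1, 3, 4, 2, 5, 3, 4, 2]), (1130, [37, 38, 37], [3, 4, 5, 0, 3, 1, 3, 4, 3])], [], 0),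
  (1, 0, [], 0, [], [], 2762),
  (0, 6, [4, 11, 11, 8, 6, 4, 2, 10, 8, 6, 10], 14, [(1596, [37, 38, 37], [0, 2, 3, 0, 4, 2, 4]), (1566, [37], [0, 2, 4, 3, 1, 4, 2, 5, 3, 4]), (2643, [], [3, 5, 3, 1, 4, 2, 3, 1, 3, 4, 3])], [], 0),
  (1, 0, [], 0, [], [], 2764),
  (0, 6, [4, 13, 11, 8, 6, 4, 2, 10, 8, 6, 10], 9, [(1594, [], [2, 2, 4, 5]), (2602, [], [1, 3, 1, 4, 3, 5, 3, 4, 2, 3]), (2701, [38, 37], [0, 4, 3, 5, 3, 4, 2, 4])], [], 0),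
  (1, 0, [], 0, [], [], 2766),
  (0, 6, [4, 12, 11, 8, 6, 4, 2, 10, 8, 6, 10], 22, [(1881, [37, 38], [4, 2, 2, 5, 3, 4, 3, 1]), (1862, [], [4, 2, 5, 0, 3, 1, 4, 3])], [], 0),
  (1, 0, [], 0, [], [], 2768),
  (0, 6, [4, 12, 10, 8, 6, 4, 2, 10, 8, 6, 10], 16, [(1600, [], [1, 4]), (1860, [37], [0, 5, 3, 4, 2, 2, 3, 4, 2, 5, 3]), (2157, [37], [0, 5, 3, 4, 2, 4, 3, 1, 3])], [], 0),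
  (1, 0, [], 0, [], [], 2770),
  (0, 6, [4, 11, 8, 6, 4, 2, 10, 10, 8, 6, 10], 9, [(1602, [], [4, 5]), (1054, [], [0, 2, 2, 4, 2, 3, 0]), (1816, [38, 37], [4, 2, 3, 4, 2, 4, 5, 3])], [], 0),
  (1, 0, [], 0, [], [], 2772),
  (0, 6, [4, 11, 11, 8, 6, 4, 2, 11, 8, 6, 10], 9, [(1587, [37], [0, 4, 3, 1, 3, 4]), (1538, [], [4, 2, 4, 5, 3, 4, 2, 2, 3, 4, 3]), (1010, [], [0, 5, 3, 1, 4, 3, 4, 2, 2, 5, 3])], [], 0),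
  (1, 0, [], 0, [], [], 2774),
  (0, 6, [4, 12, 11, 8, 6, 4, 2, 11, 8, 6, 10], 8, [(1672, [37, 38, 37], [2, 2, 3, 4, 5, 0]), (1022, [38, 37], [2, 3, 1, 3, 4, 3, 4, 2, 4, 3, 5]), (841, [34, 33, 45, 45], [2, 2, 4, 3, 1, 4, 2, 3, 5, 0, 3])], [], 0),
  (1, 0, [], 0, [], [], 2776),
  (0, 6, [4, 11, 8, 6, 4, 2, 13, 11, 8, 6, 10], 14, [(806, [37, 38, 37], [0, 2, 4, 5]), (1347, [34, 33, 44], [3, 1, 4, 3, 4, 2, 4, 5, 0]), (629, [28, 35, 27, 35], [1, 5, 0, 3, 4, 2, 3, 4, 5])], [], 0),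
  (1, 0, [], 0, [], [], 2778),
  (0, 6, [4, 11, 8, 6, 4, 2, 11, 11, 8, 6, 10], 8, [(1501, [38, 37], [1, 2, 3, 5, 0, 3, 4, 2, 3, 4]), (1478, [45, 45, 33], [0, 3, 4, 3, 1, 4, 2, 4, 3]), (568, [37, 38], [1, 2, 2, 3, 0, 5, 3, 4, 3])], [], 0),
  (1, 0, [], 0, [], [], 2780),
  (0, 6, [4, 10, 8, 6, 4, 2, 11, 11, 8, 6, 10], 9, [(2717, [37, 38, 37], [0, 4, 2, 3, 4, 2, 4, 3, 4, 5]), (1861, [37], [2, 4, 3, 0, 1, 5, 3, 1, 4, 2]), (2426, [37], [0, 1, 2, 4, 2, 2, 3, 1, 4, 5, 3])], [], 0),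
  (1, 0, [], 0, [], [], 2782),
  (0, 6, [4, 11, 8, 6, 4, 2, 10, 8, 6, 13, 10], 14, [(1596, [], [4, 2, 4]), (1339, [37], [1, 3, 0, 4, 2, 2, 3, 4, 2]), (2407, [25, 25, 26, 26], [5, 3, 0, 1, 4, 3, 1, 5, 3])], [], 0),
  (1, 0, [], 0, [], [], 2784),
  (0, 6, [4, 10, 8, 6, 4, 2, 10, 8, 6, 13, 10], 15, [(1594, [], [1, 4, 2, 2]), (880, [38, 37], [4, 2, 2, 3, 4, 5, 3, 4, 3]), (1007, [38, 37], [1, 2, 3, 1, 4, 2, 3, 4, 2, 3, 1])], [], 0),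
  (1, 0, [], 0, [], [], 2786),
  (0, 6, [4, 11, 8, 6, 4, 2, 10, 8, 6, 12, 10], 9, [(1501, [38, 37], [1, 2, 3, 5, 0, 3, 4, 2, 2, 3, 4]), (1486, [33, 44, 34], [2, 4, 2, 3, 5, 0, 3, 1, 3]), (1009, [], [0, 2, 5, 3, 1, 3, 4, 2, 2, 5, 3])], [], 0),
  (1, 0, [], 0, [], [], 2788),
  (0, 6, [4, 10, 8, 6, 4, 2, 10, 8, 6, 12, 10], 8, [(2717, [37, 38, 37], [0, 4, 3, 1, 4, 3, 4, 5]), (1676, [37], [2, 4, 2, 3, 4, 2, 4, 3, 5]), (2618, [38, 37], [2, 3, 1, 3, 1, 4, 3, 5, 3, 4, 2])], [], 0),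
  (1, 0, [], 0, [], [], 2790),
  (0, 6, [8, 12, 11, 8, 6, 4, 2, 10, 8, 6, 10], 8, [(1570, [37, 38, 37], [3, 4, 5, 0]), (2386, [], [0, 3, 5, 3, 1, 3, 4, 2, 3]), (2099, [37, 38], [1, 4, 2, 3, 5, 0, 3, 4, 3, 1, 3])], [], 0),
  (1, 0, [], 0, [], [], 2792),
  (0, 6, [8, 10, 10, 8, 6, 4, 2, 10, 8, 6, 10], 9, [(1572, [37, 38, 37], [3, 4, 5, 0]), (1604, [38], [1, 4, 2, 4, 5, 3, 0, 4, 2, 2, 3, 4]), (2418, [37], [1, 2, 2, 3, 1, 4, 3, 5, 3, 1, 3, 4])], [], 0),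
  (1, 0, [], 0, [], [], 2794),
  (0, 6, [12, 11, 8, 6, 4, 2, 10, 8, 6, 12, 10], 22, [(1573, [38], [2, 3, 1, 4, 5, 0, 3]), (1640, [], [4, 3, 0, 1, 4, 5, 3, 4])], [], 0),
  (1, 0, [], 0, [], [], 2796),
  (0, 6, [0, 2, 4, 6, 4, 2, 11, 8, 6, 12, 11], 8, [(271, [37, 38], [0, 3, 1, 5, 3, 4, 2, 4, 3]), (2143, [33, 45, 34], [4, 3, 4, 2, 4, 3, 1]), (2178, [], [1, 4, 2, 3, 0, 4, 2])], [], 0),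
  (1, 0, [], 0, [], [], 2798),
  (0, 6, [6, 4, 10, 8, 6, 4, 2, 10, 8, 6, 11], 22, [(2689, [37], [2, 4, 2, 5, 3, 1, 3, 5]), (2594, [], [1, 2, 2, 4, 2, 5, 0, 3, 4, 3, 5])], [], 0),
  (1, 0, [], 0, [], [], 2800),
  (0, 6, [4, 11, 11, 8, 6, 4, 2, 10, 8, 6, 11], 8, [(1666, [], [4, 2, 4, 5]), (1640, [37, 38], [2, 3, 5, 3, 4, 3, 1, 3, 5]), (2178, [37, 38, 37], [2, 3, 4, 3, 4, 2, 5])], [], 0),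
  (1, 0, [], 0, [], [], 2802),
  (0, 6, [4, 13, 11, 8, 6, 4, 2, 10, 8, 6, 11], 16, [(2585, [], [1, 2, 5, 3, 0, 4, 2, 2, 3, 4]), (503, [], [2, 2, 4, 3, 1, 5, 3, 1, 3, 4, 3]), (1537, [38, 37], [0, 1, 2, 5, 3, 4, 2, 2, 3, 4, 5, 3])], [], 0),
  (1, 0, [], 0, [], [], 2804),
  (0, 6, [4, 12, 10, 8, 6, 4, 2, 10, 8, 6, 11], 15, [(1600, [37, 38, 37], [0, 3, 0, 4]), (2776, [37], [1, 4, 2, 5, 0, 3, 4, 2, 4, 3, 5]), (2049, [38, 37], [2, 5, 3, 4, 2, 2, 3, 1, 4, 3, 5])], [], 0),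
  (1, 0, [], 0, [], [], 2806),
  (0, 6, [4, 11, 8, 6, 4, 2, 13, 10, 8, 6, 11], 15, [(1542, [37, 38, 37], [0, 2, 2, 3, 0, 4]), (933, [33, 44, 44], [1, 3, 0, 5, 3, 4, 2]), (2231, [37, 38, 37], [4, 2, 2, 3, 0, 4, 2, 4, 3, 5])], [], 0),
  (1, 0, [], 0, [], [], 2808),
  (0, 6, [4, 11, 8, 6, 4, 2, 12, 10, 8, 6, 11], 8, [(1602, [], [4, 2, 4, 5]), (316, [37, 38], [0, 2, 2, 4, 3, 4, 2, 2, 5, 3, 4, 2]), (1302, [43, 42, 43, 43, 42], [4, 2, 2, 3, 1, 3, 1, 5, 3, 4, 2])], [], 0),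
  (1, 0, [], 0, [], [], 2810),
  (0, 6, [4, 11, 11, 8, 6, 4, 2, 11, 8, 6, 11], 17, [(1594, [], [1, 2, 4, 2, 2, 5]), (359, [37, 38], [1, 4, 5, 3, 1, 4, 2, 4]), (2331, [38], [2, 2, 3, 1, 3, 4, 2, 3, 4, 5])], [], 0),
  (1, 0, [], 0, [], [], 2812),
  (0, 6, [4, 12, 11, 8, 6, 4, 2, 11, 8, 6, 11], 9, [(1596, [], [1, 2, 4, 2, 2, 5]), (2473, [37, 38, 37], [0, 2, 2, 3, 4, 3, 1, 4, 2, 4, 3, 1]), (2701, [37, 38], [1, 3, 4, 2, 3, 1, 3, 4, 3])], [], 0),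
  (1, 0, [], 0, [], [], 2814),
  (0, 6, [4, 10, 10, 8, 6, 4, 2, 11, 8, 6, 11], 16, [(1598, [], [2, 4, 2, 2]), (598, [39, 39, 39, 40], [2, 2, 4, 2, 3, 0, 4, 2, 4]), (1543, [33, 44, 44], [0, 3, 5, 3, 1, 4, 2, 3, 4, 2, 2])], [], 0),
  (1, 0, [], 0, [], [], 2816),
  (0, 6, [4, 13, 10, 8, 6, 4, 2, 11, 8, 6, 11], 8, [(1598, [], [1, 4, 2, 2, 5]), (1234, [40, 39, 40, 39, 40, 41], [0, 4, 2, 3, 1, 3, 4, 5]), (775, [45, 34, 45], [1, 2, 3, 1, 4, 3, 4, 2, 5, 3, 4])], [], 0),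
  (1, 0, [], 0, [], [], 2818),
  (0, 6, [4, 12, 10, 8, 6, 4, 2, 11, 8, 6, 11], 9, [(1600, [], [1, 2, 4, 2, 2, 5]), (2520, [37, 38], [2, 3, 0, 4, 2, 3, 4, 2, 5, 3]), (1358, [27, 28, 29], [0, 3, 1, 3, 1, 4, 2, 3, 1, 5])], [], 0),
  (1, 0, [], 0, [], [], 2820),
  (0, 6, [4, 10, 8, 6, 4, 2, 12, 11, 8, 6, 11], 8, [(2585, [37, 38, 37], [3, 4, 2, 3, 1, 3, 4, 2, 5, 3, 1]), (1158, [38, 37], [1, 4, 2, 3, 1, 4, 2, 3, 4, 5, 0]), (170, [33, 45, 34], [1, 4, 3, 5, 3, 4, 2, 3, 1, 4, 5])], [], 0),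
  (1, 0, [], 0, [], [], 2822),
  (0, 6, [4, 11, 8, 6, 4, 2, 10, 8, 6, 13, 11], 33, [(1600, [37, 38, 37], [3, 0, 5, 3, 4, 2, 3, 1, 3]), (2470, [37, 38], [4, 2, 4, 3, 1, 5, 3, 4, 2]), (2687, [38, 37], [0, 3, 5, 3, 1, 3, 1, 4, 2, 4])], [], 0),
  (1, 0, [], 0, [], [], 2824),
  (0, 6, [4, 10, 8, 6, 4, 2, 11, 8, 6, 13, 11], 8, [(1587, [37, 38], [4, 2, 3, 1, 5, 3, 4, 2, 4]), (2698, [38], [2, 3, 0, 4, 2, 3, 4, 2, 2, 3, 4]), (1586, [], [0, 3, 4, 5, 3, 4, 2, 3, 4, 3])], [], 0),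
  (1, 0, [], 0, [], [], 2826),
  (0, 6, [4, 11, 8, 6, 4, 2, 11, 8, 6, 12, 11], 15, [(1600, [], [4]), (2776, [37], [2, 3, 0, 1, 4, 2, 3, 1, 4, 3]), (2352, [], [1, 3, 4, 2, 4, 3, 1, 5, 3])], [], 0),
  (1, 0, [], 0, [], [], 2828),
  (0, 6, [4, 6, 10, 8, 6, 4, 2, 10, 8, 6, 11], 9, [(1600, [37, 38, 37], [2, 3, 1, 4, 2, 5, 0]), (186, [37, 38, 37], [0, 1, 3, 1, 4, 3, 1, 5, 3, 1, 4]), (2549, [42, 43, 42, 43, 43, 43, 43], [3, 4, 2, 3, 1, 3, 1, 4, 5])], [], 0),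
  (1, 0, [], 0, [], [], 2830),
  (0, 6, [6, 12, 10, 8, 6, 4, 2, 10, 8, 6, 11], 8, [(1572, [37, 38, 37], [3, 1, 4, 2, 5, 0]), (1604, [38], [1, 4, 2, 5, 0, 3, 4, 2, 3, 4]), (2318, [37, 38, 37], [1, 2, 3, 1, 3, 4, 2, 3, 1, 4, 2, 5])], [], 0),
  (1, 0, [], 0, [], [], 2832),
  (0, 6, [6, 11, 11, 8, 6, 4, 2, 10, 8, 6, 11], 15, [(1129, [37, 38, 37], [0, 2, 4, 2, 2, 3, 1, 3, 4, 2]), (739, [38, 37], [0, 3, 1, 3, 4, 2, 3, 4, 3, 4, 5]), (740, [45, 33], [4, 2, 2, 3, 5, 3, 4, 3])], [], 0),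
  (1, 0, [], 0, [], [], 2834),
  (0, 6, [4, 2, 0, 6, 8, 12, 11, 8, 6, 4, 2, 6], 8, [(336, [], [3, 4, 2, 5]), (447, [43, 42, 43, 43, 43, 43], [0, 2, 2, 3, 5, 3, 1, 3, 1]), (2382, [], [2, 3, 0, 5, 3])], [], 0),
  (1, 0, [], 0, [], [], 2836),
  (0, 6, [2, 0, 6, 10, 8, 12, 11, 8, 6, 4, 2, 6], 9, [(330, [], [4, 2, 5]), (1276, [43, 43, 42, 43, 43, 43, 43], [2, 3, 4, 5, 3, 4, 2, 2, 3, 1]), (1688, [], [0, 2, 3, 5, 3, 4, 2, 4, 3, 1, 5])], [], 0),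
  (1, 0, [], 0, [], [], 2838),
  (0, 6, [4, 2, 0, 6, 8, 13, 10, 8, 6, 4, 2, 6], 8, [(521, [], [2, 2, 3, 5, 0, 3, 1, 3]), (1193, [37], [2, 4, 3, 4, 2, 4, 5, 3, 4, 2, 4]), (1593, [37, 38], [0, 2, 4, 3, 4, 2, 3, 5])], [], 0),
  (1, 0, [], 0, [], [], 2840),
  (0, 6, [2, 0, 6, 12, 10, 8, 10, 8, 6, 4, 2, 6], 15, [(758, [], [0, 1, 2, 2]), (522, [], [1, 2, 4, 3, 1, 5, 3, 1, 3, 4, 5]), (1336, [32, 32, 26], [0, 4, 2, 3, 1, 3, 4, 2, 3, 4, 2, 2])], [], 0),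
  (1, 0, [], 0, [], [], 2842),
  (0, 6, [2, 0, 6, 10, 8, 13, 10, 8, 6, 4, 2, 6], 8, [(227, [], [1, 4, 2, 5, 3, 1, 4, 3]), (1037, [25, 46, 25, 46], [1, 5, 3, 0, 1, 4, 3, 4, 2, 5, 3]), (2368, [], [0, 2, 4, 2, 2, 3, 0, 4, 2, 4, 3])], [], 0),
  (1, 0, [], 0, [], [], 2844),
  (0, 6, [4, 2, 0, 6, 11, 11, 8, 6, 4, 2, 6, 11], 9, [(332, [], [2, 2, 3, 4, 2, 4, 5]), (2781, [44, 45], [1, 3, 5, 3, 1, 4, 3, 4, 2, 5, 3, 4]), (2259, [37], [2, 4, 2, 5, 0, 3, 4, 2, 3, 1, 4])], [], 0),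
  (1, 0, [], 0, [], [], 2846),
  (0, 6, [4, 2, 0, 6, 10, 8, 6, 4, 2, 6, 13, 11], 9, [(131, [], [1, 3, 4, 2, 4, 3, 4, 3, 1, 5]), (2375, [37, 38, 37], [1, 4, 2, 5, 3, 0, 4, 2, 2, 3, 4]), (2035, [37], [5, 3, 1, 3, 4, 3, 1, 3])], [], 0),
  (1, 0, [], 0, [], [], 2848),
  (0, 6, [4, 2, 0, 6, 8, 11, 8, 6, 4, 2, 6, 11], 8, [(255, [], [0, 4, 2, 3, 4, 5, 3, 1, 3]), (2715, [34, 45], [3, 4, 2, 4]), (1775, [], [0, 2, 3, 4, 2, 2, 3, 4, 2, 3, 1])], [], 0),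
  (1, 0, [], 0, [], [], 2850),
  (0, 6, [4, 2, 0, 6, 13, 10, 8, 6, 4, 2, 6, 10], 9, [(326, [], [2, 2, 3, 4, 5]), (636, [42, 43, 43, 43, 43, 42, 43], [2, 3, 4, 3, 1, 3, 1, 4, 5]), (529, [], [1, 4, 2, 3, 1, 4, 3, 1, 5, 3, 1])], [], 0)]

def stepC18 : List (Nat × Nat × List Nat × Nat × List (Nat × List Nat × List Nat) × List (Nat × List Nat × List Nat) × Nat) := [(1, 0, [], 0, [], [], 2852),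
  (0, 6, [4, 2, 0, 6, 11, 11, 8, 6, 4, 2, 6, 10], 9, [(328, [], [2, 2, 3, 4, 5]), (572, [38], [0, 2, 3, 1, 4, 3, 1, 4, 2]), (370, [], [4, 2, 3, 4, 2, 4, 3, 4, 2, 5])], [], 0),
  (1, 0, [], 0, [], [], 2854),
  (0, 6, [4, 2, 0, 6, 10, 8, 6, 4, 2, 6, 13, 10], 9, [(269, [], [0, 4, 2, 3, 4, 5, 3, 1, 3]), (708, [44, 45, 45], [2, 5]), (2728, [38, 37], [3, 0, 1, 3, 5, 3, 4, 2, 4, 3])], [], 0),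
  (1, 0, [], 0, [], [], 2856),
  (0, 6, [2, 0, 6, 13, 10, 8, 6, 4, 2, 11, 8, 6], 8, [(326, [], [1, 2, 2, 4, 5]), (439, [42], [3, 4, 3, 1, 4, 2, 4, 3, 4, 2]), (1994, [], [2, 4, 3, 4, 5, 3, 1, 4, 3, 1, 5])], [], 0),
  (1, 0, [], 0, [], [], 2858),
  (0, 6, [2, 0, 6, 8, 10, 8, 6, 4, 2, 11, 8, 6], 14, [(129, [], [0, 4, 2, 4, 5, 3, 1, 3, 4, 2, 4, 5]), (1704, [38, 37], [3, 4, 3, 1, 3, 4, 2, 2, 5]), (2320, [37, 38, 37], [3, 4, 2, 4, 5, 3, 4, 2, 3, 4, 2])], [], 0),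
  (1, 0, [], 0, [], [], 2860),
  (0, 6, [4, 2, 0, 11, 8, 6, 4, 2, 11, 8, 6, 10], 8, [(269, [], [0, 3, 1, 5, 3, 1, 4, 2, 3, 4, 2]), (997, [45, 44], [0, 1, 2, 4, 3, 1, 4, 2, 4, 5, 3]), (2218, [], [0, 4, 2, 2, 3, 4, 3])], [], 0),
  (1, 0, [], 0, [], [], 2862),
  (0, 6, [2, 0, 11, 11, 8, 6, 4, 2, 10, 8, 6, 11], 14, [(641, [], [2, 4, 2, 3, 4, 3, 1, 4, 2, 3]), (785, [43, 42], [0, 1, 4, 2, 3, 0, 4, 2, 3, 4, 2, 3]), (1874, [], [2, 2, 3, 1, 5, 3, 4, 3])], [], 0),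
  (1, 0, [], 0, [], [], 2864),
  (0, 6, [2, 0, 12, 10, 8, 6, 4, 2, 10, 8, 6, 11], 8, [(521, [], [0, 1, 4, 2, 5, 3, 4, 3]), (2783, [37, 38, 37], [1, 2, 4, 2, 2, 5, 3, 1, 3, 5]), (2277, [37, 38, 37], [1, 2, 2, 3, 1, 4, 3, 4, 3, 5, 3, 1])], [], 0),
  (1, 0, [], 0, [], [], 2866),
  (0, 6, [2, 0, 6, 4, 6, 12, 11, 8, 6, 4, 2, 6], 8, [(1626, [], [3, 1, 5]), (225, [43, 42, 43, 43, 43, 42, 43], [0, 2, 2, 3, 4, 3, 4, 2, 2, 5]), (1336, [25, 25, 26, 26, 32], [0, 1, 3, 4, 2, 2, 3, 4])], [], 0),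
  (1, 0, [], 0, [], [], 2868),
  (0, 6, [2, 0, 6, 4, 6, 10, 10, 8, 6, 4, 2, 6], 17, [(1628, [], [3, 1, 5]), (1691, [38, 37], [3, 1, 4, 2, 5, 3, 4, 3, 4, 2]), (2258, [37], [2, 2, 5, 3, 0, 4, 3, 1, 3])], [], 0),
  (1, 0, [], 0, [], [], 2870),
  (0, 6, [0, 8, 6, 4, 6, 13, 11, 8, 6, 4, 2, 6], 8, [(1720, [], [1, 5]), (2235, [37, 38, 37], [0, 1, 3, 1, 4, 3, 4, 2, 2, 3]), (1471, [], [2, 4, 5, 3, 1, 4, 3, 4, 2, 5])], [], 0),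
  (1, 0, [], 0, [], [], 2872),
  (0, 6, [0, 8, 6, 4, 6, 12, 11, 8, 6, 4, 2, 6], 9, [(1013, [38, 37], [1, 3, 4, 2, 4, 3, 1, 3]), (784, [37, 38, 37], [1, 2, 2, 3, 4, 2, 5, 3, 4, 3]), (1795, [43, 42, 43, 42], [0, 4, 2, 3, 5, 3, 1, 3, 1])], [], 0),
  (1, 0, [], 0, [], [], 2874),
  (0, 6, [0, 6, 4, 11, 8, 6, 10, 8, 6, 4, 2, 6], 14, [(1634, [], [1]), (370, [], [3, 1, 4, 3, 4, 5, 0, 3, 4]), (286, [33, 33, 45], [0, 1, 2, 4, 3, 4, 2, 2, 5, 3, 4])], [], 0),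
  (1, 0, [], 0, [], [], 2876),
  (0, 6, [0, 6, 4, 8, 6, 13, 10, 8, 6, 4, 2, 6], 9, [(1732, [], [1, 5]), (1317, [], [0, 2, 2, 4, 3, 4, 2, 3, 5, 3, 4, 3]), (1290, [43, 43, 42, 43], [0, 3, 5, 3, 4, 2, 2, 3, 4, 2, 4, 5])], [], 0),
  (1, 0, [], 0, [], [], 2878),
  (0, 6, [0, 4, 6, 4, 8, 6, 11, 8, 6, 4, 2, 6], 8, [(1734, [], [1, 5]), (1735, [43, 42, 43, 43, 43, 43, 42], [0, 1, 4, 2, 2, 3, 1, 5, 3, 1, 4]), (2358, [38, 37], [1, 3, 1, 4, 2, 3, 1, 4, 5, 3, 4])], [], 0),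
  (1, 0, [], 0, [], [], 2880),
  (0, 6, [0, 6, 4, 8, 6, 13, 11, 8, 6, 4, 2, 6], 9, [(1736, [], [1, 5]), (2814, [], [1, 2, 3, 4, 3, 5, 3, 1, 4, 3, 5]), (2801, [37, 38, 37], [1, 5, 3, 1, 3, 4, 2, 4, 3])], [], 0),
  (1, 0, [], 0, [], [], 2882),
  (0, 6, [0, 4, 12, 10, 8, 6, 11, 8, 6, 4, 2, 6], 15, [(2547, [37], [0, 1, 5, 3, 4, 2, 3, 4, 2, 3]), (1731, [37, 38, 37], [3, 1, 3, 4, 3, 1, 5, 3, 4, 2]), (501, [37], [0, 2, 2, 4, 2, 3, 5, 3, 4, 2, 3, 5])], [], 0),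
  (1, 0, [], 0, [], [], 2884),
  (0, 6, [0, 4, 10, 8, 6, 13, 11, 8, 6, 4, 2, 6], 9, [(1063, [37, 38], [1, 4, 2, 5, 3, 0, 1, 4, 3, 4, 5]), (763, [37, 38], [1, 2, 2, 4, 5, 0, 3, 1, 4, 2, 3]), (1129, [], [0, 1, 3, 5, 3, 4, 3, 1, 5, 3])], [], 0),
  (1, 0, [], 0, [], [], 2886),
  (0, 6, [0, 6, 4, 6, 8, 6, 10, 8, 6, 4, 2, 6], 22, [(2683, [37], [3, 0, 1, 4, 3, 5, 3, 4, 2, 3]), (972, [], [0, 1, 3, 1, 3, 4, 3, 4, 2, 4, 3, 4, 2])], [], 0),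
  (1, 0, [], 0, [], [], 2888),
  (0, 6, [0, 4, 6, 8, 6, 13, 10, 8, 6, 4, 2, 6], 8, [(1642, [], [1, 4, 2, 5]), (486, [38], [3, 0, 1, 4, 2, 4, 3, 4, 2]), (2576, [38], [1, 4, 2, 5, 0, 3, 4, 3, 1])], [], 0),
  (1, 0, [], 0, [], [], 2890),
  (0, 6, [0, 6, 8, 11, 8, 6, 10, 8, 6, 4, 2, 6], 8, [(1538, [37, 38, 37], [2, 2, 3, 4, 2, 5, 0]), (1405, [37, 38], [1, 4, 3, 4, 5, 0]), (841, [33, 34], [1, 2, 5, 3, 0, 4, 2, 2, 3, 4, 2, 5])], [], 0),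
  (1, 0, [], 0, [], [], 2892),
  (0, 6, [0, 4, 6, 10, 8, 6, 11, 8, 6, 4, 2, 6], 9, [(2705, [37, 38], [2, 5, 3, 4, 3, 4, 5]), (2632, [], [2, 5, 3, 4, 2, 4, 3, 4, 5, 3]), (2171, [], [2, 2, 5, 0, 3, 1, 3, 4, 3, 1])], [], 0),
  (1, 0, [], 0, [], [], 2894),
  (0, 6, [2, 0, 6, 4, 6, 8, 11, 8, 6, 4, 2, 6], 14, [(1548, [], [3, 1, 4]), (1395, [37], [2, 3, 1, 4, 3, 4, 2, 2, 3, 4, 2]), (1079, [44, 45, 45], [1, 4, 2, 3, 5, 0, 3, 1, 3])], [], 0),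
  (1, 0, [], 0, [], [], 2896),
  (0, 6, [0, 4, 6, 8, 6, 10, 8, 6, 4, 2, 6, 11], 9, [(1612, [37, 38, 37], [3, 4, 2, 5, 0]), (1401, [38], [2, 3, 0, 1, 4, 2, 3, 1, 4, 2, 5]), (2299, [33, 44, 44], [3, 4, 3, 5, 3, 1, 3])], [], 0),
  (1, 0, [], 0, [], [], 2898),
  (0, 6, [0, 6, 11, 8, 6, 10, 8, 6, 4, 2, 6, 11], 14, [(1538, [], [1, 4]), (2079, [38], [2, 2, 4, 2, 3, 5, 0]), (935, [], [2, 2, 5, 3, 1, 3, 1, 4])], [], 0),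
  (1, 0, [], 0, [], [], 2900),
  (0, 6, [0, 4, 8, 6, 10, 8, 10, 8, 6, 4, 2, 6], 9, [(1606, [37, 38, 37], [2, 3, 1, 4, 2, 5, 0]), (2846, [37, 38], [0, 3, 1, 4, 2, 5, 3, 4, 3, 4, 2]), (1999, [37], [2, 2, 5, 3, 0, 4, 2, 3, 4])], [], 0),
  (1, 0, [], 0, [], [], 2902),
  (0, 6, [0, 4, 6, 12, 10, 8, 10, 8, 6, 4, 2, 6], 8, [(2899, [37], [0, 5, 3, 1, 4, 3, 4, 2, 2, 5, 3]), (2306, [38, 37], [1, 4, 5, 3, 4, 2, 4, 3, 1, 4]), (1346, [28, 35, 36], [0, 1, 2, 3, 4, 3, 1, 5, 3])], [], 0),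
  (1, 0, [], 0, [], [], 2904),
  (0, 6, [0, 6, 8, 6, 10, 8, 10, 8, 6, 4, 2, 6], 22, [(2434, [], [2, 2]), (605, [], [1, 4, 2, 2, 3, 1, 3, 4, 5, 3])], [], 0),
  (1, 0, [], 0, [], [], 2906),
  (0, 6, [0, 8, 6, 4, 6, 11, 8, 6, 4, 2, 6, 11], 22, [(964, [37, 38], [0, 1, 2, 3, 1, 3, 5, 3, 1]), (1051, [], [1, 3, 5, 3, 4, 2, 3, 4, 2, 4])], [], 0),
  (1, 0, [], 0, [], [], 2908),
  (0, 6, [0, 6, 4, 8, 6, 10, 8, 6, 4, 2, 6, 11], 15, [(1550, [], [4]), (816, [37, 38], [2, 5, 3, 1, 4, 2]), (1484, [34, 44], [0, 1, 2, 2, 4, 2, 3, 4, 3, 1])], [], 0),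
  (1, 0, [], 0, [], [], 2910),
  (0, 6, [0, 4, 11, 8, 6, 10, 8, 6, 4, 2, 6, 11], 16, [(1612, [37, 38, 37], [0, 3, 0, 1, 4, 2, 4]), (2247, [37, 38], [5, 3, 4, 3, 1]), (2894, [37], [1, 3, 0, 4, 3, 1, 5, 3, 4])], [], 0),
  (1, 0, [], 0, [], [], 2912),
  (0, 6, [0, 4, 8, 11, 8, 6, 4, 2, 11, 8, 6, 11], 14, [(786, [37, 38, 37], [0, 2, 2, 5, 3, 1, 3, 4]), (2611, [37, 38, 37], [0, 3, 1, 4, 2, 5, 3, 1, 3, 5]), (1048, [], [2, 5, 3, 1, 4, 3, 4, 3, 5])], [], 0),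
  (1, 0, [], 0, [], [], 2914),
  (0, 6, [0, 4, 6, 10, 8, 6, 4, 2, 11, 8, 6, 10], 8, [(786, [37, 38, 37], [1, 5, 3, 1, 3, 4, 2, 2, 5]), (2156, [37, 38, 37], [0, 2, 3, 4, 2, 3, 4, 5, 3, 1, 4]), (1283, [37], [1, 3, 0, 5, 3, 1, 3, 4, 5])], [], 0),
  (1, 0, [], 0, [], [], 2916),
  (0, 6, [0, 4, 8, 6, 13, 11, 8, 6, 4, 2, 6, 11], 8, [(983, [37, 38, 37], [0, 1, 4, 2, 3, 1, 3, 4, 5]), (1707, [38], [0, 2, 5, 3, 1, 3, 4, 2, 3, 4, 2, 5]), (557, [37], [0, 4, 2, 3, 5, 3, 4, 2, 4])], [], 0),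
  (1, 0, [], 0, [], [], 2918),
  (0, 6, [0, 4, 8, 6, 11, 11, 8, 6, 4, 2, 6, 11], 15, [(1546, [37, 38, 37], [0, 2, 2, 3, 0, 4]), (731, [], [0, 2, 2, 3, 0, 4, 2, 3, 1, 4]), (1261, [45], [2, 2, 4, 5, 0, 3, 4, 2, 2, 3, 1])], [], 0),
  (1, 0, [], 0, [], [], 2920),
  (0, 6, [0, 4, 8, 6, 10, 8, 6, 4, 2, 6, 12, 11], 14, [(1546, [37, 38, 37], [0, 3, 0, 4]), (796, [37, 38, 37], [1, 3, 4, 3, 1, 3, 4, 2, 5]), (602, [40, 41, 41], [1, 2, 5, 3, 4, 2, 4, 3, 4, 2, 5])], [], 0),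
  (1, 0, [], 0, [], [], 2922),
  (0, 6, [0, 10, 8, 6, 13, 10, 8, 6, 4, 2, 6, 11], 14, [(1538, [], [2, 2, 4]), (2170, [37, 38, 37], [0, 1, 3, 4, 3, 4, 2]), (1861, [], [2, 3, 4, 2, 5, 0, 3, 1, 4, 3, 5])], [], 0),
  (1, 0, [], 0, [], [], 2924),
  (0, 6, [0, 4, 6, 8, 6, 11, 8, 6, 4, 2, 6, 11], 9, [(1640, [], [2, 4, 5]), (884, [38, 37], [3, 4, 2, 5, 0, 3, 4, 2, 2, 3, 4]), (1468, [33, 45, 34, 33], [1, 4, 3, 0, 5, 3, 1, 4, 2, 3])], [], 0),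
  (1, 0, [], 0, [], [], 2926),
  (0, 6, [0, 6, 8, 11, 8, 6, 4, 2, 10, 8, 6, 10], 8, [(1597, [37, 38, 37], [3, 1, 4, 2, 4, 3, 5, 3, 1, 4, 2]), (2768, [], [1, 4, 3, 0, 4, 2, 4, 3, 4]), (2101, [38], [0, 4, 3, 1, 4, 2, 3, 1, 5, 3, 1, 4])], [], 0),
  (1, 0, [], 0, [], [], 2928),
  (0, 6, [0, 8, 12, 11, 8, 6, 4, 2, 11, 8, 6, 11], 9, [(2819, [37, 38, 37], [3, 0, 1, 4, 3, 1, 5]), (1259, [37, 38], [0, 1, 2, 4, 3, 4, 2, 3, 4, 3]), (1252, [], [1, 3, 4, 2, 3, 1, 5])], [], 0),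
  (1, 0, [], 0, [], [], 2930),
  (0, 6, [0, 11, 8, 6, 12, 11, 8, 6, 4, 2, 6, 11], 8, [(1580, [37, 38, 37], [2, 3, 4, 2, 4, 5, 0]), (2293, [38], [1, 3, 4, 2, 2, 3, 4, 3, 4]), (2218, [], [0, 4, 2, 4, 3, 4, 2, 4, 3, 1])], [], 0),
  (1, 0, [], 0, [], [], 2932),
  (0, 6, [0, 10, 13, 10, 8, 6, 4, 2, 11, 8, 6, 11], 8, [(2819, [], [1, 2, 3, 5, 3, 1, 4, 3]), (2726, [], [2, 3, 1, 3, 1, 4, 3, 5, 3, 4]), (2930, [37, 38], [1, 2, 3, 5, 3, 1, 3, 4, 3, 4])], [], 0),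
  (1, 0, [], 0, [], [], 2934),
  (0, 6, [0, 8, 10, 8, 6, 4, 2, 10, 8, 6, 12, 11], 8, [(2839, [38], [2, 2, 3, 1, 4, 3, 4]), (490, [38, 37], [1, 3, 4, 3, 1, 3, 4, 2, 2, 3]), (851, [27, 36, 29], [2, 4, 2, 2, 3, 0, 4, 2, 4, 5])], [], 0),
  (1, 0, [], 0, [], [], 2936),
  (0, 6, [2, 0, 6, 4, 6, 11, 8, 6, 4, 2, 6, 10], 8, [(1636, [], [3, 4, 5]), (1669, [], [1, 2, 3, 4, 3, 1, 5, 3, 1, 3]), (991, [38], [1, 2, 5, 3, 4, 3, 4, 2, 5])], [], 0),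
  (1, 0, [], 0, [], [], 2938),
  (0, 6, [0, 6, 4, 6, 13, 10, 8, 6, 4, 2, 6, 10], 8, [(1730, [], [2, 2, 4, 5]), (2311, [37, 38], [2, 2, 4, 2, 3, 0, 4, 2, 5]), (2796, [37], [3, 1, 5, 3, 4, 2, 3, 1, 4, 2])], [], 0),
  (1, 0, [], 0, [], [], 2940),
  (0, 6, [0, 6, 4, 8, 6, 10, 8, 6, 4, 2, 6, 10], 8, [(816, [], [2, 3, 5, 3, 1, 4]), (1484, [34, 44], [0, 1, 2, 2, 4, 2, 3, 4, 2, 3]), (1258, [42, 43, 43, 43], [0, 1, 3, 4, 3, 5, 3])], [], 0),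
  (1, 0, [], 0, [], [], 2942),
  (0, 6, [0, 4, 8, 6, 12, 10, 8, 6, 4, 2, 6, 10], 8, [(1610, [37, 38, 37], [3, 4, 5, 0]), (2671, [37, 38], [2, 4, 2, 2, 5, 3, 4, 3, 4]), (1049, [], [1, 2, 4, 5, 0, 3, 1, 3, 5])], [], 0),
  (1, 0, [], 0, [], [], 2944),
  (0, 6, [0, 4, 8, 11, 8, 6, 4, 2, 11, 8, 6, 10], 8, [(2547, [37], [1, 5, 3, 4, 2, 4, 3, 4, 3, 1, 5]), (2451, [], [1, 3, 4, 5, 3, 1, 4, 3, 4]), (2409, [38, 37], [5, 3, 0, 4, 2, 2, 3, 1, 3])], [], 0),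
  (1, 0, [], 0, [], [], 2946),
  (0, 6, [0, 4, 10, 8, 6, 11, 8, 6, 4, 2, 6, 10], 8, [(1642, [], [2, 2, 4, 5]), (1653, [37, 38, 37], [3, 0, 4, 2, 5, 3, 1, 3, 4, 3]), (2519, [], [4, 2, 3, 0, 4, 2, 3, 4, 3])], [], 0),
  (1, 0, [], 0, [], [], 2948),
  (0, 6, [0, 4, 8, 6, 11, 8, 6, 4, 2, 6, 12, 10], 8, [(1705, [], [3, 0, 4, 2, 4, 3]), (2246, [], [4, 2, 3, 4, 2, 2, 3]), (2332, [], [0, 1, 2, 3, 4, 3, 4, 2, 4, 5, 3])], [], 0),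
  (1, 0, [], 0, [], [], 2950),
  (0, 6, [0, 10, 10, 8, 6, 4, 2, 11, 11, 8, 6, 10], 8, [(1597, [], [0, 5, 3, 4, 2, 3, 4, 5, 3, 4, 2]), (349, [38], [2, 4, 5, 0, 3, 4, 2, 3, 1, 4]), (2063, [37, 38, 37], [3, 5, 0, 3, 4, 2, 3, 4, 3])], [], 0),
  (1, 0, [], 0, [], [], 2952),
  (0, 6, [0, 8, 13, 10, 8, 6, 4, 2, 10, 8, 6, 10], 33, [(2819, [], [1, 4, 3, 1, 4, 2, 5, 3, 1, 4]), (2091, [38], [1, 3, 5, 0, 3, 1, 3, 4, 2, 4, 5]), (2110, [], [0, 1, 4, 2, 2, 3, 0, 4, 2, 4])], [], 0),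
  (1, 0, [], 0, [], [], 2954),
  (0, 6, [0, 10, 8, 6, 13, 10, 8, 6, 4, 2, 6, 10], 22, [(2773, [37], [1, 4, 2, 4, 3, 5, 0]), (2871, [37], [1, 2, 4, 3, 1, 5, 0, 3, 4, 2])], [], 0),
  (1, 0, [], 0, [], [], 2956),
  (0, 6, [2, 0, 6, 4, 11, 8, 6, 4, 2, 10, 8, 6], 8, [(1634, [], [3, 1, 5]), (2001, [], [0, 3, 0, 1, 3]), (1644, [], [5, 3, 0, 1, 3])], [], 0),
  (1, 0, [], 0, [], [], 2958),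
  (0, 6, [0, 4, 6, 4, 11, 8, 6, 4, 2, 10, 8, 6], 8, [(1738, [], [1, 5]), (1804, [38, 37], [2, 2, 4, 5, 3, 4, 2, 4, 3, 4, 3, 5]), (1802, [38, 37], [0, 2, 4, 2, 2, 3, 4, 2, 3, 4, 3])], [], 0),
  (1, 0, [], 0, [], [], 2960),
  (0, 6, [0, 8, 6, 4, 10, 8, 6, 4, 2, 10, 8, 6], 8, [(1740, [], [1, 5]), (194, [38], [3, 5, 3, 4, 3, 1, 3, 1]), (2715, [34, 45, 45, 33], [2, 4, 5, 0, 3, 4, 3, 1, 5])], [], 0),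
  (1, 0, [], 0, [], [], 2962),
  (0, 6, [0, 6, 4, 10, 10, 8, 6, 4, 2, 10, 8, 6], 9, [(2751, [38], [2, 2, 5, 3, 0, 1, 4, 2, 3, 4, 5]), (2758, [], [3, 5, 0, 3, 1, 4, 3, 4, 5]), (1345, [37, 38], [3, 1, 4, 2, 5, 0, 3, 4, 3, 5])], [], 0),
  (1, 0, [], 0, [], [], 2964),
  (0, 6, [0, 6, 4, 12, 11, 8, 6, 4, 2, 10, 8, 6], 8, [(1411, [], [2, 3, 4, 3, 1, 4, 2, 4, 5]), (421, [33, 33, 44, 44], [0, 1, 2, 2, 4, 2, 3, 5, 3, 4, 2]), (2893, [37, 38, 37], [0, 1, 3, 5, 3, 4, 2, 3, 1, 3, 1])], [], 0),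
  (1, 0, [], 0, [], [], 2966),
  (0, 6, [0, 6, 4, 10, 8, 6, 4, 2, 13, 10, 8, 6], 8, [(1744, [], [1, 5]), (413, [], [2, 3, 0, 4, 2, 3, 4, 5, 3, 1]), (1613, [38, 37], [3, 4, 2, 3, 1, 5, 3, 1, 3, 5])], [], 0),
  (1, 0, [], 0, [], [], 2968),
  (0, 6, [0, 6, 4, 10, 8, 6, 4, 2, 12, 10, 8, 6], 8, [(1746, [], [1, 5]), (1617, [37, 38], [2, 2, 4, 3, 1, 3, 4, 5]), (1846, [], [0, 3, 1, 3, 5, 3, 1, 4, 2, 4, 3, 5])], [], 0),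
  (1, 0, [], 0, [], [], 2970),
  (0, 6, [0, 4, 6, 4, 10, 8, 6, 4, 2, 11, 8, 6], 8, [(1495, [37, 38], [1, 4, 2, 4, 5, 3, 1, 3, 4, 2]), (1512, [33, 33, 45, 45], [5, 3, 1, 4, 3, 4, 2, 2, 3, 4]), (1121, [38], [5, 3, 1, 4, 3, 4, 2, 3, 5])], [], 0),
  (1, 0, [], 0, [], [], 2972),
  (0, 6, [0, 8, 6, 4, 10, 8, 6, 4, 2, 11, 8, 6], 15, [(1946, [], [1]), (1702, [], [2, 3, 0, 4, 2, 4, 5, 3, 1, 4, 2]), (820, [38], [0, 1, 2, 4, 3, 4, 2])], [], 0),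
  (1, 0, [], 0, [], [], 2974),
  (0, 6, [0, 6, 4, 11, 11, 8, 6, 4, 2, 11, 8, 6], 8, [(1635, [], [2, 2, 3, 1, 5, 3, 1, 3, 4, 2]), (1009, [], [1, 3, 1, 5, 3, 1, 4, 3, 4, 5]), (2902, [], [5, 3, 1, 4, 3, 1, 4, 2, 4, 5])], [], 0),
  (1, 0, [], 0, [], [], 2976),
  (0, 6, [0, 6, 4, 11, 8, 6, 4, 2, 12, 11, 8, 6], 9, [(1756, [], [1, 5]), (2210, [38], [1, 3, 0, 5, 3, 1, 3, 4, 2, 5, 3]), (1833, [38, 37], [2, 4, 2, 5, 0, 3, 4, 2, 2, 3, 1])], [], 0),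
  (1, 0, [], 0, [], [], 2978),
  (0, 6, [0, 6, 4, 6, 11, 8, 6, 4, 2, 10, 8, 6], 14, [(1630, [], [1, 2, 2, 4, 2]), (1596, [37], [1, 3, 1, 3, 4, 2, 4, 5]), (1768, [37, 38, 37], [2, 2, 3, 0, 5, 3, 4, 2, 3, 1])], [], 0),
  (1, 0, [], 0, [], [], 2980),
  (0, 6, [0, 6, 4, 6, 10, 8, 6, 4, 2, 10, 8, 6], 8, [(1634, [], [2, 4, 2, 2, 5]), (2247, [], [2, 3, 0, 1, 4, 3, 4]), (2459, [37], [0, 1, 4, 2, 4, 3, 4, 2, 3, 1, 3, 5])], [], 0),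
  (1, 0, [], 0, [], [], 2982),
  (0, 6, [0, 4, 8, 6, 10, 8, 6, 4, 2, 10, 8, 6], 8, [(1675, [], [4, 2, 2, 3, 4, 2, 5, 3, 1, 4]), (1585, [37, 38], [3, 1, 3, 4, 2, 4, 5, 0]), (915, [], [4, 2, 3, 0, 4, 2, 3, 1, 3])], [], 0),
  (1, 0, [], 0, [], [], 2984),
  (0, 6, [0, 4, 8, 6, 11, 8, 6, 4, 2, 10, 8, 6], 8, [(778, [37, 38, 37], [0, 4, 2, 2]), (1356, [27, 35, 31, 35], [2, 3, 1, 4, 3, 5, 3, 1, 4, 3]), (2759, [37, 38], [2, 2, 3, 5, 3, 1, 3, 1, 4])], [], 0),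
  (1, 0, [], 0, [], [], 2986),
  (0, 6, [0, 6, 4, 6, 11, 8, 6, 4, 2, 11, 8, 6], 8, [(1636, [], [1, 4, 5]), (2248, [38, 37], [0, 1, 3, 4, 2, 3, 4, 2, 4]), (2632, [37, 38], [0, 5, 3, 4, 2, 2, 3, 4, 3, 1])], [], 0),
  (1, 0, [], 0, [], [], 2988),
  (0, 6, [0, 4, 6, 13, 10, 8, 6, 4, 2, 11, 8, 6], 14, [(2291, [38], [0, 1, 2, 2, 3, 1, 4, 5]), (2379, [], [1, 3, 1, 5, 3, 4, 2, 2, 3, 1]), (2552, [37, 38], [1, 3, 4, 2, 4, 3, 4, 5, 3, 1])], [], 0),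
  (1, 0, [], 0, [], [], 2990),
  (0, 6, [0, 4, 6, 12, 10, 8, 6, 4, 2, 11, 8, 6], 8, [(983, [37, 38, 37], [4, 3, 0, 1, 3, 5]), (1641, [37, 38], [0, 1, 3, 4, 2, 4, 3, 4, 2, 4, 3]), (1417, [37, 38, 37], [1, 3, 5, 0, 3, 1, 4, 2, 3, 4, 5])], [], 0),
  (1, 0, [], 0, [], [], 2992),
  (0, 6, [0, 4, 6, 11, 8, 6, 4, 2, 12, 11, 8, 6], 22, [(1943, [37, 38], [2, 3, 4, 5, 3, 1, 4, 2, 3]), (1714, [], [0, 3, 4, 2, 5, 3, 1, 4, 2, 3])], [], 0),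
  (1, 0, [], 0, [], [], 2994),
  (0, 6, [0, 4, 13, 11, 8, 6, 4, 2, 10, 8, 6, 10], 9, [(1705, [], [3, 0, 4, 2, 4, 3, 4, 2, 4]), (2256, [], [2, 4, 2, 2, 3, 4, 2, 4, 3, 4, 2]), (2311, [37, 38, 37], [1, 2, 4, 5, 0, 3, 4, 2, 2, 3, 4, 2])], [], 0),
  (1, 0, [], 0, [], [], 2996),
  (0, 6, [0, 4, 12, 10, 8, 6, 4, 2, 10, 8, 6, 10], 8, [(1574, [], [4, 5]), (2064, [37, 38], [0, 1, 3, 1, 4, 3, 5, 3, 1, 4, 3]), (1214, [39, 39, 39, 39, 40], [0, 4, 2, 4, 5, 3, 4, 2, 2])], [], 0),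
  (1, 0, [], 0, [], [], 2998),
  (0, 6, [0, 4, 13, 11, 8, 6, 4, 2, 11, 8, 6, 10], 9, [(1562, [37, 38, 37], [2, 2, 3, 4, 5, 0]), (2397, [34, 45], [0, 4, 3, 1, 4, 2, 3, 5, 3]), (1993, [38, 37], [3, 1, 4, 2, 3, 1, 4, 2, 5, 0])], [], 0),
  (1, 0, [], 0, [], [], 3000),
  (0, 6, [0, 4, 12, 11, 8, 6, 4, 2, 11, 8, 6, 10], 8, [(1612, [37, 38, 37], [2, 2, 3, 4, 5, 0]), (1773, [38, 37], [0, 5, 3, 4, 2, 2, 3, 4, 3, 1]), (2305, [38], [0, 1, 2, 3, 4, 3, 1, 4, 3, 5, 3])], [], 0),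
  (1, 0, [], 0, [], [], 3002),
  (0, 6, [0, 4, 10, 8, 6, 4, 2, 10, 8, 6, 13, 10], 8, [(1471, [37, 38, 37], [1, 2, 2, 4, 2, 3, 1, 4, 5, 3]), (732, [45, 33, 45, 34], [0, 3, 1, 4, 2, 5, 3, 1, 4, 2]), (2539, [40, 39, 41, 39, 40, 41], [0, 2, 2, 4, 3, 5, 3, 1, 4, 3, 1])], [], 0),
  (1, 0, [], 0, [], [], 3004),
  (0, 6, [0, 4, 10, 8, 6, 4, 2, 10, 8, 6, 12, 10], 8, [(2705, [37, 38], [2, 5, 3, 4, 2, 3, 1, 5]), (1880, [], [3, 4, 2, 3, 1, 5, 3, 1, 3]), (2618, [38, 37], [1, 5, 3, 1, 3, 4, 2, 2, 5, 3, 1])], [], 0),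
  (1, 0, [], 0, [], [], 3006),
  (0, 6, [0, 4, 11, 11, 8, 6, 4, 2, 10, 8, 6, 11], 22, [(747, [37, 38], [1, 4, 2, 2, 3, 0, 1, 4, 2, 3, 4]), (2119, [], [1, 2, 2, 4, 2, 5, 3, 4, 2, 4, 3])], [], 0),
  (1, 0, [], 0, [], [], 3008),
  (0, 6, [0, 4, 12, 11, 8, 6, 4, 2, 10, 8, 6, 11], 8, [(1558, [37, 38, 37], [3, 4, 2, 4, 5, 0]), (1569, [37], [1, 2, 2, 3, 4, 2, 3, 1, 5, 3]), (819, [38, 37], [0, 3, 4, 2, 2, 3, 5, 3, 4, 2, 3])], [], 0),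
  (1, 0, [], 0, [], [], 3010),
  (0, 6, [0, 4, 13, 10, 8, 6, 4, 2, 10, 8, 6, 11], 14, [(1558, [37, 38, 37], [0, 2, 2, 3, 0, 4]), (2533, [38, 37], [2, 4, 2, 3, 1, 3, 4, 5, 3, 1, 3, 1]), (2796, [37, 38], [2, 3, 4, 2, 5, 3, 4, 3, 4])], [], 0)]

def stepC19 : List (Nat × Nat × List Nat × Nat × List (Nat × List Nat × List Nat) × List (Nat × List Nat × List Nat) × Nat) := [(1, 0, [], 0, [], [], 3012),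
  (0, 6, [0, 4, 11, 8, 6, 4, 2, 13, 10, 8, 6, 11], 8, [(2385, [37, 38], [2, 2, 4, 2, 5, 0, 3, 1, 4]), (1239, [38, 37], [4, 2, 3, 0, 1, 3, 4, 2, 2, 5, 3]), (618, [39, 41, 39, 41, 39], [0, 4, 2, 3, 1, 4, 3, 1, 4, 2])], [], 0),
  (1, 0, [], 0, [], [], 3014),
  (0, 6, [0, 4, 12, 10, 8, 6, 4, 2, 11, 8, 6, 11], 8, [(1574, [], [1, 2, 4, 2, 2, 5]), (1267, [38], [3, 1, 4, 3, 4, 5, 0]), (1387, [], [0, 2, 3, 4, 5, 3, 4, 2, 2, 3, 5])], [], 0),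
  (1, 0, [], 0, [], [], 3016),
  (0, 6, [0, 4, 11, 8, 6, 4, 2, 11, 8, 6, 12, 11], 8, [(1642, [], [1, 2, 4, 2, 2, 5]), (2940, [38, 37], [1, 3, 5, 0, 3, 4, 2, 3, 1]), (2641, [37], [0, 2, 2, 4, 3, 1, 4])], [], 0),
  (1, 0, [], 0, [], [], 3018),
  (0, 6, [0, 4, 2, 6, 4, 6, 10, 8, 6, 4, 2, 6], 15, [(346, [38, 37], [1, 2, 4, 2, 2, 3, 0, 5, 3, 1]), (461, [], [3, 5, 0, 3, 4, 2, 4, 3, 1, 5]), (1045, [], [2, 3, 4, 5, 3, 1, 4, 2, 4, 3])], [], 0),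
  (1, 0, [], 0, [], [], 3020),
  (0, 6, [0, 2, 6, 4, 6, 11, 11, 8, 6, 4, 2, 6], 14, [(794, [38, 37], [1, 2, 4, 2, 2, 3, 0, 5, 3, 1]), (1765, [37, 38, 37], [1, 4, 3, 1, 4, 5, 0, 3, 4, 2]), (3020, [], [2, 2, 3, 1, 3, 5, 0, 3, 1, 4, 3, 1])], [], 0),
  (1, 0, [], 0, [], [], 3022),
  (0, 6, [0, 2, 6, 4, 6, 12, 10, 8, 6, 4, 2, 6], 8, [(391, [], [4, 2, 3, 0, 4, 2, 3, 4, 5]), (2964, [37, 38, 37], [0, 1, 5, 3, 4, 2, 3, 4, 3]), (1845, [27, 30, 36, 35, 36], [1, 4, 2, 2, 5, 3, 1, 3, 4, 2, 5])], [], 0),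
  (1, 0, [], 0, [], [], 3024),
  (0, 6, [4, 2, 6, 4, 6, 12, 10, 8, 6, 4, 2, 6], 8, [(376, [], [1, 5]), (2261, [43, 42, 43, 43, 43, 42, 43], [2, 5, 3, 4]), (2479, [], [2, 3, 1, 4, 3, 5, 3, 1, 4, 3])], [], 0),
  (1, 0, [], 0, [], [], 3026),
  (0, 6, [4, 2, 6, 4, 8, 6, 10, 8, 6, 4, 2, 6], 8, [(865, [], [1, 4, 2, 4, 5, 3, 4, 2, 4, 3, 1]), (1071, [38], [1, 3, 1, 5, 3, 1, 3, 4, 2]), (1104, [37, 38], [4, 2, 3, 0, 1, 3, 4, 3, 1, 5])], [], 0),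
  (1, 0, [], 0, [], [], 3028),
  (0, 6, [2, 6, 4, 11, 8, 6, 10, 8, 6, 4, 2, 6], 8, [(378, [], [1, 5]), (1681, [38, 37], [2, 2, 4, 2, 3, 4, 2, 3, 1, 4]), (1570, [37, 38, 37], [2, 2, 4, 3, 0, 1, 4, 5, 3, 1, 4])], [], 0),
  (1, 0, [], 0, [], [], 3030),
  (0, 6, [4, 2, 6, 4, 8, 6, 11, 8, 6, 4, 2, 6], 14, [(645, [], [1, 4, 3, 1, 5, 0, 3, 1, 4, 2, 3, 5]), (2743, [43, 43, 43, 42, 43, 43, 43, 43], [0, 2, 2, 4, 3, 1, 4, 5, 3, 1, 4]), (1002, [37], [1, 2, 5, 3, 1, 3, 4, 2, 3, 1])], [], 0),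
  (1, 0, [], 0, [], [], 3032),
  (0, 6, [2, 6, 4, 10, 8, 6, 11, 8, 6, 4, 2, 6], 22, [(1106, [], [1, 3, 5]), (1752, [38], [2, 3, 0, 4, 2, 2, 3, 1, 3, 4, 3])], [], 0),
  (1, 0, [], 0, [], [], 3034),
  (0, 6, [2, 6, 4, 8, 6, 13, 11, 8, 6, 4, 2, 6], 14, [(1530, [38], [0, 2, 2, 3, 4, 5, 3, 1, 4]), (1173, [38, 37], [1, 4, 2, 3, 1, 4, 5, 3, 4, 2, 4]), (2138, [38], [5, 3, 1, 4, 3, 1, 3, 5])], [], 0),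
  (1, 0, [], 0, [], [], 3036),
  (0, 6, [2, 6, 4, 8, 6, 12, 11, 8, 6, 4, 2, 6], 8, [(359, [], [4, 3, 1, 3, 4, 2, 5]), (739, [38, 37], [0, 3, 1, 4, 5, 3, 4, 3, 1]), (698, [34], [2, 2, 3, 4, 2, 3, 1, 3])], [], 0),
  (1, 0, [], 0, [], [], 3038),
  (0, 6, [6, 8, 6, 4, 6, 13, 11, 8, 6, 4, 2, 6], 9, [(879, [37], [0, 1, 4, 3, 1, 4, 2, 4, 3, 4, 2]), (1044, [], [1, 3, 4, 2, 4, 3, 5, 0, 3, 1]), (496, [37, 38, 37], [1, 2, 3, 0, 4, 2, 5, 3, 4, 2, 4])], [], 0),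
  (1, 0, [], 0, [], [], 3040),
  (0, 6, [6, 8, 6, 4, 6, 13, 10, 8, 6, 4, 2, 6], 22, [(1259, [], [1, 2, 4, 2, 3, 1, 3, 5, 3, 1, 3]), (1987, [43, 43, 43, 42, 43, 42], [4, 2, 2, 5, 3, 4, 3, 4, 5])], [], 0),
  (1, 0, [], 0, [], [], 3042),
  (0, 6, [6, 8, 6, 4, 6, 12, 10, 8, 6, 4, 2, 6], 8, [(1291, [37], [0, 4, 2, 3, 1, 3, 1, 4, 5, 3, 4]), (447, [42, 43, 42, 43, 42], [0, 2, 3, 1, 3, 4, 5, 3, 4]), (2427, [37, 38, 37], [1, 2, 4, 3, 0, 5, 3, 1, 4, 2, 4])], [], 0),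
  (1, 0, [], 0, [], [], 3044),
  (0, 6, [2, 4, 6, 4, 8, 6, 10, 8, 6, 4, 2, 6], 14, [(1542, [37], [4, 2, 3, 4, 2, 3, 4, 2, 3, 5]), (740, [33], [0, 2, 3, 0, 1, 3]), (533, [], [4, 3, 5, 3, 1, 3, 4, 2, 4])], [], 0),
  (1, 0, [], 0, [], [], 3046),
  (0, 6, [4, 6, 4, 11, 8, 6, 10, 8, 6, 4, 2, 6], 22, [(2149, [], [1, 2, 4, 3, 0, 4, 5, 3, 4, 2]), (1151, [], [1, 2, 3, 4, 3, 1, 5, 3, 4, 2, 2])], [], 0),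
  (1, 0, [], 0, [], [], 3048),
  (0, 6, [4, 6, 4, 8, 6, 12, 10, 8, 6, 4, 2, 6], 17, [(2084, [], [1, 5]), (2979, [37], [2, 2, 3, 0, 5, 3, 1, 4, 3]), (2784, [37], [2, 2, 5, 0, 3, 4, 2, 4, 3, 1, 4])], [], 0),
  (1, 0, [], 0, [], [], 3050),
  (0, 6, [6, 4, 8, 11, 8, 6, 10, 8, 6, 4, 2, 6], 16, [(1840, [], [1, 2, 2, 4, 2]), (1702, [38, 37], [2, 2, 4, 3, 1, 5, 0, 3, 4]), (2643, [], [0, 4, 2, 3, 0, 4, 3])], [], 0),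
  (1, 0, [], 0, [], [], 3052),
  (0, 6, [6, 4, 6, 4, 8, 6, 11, 8, 6, 4, 2, 6], 8, [(1986, [], [1, 5]), (670, [43, 42, 43, 43, 43, 43], [2, 4, 3, 5, 3, 1, 3, 4, 2, 2, 5]), (2370, [37, 38], [2, 3, 5, 0, 3, 4, 2, 2, 3, 1, 3])], [], 0),
  (1, 0, [], 0, [], [], 3054),
  (0, 6, [4, 6, 4, 10, 8, 6, 11, 8, 6, 4, 2, 6], 8, [(2088, [], [1, 5]), (186, [], [1, 2, 2, 4, 3, 4, 2, 4, 5, 0]), (431, [43, 42, 43, 43, 43, 43, 42, 43, 43], [0, 3, 4, 3, 4, 2, 5, 3, 4, 3])], [], 0),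
  (1, 0, [], 0, [], [], 3056),
  (0, 6, [4, 6, 4, 8, 6, 13, 11, 8, 6, 4, 2, 6], 8, [(2092, [], [1, 5]), (3010, [38, 37], [0, 2, 5, 3, 1, 3, 4, 2, 2, 3, 1, 3]), (2338, [37, 38, 37], [4, 5, 3, 0, 4, 3, 1, 3, 5])], [], 0),
  (1, 0, [], 0, [], [], 3058),
  (0, 6, [6, 4, 12, 10, 8, 6, 11, 8, 6, 4, 2, 6], 8, [(2096, [], [1, 5]), (1927, [], [1, 4, 2, 3, 1, 4, 3, 1, 5, 3, 1]), (2255, [38, 37], [1, 4, 3, 4, 5, 3, 1, 3, 1])], [], 0),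
  (1, 0, [], 0, [], [], 3060),
  (0, 6, [6, 4, 10, 8, 6, 13, 11, 8, 6, 4, 2, 6], 22, [(1114, [], [2, 2, 3, 1, 5, 0]), (2879, [37, 38], [1, 3, 0, 5, 3, 4, 2, 3, 4, 3, 1])], [], 0),
  (1, 0, [], 0, [], [], 3062),
  (0, 6, [2, 6, 4, 6, 8, 6, 10, 8, 6, 4, 2, 6], 9, [(378, [], [1, 2, 2, 4, 2, 5]), (2341, [37, 38], [5, 3, 1, 3, 4, 3, 1]), (2953, [37, 38], [0, 1, 3, 4, 2, 5, 3, 4, 2, 2])], [], 0),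
  (1, 0, [], 0, [], [], 3064),
  (0, 6, [4, 6, 4, 6, 8, 6, 10, 8, 6, 4, 2, 6], 15, [(1662, [], [2, 4, 2, 2]), (1404, [33, 45, 34, 45], [4, 5, 0, 3, 1, 3]), (615, [38, 37], [0, 3, 1, 3, 4, 2, 2, 3, 4, 2, 5])], [], 0),
  (1, 0, [], 0, [], [], 3066),
  (0, 6, [6, 4, 6, 11, 8, 6, 10, 8, 6, 4, 2, 6], 22, [(881, [37, 38, 37], [0, 1, 2, 3, 4, 2, 5, 3, 4, 3, 4]), (2518, [], [1, 2, 4, 2, 2, 3, 0, 1, 4, 2, 5])], [], 0),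
  (1, 0, [], 0, [], [], 3068),
  (0, 6, [4, 6, 8, 6, 10, 8, 6, 4, 2, 10, 8, 6], 8, [(1672, [37, 38, 37], [3, 1, 4, 2, 5, 0]), (2400, [], [1, 2, 3, 4, 3, 5, 0, 3, 1, 4]), (294, [45, 34, 45], [0, 2, 5, 3, 4, 2])], [], 0),
  (1, 0, [], 0, [], [], 3070),
  (0, 6, [4, 6, 4, 6, 8, 6, 11, 8, 6, 4, 2, 6], 8, [(1940, [], [1, 5]), (2763, [38, 37], [1, 4, 3, 1, 3, 4, 2, 5, 3, 1, 3]), (2511, [37, 38, 37], [2, 4, 2, 2, 5, 3, 1, 4, 2, 3])], [], 0),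
  (1, 0, [], 0, [], [], 3072),
  (0, 6, [6, 4, 6, 10, 8, 6, 11, 8, 6, 4, 2, 6], 8, [(1822, [], [2, 4, 2, 5]), (1118, [38], [2, 2, 4, 3, 1, 3, 1, 5, 3]), (424, [37, 38, 37], [1, 3, 5, 3, 1, 4, 2, 4, 3])], [], 0),
  (1, 0, [], 0, [], [], 3074),
  (0, 6, [4, 6, 8, 10, 8, 6, 11, 8, 6, 4, 2, 6], 14, [(806, [37, 38, 37], [0, 1, 2, 2, 5]), (2855, [45, 33], [1, 4, 2, 3, 0, 4, 3, 5, 3, 1]), (2665, [38, 37], [2, 4, 5, 3, 4, 2, 2, 3, 1, 5])], [], 0),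
  (1, 0, [], 0, [], [], 3076),
  (0, 6, [0, 2, 6, 4, 6, 8, 11, 8, 6, 4, 2, 6], 8, [(378, [], [2, 2, 3, 4, 2, 5]), (2061, [38, 37], [0, 4, 3, 1, 4, 3, 4, 2, 5, 3]), (2874, [], [1, 2, 3, 4, 2, 3, 5, 0, 3, 1])], [], 0),
  (1, 0, [], 0, [], [], 3078),
  (0, 6, [0, 2, 4, 6, 8, 10, 8, 6, 4, 2, 6, 11], 9, [(255, [37, 38], [4, 2, 3, 5, 3, 4, 2, 2, 3, 4, 2]), (728, [33, 45, 34], [5, 0, 3, 1, 4, 2, 3, 5]), (2282, [38, 37], [2, 2, 5, 0, 3, 4, 2, 3, 4, 2])], [], 0),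
  (1, 0, [], 0, [], [], 3080),
  (0, 6, [2, 6, 4, 6, 8, 13, 11, 8, 6, 4, 2, 6], 17, [(406, [], [4, 2, 5]), (549, [37, 38, 37], [4, 2, 3, 4, 2, 2, 3, 1, 3, 5]), (2566, [37, 38], [2, 2, 4, 2, 5, 0, 3, 4, 2, 3, 5])], [], 0),
  (1, 0, [], 0, [], [], 3082),
  (0, 6, [6, 4, 8, 6, 11, 8, 11, 8, 6, 4, 2, 6], 8, [(1592, [], [2, 2, 4, 2, 5]), (235, [37, 38], [2, 2, 3, 4, 5, 0, 3]), (1346, [28, 35, 31], [1, 4, 2, 2, 3, 1, 5, 3, 1, 4, 3])], [], 0),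
  (1, 0, [], 0, [], [], 3084),
  (0, 6, [2, 6, 4, 6, 8, 11, 8, 6, 4, 2, 6, 10], 9, [(409, [], [3, 4, 2, 5, 3, 1, 4, 3, 1]), (1902, [37], [0, 4, 3, 5, 3, 4, 3, 4, 2, 2]), (1828, [38, 37], [0, 1, 3, 4, 2, 2, 3, 5])], [], 0),
  (1, 0, [], 0, [], [], 3086),
  (0, 6, [6, 4, 6, 12, 10, 8, 10, 8, 6, 4, 2, 6], 8, [(1877, [], [5, 3, 1, 3, 4, 2, 2, 5, 3]), (2186, [], [2, 4, 3, 4, 2, 3, 4, 2, 2, 3]), (1596, [37], [3, 4, 2, 3, 4, 2, 3, 4, 5, 0])], [], 0),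
  (1, 0, [], 0, [], [], 3088),
  (0, 6, [6, 4, 6, 10, 8, 13, 10, 8, 6, 4, 2, 6], 8, [(2123, [], [0, 2, 3, 1, 4, 3, 4, 2, 3, 5, 3]), (2757, [37, 38], [0, 3, 4, 5, 3, 4, 2, 2, 3, 1]), (2207, [], [5, 3, 1, 4, 2, 3, 4, 3, 4, 2])], [], 0),
  (1, 0, [], 0, [], [], 3090),
  (0, 6, [6, 4, 6, 8, 6, 11, 8, 6, 4, 2, 6, 10], 22, [(2592, [], []), (3050, [37, 38], [3, 1, 3, 4, 2, 3, 1, 3, 4, 2, 2])], [], 0),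
  (1, 0, [], 0, [], [], 3092),
  (0, 6, [4, 6, 8, 6, 10, 8, 10, 8, 6, 4, 2, 6], 14, [(1556, [37, 38, 37], [0, 2, 2, 3, 0, 4, 2]), (2785, [37], [4, 2, 3, 4, 2, 3]), (2222, [], [2, 2, 3, 1, 5, 0, 3, 4, 2, 3, 4])], [], 0),
  (1, 0, [], 0, [], [], 3094),
  (0, 6, [2, 4, 6, 8, 10, 8, 10, 8, 6, 4, 2, 6], 9, [(332, [37, 38], [5, 3, 4, 3, 1, 4, 3, 5, 3]), (1949, [34, 44, 45], [3, 0, 5, 3, 1, 3, 4, 2]), (1725, [37], [4, 3, 4, 2, 5, 3, 1, 3, 1])], [], 0),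
  (1, 0, [], 0, [], [], 3096),
  (0, 6, [0, 2, 4, 6, 10, 8, 6, 4, 2, 6, 12, 11], 8, [(344, [37, 38], [1, 4, 2, 3, 1, 4, 3, 5, 3, 4, 3]), (1468, [45], [2, 3, 5, 3, 4, 2, 4, 3, 5]), (555, [], [2, 4, 5, 3, 0, 4, 2, 4, 3, 5])], [], 0),
  (1, 0, [], 0, [], [], 3098),
  (0, 6, [4, 2, 6, 4, 6, 11, 8, 6, 4, 2, 6, 11], 8, [(384, [], [1, 2, 4, 2, 2, 5]), (1137, [27, 36, 28, 35, 36], [0, 3, 1, 3, 4, 2, 5, 3, 1, 3, 4, 2]), (2848, [38], [0, 2, 3, 4, 3, 4, 2, 4, 5])], [], 0),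
  (1, 0, [], 0, [], [], 3100),
  (0, 6, [2, 6, 4, 6, 13, 10, 8, 6, 4, 2, 6, 11], 8, [(392, [], [1, 2, 4, 2, 2, 5]), (2394, [37], [0, 2, 3, 4, 3, 1, 3, 1, 4, 5, 3]), (1727, [37, 38], [1, 4, 2, 2, 5, 0, 3, 4, 2, 3, 1, 4])], [], 0),
  (1, 0, [], 0, [], [], 3102),
  (0, 6, [2, 6, 4, 8, 6, 10, 8, 6, 4, 2, 6, 11], 15, [(1522, [38], [0, 3, 1, 5, 3, 1, 4]), (394, [38], [2, 4, 2, 3, 1, 5, 3, 1, 4, 3, 5]), (2795, [38, 37], [0, 4, 2, 2, 3, 1, 3, 1, 4])], [], 0),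
  (1, 0, [], 0, [], [], 3104),
  (0, 6, [6, 8, 6, 4, 6, 11, 8, 6, 4, 2, 6, 11], 9, [(2086, [], [1, 2, 4, 2, 2, 5]), (1878, [38], [1, 2, 5, 3, 1, 4, 2, 3, 1]), (2982, [38], [2, 4, 3, 1, 4, 2, 4, 5, 3, 4, 2])], [], 0),
  (1, 0, [], 0, [], [], 3106),
  (0, 6, [4, 6, 4, 8, 6, 10, 8, 6, 4, 2, 6, 11], 9, [(1429, [38], [3, 0, 1, 5, 3, 4, 3]), (730, [33, 44, 45], [0, 5, 3, 1, 4, 2, 4, 3, 4]), (2543, [37, 38], [4, 3, 0, 4, 2, 5, 3, 1, 3])], [], 0),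
  (1, 0, [], 0, [], [], 3108),
  (0, 6, [6, 4, 8, 6, 13, 10, 8, 6, 4, 2, 6, 11], 9, [(1834, [], [1, 2, 4, 2, 2, 5]), (2367, [38, 37], [2, 2, 3, 1, 3, 5, 3, 1, 3, 1]), (1669, [], [4, 2, 4, 3, 1, 3, 4, 2, 5, 3])], [], 0),
  (1, 0, [], 0, [], [], 3110),
  (0, 6, [4, 11, 11, 8, 6, 4, 2, 11, 8, 6, 12, 11], 14, [(1596, [], [4]), (1060, [38], [0, 1, 2, 2, 4, 3, 1, 5]), (2028, [38], [3, 1, 4, 3, 1, 5, 0, 3, 1, 4, 2, 3])], [], 0),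
  (1, 0, [], 0, [], [], 3112),
  (0, 6, [6, 4, 8, 6, 10, 10, 8, 6, 4, 2, 6, 11], 9, [(1822, [], [1, 4, 2, 2, 5]), (1678, [38, 37], [4, 3, 0, 1, 4, 5, 3, 4, 2, 2]), (2706, [38, 37], [1, 4, 2, 2, 5, 3, 1, 3, 4])], [], 0),
  (1, 0, [], 0, [], [], 3114),
  (0, 6, [6, 4, 6, 10, 8, 6, 4, 2, 11, 8, 6, 10], 8, [(1836, [], [4, 2, 4, 5]), (1113, [43, 43, 43, 43], [1, 3, 0, 5, 3, 4, 2, 3, 1, 4, 5]), (561, [37, 38, 37], [2, 5, 3, 0, 1, 4, 3, 4, 5])], [], 0),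
  (1, 0, [], 0, [], [], 3116),
  (0, 6, [6, 4, 8, 11, 8, 6, 4, 2, 11, 8, 6, 11], 14, [(1836, [], [2, 4]), (1264, [43, 43, 43, 42, 43], [3, 0, 5, 3, 4, 2, 3, 1, 4]), (1598, [37], [3, 4, 2, 2, 3, 1, 3, 1, 5])], [], 0),
  (1, 0, [], 0, [], [], 3118),
  (0, 6, [6, 4, 8, 6, 13, 11, 8, 6, 4, 2, 6, 11], 8, [(1832, [], [4, 2, 4, 5]), (1780, [37, 38], [2, 2, 5, 3, 1, 4, 2, 3, 1, 4, 5]), (2406, [37], [0, 1, 2, 3, 4, 2, 5, 3, 1, 3, 5])], [], 0),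
  (1, 0, [], 0, [], [], 3120),
  (0, 6, [4, 11, 8, 6, 12, 11, 8, 6, 4, 2, 6, 11], 9, [(1265, [37], [4, 3, 0, 4, 2, 4, 3, 1, 3]), (1715, [42, 43, 42, 43, 43, 43], [0, 5, 3, 1, 4, 2, 3, 1, 4, 3]), (2345, [38, 37], [0, 5, 3, 1, 3, 4, 2, 2, 3, 4, 2])], [], 0),
  (1, 0, [], 0, [], [], 3122),
  (0, 6, [0, 2, 6, 4, 6, 11, 8, 6, 4, 2, 6, 10], 8, [(824, [], [0, 1, 2, 2, 3, 4, 5]), (2700, [], [1, 4, 3, 5, 0, 3, 1, 3, 4, 5]), (2994, [38, 37], [0, 2, 4, 2, 2, 3, 4, 2, 3, 1, 4])], [], 0),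
  (1, 0, [], 0, [], [], 3124),
  (0, 6, [2, 6, 4, 6, 12, 11, 8, 6, 4, 2, 6, 10], 14, [(693, [38], [1, 5, 3, 1, 4, 3, 4, 2, 4, 5, 3, 1]), (2307, [31, 35, 35, 36, 36], [0, 2, 2, 5, 3, 1, 3, 4, 2, 5, 3]), (3115, [], [1, 4, 2, 3, 4, 3, 1, 5, 0, 3, 4])], [], 0),
  (1, 0, [], 0, [], [], 3126),
  (0, 6, [2, 6, 4, 8, 6, 10, 8, 6, 4, 2, 6, 10], 17, [(389, [], [3, 1, 4, 3, 5, 3, 1, 3, 1]), (1818, [37], [2, 2, 3, 4, 2, 4, 3, 5, 0]), (2819, [37, 38, 37], [3, 4, 2, 2, 3, 5, 3, 4, 3])], [], 0),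
  (1, 0, [], 0, [], [], 3128),
  (0, 6, [6, 4, 8, 6, 12, 11, 8, 6, 4, 2, 6, 10], 8, [(1836, [], [2, 2, 4, 5]), (875, [42, 43, 43], [0, 2, 2, 3, 1, 3, 4, 3]), (2832, [37, 38], [0, 3, 4, 2, 2, 3, 1, 3, 5, 3, 4])], [], 0),
  (1, 0, [], 0, [], [], 3130),
  (0, 6, [4, 11, 8, 11, 8, 6, 4, 2, 11, 8, 6, 10], 22, [(1881, [37, 38], [4, 5, 3, 1, 4, 2, 4, 3, 1]), (1902, [], [1, 2, 4, 5, 0, 3, 4, 2, 3])], [], 0),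
  (1, 0, [], 0, [], [], 3132),
  (0, 6, [4, 8, 12, 11, 8, 6, 4, 2, 11, 8, 6, 10], 9, [(1672, [], [2, 2, 4, 5]), (1618, [38], [2, 2, 4, 3, 4, 2, 3, 5, 3]), (2581, [38, 37], [0, 3, 1, 4, 2, 3, 4, 3, 4])], [], 0),
  (1, 0, [], 0, [], [], 3134),
  (0, 6, [4, 11, 11, 8, 6, 4, 2, 10, 8, 6, 13, 10], 8, [(1265, [37], [0, 4, 2, 2, 3, 4, 3, 1, 3]), (1715, [42, 43, 42, 43, 43, 43], [3, 0, 4, 2, 2, 3, 4, 2, 5, 3]), (1493, [], [4, 2, 2, 5, 3, 1, 4, 2])], [], 0),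
  (1, 0, [], 0, [], [], 3136),
  (0, 6, [4, 12, 10, 8, 6, 11, 8, 6, 4, 2, 6, 10], 14, [(1600, [], [1, 2, 4, 2, 2]), (334, [38], [4, 3, 4, 2, 3, 1, 3, 4, 5]), (1238, [39, 39, 41, 39, 40, 41], [2, 5, 3, 4, 2, 2, 3, 1, 3, 5, 3])], [], 0),
  (1, 0, [], 0, [], [], 3138),
  (0, 6, [6, 4, 8, 6, 11, 8, 6, 4, 2, 6, 12, 10], 8, [(1658, [], [2, 4, 5]), (2142, [38], [0, 1, 4, 3, 5, 3, 1, 4, 3, 4, 3]), (2371, [45, 34, 33, 45], [0, 4, 3, 4, 2, 4, 3, 1, 3, 5])], [], 0),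
  (1, 0, [], 0, [], [], 3140),
  (0, 6, [0, 2, 6, 4, 10, 8, 6, 4, 2, 11, 8, 6], 16, [(824, [], [0, 1, 2, 2, 3]), (764, [], [1, 4, 2, 3, 1, 3, 4, 2, 2, 3]), (2970, [38, 37], [1, 2, 2, 3, 4, 3, 4, 5, 3])], [], 0),
  (1, 0, [], 0, [], [], 3142),
  (0, 6, [2, 8, 6, 4, 10, 8, 6, 4, 2, 10, 8, 6], 9, [(362, [37, 38, 37], [1, 5]), (171, [42, 43, 42, 43], [4, 2, 5, 0, 3, 1, 4, 3, 4, 3]), (2303, [33, 44], [3, 1, 5, 3, 4, 3, 1, 4, 5])], [], 0),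
  (1, 0, [], 0, [], [], 3144),
  (0, 6, [2, 6, 4, 10, 10, 8, 6, 4, 2, 10, 8, 6], 9, [(399, [], [0, 5, 3, 4, 2, 3, 1, 3, 4, 2, 3]), (1892, [37], [0, 1, 4, 2, 3, 1, 5, 3, 1]), (3114, [37, 38, 37], [4, 2, 4, 5, 3, 4, 2, 3, 1, 4])], [], 0),
  (1, 0, [], 0, [], [], 3146),
  (0, 6, [2, 8, 6, 4, 11, 8, 6, 4, 2, 10, 8, 6], 9, [(1950, [37, 38, 37], [1, 5]), (2727, [37, 38, 37], [1, 2, 2, 3, 1, 3, 5, 3, 4]), (2050, [37, 38], [0, 5, 3, 1, 3, 4, 2, 3, 1, 4, 5])], [], 0),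
  (1, 0, [], 0, [], [], 3148),
  (0, 6, [2, 6, 4, 12, 11, 8, 6, 4, 2, 10, 8, 6], 16, [(409, [], [1, 2, 3, 5, 0, 3, 4, 2, 3, 1, 5]), (764, [], [0, 1, 3, 4, 3, 4, 2, 4, 3]), (2145, [37, 38, 37], [2, 3, 4, 2, 2, 5, 0, 3, 1, 4])], [], 0),
  (1, 0, [], 0, [], [], 3150),
  (0, 6, [2, 6, 4, 12, 10, 8, 6, 4, 2, 11, 8, 6], 8, [(398, [], [1, 5]), (3146, [37], [2, 3, 4, 2, 3, 4, 2, 3, 4, 2]), (1823, [38, 37], [1, 2, 4, 2, 3, 5, 0, 3, 4, 2])], [], 0),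
  (1, 0, [], 0, [], [], 3152),
  (0, 6, [2, 6, 4, 11, 11, 8, 6, 4, 2, 11, 8, 6], 33, [(392, [], [0, 3, 1, 3, 5, 3, 4, 2, 3, 4, 3, 1]), (1882, [], [3, 5, 3, 1, 4, 3, 1, 4]), (2209, [38, 37], [0, 2, 4, 3, 1, 3, 1, 4, 2])], [], 0),
  (1, 0, [], 0, [], [], 3154),
  (0, 6, [2, 6, 4, 11, 8, 6, 4, 2, 12, 11, 8, 6], 9, [(406, [], [1, 5]), (3003, [37, 38], [3, 1, 4, 2, 3, 5, 0, 3]), (3114, [38, 37], [2, 4, 2, 2, 3, 0, 5, 3, 1, 4])], [], 0),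
  (1, 0, [], 0, [], [], 3156),
  (0, 6, [4, 8, 6, 4, 10, 8, 6, 4, 2, 10, 8, 6], 8, [(2100, [], [1, 5]), (1838, [38], [4, 2, 2, 3, 1, 3, 4, 2, 5, 0]), (2401, [34, 44, 45], [4, 5, 3, 1, 3, 1, 4, 2, 4])], [], 0),
  (1, 0, [], 0, [], [], 3158),
  (0, 6, [4, 8, 6, 4, 11, 8, 6, 4, 2, 10, 8, 6], 15, [(1794, [38], [0, 1, 2, 2, 3, 0, 1, 4, 2]), (2911, [43, 42, 43, 43, 43, 42, 43, 42], [3, 4, 2, 3, 5, 3, 4, 2]), (2180, [37, 38], [0, 4, 2, 4, 3, 1, 3, 1, 5, 3, 1])], [], 0),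
  (1, 0, [], 0, [], [], 3160),
  (0, 6, [11, 8, 6, 4, 10, 8, 6, 4, 2, 10, 8, 6], 14, [(2306, [37, 38], [4, 2, 2, 3, 1, 4, 2, 5, 0]), (690, [28, 29, 30], [1, 4, 3, 4, 2, 5, 0, 3, 1, 4, 3]), (1118, [37], [2, 4, 3, 4, 2, 3, 4, 2, 2, 5])], [], 0),
  (1, 0, [], 0, [], [], 3162),
  (0, 6, [8, 6, 4, 13, 10, 8, 6, 4, 2, 10, 8, 6], 8, [(1205, [38, 37], [1, 2, 2, 4, 5, 3, 0, 1, 4, 2, 3, 5]), (2048, [38, 37], [2, 3, 4, 2, 3, 5, 3, 1, 4, 3]), (3043, [37, 38], [3, 5, 3, 1, 4, 2, 3])], [], 0),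
  (1, 0, [], 0, [], [], 3164),
  (0, 6, [8, 6, 4, 13, 11, 8, 6, 4, 2, 10, 8, 6], 9, [(1699, [37, 38], [3, 0, 4, 2, 2]), (2497, [], [0, 3, 4, 2, 4, 3, 4, 2, 3, 5]), (2084, [37, 38], [1, 3, 4, 3, 4, 2, 5])], [], 0),
  (1, 0, [], 0, [], [], 3166),
  (0, 6, [8, 6, 4, 12, 11, 8, 6, 4, 2, 10, 8, 6], 8, [(731, [37, 38], [3, 0, 1, 4, 2, 4]), (1490, [44, 34, 33], [3, 0, 4, 5, 3, 1, 4]), (2326, [37], [0, 1, 2, 4, 3, 4, 2, 5, 3])], [], 0),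
  (1, 0, [], 0, [], [], 3168),
  (0, 6, [8, 6, 4, 11, 11, 8, 6, 4, 2, 10, 8, 6], 15, [(235, [37], [2, 2, 5, 3, 4, 2]), (1346, [36], [1, 2, 3, 4, 2, 2, 3, 4, 3, 1, 4]), (3085, [], [1, 2, 3, 4, 3, 4, 2, 4, 3, 4])], [], 0),
  (1, 0, [], 0, [], [], 3170),
  (0, 6, [4, 6, 4, 8, 11, 8, 6, 4, 2, 10, 8, 6], 8, [(1429, [38], [3, 0, 1, 5, 3, 4, 2, 3, 4, 2, 2]), (971, [34, 45, 45, 33], [0, 1, 2, 3, 4, 2, 2, 3, 1, 3, 1]), (1966, [], [2, 4, 3, 4, 2, 3, 1, 4, 5, 3])], [], 0)]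

def stepC20 : List (Nat × Nat × List Nat × Nat × List (Nat × List Nat × List Nat) × List (Nat × List Nat × List Nat) × Nat) := [(1, 0, [], 0, [], [], 3172),
  (0, 6, [2, 4, 6, 4, 11, 8, 6, 4, 2, 11, 8, 6], 8, [(1752, [37, 38, 37], [3, 1, 5]), (1452, [45, 44], [2, 2, 4, 2, 3, 4]), (2000, [], [0, 1, 2, 4, 3, 5, 3, 1, 4, 2, 4])], [], 0),
  (1, 0, [], 0, [], [], 3174),
  (0, 6, [6, 8, 6, 4, 10, 8, 6, 4, 2, 11, 8, 6], 8, [(2098, [38], [1, 2, 2, 4, 3, 4, 2, 4, 5, 0]), (2001, [], [1, 2, 2, 3, 4, 3, 5, 0, 3]), (1710, [], [2, 3, 4, 3, 4, 5, 3, 4])], [], 0),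
  (1, 0, [], 0, [], [], 3176),
  (0, 6, [8, 6, 4, 12, 10, 8, 6, 4, 2, 11, 8, 6], 8, [(1699, [37, 38, 37], [2, 5, 3, 1, 4]), (2780, [37, 38], [1, 3, 4, 5, 3, 4, 3, 1, 3]), (1498, [34, 45], [1, 3, 0, 4, 2, 3, 4, 3, 1, 5])], [], 0),
  (1, 0, [], 0, [], [], 3178),
  (0, 6, [8, 6, 4, 11, 11, 8, 6, 4, 2, 11, 8, 6], 8, [(1679, [38], [0, 2, 2, 3, 4, 2, 4, 5, 3, 1, 4]), (551, [38, 37], [3, 4, 3, 1, 3, 5, 3, 1, 4, 2]), (1887, [38, 37], [4, 3, 1, 3, 5, 3, 1, 4, 3, 5])], [], 0),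
  (1, 0, [], 0, [], [], 3180),
  (0, 6, [8, 6, 4, 10, 8, 6, 4, 2, 13, 11, 8, 6], 9, [(2124, [38], [4, 2, 3, 1, 4, 5, 0]), (854, [37], [0, 1, 4, 3, 0, 1, 4, 2]), (566, [], [1, 2, 3, 4, 2, 5, 3, 1, 4, 3, 4])], [], 0),
  (1, 0, [], 0, [], [], 3182),
  (0, 6, [2, 6, 4, 6, 10, 8, 6, 4, 2, 10, 8, 6], 8, [(358, [], [2, 4, 2, 2, 5]), (1140, [], [1, 2, 3, 5, 3, 1, 3, 5]), (610, [39, 39, 39, 41], [1, 4, 2, 3, 1, 4, 5, 3, 1, 3, 5])], [], 0),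
  (1, 0, [], 0, [], [], 3184),
  (0, 6, [4, 6, 4, 6, 10, 8, 6, 4, 2, 10, 8, 6], 8, [(1812, [], [2, 4, 2, 2, 5]), (2783, [38], [0, 2, 4, 3, 1, 4, 2, 4, 3]), (1125, [37, 38, 37], [0, 1, 3, 4, 5, 3, 1, 4, 3, 4, 2, 2])], [], 0),
  (1, 0, [], 0, [], [], 3186),
  (0, 6, [6, 10, 8, 6, 4, 6, 4, 2, 8, 10, 8, 6], 8, [(1784, [], [2, 4, 2, 2, 5]), (1412, [34, 45], [3, 0, 1, 4, 2, 5]), (2947, [], [5, 3, 4, 2, 3, 1, 4, 3, 5])], [], 0),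
  (1, 0, [], 0, [], [], 3188),
  (0, 6, [8, 6, 4, 6, 11, 8, 6, 4, 2, 10, 8, 6], 8, [(1816, [], [2, 4, 2, 2, 5]), (1309, [37], [2, 3, 5, 3, 1, 4, 3, 4, 2, 5, 3]), (1300, [42, 43, 43, 43, 42, 43, 43, 42], [4, 2, 2, 3, 0, 5, 3, 4, 2])], [], 0),
  (1, 0, [], 0, [], [], 3190),
  (0, 6, [6, 4, 6, 13, 11, 8, 6, 4, 2, 10, 8, 6], 9, [(1818, [], [2, 4, 2, 2, 5]), (489, [], [0, 5, 3, 1, 3, 4, 2, 2]), (1099, [38], [0, 1, 3, 1, 3, 5, 3, 4, 2, 3, 4])], [], 0),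
  (1, 0, [], 0, [], [], 3192),
  (0, 6, [6, 4, 6, 13, 10, 8, 6, 4, 2, 10, 8, 6], 8, [(2007, [], [0, 2, 2, 3, 1, 4, 5, 3, 1, 3, 4, 5]), (1603, [], [4, 2, 2, 3, 4, 2, 3, 4, 2, 3]), (2585, [], [2, 2, 4, 3, 4, 2, 3, 5, 3, 1])], [], 0),
  (1, 0, [], 0, [], [], 3194),
  (0, 6, [6, 4, 6, 10, 8, 6, 4, 2, 13, 10, 8, 6], 14, [(1838, [], [1, 2, 4, 2]), (1390, [33, 33, 45, 34], [3, 1, 4, 2, 5, 0, 3, 1, 4, 3]), (410, [], [0, 2, 5, 3, 4, 2, 4, 3, 4, 5])], [], 0),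
  (1, 0, [], 0, [], [], 3196),
  (0, 6, [2, 6, 4, 6, 11, 8, 6, 4, 2, 11, 8, 6], 8, [(824, [], [0, 2, 2, 4, 5]), (3142, [], [3, 1, 4, 3, 4, 2, 4, 3, 4, 2, 2]), (1246, [39, 40, 39], [4, 2, 4, 3, 1, 3, 5, 0, 3])], [], 0),
  (1, 0, [], 0, [], [], 3198),
  (0, 6, [4, 6, 4, 6, 11, 8, 6, 4, 2, 11, 8, 6], 8, [(1826, [], [1, 4, 5]), (1732, [37], [1, 2, 2, 4, 5, 3, 0, 4, 3]), (2998, [38, 37], [2, 4, 3, 1, 3, 4, 2, 3, 4, 2, 3])], [], 0),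
  (1, 0, [], 0, [], [], 3200),
  (0, 6, [6, 10, 8, 6, 4, 6, 4, 2, 8, 11, 8, 6], 14, [(2438, [], [2, 4, 2]), (521, [38], [4, 5, 3, 4, 2, 3, 1]), (2669, [37, 38, 37], [0, 3, 1, 4, 2, 3, 4, 2, 5, 3])], [], 0),
  (1, 0, [], 0, [], [], 3202),
  (0, 6, [6, 4, 6, 12, 11, 8, 6, 4, 2, 11, 8, 6], 8, [(1830, [], [1, 4, 5]), (1581, [37, 38, 37], [2, 2, 5, 3, 1, 3, 1, 5, 3, 4]), (1538, [37, 38, 37], [2, 3, 4, 2, 3, 1, 4, 2, 3])], [], 0),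
  (1, 0, [], 0, [], [], 3204),
  (0, 6, [6, 4, 6, 13, 10, 8, 6, 4, 2, 11, 8, 6], 9, [(1804, [], [1, 2, 2, 4, 5]), (990, [], [3, 0, 5, 3, 4, 2, 3, 4, 2]), (1866, [38, 37], [3, 5, 3, 4, 2, 4, 3, 4, 2])], [], 0),
  (1, 0, [], 0, [], [], 3206),
  (0, 6, [6, 4, 6, 10, 8, 6, 4, 2, 13, 11, 8, 6], 8, [(1836, [], [1, 4, 5]), (146, [42, 43, 43, 43, 43, 42, 43, 43, 43], [0, 1, 2, 3, 5, 3, 1, 3, 1, 4, 3]), (181, [44, 44], [1, 4, 5, 0, 3, 4, 2, 2, 3])], [], 0),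
  (1, 0, [], 0, [], [], 3208),
  (0, 6, [6, 4, 6, 11, 8, 6, 4, 2, 12, 11, 8, 6], 8, [(836, [], [1, 2, 4, 5]), (994, [37, 38], [3, 1, 3, 4, 2, 2, 3, 5]), (2405, [37], [1, 2, 4, 3, 0, 1, 5, 3, 1, 4, 2])], [], 0),
  (1, 0, [], 0, [], [], 3210),
  (0, 6, [6, 4, 6, 11, 8, 6, 4, 2, 10, 8, 6, 10], 9, [(1590, [], [1, 4, 5]), (3145, [38], [3, 5, 3, 4, 2, 3, 1, 4, 3, 1]), (1172, [37, 38, 37], [0, 1, 2, 4, 3, 1, 4, 2, 3, 4, 3])], [], 0),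
  (1, 0, [], 0, [], [], 3212),
  (0, 6, [6, 4, 11, 8, 6, 4, 2, 11, 8, 11, 8, 6], 8, [(1836, [], [1, 2, 4, 5]), (571, [42, 43, 43], [5, 3, 1, 4, 3, 1, 4, 5, 3]), (2427, [37, 38, 37], [3, 1, 4, 2, 4, 5, 0, 3, 1])], [], 0),
  (1, 0, [], 0, [], [], 3214),
  (0, 6, [10, 10, 8, 6, 4, 6, 4, 2, 8, 10, 8, 6], 8, [(1603, [], [2, 2, 4, 2, 3, 0, 4, 2, 2, 5]), (2728, [37, 38, 37], [0, 4, 3, 1, 4, 2, 3, 4, 3, 4]), (2899, [37, 38], [1, 2, 2, 5, 3, 1, 4, 2, 3, 1])], [], 0),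
  (1, 0, [], 0, [], [], 3216),
  (0, 6, [6, 4, 6, 11, 8, 6, 4, 2, 11, 8, 6, 11], 8, [(1590, [], [2, 4, 2, 2, 5]), (2657, [37, 38], [0, 3, 4, 2, 2, 5, 3, 1, 3, 4, 2, 4]), (2814, [37, 38], [0, 2, 3, 1, 3, 4, 2, 3, 1, 5])], [], 0),
  (1, 0, [], 0, [], [], 3218),
  (0, 6, [6, 4, 6, 10, 8, 6, 4, 2, 11, 8, 6, 11], 8, [(1592, [], [2, 4, 2, 2, 5]), (2555, [37, 38], [1, 2, 3, 1, 5, 3, 4, 2, 3, 1, 4]), (1850, [38, 37], [4, 2, 2, 3, 4, 2, 4, 5, 3, 4, 3])], [], 0),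
  (1, 0, [], 0, [], [], 3220),
  (0, 6, [4, 8, 6, 11, 8, 6, 4, 2, 11, 8, 6, 11], 8, [(2585, [], [1, 2, 5, 3, 0, 4, 3, 1, 5]), (1501, [38], [5, 3, 0, 1, 4, 3, 4, 2, 4, 3]), (623, [33, 34, 45], [0, 1, 4, 3, 5, 3, 1, 4, 3, 4])], [], 0),
  (1, 0, [], 0, [], [], 3222),
  (0, 6, [2, 6, 4, 10, 8, 6, 4, 2, 11, 8, 6, 10], 15, [(404, [], [4, 2, 4]), (394, [], [1, 3, 1, 3, 4, 2, 3]), (1187, [37], [2, 5, 3, 4, 2, 2, 3, 1, 3, 4, 3])], [], 0),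
  (1, 0, [], 0, [], [], 3224),
  (0, 6, [4, 6, 4, 11, 8, 6, 4, 2, 10, 8, 6, 10], 8, [(1654, [], [4, 5]), (360, [37, 38, 37], [0, 1, 4, 3, 4, 2, 5, 3, 4, 3, 1]), (1293, [37, 38], [1, 4, 2, 4, 3, 1, 5, 0])], [], 0),
  (1, 0, [], 0, [], [], 3226),
  (0, 6, [8, 6, 4, 10, 8, 6, 4, 2, 10, 8, 6, 10], 8, [(804, [], [2, 2, 3, 4]), (707, [43, 43, 42, 43, 43, 43, 43], [2, 3, 1, 3, 4, 3, 4, 2, 4, 3, 4]), (817, [34, 44], [2, 2, 4, 3, 4, 3, 1, 3, 5, 3])], [], 0),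
  (1, 0, [], 0, [], [], 3228),
  (0, 6, [6, 4, 12, 11, 8, 6, 4, 2, 10, 8, 6, 10], 14, [(1838, [], [4, 2, 4]), (387, [34, 33, 44], [1, 3, 4, 2, 2, 5, 3, 1, 4, 2]), (2503, [38, 37], [1, 4, 3, 1, 5, 0, 3])], [], 0),
  (1, 0, [], 0, [], [], 3230),
  (0, 6, [6, 4, 10, 8, 6, 4, 2, 13, 10, 8, 6, 10], 9, [(1590, [], [2, 2, 4, 5]), (2939, [38, 37], [0, 1, 3, 4, 5, 3, 1, 3, 1, 4, 3]), (408, [38], [0, 2, 2, 3, 5, 3, 1, 3, 4, 2])], [], 0),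
  (1, 0, [], 0, [], [], 3232),
  (0, 6, [6, 4, 11, 8, 6, 4, 2, 11, 11, 8, 6, 10], 8, [(1808, [], [4, 5]), (1267, [37, 38], [1, 4, 2, 4, 3, 4, 2, 4, 5]), (801, [42, 43, 43, 42, 43, 43], [0, 3, 4, 2, 3, 1, 3, 1, 4, 3, 1])], [], 0),
  (1, 0, [], 0, [], [], 3234),
  (0, 6, [6, 4, 11, 8, 6, 4, 2, 10, 8, 6, 13, 10], 8, [(1670, [], [2, 2, 4, 5]), (708, [44, 45, 45], [0, 2, 4, 2, 2, 5, 3, 4, 2, 3, 4]), (2727, [38, 37], [3, 4, 3, 4, 2, 4])], [], 0),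
  (1, 0, [], 0, [], [], 3236),
  (0, 6, [6, 4, 11, 8, 6, 4, 2, 10, 8, 6, 12, 10], 8, [(1808, [], [2, 4, 5]), (844, [], [3, 1, 3, 4, 2, 5, 0, 3, 1, 3, 4]), (1849, [37, 38], [0, 3, 5, 3, 4, 2, 4, 3, 4, 3, 1])], [], 0),
  (1, 0, [], 0, [], [], 3238),
  (0, 6, [8, 6, 4, 10, 8, 6, 4, 2, 10, 8, 6, 11], 14, [(2713, [38], [3, 0, 1, 3, 4, 2, 3, 5, 3]), (1794, [37, 38, 37], [0, 1, 2, 2, 4, 3, 5, 3, 4, 2, 3]), (1286, [43, 42, 43, 43, 43, 42], [0, 2, 4, 3, 1, 3, 4, 2, 4])], [], 0),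
  (1, 0, [], 0, [], [], 3240),
  (0, 6, [6, 4, 13, 10, 8, 6, 4, 2, 10, 8, 6, 11], 8, [(1840, [], [1, 2, 4, 2, 5]), (2592, [38, 37], [0, 2, 3, 4, 2, 3, 5]), (1857, [], [2, 4, 2, 5, 3, 4, 2])], [], 0),
  (1, 0, [], 0, [], [], 3242),
  (0, 6, [6, 4, 12, 10, 8, 6, 4, 2, 10, 8, 6, 11], 22, [(3118, [], [2]), (1214, [39, 40, 39, 40, 41, 41], [1, 4, 3, 5, 3, 4, 2, 3, 4, 2])], [], 0),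
  (1, 0, [], 0, [], [], 3244),
  (0, 6, [6, 4, 13, 11, 8, 6, 4, 2, 10, 8, 6, 11], 8, [(1660, [], [1, 4, 2, 2, 5]), (616, [41, 41, 39, 40, 41, 41], [3, 4, 2, 3, 1, 4, 5, 3, 1, 4]), (808, [37, 38], [0, 1, 2, 3, 4, 2, 3, 4, 2, 4])], [], 0),
  (1, 0, [], 0, [], [], 3246),
  (0, 6, [6, 4, 11, 8, 6, 4, 2, 12, 11, 8, 6, 11], 8, [(1592, [], [4, 2, 4, 5]), (1655, [38, 37], [1, 2, 2, 4, 2, 5, 3, 1, 3]), (2553, [38, 37], [2, 2, 3, 1, 4, 2, 5, 3, 4, 3])], [], 0),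
  (1, 0, [], 0, [], [], 3248),
  (0, 6, [6, 4, 11, 8, 6, 4, 2, 10, 8, 6, 13, 11], 9, [(842, [], [1, 2, 4]), (2969, [37, 38], [1, 4, 2, 2, 3, 0, 1, 5, 3, 1, 4]), (2857, [37, 38], [0, 3, 1, 4, 2, 3, 1, 4, 3, 4])], [], 0),
  (1, 0, [], 0, [], [], 3250),
  (0, 6, [6, 4, 2, 0, 6, 8, 13, 10, 8, 6, 4, 2, 6], 14, [(82, [], [3, 4, 2, 2]), (841, [34], [5, 3, 0, 4, 2, 2, 3, 5]), (2933, [], [2, 3, 4, 2, 5, 3, 4, 3])], [], 0),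
  (1, 0, [], 0, [], [], 3252),
  (0, 6, [0, 4, 2, 0, 6, 4, 6, 10, 8, 6, 4, 2, 6], 15, [(1513, [], [1, 4, 2, 4, 3, 0, 1, 5, 3, 4, 2, 2]), (1117, [45, 45], [3, 1, 3, 4, 5, 3, 4, 2, 3, 5]), (2094, [37], [4, 2, 3, 4, 2, 3, 1, 5, 3, 4])], [], 0),
  (1, 0, [], 0, [], [], 3254),
  (0, 6, [0, 2, 0, 6, 4, 6, 11, 11, 8, 6, 4, 2, 6], 15, [(1227, [], [1, 3, 4, 2, 4, 3, 1, 4, 2, 4, 3]), (1240, [], [2, 2, 4, 5, 3, 0, 4, 2, 3, 1, 4, 5]), (2752, [37], [3, 0, 5, 3, 4, 3, 1, 5, 3, 4])], [], 0),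
  (1, 0, [], 0, [], [], 3256),
  (0, 6, [0, 2, 0, 6, 4, 6, 10, 10, 8, 6, 4, 2, 6], 9, [(1658, [], [3, 1, 5]), (926, [37, 38], [1, 5, 3, 1, 3, 4, 5, 3, 1]), (2380, [], [0, 4, 3, 4, 2, 5, 3, 1])], [], 0),
  (1, 0, [], 0, [], [], 3258),
  (0, 6, [2, 0, 11, 8, 6, 4, 6, 11, 8, 6, 4, 2, 6], 8, [(1716, [], [3, 1, 5]), (1951, [], [0, 2, 4, 3, 0, 1, 4, 2]), (1831, [37, 38, 37], [3, 5, 3, 1, 3, 4, 2, 2])], [], 0),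
  (1, 0, [], 0, [], [], 3260),
  (0, 6, [2, 0, 6, 4, 10, 8, 6, 11, 8, 6, 4, 2, 6], 8, [(2357, [37, 38], [3, 4, 2, 2, 3, 1, 5, 0, 3, 1]), (2562, [], [1, 2, 4, 5, 0, 3, 1, 3, 4]), (1646, [38, 37], [0, 1, 3, 1, 3, 5, 3, 1, 4, 3, 5])], [], 0),
  (1, 0, [], 0, [], [], 3262),
  (0, 6, [0, 4, 6, 8, 6, 4, 6, 11, 8, 6, 4, 2, 6], 8, [(3101, [37, 38], [0, 1, 3, 4, 2, 4, 3, 1, 3, 4, 2]), (2564, [], [1, 3, 1, 5, 3, 4, 2, 3, 4, 3]), (2365, [37], [2, 3, 0, 4, 2, 3, 4, 2, 3, 1, 5])], [], 0),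
  (1, 0, [], 0, [], [], 3264),
  (0, 6, [0, 6, 10, 8, 6, 4, 6, 10, 8, 6, 4, 2, 6], 8, [(1924, [], [1, 5]), (3013, [37, 38], [4, 2, 2, 3, 0, 4, 2]), (2926, [], [0, 2, 3, 4, 2, 4, 3, 4])], [], 0),
  (1, 0, [], 0, [], [], 3266),
  (0, 6, [0, 6, 8, 6, 4, 6, 13, 10, 8, 6, 4, 2, 6], 16, [(1928, [], []), (2277, [37], [4, 2, 3, 1, 3, 4, 2, 5, 3, 1, 3, 5]), (878, [38, 37], [2, 5, 3, 1, 3, 4, 2, 4])], [], 0),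
  (1, 0, [], 0, [], [], 3268),
  (0, 6, [0, 4, 6, 4, 8, 6, 13, 10, 8, 6, 4, 2, 6], 9, [(1281, [38, 37], [1, 2, 3, 1, 5, 0, 3, 4, 2, 4, 3]), (1284, [43, 43, 43, 42], [4, 2, 2, 3, 4, 2, 3, 4, 2, 5]), (2715, [33, 33], [1, 5, 3, 4, 3, 1, 4, 2, 5])], [], 0),
  (1, 0, [], 0, [], [], 3270),
  (0, 6, [0, 6, 8, 6, 4, 10, 8, 6, 4, 2, 10, 8, 6], 8, [(1936, [], [1, 5]), (1075, [37, 38], [1, 2, 2, 4, 2, 3, 4, 5, 3, 4]), (1317, [38], [1, 2, 2, 3, 1, 4, 2, 3])], [], 0),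
  (1, 0, [], 0, [], [], 3272),
  (0, 6, [0, 6, 4, 8, 11, 8, 6, 10, 8, 6, 4, 2, 6], 8, [(1758, [], [2, 2, 4, 2, 5]), (1674, [37, 38], [1, 4, 3, 4, 2, 5, 0, 3, 4]), (2043, [38], [0, 2, 2, 4, 3, 1, 4, 3, 1, 5])], [], 0),
  (1, 0, [], 0, [], [], 3274),
  (0, 6, [0, 4, 6, 4, 10, 8, 6, 11, 8, 6, 4, 2, 6], 9, [(2579, [38, 37], [1, 4, 3, 0, 4, 2, 5, 3, 4, 2]), (2998, [], [1, 2, 2, 3, 1, 4, 2, 3, 1, 3, 5, 3]), (2094, [37, 38], [2, 5, 0, 3, 4, 2, 4, 3, 1, 4])], [], 0),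
  (1, 0, [], 0, [], [], 3276),
  (0, 6, [0, 4, 6, 4, 8, 6, 13, 11, 8, 6, 4, 2, 6], 8, [(1942, [], [1, 5]), (2050, [37, 38, 37], [4, 2, 2, 3, 1, 3, 5, 3, 1, 3]), (2979, [37, 38, 37], [2, 3, 5, 3, 1, 4, 3, 4, 5])], [], 0),
  (1, 0, [], 0, [], [], 3278),
  (0, 6, [0, 6, 4, 12, 10, 8, 6, 11, 8, 6, 4, 2, 6], 15, [(1750, [], [1]), (1325, [], [0, 2, 3, 4, 2, 3, 1, 3, 1]), (351, [26, 26, 32, 25], [1, 2, 2, 3, 4, 3, 1, 5])], [], 0),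
  (1, 0, [], 0, [], [], 3280),
  (0, 6, [0, 6, 4, 10, 8, 6, 13, 11, 8, 6, 4, 2, 6], 8, [(2489, [], [0, 4, 3, 1, 3, 1, 4]), (1323, [37, 38, 37], [0, 3, 4, 2, 2, 3, 1, 4, 2, 5]), (1324, [25, 25, 26, 32, 26, 46, 32], [0, 3, 1, 4, 3, 4, 2, 3, 5, 3, 4])], [], 0),
  (1, 0, [], 0, [], [], 3282),
  (0, 6, [0, 6, 4, 8, 10, 8, 6, 11, 8, 6, 4, 2, 6], 14, [(1397, [], [2, 4, 3, 0, 1]), (599, [33, 44, 34], [1, 3, 1, 4, 2, 3, 5, 3, 4]), (1232, [39, 41, 41, 39], [0, 3, 1, 4, 3, 4, 2, 3, 4, 2, 2])], [], 0),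
  (1, 0, [], 0, [], [], 3284),
  (0, 6, [0, 6, 4, 6, 8, 6, 13, 10, 8, 6, 4, 2, 6], 8, [(1756, [], [1, 4, 2, 5]), (498, [38], [4, 3, 4, 2, 4, 3, 4, 2]), (282, [33, 33, 45, 34], [0, 1, 2, 2, 3, 1, 5])], [], 0),
  (1, 0, [], 0, [], [], 3286),
  (0, 6, [0, 6, 4, 6, 8, 6, 12, 10, 8, 6, 4, 2, 6], 8, [(1635, [], [2, 3, 0, 5, 3, 1, 3, 4]), (2984, [37, 38], [2, 2, 3, 1, 4, 3, 5, 0]), (2406, [], [1, 4, 2, 5, 0, 3, 1, 3, 4, 5, 3])], [], 0),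
  (1, 0, [], 0, [], [], 3288),
  (0, 6, [0, 4, 6, 8, 6, 10, 8, 6, 4, 2, 10, 8, 6], 8, [(1612, [37, 38, 37], [3, 1, 4, 2, 5, 0]), (1401, [38], [2, 3, 0, 1, 4, 2, 3, 4, 2, 5]), (1271, [33, 45, 45], [1, 3, 1, 4, 2, 4, 5, 0, 3])], [], 0),
  (1, 0, [], 0, [], [], 3290),
  (0, 6, [0, 6, 4, 6, 8, 6, 13, 11, 8, 6, 4, 2, 6], 9, [(2489, [], [0, 4, 2, 2, 3, 1, 3, 4, 2, 4]), (899, [37, 38], [0, 1, 4, 2, 2, 3, 1, 4, 2, 3]), (3160, [], [4, 3, 4, 3, 1])], [], 0),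
  (1, 0, [], 0, [], [], 3292),
  (0, 6, [0, 4, 6, 12, 10, 8, 6, 11, 8, 6, 4, 2, 6], 8, [(2899, [37], [2, 3, 4, 2, 5, 3, 1, 3, 4, 5]), (2507, [38, 37], [2, 3, 4, 2, 3, 1, 4, 2, 3, 1, 4]), (2418, [], [0, 2, 4, 3, 4, 3, 1])], [], 0),
  (1, 0, [], 0, [], [], 3294),
  (0, 6, [4, 2, 0, 6, 4, 6, 8, 11, 8, 6, 4, 2, 6], 8, [(1934, [], [2, 2, 3, 4, 2, 5]), (1820, [38, 37], [2, 3, 1, 4, 3, 4, 2, 4, 5, 3, 4]), (1618, [37], [1, 3, 4, 3, 5])], [], 0),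
  (1, 0, [], 0, [], [], 3296),
  (0, 6, [2, 0, 6, 4, 6, 8, 10, 8, 6, 4, 2, 6, 11], 15, [(768, [], [2, 2, 3, 1, 4]), (2349, [37, 38], [2, 3, 1, 3, 5, 0, 3, 4, 2, 4, 3]), (818, [], [4, 5, 3, 1, 3, 4, 3])], [], 0),
  (1, 0, [], 0, [], [], 3298),
  (0, 6, [0, 2, 0, 6, 4, 6, 8, 10, 8, 6, 4, 2, 6], 8, [(1840, [], [1, 2, 2, 4, 3, 1, 4, 2, 5]), (2507, [37], [0, 2, 2, 5, 3, 4, 2, 3, 4, 3, 1]), (3198, [37, 38, 37], [2, 3, 1, 3, 4, 2, 4, 3, 5, 3, 1])], [], 0),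
  (1, 0, [], 0, [], [], 3300),
  (0, 6, [2, 0, 6, 4, 6, 8, 11, 8, 6, 4, 2, 6, 10], 15, [(768, [], [3, 4, 2, 2]), (2277, [37], [0, 5, 3, 4, 2, 4, 3, 1, 4]), (489, [], [1, 2, 4, 2, 2, 3, 1, 4, 3, 1])], [], 0),
  (1, 0, [], 0, [], [], 3302),
  (0, 6, [0, 6, 4, 8, 6, 10, 8, 10, 8, 6, 4, 2, 6], 8, [(1011, [37, 38], [5, 3, 0, 1, 4, 2, 3, 4, 5, 3, 4]), (3253, [37], [3, 1, 3, 4, 2, 5, 0]), (3169, [37, 38], [2, 3, 4, 2, 3, 1, 4, 2])], [], 0),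
  (1, 0, [], 0, [], [], 3304),
  (0, 6, [0, 4, 6, 8, 6, 10, 8, 10, 8, 6, 4, 2, 6], 8, [(2291, [38], [0, 1, 3, 1]), (1554, [], [2, 4, 2, 2, 3, 1, 3, 5]), (116, [40, 41, 39, 40, 41], [0, 1, 3, 4, 2, 4, 3, 5, 3, 1])], [], 0),
  (1, 0, [], 0, [], [], 3306),
  (0, 6, [2, 0, 6, 4, 6, 11, 11, 8, 6, 4, 2, 6, 11], 8, [(2751, [38], [4, 3, 1, 5, 3, 4]), (3094, [37, 38], [1, 3, 0, 4, 5, 3, 1, 4]), (3169, [37, 38, 37], [1, 4, 2, 3, 0, 4, 3, 5, 3])], [], 0),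
  (1, 0, [], 0, [], [], 3308),
  (0, 6, [2, 0, 6, 4, 6, 10, 10, 8, 6, 4, 2, 6, 11], 8, [(1011, [37, 38], [4, 5, 3, 4, 2, 3, 1, 3]), (1575, [37, 38, 37], [3, 1, 3, 5, 3, 1, 4, 3, 1]), (3016, [], [0, 4, 2, 2, 5, 3, 4, 2, 3, 4, 5, 3])], [], 0),
  (1, 0, [], 0, [], [], 3310),
  (0, 6, [0, 4, 6, 4, 8, 6, 10, 8, 6, 4, 2, 6, 11], 15, [(1550, [37, 38], [1, 3, 1, 4, 5, 0]), (1337, [38], [3, 0, 4, 2, 5, 3, 4, 2, 2, 3]), (224, [25, 25, 26, 32, 32, 26, 25], [2, 2, 4, 3, 4, 2, 4, 3, 1, 5])], [], 0),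
  (1, 0, [], 0, [], [], 3312),
  (0, 6, [0, 6, 4, 8, 6, 10, 10, 8, 6, 4, 2, 6, 11], 8, [(1746, [], [1, 4, 2, 2, 5]), (2470, [37, 38], [1, 4, 2, 3, 5, 3]), (1936, [37, 38, 37], [4, 2, 2, 3, 4, 5, 3, 1, 3])], [], 0),
  (1, 0, [], 0, [], [], 3314),
  (0, 6, [0, 6, 4, 6, 10, 8, 6, 4, 2, 11, 8, 6, 10], 8, [(655, [], [1, 2, 2, 3, 4, 2, 3, 1, 4, 3]), (921, [42, 43, 43, 43], [3, 0, 5, 3, 1, 3, 4, 2, 5]), (1074, [37, 38, 37], [0, 3, 4, 3, 1, 4, 3, 5])], [], 0),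
  (1, 0, [], 0, [], [], 3316),
  (0, 6, [0, 6, 4, 8, 6, 13, 11, 8, 6, 4, 2, 6, 11], 9, [(1754, [], [4, 2, 4, 5]), (2642, [], [1, 4, 3, 4, 2, 4, 3, 4, 5]), (552, [38], [0, 1, 2, 2, 4, 5, 3, 1, 4])], [], 0),
  (1, 0, [], 0, [], [], 3318),
  (0, 6, [0, 6, 4, 8, 6, 12, 11, 8, 6, 4, 2, 6, 11], 8, [(182, [], [2, 5, 3, 4, 2, 4]), (1480, [34, 44, 45], [0, 2, 3, 1, 5, 3]), (2472, [37], [4, 2, 4, 3, 1, 5, 3, 1, 3])], [], 0),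
  (1, 0, [], 0, [], [], 3320),
  (0, 6, [0, 6, 4, 8, 6, 11, 11, 8, 6, 4, 2, 6, 11], 22, [(3318, [], [2]), (1410, [45, 33, 45], [0, 2, 4, 2, 3, 4, 2, 5, 3, 4, 2])], [], 0),
  (1, 0, [], 0, [], [], 3322),
  (0, 6, [0, 6, 4, 8, 6, 10, 8, 6, 4, 2, 6, 13, 11], 8, [(1626, [], [4, 2, 4, 5]), (433, [42, 43, 43, 43, 43, 42, 43], [4, 5, 3, 0, 1, 4, 2, 3, 4, 5, 3]), (1967, [38], [2, 2, 3, 4, 3, 1, 3, 5])], [], 0),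
  (1, 0, [], 0, [], [], 3324),
  (0, 6, [0, 6, 4, 8, 6, 10, 8, 6, 4, 2, 6, 12, 11], 33, [(1626, [], [2, 2, 5, 3, 0, 4, 2, 3, 1, 3]), (1308, [43, 43, 43, 43, 42, 43, 42], [4, 2, 4, 3, 4, 2, 2, 3, 5, 3]), (2265, [37, 38, 37], [1, 2, 3, 1, 3, 4, 2, 2, 3, 1, 3])], [], 0),
  (1, 0, [], 0, [], [], 3326),
  (0, 6, [0, 4, 8, 10, 8, 6, 4, 2, 10, 8, 6, 12, 11], 14, [(2705, [37, 38], [2, 5, 3, 4, 2, 3, 1]), (2980, [38], [3, 5, 3, 1, 3, 1, 4, 2, 5, 3, 4]), (1623, [37], [0, 3, 1, 4, 3, 4, 5, 3, 1])], [], 0),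
  (1, 0, [], 0, [], [], 3328),
  (0, 6, [0, 6, 4, 6, 8, 6, 11, 8, 6, 4, 2, 6, 11], 8, [(1021, [37, 38, 37], [0, 3, 1, 4, 3, 1, 4, 2, 5, 3, 4]), (3251, [37, 38, 37], [2, 2, 3, 5, 3, 4, 3, 4]), (2762, [38, 37], [4, 2, 2, 3, 0, 5, 3, 4, 2])], [], 0),
  (1, 0, [], 0, [], [], 3330),
  (0, 6, [2, 0, 6, 4, 6, 10, 8, 6, 4, 2, 6, 13, 10], 8, [(655, [], [0, 2, 4, 3, 1, 4, 2, 3, 1, 5, 3]), (1290, [43, 43, 42, 43, 43, 43], [1, 2, 3, 0, 4, 2, 5, 3, 1, 3, 4, 5]), (1927, [37, 38], [3, 4, 2, 3, 4, 2, 2, 5])], [], 0)]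

def stepC21 : List (Nat × Nat × List Nat × Nat × List (Nat × List Nat × List Nat) × List (Nat × List Nat × List Nat) × Nat) := [(1, 0, [], 0, [], [], 3332),
  (0, 6, [0, 4, 6, 4, 8, 6, 10, 8, 6, 4, 2, 6, 10], 8, [(1337, [38], [1, 2, 2, 3, 4, 5, 0, 3, 1, 3, 5]), (2407, [25, 32, 26, 32], [2, 2, 4, 2, 5, 3, 1, 4, 3, 1, 3]), (970, [], [2, 3, 5, 3, 1, 3, 1, 4, 5])], [], 0),
  (1, 0, [], 0, [], [], 3334),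
  (0, 6, [0, 6, 4, 10, 8, 6, 11, 8, 6, 4, 2, 6, 10], 8, [(1756, [], [2, 2, 4, 5]), (1904, [38], [4, 2, 4, 3, 0, 1, 4, 2]), (3155, [38], [4, 3, 1, 4, 5, 3, 4, 2, 3])], [], 0),
  (1, 0, [], 0, [], [], 3336),
  (0, 6, [0, 4, 11, 8, 11, 8, 6, 4, 2, 11, 8, 6, 10], 8, [(983, [37, 38, 37], [4, 2, 3, 0, 1, 3, 4, 2, 5]), (2898, [38, 37], [1, 4, 2, 4, 5, 3, 1, 4]), (2221, [], [3, 4, 2, 2, 5, 3, 4, 2, 3, 1])], [], 0),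
  (1, 0, [], 0, [], [], 3338),
  (0, 6, [0, 6, 4, 8, 6, 11, 11, 8, 6, 4, 2, 6, 10], 8, [(3323, [], [1, 2, 4, 3, 4, 2, 3, 1, 4, 5, 3]), (2840, [37, 38], [1, 3, 4, 2, 3, 5, 3, 4, 2, 4, 3]), (2565, [38, 37], [0, 2, 4, 2, 2, 3, 0, 1, 3])], [], 0),
  (1, 0, [], 0, [], [], 3340),
  (0, 6, [0, 4, 10, 8, 6, 11, 8, 6, 4, 2, 6, 13, 10], 22, [(1487, [37], [0, 1, 3, 1, 3, 5, 3, 1, 4, 3]), (1494, [], [1, 2, 2, 3, 4, 3, 5, 3, 1, 3, 1])], [], 0),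
  (1, 0, [], 0, [], [], 3342),
  (0, 6, [0, 6, 4, 8, 6, 11, 8, 6, 4, 2, 6, 12, 10], 8, [(1628, [], [2, 4, 5]), (1437, [], [2, 5, 3, 0, 4, 2, 4, 3, 1, 3, 5]), (1482, [44, 44], [2, 4, 3, 1, 4, 5, 0, 3, 1, 4])], [], 0),
  (1, 0, [], 0, [], [], 3344),
  (0, 6, [2, 0, 6, 4, 13, 11, 8, 6, 4, 2, 10, 8, 6], 8, [(2215, [37, 38, 37], [3, 1, 5, 3, 1, 4, 2, 3, 4, 5, 3]), (1449, [37], [0, 1, 4, 2, 4, 5]), (1450, [33, 44], [3, 0, 1, 5, 3, 1, 4, 2, 4, 3, 1])], [], 0),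
  (1, 0, [], 0, [], [], 3346),
  (0, 6, [2, 0, 6, 4, 11, 11, 8, 6, 4, 2, 11, 8, 6], 8, [(1635, [], [4, 2, 2, 3, 1, 4, 2, 3, 4, 5]), (2444, [], [0, 2, 2, 3, 1, 5, 3, 4, 2, 3, 5]), (2118, [37], [0, 2, 2, 4, 2, 3, 1, 4, 5, 3, 1, 3])], [], 0),
  (1, 0, [], 0, [], [], 3348),
  (0, 6, [0, 4, 8, 6, 4, 10, 8, 6, 4, 2, 10, 8, 6], 8, [(1829, [38], [3, 4, 3, 4, 2, 4, 3, 5, 3, 1, 3]), (3347, [38], [0, 1, 3, 5, 3, 1, 4, 3]), (3346, [38], [1, 2, 3, 5, 3, 4, 2, 2, 3, 1])], [], 0),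
  (1, 0, [], 0, [], [], 3350),
  (0, 6, [0, 4, 6, 4, 13, 11, 8, 6, 4, 2, 10, 8, 6], 8, [(1956, [], [1, 5]), (812, [38], [1, 4, 3, 4, 2, 3, 4, 2, 2, 3]), (2245, [], [0, 2, 3, 1, 3, 1])], [], 0),
  (1, 0, [], 0, [], [], 3352),
  (0, 6, [0, 4, 6, 4, 12, 11, 8, 6, 4, 2, 10, 8, 6], 8, [(1401, [37], [2, 3, 4, 3, 5, 3, 1, 4, 2, 4]), (1450, [33, 44], [0, 3, 1, 3, 4, 2, 3, 1, 4, 5, 3]), (3310, [], [2, 2, 3, 1, 4, 2, 3, 4, 2, 5, 3, 4])], [], 0),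
  (1, 0, [], 0, [], [], 3354),
  (0, 6, [0, 11, 8, 6, 4, 10, 8, 6, 4, 2, 10, 8, 6], 8, [(2459, [37], [2, 3, 4, 2, 2, 5, 3, 1, 3, 1, 5]), (2017, [37], [0, 4, 3, 1, 4, 2, 3, 1, 4, 3]), (2146, [37, 38], [0, 1, 2, 2, 3, 4, 5, 3, 1, 4])], [], 0),
  (1, 0, [], 0, [], [], 3356),
  (0, 6, [0, 6, 8, 6, 4, 11, 8, 6, 4, 2, 10, 8, 6], 8, [(1962, [], [1, 5]), (908, [38, 37], [0, 2, 2, 4, 2, 3, 5, 3, 4]), (2567, [37], [2, 5, 0, 3, 4, 2, 4, 3, 4, 2])], [], 0),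
  (1, 0, [], 0, [], [], 3358),
  (0, 6, [0, 8, 6, 4, 12, 11, 8, 6, 4, 2, 10, 8, 6], 8, [(3167, [38, 37], [2, 2, 3, 1, 3, 1, 4, 2, 3, 1]), (2152, [37, 38], [2, 3, 1, 4, 2, 5, 0, 3, 1, 4]), (2607, [38], [0, 2, 3, 4, 2, 3, 4, 3, 5, 3])], [], 0),
  (1, 0, [], 0, [], [], 3360),
  (0, 6, [0, 8, 6, 4, 10, 8, 6, 4, 2, 13, 10, 8, 6], 8, [(1918, [38], [1, 3, 1, 4, 2, 4, 5, 0]), (235, [37, 38], [2, 4, 2, 3, 4, 2, 3, 1, 4, 5, 0]), (1346, [36], [1, 2, 2, 3, 1, 4, 2, 3, 1, 4])], [], 0),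
  (1, 0, [], 0, [], [], 3362),
  (0, 6, [0, 4, 8, 6, 4, 10, 8, 6, 4, 2, 11, 8, 6], 8, [(3167, [37], [4, 5, 0, 3, 4, 2, 2]), (1869, [37], [2, 4, 2, 2, 5, 3, 1, 4, 3]), (2405, [38], [4, 2, 3, 1, 4, 3, 1, 3, 5, 3])], [], 0),
  (1, 0, [], 0, [], [], 3364),
  (0, 6, [0, 8, 6, 4, 11, 11, 8, 6, 4, 2, 11, 8, 6], 8, [(3003, [38, 37], [2, 4, 2, 5, 3, 4, 2, 3, 5]), (1945, [], [4, 2, 3, 1, 3, 5, 3, 4, 2, 2]), (3230, [37], [1, 4, 2, 2, 5, 3, 4, 2, 4])], [], 0),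
  (1, 0, [], 0, [], [], 3366),
  (0, 6, [0, 6, 4, 6, 13, 11, 8, 6, 4, 2, 10, 8, 6], 8, [(1742, [], [2, 4, 2, 2, 5]), (1315, [], [4, 3, 4, 2, 5, 0, 3, 1, 4, 2]), (1290, [42, 43, 43, 43, 43], [2, 4, 2, 3, 0, 5, 3, 1])], [], 0),
  (1, 0, [], 0, [], [], 3368),
  (0, 6, [2, 0, 6, 4, 6, 11, 8, 6, 4, 2, 11, 8, 6], 8, [(1636, [], [3, 1, 4, 5]), (2733, [38], [3, 1, 3, 5, 0, 3]), (966, [37], [1, 2, 2, 3, 1, 5, 0, 3, 4, 3])], [], 0),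
  (1, 0, [], 0, [], [], 3370),
  (0, 6, [0, 6, 4, 6, 12, 11, 8, 6, 4, 2, 11, 8, 6], 8, [(1750, [], [1, 4, 5]), (2364, [38, 37], [1, 4, 2, 3, 0, 4, 3, 1]), (955, [38, 37], [3, 4, 2, 3, 4, 2, 2, 5, 3, 1])], [], 0),
  (1, 0, [], 0, [], [], 3372),
  (0, 6, [0, 4, 11, 8, 6, 10, 8, 6, 4, 2, 11, 8, 6], 8, [(798, [], [0, 1, 2, 4, 2, 2, 5]), (2988, [37, 38, 37], [0, 4, 2, 4, 3, 4, 2, 3, 4, 3]), (2563, [37, 38], [0, 1, 5, 3, 4, 2, 3])], [], 0),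
  (1, 0, [], 0, [], [], 3374),
  (0, 6, [0, 6, 4, 6, 11, 8, 6, 4, 2, 10, 8, 6, 10], 8, [(1566, [], [1, 4, 5]), (2157, [37, 38], [1, 2, 3, 4, 2, 2, 3, 4, 5, 3]), (1005, [38], [2, 2, 4, 3, 5, 0, 3, 1, 4, 3, 5])], [], 0),
  (1, 0, [], 0, [], [], 3376),
  (0, 6, [0, 6, 4, 6, 10, 8, 6, 4, 2, 11, 8, 6, 11], 8, [(1568, [], [2, 4, 2, 2, 5]), (909, [37, 38], [0, 3, 4, 2, 5, 3, 1, 3]), (1084, [38, 37], [3, 4, 5, 0, 3, 4, 2, 4, 3, 4])], [], 0),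
  (1, 0, [], 0, [], [], 3378),
  (0, 6, [0, 4, 6, 12, 10, 8, 6, 4, 2, 11, 8, 6, 11], 8, [(1570, [], [2, 4, 2, 2, 5]), (2069, [38], [2, 3, 4, 2, 5, 3, 1, 4, 3, 1, 5]), (2544, [], [4, 5, 3, 4, 2, 3, 1, 4, 5])], [], 0),
  (1, 0, [], 0, [], [], 3380),
  (0, 6, [0, 4, 8, 6, 11, 8, 6, 4, 2, 11, 8, 6, 11], 8, [(2969, [37, 38, 37], [1, 2, 2, 4, 5, 0, 3, 4, 3, 1]), (2937, [], [4, 3, 0, 1, 4, 2, 3, 4, 5, 3]), (597, [37, 38], [1, 4, 2, 2, 5, 3, 0, 4, 2])], [], 0),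
  (1, 0, [], 0, [], [], 3382),
  (0, 6, [0, 4, 6, 4, 11, 8, 6, 4, 2, 10, 8, 6, 10], 8, [(1624, [], [4, 5]), (1059, [37, 38], [0, 1, 2, 3, 1, 3, 4, 2, 2]), (605, [37], [2, 2, 3, 0, 4, 5])], [], 0),
  (1, 0, [], 0, [], [], 3384),
  (0, 6, [0, 6, 4, 10, 10, 8, 6, 4, 2, 10, 8, 6, 10], 14, [(182, [], [3, 5, 3, 4, 2, 4]), (213, [33, 45, 34], [1, 2, 3, 0, 1, 5, 3, 4, 2, 2, 3]), (1340, [25, 32, 26, 32], [5, 3, 1, 3, 1])], [], 0),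
  (1, 0, [], 0, [], [], 3386),
  (0, 6, [0, 6, 4, 11, 11, 8, 6, 4, 2, 10, 8, 6, 10], 9, [(1628, [], [4, 5]), (2606, [38, 37], [0, 3, 1, 4, 2, 3, 5, 3, 1, 3]), (3189, [], [3, 4, 2, 4, 3, 5, 3, 1, 3, 1, 5])], [], 0),
  (1, 0, [], 0, [], [], 3388),
  (0, 6, [0, 6, 4, 10, 8, 6, 4, 2, 10, 10, 8, 6, 10], 14, [(1758, [], [1, 4]), (3375, [38, 37], [1, 3, 1, 5, 3, 1, 4, 2]), (3136, [38], [2, 2, 5, 3, 0, 4, 2, 3, 5])], [], 0),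
  (1, 0, [], 0, [], [], 3390),
  (0, 6, [0, 4, 8, 10, 8, 6, 4, 2, 11, 11, 8, 6, 10], 8, [(1606, [37, 38, 37], [2, 2, 3, 4, 5, 0]), (2767, [], [2, 4, 5, 3, 4, 2, 2, 3, 5]), (1325, [37, 38, 37], [2, 2, 5, 0, 3, 1, 4, 2, 3, 1, 3])], [], 0),
  (1, 0, [], 0, [], [], 3392),
  (0, 6, [0, 6, 4, 6, 11, 8, 6, 4, 2, 11, 8, 6, 10], 8, [(3389, [], [1, 2, 4, 3, 4, 5, 0, 3, 1, 3, 5]), (2994, [38], [3, 1, 4, 3, 4, 2, 3, 5]), (363, [42, 43, 43, 43, 43, 42, 43, 43], [4, 3, 5, 3, 1, 4, 2, 3, 1, 3])], [], 0),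
  (1, 0, [], 0, [], [], 3394),
  (0, 6, [0, 6, 4, 10, 8, 6, 4, 2, 13, 10, 8, 6, 11], 8, [(1746, [], [4, 2, 4, 5]), (2731, [37], [0, 2, 2, 4, 2, 3, 1, 4, 2, 3]), (2097, [37, 38], [0, 2, 2, 3, 5, 3, 4, 2, 4])], [], 0),
  (1, 0, [], 0, [], [], 3396),
  (0, 6, [0, 6, 4, 11, 8, 6, 4, 2, 13, 10, 8, 6, 11], 9, [(2357, [37, 38], [2, 4, 5, 3, 4, 3, 1, 5, 3]), (2774, [37, 38], [1, 4, 2, 3, 1, 4, 2, 5, 3, 4, 2]), (2391, [], [2, 2, 5, 3, 1, 4, 2, 3, 4, 2, 4, 5])], [], 0),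
  (1, 0, [], 0, [], [], 3398),
  (0, 6, [0, 6, 4, 11, 11, 8, 6, 4, 2, 11, 8, 6, 11], 9, [(1628, [], [1, 2, 4, 2, 2, 5]), (1437, [], [5, 0, 3, 4, 3, 1, 3, 5]), (1454, [45, 33], [4, 2, 4, 3, 0, 5, 3, 4, 3, 5])], [], 0),
  (1, 0, [], 0, [], [], 3400),
  (0, 6, [0, 6, 4, 11, 8, 6, 4, 2, 12, 11, 8, 6, 11], 8, [(1568, [], [4, 2, 4, 5]), (1601, [38], [2, 4, 2, 3, 4, 2, 3, 4, 5]), (2792, [37], [0, 3, 4, 2, 2, 3, 1, 4, 2, 5])], [], 0),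
  (1, 0, [], 0, [], [], 3402),
  (0, 6, [0, 6, 4, 8, 10, 8, 6, 4, 2, 11, 8, 6, 11], 8, [(1632, [], [1, 2, 4, 2, 2, 5]), (2549, [42, 43, 42], [3, 0, 4, 3, 1, 3, 4]), (1213, [37, 38], [0, 3, 1, 4, 2, 3, 4, 2, 5])], [], 0),
  (1, 0, [], 0, [], [], 3404),
  (0, 6, [0, 6, 4, 10, 8, 6, 4, 2, 11, 11, 8, 6, 11], 9, [(1636, [], [1, 2, 4, 2, 2, 5]), (1564, [38, 37], [0, 2, 4, 2, 3, 0, 4, 3, 1, 3]), (2391, [37], [1, 4, 2, 4, 3, 4, 2, 4, 3, 1, 5])], [], 0),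
  (1, 0, [], 0, [], [], 3406),
  (0, 6, [0, 6, 4, 11, 8, 6, 4, 2, 10, 8, 6, 13, 11], 8, [(1756, [], [4, 2, 4, 5]), (1567, [37, 38, 37], [0, 2, 3, 4, 2, 3, 4, 5, 3, 1, 4]), (2861, [38], [0, 4, 3, 4, 2, 3, 5, 3, 4, 2, 2])], [], 0),
  (1, 0, [], 0, [], [], 3408),
  (0, 6, [0, 6, 4, 6, 11, 8, 6, 4, 2, 10, 8, 6, 11], 8, [(1744, [], [1, 4, 2, 5]), (1853, [], [1, 3, 1, 3, 4, 3, 4, 2, 4, 3, 4, 2]), (1600, [], [0, 2, 4, 3, 1, 3, 5, 3, 1, 4, 3])], [], 0),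
  (1, 0, [], 0, [], [], 3410),
  (0, 6, [0, 4, 2, 6, 4, 6, 12, 11, 8, 6, 4, 2, 6], 8, [(372, [], [3, 1, 5]), (3227, [42, 43, 42, 43, 43, 43, 42, 43, 43], [4, 2, 5, 3, 4, 3, 4, 2, 2, 5]), (3272, [37, 38], [2, 2, 4, 2, 3, 1, 3, 4, 5, 0])], [], 0),
  (1, 0, [], 0, [], [], 3412),
  (0, 6, [0, 4, 2, 6, 4, 8, 6, 11, 8, 6, 4, 2, 6], 8, [(868, [], [0, 2, 3, 1, 3, 1, 5]), (1264, [43, 43, 43, 42, 43, 43, 43, 43], [1, 3, 0, 4, 2, 4, 3, 5, 3, 1]), (1053, [], [4, 2, 4, 5, 3, 1, 3, 1, 5, 3, 1])], [], 0),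
  (1, 0, [], 0, [], [], 3414),
  (0, 6, [2, 4, 2, 6, 4, 8, 6, 11, 8, 6, 4, 2, 6], 9, [(2713, [38, 37], [0, 4, 2, 4, 3, 0, 4]), (2107, [], [1, 4, 2, 4, 3, 4, 2, 4]), (2092, [], [0, 5, 3, 1, 4, 2, 4, 3, 1, 4, 5])], [], 0),
  (1, 0, [], 0, [], [], 3416),
  (0, 6, [4, 2, 6, 4, 10, 8, 6, 11, 8, 6, 4, 2, 6], 8, [(771, [], [0, 3, 1, 4, 3]), (944, [37], [0, 3, 1, 3, 4, 3, 1, 3, 4]), (265, [43, 42, 43, 43, 42], [4, 3, 4, 2, 5, 3, 1, 3, 1])], [], 0),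
  (1, 0, [], 0, [], [], 3418),
  (0, 6, [4, 6, 8, 6, 4, 6, 13, 11, 8, 6, 4, 2, 6], 8, [(2454, [], [1, 5]), (2676, [], [0, 2, 3, 4, 5, 3, 4, 2, 3, 4, 2]), (1565, [38], [4, 2, 2, 3, 1, 3, 5, 0, 3, 4, 2])], [], 0),
  (1, 0, [], 0, [], [], 3420),
  (0, 6, [4, 6, 8, 6, 4, 6, 12, 11, 8, 6, 4, 2, 6], 9, [(2456, [], [1, 5]), (363, [43, 43, 43, 42, 43], [1, 3, 4, 2, 3, 1, 3, 1, 4]), (3327, [38], [1, 2, 5, 0, 3, 4, 2, 3, 1, 3])], [], 0),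
  (1, 0, [], 0, [], [], 3422),
  (0, 6, [4, 6, 10, 8, 6, 4, 6, 10, 8, 6, 4, 2, 6], 9, [(2470, [], [1, 5]), (861, [], [2, 3, 1, 4, 5, 0, 3, 1, 4, 2]), (1654, [], [0, 4, 2, 3, 5, 3, 4, 3, 4, 2])], [], 0),
  (1, 0, [], 0, [], [], 3424),
  (0, 6, [4, 6, 8, 6, 4, 6, 13, 10, 8, 6, 4, 2, 6], 14, [(3345, [37, 38], [3, 1, 4, 3, 1, 5, 0, 3, 1, 4, 2]), (2605, [37, 38], [0, 1, 4, 3, 0, 1, 4]), (2585, [], [1, 4, 3, 4, 2, 4, 3, 5])], [], 0),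
  (1, 0, [], 0, [], [], 3426),
  (0, 6, [4, 8, 6, 4, 11, 8, 6, 10, 8, 6, 4, 2, 6], 8, [(1794, [38], [1, 2, 2, 3, 1, 4, 2, 5, 0]), (299, [43, 42, 43, 43, 43, 42, 43], [4, 2, 4, 5, 3, 4, 2]), (756, [33, 34], [5, 3, 4, 2, 3, 1, 3, 4, 2, 2])], [], 0),
  (1, 0, [], 0, [], [], 3428),
  (0, 6, [2, 4, 6, 4, 10, 8, 6, 11, 8, 6, 4, 2, 6], 8, [(1946, [37, 38, 37], [3, 1, 5]), (1142, [], [1, 5, 3, 4, 2, 2, 3, 4]), (219, [42, 43, 43, 43, 43, 42, 43, 43, 43], [4, 2, 2, 5, 3, 1, 3, 1, 4, 2, 5])], [], 0),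
  (1, 0, [], 0, [], [], 3430),
  (0, 6, [2, 4, 6, 4, 8, 11, 8, 6, 4, 2, 11, 8, 6], 9, [(1948, [37, 38, 37], [3, 1, 5]), (883, [45, 33, 45], [1, 2, 2, 4, 2, 3, 4, 5, 3, 4]), (1827, [37], [2, 3, 5, 3, 4, 2, 3, 1, 4, 3, 4])], [], 0),
  (1, 0, [], 0, [], [], 3432),
  (0, 6, [4, 8, 6, 4, 10, 8, 6, 11, 8, 6, 4, 2, 6], 9, [(3293, [37, 38, 37], [1, 3, 4, 2, 3, 1, 4]), (917, [37], [1, 2, 4, 3, 5, 3, 1, 4, 2, 3, 5]), (816, [37, 38, 37], [2, 4, 5, 3, 0, 4, 2, 3, 5])], [], 0),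
  (1, 0, [], 0, [], [], 3434),
  (0, 6, [0, 2, 6, 4, 6, 8, 6, 10, 8, 6, 4, 2, 6], 8, [(378, [], [2, 2, 3, 1, 4, 2, 5]), (1118, [37], [1, 4, 3, 4, 2, 2, 3, 5]), (3163, [], [0, 2, 2, 4, 3, 4, 3])], [], 0),
  (1, 0, [], 0, [], [], 3436),
  (0, 6, [2, 6, 4, 6, 8, 10, 8, 6, 4, 2, 10, 8, 6], 15, [(358, [], [2, 4, 2, 2]), (408, [], [2, 4, 2, 2, 3, 0, 1]), (3371, [37, 38], [0, 1, 2, 4, 3, 4, 2, 4, 3, 1])], [], 0),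
  (1, 0, [], 0, [], [], 3438),
  (0, 6, [2, 6, 4, 6, 8, 6, 13, 10, 8, 6, 4, 2, 6], 9, [(406, [], [1, 4, 2, 5]), (3299, [38], [1, 2, 5, 0, 3, 4, 2, 2, 3, 4]), (1198, [37, 38], [1, 2, 3, 0, 5, 3, 4, 3])], [], 0),
  (1, 0, [], 0, [], [], 3440),
  (0, 6, [6, 4, 6, 8, 6, 10, 8, 6, 4, 2, 10, 8, 6], 8, [(1303, [], [1, 4, 2, 3, 5, 3, 4, 3, 1]), (1477, [42, 43, 43, 43, 43], [0, 2, 4, 2, 3, 1, 4, 2, 3, 5]), (288, [33, 45, 45], [0, 4, 3, 4, 2, 3, 5, 3, 4, 2])], [], 0),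
  (1, 0, [], 0, [], [], 3442),
  (0, 6, [4, 6, 4, 6, 8, 6, 13, 11, 8, 6, 4, 2, 6], 8, [(2250, [], [1, 5]), (464, [37, 38, 37], [1, 4, 2, 2, 3, 5, 3, 1, 3, 4, 2]), (3429, [43, 43, 43, 42], [1, 4, 2, 5, 3, 4, 2, 3, 4, 2])], [], 0),
  (1, 0, [], 0, [], [], 3444),
  (0, 6, [0, 2, 6, 4, 6, 8, 12, 11, 8, 6, 4, 2, 6], 15, [(407, [], [0, 3, 1, 3, 1, 4, 3, 1, 3]), (356, [], [0, 2, 3, 4, 2, 3, 4, 2, 3, 1]), (2627, [38, 37], [2, 3, 0, 4, 2, 3, 5, 3, 1, 3])], [], 0),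
  (1, 0, [], 0, [], [], 3446),
  (0, 6, [4, 2, 6, 4, 6, 8, 13, 11, 8, 6, 4, 2, 6], 8, [(480, [], [4, 2, 5]), (793, [42, 43, 43, 43, 42, 43, 43, 43], [4, 2, 2, 3, 4, 3, 1, 3, 4, 3]), (2182, [], [4, 5, 0, 3, 4, 2, 4, 3, 5])], [], 0),
  (1, 0, [], 0, [], [], 3448),
  (0, 6, [4, 2, 6, 4, 6, 8, 12, 11, 8, 6, 4, 2, 6], 9, [(821, [], [0, 3, 1, 4, 2, 4, 5, 3, 1, 4, 2]), (3023, [37, 38], [0, 2, 2, 4, 2, 3, 1, 4, 3, 5, 3]), (3217, [38], [2, 3, 4, 2, 3, 1, 4, 2, 5, 3, 1])], [], 0),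
  (1, 0, [], 0, [], [], 3450),
  (0, 6, [2, 6, 4, 6, 8, 6, 11, 8, 6, 4, 2, 6, 10], 14, [(1522, [38], [0, 2, 2, 3, 1, 5, 3, 4, 2, 4]), (3224, [38], [2, 3, 5, 3, 4, 2, 3, 5]), (3426, [37], [0, 3, 4, 2, 4, 3, 4, 2, 2, 3, 1, 5])], [], 0),
  (1, 0, [], 0, [], [], 3452),
  (0, 6, [6, 4, 6, 8, 11, 8, 6, 4, 2, 11, 8, 6, 10], 8, [(1832, [], [1, 2, 4, 2, 5]), (2211, [37, 38], [2, 3, 4, 2, 5, 0, 3, 1, 4, 3, 5]), (926, [], [0, 1, 4, 2, 3, 1, 4, 2, 3])], [], 0),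
  (1, 0, [], 0, [], [], 3454),
  (0, 6, [0, 4, 2, 6, 4, 6, 10, 8, 6, 4, 2, 6, 11], 8, [(386, [], [2, 2, 3, 4, 2, 4, 5]), (1499, [45, 33, 45], [0, 3, 4, 2, 4, 3, 4, 2, 2, 5, 3, 4]), (839, [45, 33, 44], [1, 4, 2, 2, 3, 0, 1, 4])], [], 0),
  (1, 0, [], 0, [], [], 3456),
  (0, 6, [4, 6, 8, 6, 4, 6, 11, 8, 6, 4, 2, 6, 11], 9, [(2480, [], [1, 2, 4, 2, 2, 5]), (1740, [38, 37], [2, 4, 2, 2, 3, 0, 5, 3, 1, 3]), (1467, [38], [4, 3, 1, 4, 2, 3, 5])], [], 0),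
  (1, 0, [], 0, [], [], 3458),
  (0, 6, [6, 8, 6, 4, 6, 13, 11, 8, 6, 4, 2, 6, 11], 16, [(2124, [], [1, 4, 2, 4]), (787, [37, 38, 37], [4, 2, 2, 3, 4, 2, 4, 3, 5, 3]), (1814, [37], [1, 2, 3, 4, 2, 2, 5, 3, 1, 3])], [], 0),
  (1, 0, [], 0, [], [], 3460),
  (0, 6, [6, 8, 6, 4, 6, 10, 8, 6, 4, 2, 6, 13, 11], 8, [(1679, [], [2, 3, 1, 4, 3, 1, 4, 2, 4]), (2186, [], [5, 3, 4, 2, 3, 4, 2, 5, 3]), (1821, [38], [1, 2, 3, 1, 3, 4, 2, 2, 5])], [], 0),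
  (1, 0, [], 0, [], [], 3462),
  (0, 6, [4, 6, 4, 8, 6, 13, 10, 8, 6, 4, 2, 6, 11], 8, [(2118, [], [1, 2, 4, 2, 2, 5]), (1396, [34, 45, 45, 33], [0, 1, 3, 1, 4, 2, 5, 3, 1, 4, 3]), (2135, [37, 38, 37], [1, 2, 4, 5, 3, 4, 2, 2, 3, 4])], [], 0),
  (1, 0, [], 0, [], [], 3464),
  (0, 6, [6, 4, 11, 11, 8, 6, 4, 2, 11, 8, 6, 12, 11], 9, [(1838, [], [4, 2, 4, 5]), (977, [34, 33, 44], [0, 2, 4, 2, 3, 1, 3, 1]), (1865, [], [0, 1, 3, 0, 1])], [], 0),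
  (1, 0, [], 0, [], [], 3466),
  (0, 6, [6, 4, 6, 4, 8, 6, 11, 8, 6, 4, 2, 6, 11], 8, [(2225, [38, 37], [0, 2, 3, 4, 2, 3, 4, 2, 3]), (2461, [], [1, 3, 5, 3, 1, 4, 2, 3, 4, 2, 5]), (2414, [], [2, 4, 2, 2, 3, 0, 4, 2, 3, 1, 3])], [], 0),
  (1, 0, [], 0, [], [], 3468),
  (0, 6, [4, 6, 4, 8, 6, 13, 11, 8, 6, 4, 2, 6, 11], 8, [(2116, [], [4, 2, 4, 5]), (1992, [], [0, 1, 3, 4, 2, 2, 5]), (2410, [37, 38], [0, 1, 2, 2, 3, 1, 5, 3, 4, 2, 3])], [], 0),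
  (1, 0, [], 0, [], [], 3470),
  (0, 6, [6, 8, 6, 4, 11, 8, 6, 4, 2, 11, 8, 6, 11], 8, [(2713, [], [5, 3, 1, 4, 3, 4, 2, 4, 5, 3, 1]), (2623, [38], [2, 2, 3, 1, 4, 2, 5, 3, 4, 2, 3]), (3462, [38, 37], [0, 2, 4, 2, 2, 3, 1, 3, 1, 4])], [], 0),
  (1, 0, [], 0, [], [], 3472),
  (0, 6, [4, 6, 4, 8, 6, 10, 8, 6, 4, 2, 6, 12, 11], 15, [(1814, [], [4]), (1812, [], [0, 1, 4, 2, 3, 1, 5, 3, 1, 3, 5]), (3228, [37, 38], [0, 2, 2, 3, 1, 4, 5, 3, 1, 3, 5])], [], 0),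
  (1, 0, [], 0, [], [], 3474),
  (0, 6, [0, 2, 6, 4, 6, 11, 8, 6, 4, 2, 6, 13, 10], 9, [(402, [], [3, 4, 5]), (1600, [38], [0, 2, 4, 2, 3, 1, 3, 4, 2, 4]), (1897, [37, 38, 37], [1, 2, 3, 1, 4, 3, 5, 3, 1, 4, 3])], [], 0),
  (1, 0, [], 0, [], [], 3476),
  (0, 6, [6, 4, 6, 4, 8, 6, 11, 8, 6, 4, 2, 6, 10], 8, [(2121, [38], [0, 2, 2, 3, 1, 3, 4, 2, 3, 1]), (1407, [37], [3, 0, 4, 2, 5, 3, 1, 4, 2]), (621, [33, 45, 44], [1, 2, 2, 4, 3, 0, 5, 3, 4])], [], 0),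
  (1, 0, [], 0, [], [], 3478),
  (0, 6, [4, 6, 4, 10, 8, 6, 11, 8, 6, 4, 2, 6, 10], 8, [(888, [], [2, 2, 3, 4, 5]), (465, [43, 43, 43, 43, 42], [4, 2, 3, 1, 3, 1, 5, 3, 4, 2, 4]), (1130, [], [1, 2, 2, 3, 0, 5, 3, 4, 2, 3])], [], 0),
  (1, 0, [], 0, [], [], 3480),
  (0, 6, [6, 4, 11, 11, 8, 6, 4, 2, 10, 8, 6, 13, 10], 14, [(2707, [], [1, 4, 3, 1, 4, 5, 3, 4, 2, 4]), (3142, [38, 37], [0, 5, 3, 1, 3, 4, 2, 3, 4, 3, 5]), (1236, [39, 39, 39, 39, 41, 41], [0, 5, 3, 1, 4])], [], 0),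
  (1, 0, [], 0, [], [], 3482),
  (0, 6, [6, 4, 11, 8, 11, 8, 6, 4, 2, 11, 8, 6, 10], 8, [(1832, [], [2, 2, 4, 5]), (2550, [37, 38], [5, 3, 1, 3, 4, 5]), (1477, [42, 43, 42, 43, 43, 43, 43], [2, 3, 5, 0, 3, 1, 4, 3, 4, 2, 5])], [], 0),
  (1, 0, [], 0, [], [], 3484),
  (0, 6, [4, 6, 4, 8, 6, 11, 11, 8, 6, 4, 2, 6, 10], 8, [(1867, [], [1, 3, 4, 5, 3, 1, 4, 2, 3, 1, 5]), (1625, [], [1, 5, 3, 0, 4, 3, 1, 3, 4]), (844, [], [0, 2, 2, 3, 5, 3, 4, 2, 3, 4, 5, 3])], [], 0),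
  (1, 0, [], 0, [], [], 3486),
  (0, 6, [6, 4, 6, 11, 8, 6, 10, 8, 6, 4, 2, 6, 10], 8, [(1810, [], [2, 4, 2, 2, 5]), (1388, [44, 45], [2, 5, 0, 3, 1, 3, 4, 2, 2, 3, 1]), (2446, [38], [4, 2, 2, 3, 0, 4, 2, 3, 1, 4])], [], 0),
  (1, 0, [], 0, [], [], 3488),
  (0, 6, [0, 2, 6, 4, 10, 8, 6, 4, 2, 12, 10, 8, 6], 9, [(872, [], [0, 1, 2, 2, 3, 4, 3, 1, 5]), (1580, [37, 38], [3, 4, 2, 3, 1, 3, 4, 2, 3, 4, 2]), (671, [], [2, 3, 1, 3, 4, 2, 3, 1])], [], 0),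
  (1, 0, [], 0, [], [], 3490),
  (0, 6, [0, 2, 6, 4, 11, 8, 6, 4, 2, 13, 11, 8, 6], 8, [(404, [], [3, 1, 5]), (1962, [38, 37], [2, 3, 4, 2, 3, 4, 3, 1, 3, 1]), (2868, [37, 38], [2, 2, 3, 4, 2, 5, 3, 4, 3, 1, 4])], [], 0)]

end CfsgLib.Coset.Th
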