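import Cfsg.Agent.Coset.Th.Derive
import Cfsg.Agent.Coset.Th.StepData3

/-! Kernel checks of the derivation, part 3. -/

set_option autoImplicit false
set_option maxRecDepth 100000
set_option Elab.async false

namespace CfsgLib.Coset.Th

theorem chunk16 : checkAll stepC16 2533 47 2693 47 = true := by decide +kernel

theorem chunk17 : checkAll stepC17 2693 47 2853 47 = true := by decide +kernel

theorem chunk18 : checkAll stepC18 2853 47 3013 47 = true := by decide +kernel

theorem chunk19 : checkAll stepC19 3013 47 3173 47 = true := by decide +kernel

theorem chunk20 : checkAll stepC20 3173 47 3333 47 = true := by decide +kernel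

theorem chunk21 : checkAll stepC21 3333 47 3493 47 = true := by decide +kernel

end CfsgLib.Coset.Th
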