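import Mathlib.Data.List.Basic

/-! A derivation of the coset facts of the Thompson presentation. -/

set_option autoImplicit false
set_option maxRecDepth 100000

namespace CfsgLib.Coset.Th

def stepC22 : List (Nat × Nat × List Nat × Nat × List (Nat × List Nat × List Nat) × List (Nat × List Nat × List Nat) × Nat) := [(1, 0, [], 0, [], [], 3492),
  (0, 6, [2, 6, 8, 6, 4, 11, 8, 6, 4, 2, 10, 8, 6], 8, [(1950, [38, 37], [4, 2, 2, 3, 4, 3, 1, 4, 2, 4, 5]), (1726, [37, 38, 37], [1, 2, 3, 1, 4, 5, 3, 4]), (2169, [38, 37], [2, 3, 5, 0, 3, 1, 3, 4, 2, 3])], [], 0),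
  (1, 0, [], 0, [], [], 3494),
  (0, 6, [4, 2, 6, 4, 11, 8, 6, 4, 2, 13, 11, 8, 6], 8, [(478, [], [1, 5]), (1685, [33, 45, 34, 45], [0, 4, 2, 2, 3, 4, 2, 5, 3, 1]), (1648, [38], [2, 4, 2, 3, 5, 3, 4, 2, 2])], [], 0),
  (1, 0, [], 0, [], [], 3496),
  (0, 6, [4, 2, 6, 4, 11, 8, 6, 4, 2, 12, 11, 8, 6], 8, [(480, [], [1, 5]), (773, [43, 42, 43, 43, 43, 43], [2, 4, 3, 4, 2, 3, 1, 4, 5, 3]), (2458, [37, 38, 37], [1, 2, 2, 4, 3, 1, 3, 4, 2, 2])], [], 0),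
  (1, 0, [], 0, [], [], 3498),
  (0, 6, [2, 8, 6, 4, 11, 8, 6, 4, 2, 13, 11, 8, 6], 8, [(2288, [38, 37], [4, 3, 4, 2, 4, 3, 1, 4, 5, 0]), (2814, [37, 38, 37], [1, 2, 2, 4, 3, 0, 5, 3, 4, 2, 4]), (2445, [37], [0, 2, 3, 4, 2, 2, 3, 1, 3, 1, 4, 5])], [], 0),
  (1, 0, [], 0, [], [], 3500),
  (0, 6, [8, 6, 4, 6, 4, 11, 8, 6, 4, 2, 10, 8, 6], 9, [(1829, [38], [0, 1, 4, 2, 3, 1, 4, 3, 4, 3, 5]), (3197, [37, 38], [2, 4, 2, 2, 3, 4, 5, 3, 1, 4, 3]), (3021, [38, 37], [0, 3, 1, 3, 5, 3, 1, 4, 3, 4])], [], 0),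
  (1, 0, [], 0, [], [], 3502),
  (0, 6, [4, 8, 6, 4, 10, 8, 6, 4, 2, 13, 10, 8, 6], 9, [(2753, [], [1, 2, 3, 1, 4, 2, 3, 4, 2, 2]), (2515, [37, 38], [1, 3, 4, 2, 5, 3, 4, 2, 2, 3, 1]), (2362, [37, 38], [0, 1, 2, 2, 5, 3, 1, 4])], [], 0),
  (1, 0, [], 0, [], [], 3504),
  (0, 6, [13, 11, 8, 6, 4, 10, 8, 6, 4, 2, 10, 8, 6], 9, [(2494, [], [1, 5]), (3498, [], [3, 1, 3, 5, 3, 4, 2, 3]), (709, [37, 38, 37], [0, 1, 4, 3, 4, 2, 4, 5, 3, 4, 2])], [], 0),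
  (1, 0, [], 0, [], [], 3506),
  (0, 6, [10, 8, 6, 4, 10, 8, 6, 4, 2, 12, 10, 8, 6], 9, [(2512, [], [1, 5]), (2655, [37, 38], [2, 2, 4, 5, 3, 4, 2, 2, 3, 1]), (2512, [], [1, 4, 2, 5, 3, 0, 4, 2, 4, 3])], [], 0),
  (1, 0, [], 0, [], [], 3508),
  (0, 6, [2, 4, 6, 4, 8, 11, 8, 6, 4, 2, 10, 8, 6], 16, [(1962, [37, 38, 37], [3]), (3034, [], [0, 2, 2, 3, 4, 2, 5, 3, 4, 3, 4, 5]), (683, [], [3, 4, 2, 3, 1, 3, 4, 3, 4, 2])], [], 0),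
  (1, 0, [], 0, [], [], 3510),
  (0, 6, [6, 4, 6, 4, 8, 11, 8, 6, 4, 2, 10, 8, 6], 8, [(2244, [], [1, 2, 2, 4, 5]), (3098, [38, 37], [3, 5, 3, 1, 3, 4, 3, 4]), (675, [38, 37], [0, 1, 3, 4, 2, 5, 3])], [], 0),
  (1, 0, [], 0, [], [], 3512),
  (0, 6, [2, 4, 6, 4, 11, 8, 6, 4, 2, 13, 11, 8, 6], 8, [(1982, [37, 38, 37], [3, 1, 5]), (3416, [38], [3, 1, 4, 3, 4, 2, 4, 3, 5, 0]), (3389, [38, 37], [1, 2, 3, 4, 2, 3, 4, 2, 3, 1, 5])], [], 0),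
  (1, 0, [], 0, [], [], 3514),
  (0, 6, [4, 8, 6, 4, 11, 11, 8, 6, 4, 2, 11, 8, 6], 8, [(2060, [38], [1, 2, 2, 3, 1, 4, 5, 0]), (1880, [38], [0, 1, 3, 4, 3, 4, 5, 3, 1]), (1690, [38, 37], [1, 5, 3, 4, 3, 4, 2])], [], 0),
  (1, 0, [], 0, [], [], 3516),
  (0, 6, [4, 8, 6, 4, 11, 8, 6, 4, 2, 12, 11, 8, 6], 9, [(2058, [38], [1, 2, 2, 3, 1, 4, 5, 0]), (3296, [37], [2, 4, 3, 1, 3, 5, 3, 1]), (2253, [38], [2, 2, 4, 2, 3, 4, 2, 3, 1, 3, 4, 3])], [], 0),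
  (1, 0, [], 0, [], [], 3518),
  (0, 6, [12, 11, 8, 6, 4, 10, 8, 6, 4, 2, 11, 8, 6], 9, [(1893, [38, 37], [0, 5, 3, 4, 2, 3, 1, 4, 3, 5]), (2660, [38], [0, 3, 4, 2, 5, 3, 4, 2, 2, 3, 4]), (3111, [], [2, 4, 2, 5, 3, 1, 4, 2, 3])], [], 0),
  (1, 0, [], 0, [], [], 3520),
  (0, 6, [13, 10, 8, 6, 4, 11, 8, 6, 4, 2, 11, 8, 6], 9, [(2534, [], [1, 5]), (2880, [37, 38], [4, 2, 3, 5, 3, 4, 2, 4, 3, 1]), (1857, [], [0, 4, 2, 2, 3, 1, 4, 2, 3])], [], 0),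
  (1, 0, [], 0, [], [], 3522),
  (0, 6, [11, 8, 6, 4, 11, 8, 6, 4, 2, 13, 11, 8, 6], 8, [(962, [], [0, 1, 2, 2, 4, 5]), (3006, [37, 38, 37], [1, 2, 2, 3, 1, 4, 2, 3, 1, 5, 3, 1]), (3001, [38, 37], [0, 2, 3, 4, 2, 3, 4, 2, 3, 5])], [], 0),
  (1, 0, [], 0, [], [], 3524),
  (0, 6, [2, 6, 4, 6, 11, 11, 8, 6, 4, 2, 10, 8, 6], 9, [(399, [], [1, 2, 4, 2, 3, 1, 4, 3, 1, 5]), (3126, [], [2, 4, 3, 5, 3, 4, 3, 4, 5]), (3114, [], [0, 3, 1, 3, 4, 2, 5, 3, 1, 4, 3])], [], 0),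
  (1, 0, [], 0, [], [], 3526),
  (0, 6, [2, 6, 4, 8, 6, 10, 8, 6, 4, 2, 10, 8, 6], 15, [(379, [], [0, 4, 2, 3, 4, 2, 2, 5, 3, 4, 3, 5]), (1524, [38], [2, 3, 1, 4, 2, 3, 4, 2, 3, 1, 5]), (1538, [38], [4, 3, 4, 2, 5, 3, 1, 4, 3, 5])], [], 0),
  (1, 0, [], 0, [], [], 3528),
  (0, 6, [11, 8, 6, 4, 6, 10, 8, 6, 4, 2, 10, 8, 6], 8, [(882, [], [3, 5, 3, 4, 2, 3, 4, 2, 2, 5]), (1499, [44, 34, 33], [0, 3, 4, 2, 3, 4, 3, 1, 4, 2]), (1398, [44, 34], [4, 2, 2, 3, 1, 4, 2, 3, 1, 5])], [], 0),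
  (1, 0, [], 0, [], [], 3530),
  (0, 6, [8, 6, 4, 6, 10, 10, 8, 6, 4, 2, 10, 8, 6], 14, [(2124, [38], [0, 4, 2, 2, 3, 0, 1]), (828, [37], [2, 4, 3, 4, 3, 5, 3, 1, 3, 4, 2]), (687, [], [1, 2, 2, 4, 2, 5, 3, 0, 4, 2])], [], 0),
  (1, 0, [], 0, [], [], 3532),
  (0, 6, [0, 2, 6, 4, 6, 11, 8, 6, 4, 2, 11, 8, 6], 9, [(824, [], [0, 1, 2, 2, 3, 1, 4, 5]), (2700, [], [0, 1, 4, 3, 1, 5, 3, 1, 3, 4, 5]), (1391, [37, 38], [2, 3, 4, 2, 5, 0, 3, 4, 3, 5])], [], 0),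
  (1, 0, [], 0, [], [], 3534),
  (0, 6, [4, 6, 10, 8, 6, 4, 6, 4, 2, 8, 11, 8, 6], 8, [(2028, [], [1, 4, 5]), (486, [38, 37], [1, 5, 3, 1, 3, 4, 2, 3, 4, 2]), (1429, [37, 38, 37], [1, 4, 3, 4, 2, 3, 1, 4, 5])], [], 0),
  (1, 0, [], 0, [], [], 3536),
  (0, 6, [4, 8, 6, 4, 6, 10, 8, 6, 4, 2, 11, 8, 6], 8, [(2114, [], [1, 4, 5]), (1261, [33, 45, 34], [1, 2, 2, 3, 1, 3, 4, 2, 5, 3]), (509, [43, 43, 43], [1, 2, 3, 1, 3, 4, 3, 5, 3, 4])], [], 0),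
  (1, 0, [], 0, [], [], 3538),
  (0, 6, [8, 6, 10, 8, 6, 4, 6, 4, 2, 8, 11, 8, 6], 14, [(2052, [], [2, 4, 2]), (3244, [], [0, 4, 2, 3, 1, 4, 3, 4, 2, 3, 4]), (923, [38, 37], [2, 4, 3, 4, 2, 4, 5, 0, 3, 4, 2, 4])], [], 0),
  (1, 0, [], 0, [], [], 3540),
  (0, 6, [6, 11, 11, 8, 6, 4, 6, 4, 2, 8, 11, 8, 6], 8, [(2635, [37, 38], [1, 2, 2, 4, 3, 5, 3, 1, 3, 1, 5]), (1195, [38], [1, 2, 3, 1, 3, 4, 3, 4, 5, 3, 1]), (2467, [38, 37], [0, 3, 5, 3, 1, 4, 3, 1, 5])], [], 0),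
  (1, 0, [], 0, [], [], 3542),
  (0, 6, [8, 6, 4, 6, 11, 11, 8, 6, 4, 2, 11, 8, 6], 8, [(1291, [37], [2, 4, 2, 5, 3, 4, 2, 3, 4, 3]), (1292, [42, 43, 43, 43, 42], [1, 2, 4, 2, 3, 4, 5]), (3282, [37], [0, 5, 3, 1, 4, 2, 3, 4, 2, 2, 3])], [], 0),
  (1, 0, [], 0, [], [], 3544),
  (0, 6, [6, 8, 11, 8, 6, 4, 6, 4, 2, 8, 11, 8, 6], 14, [(2742, [38, 37], [0, 2, 2, 4, 2, 5, 3, 4, 2, 2]), (3413, [43, 43, 42, 43], [0, 2, 3, 5, 3, 4, 2, 3, 4, 2, 2, 5]), (1860, [37], [2, 3, 4, 2, 4, 3, 5, 3, 4, 2])], [], 0),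
  (1, 0, [], 0, [], [], 3546),
  (0, 6, [4, 6, 4, 6, 11, 8, 6, 4, 2, 10, 8, 6, 10], 9, [(1652, [], [1, 4, 5]), (2688, [37], [1, 4, 2, 4, 3, 5, 3, 4, 3, 4]), (2915, [37, 38], [0, 1, 5, 3, 1, 4, 2, 3, 4, 3, 5, 3])], [], 0),
  (1, 0, [], 0, [], [], 3548),
  (0, 6, [6, 4, 10, 8, 6, 4, 2, 10, 8, 13, 11, 8, 6], 8, [(1668, [], [1, 2, 2, 4, 5]), (3171, [], [1, 5, 3, 0, 4, 2, 4, 3, 4]), (547, [37, 38], [0, 1, 3, 1, 4, 3, 4, 2, 3, 5, 3])], [], 0),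
  (1, 0, [], 0, [], [], 3550),
  (0, 6, [4, 6, 4, 6, 11, 8, 6, 4, 2, 11, 8, 6, 11], 8, [(1652, [], [2, 4, 2, 2, 5]), (2273, [37, 38, 37], [1, 3, 1, 3, 4, 2, 3, 4, 2, 2, 5]), (2285, [], [3, 1, 4, 2, 3, 4, 5, 3, 4])], [], 0),
  (1, 0, [], 0, [], [], 3552),
  (0, 6, [8, 6, 4, 12, 10, 8, 6, 4, 2, 10, 8, 6, 10], 8, [(1679, [], [2, 3, 1, 4, 3, 1, 4]), (1560, [], [1, 2, 5, 3, 1, 4, 3, 4, 2, 3]), (1032, [], [5, 3, 4, 2, 3, 1, 4, 5])], [], 0),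
  (1, 0, [], 0, [], [], 3554),
  (0, 6, [11, 8, 6, 4, 11, 8, 6, 4, 2, 10, 8, 6, 10], 8, [(1999, [37], [2, 5, 3, 4, 3, 1, 4, 2, 3, 5]), (2340, [38], [0, 1, 2, 2, 3, 0, 4, 3, 1]), (1461, [37], [0, 1, 2, 5, 3, 4, 2, 4, 3, 5])], [], 0),
  (1, 0, [], 0, [], [], 3556),
  (0, 6, [8, 6, 4, 10, 8, 6, 4, 2, 13, 10, 8, 6, 10], 8, [(804, [], [2, 3, 4]), (2631, [43, 43, 43, 43, 42, 43, 43, 43], [0, 2, 2, 3, 1, 3, 5, 3, 1, 3]), (1824, [37, 38], [1, 3, 1, 5, 0, 3, 4, 2, 3, 4, 3])], [], 0),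
  (1, 0, [], 0, [], [], 3558),
  (0, 6, [6, 4, 13, 10, 8, 6, 4, 2, 10, 10, 8, 6, 10], 8, [(1818, [], [4, 5]), (2374, [38], [0, 1, 4, 3, 1, 5, 3, 4, 2, 2]), (2768, [37, 38, 37], [1, 2, 3, 1, 5, 3, 1, 4, 3, 4, 2])], [], 0),
  (1, 0, [], 0, [], [], 3560),
  (0, 6, [4, 6, 4, 10, 8, 6, 4, 2, 12, 11, 8, 6, 10], 8, [(1826, [], [2, 4, 5]), (3390, [37], [0, 3, 4, 2, 2, 3, 1, 4, 2]), (1839, [34, 44], [0, 1, 2, 3, 5, 3, 4, 2, 2, 3, 1, 3])], [], 0),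
  (1, 0, [], 0, [], [], 3562),
  (0, 6, [8, 6, 4, 10, 8, 6, 4, 2, 13, 11, 8, 6, 10], 8, [(879, [38, 37], [1, 2, 3, 0, 4, 2, 3, 1, 3, 5, 3]), (1965, [], [0, 2, 2, 5, 3, 4, 2, 3, 1, 5]), (1986, [], [0, 3, 4, 2, 3, 1, 3, 4, 2, 2, 3])], [], 0),
  (1, 0, [], 0, [], [], 3564),
  (0, 6, [8, 6, 4, 10, 8, 6, 4, 2, 12, 11, 8, 6, 10], 8, [(731, [37, 38, 37], [5, 3, 4, 2, 4]), (3435, [33, 45], [1, 2, 4, 2, 3, 1, 4, 2, 3, 1, 4]), (3293, [37, 38, 37], [3, 5, 3, 1, 3, 4, 2, 4, 5, 3])], [], 0),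
  (1, 0, [], 0, [], [], 3566),
  (0, 6, [8, 6, 4, 10, 8, 6, 4, 2, 11, 11, 8, 6, 10], 9, [(886, [], [2, 4, 2, 3, 4, 5]), (1933, [38], [1, 3, 4, 2, 3, 1, 3, 4]), (1952, [], [1, 2, 2, 3, 0, 4, 2, 3, 4, 2, 2])], [], 0),
  (1, 0, [], 0, [], [], 3568),
  (0, 6, [6, 4, 12, 11, 8, 6, 4, 2, 10, 8, 6, 12, 10], 8, [(2096, [], [2, 4, 5]), (3406, [37], [0, 1, 4, 2, 3, 4, 3, 4, 5]), (2870, [38, 37], [1, 2, 4, 3, 1, 4, 2, 4, 3, 5])], [], 0),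
  (1, 0, [], 0, [], [], 3570),
  (0, 6, [4, 8, 6, 4, 10, 8, 6, 4, 2, 10, 8, 6, 11], 8, [(2753, [], [0, 2, 4, 3, 0, 1, 4, 2, 3]), (1527, [38, 37], [1, 3, 1, 3, 5, 3, 4, 3, 4, 5]), (1597, [], [0, 2, 3, 5, 3, 4, 2, 3])], [], 0),
  (1, 0, [], 0, [], [], 3572),
  (0, 6, [11, 8, 6, 4, 10, 8, 6, 4, 2, 10, 8, 6, 11], 9, [(2506, [], [4, 2, 4, 5]), (1355, [38, 37], [1, 4, 2, 2, 3, 4, 2, 3, 5, 3, 4]), (686, [31, 36, 29], [1, 3, 1, 3, 4, 2, 4, 5, 3, 1, 4])], [], 0),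
  (1, 0, [], 0, [], [], 3574),
  (0, 6, [11, 8, 6, 4, 11, 8, 6, 4, 2, 10, 8, 6, 11], 8, [(2468, [], [1, 4, 2, 2, 5]), (3126, [37], [4, 2, 2, 3, 5, 3, 1, 4, 3]), (205, [37, 38], [0, 4, 2, 2, 3, 1, 3, 4, 3, 1])], [], 0),
  (1, 0, [], 0, [], [], 3576),
  (0, 6, [4, 6, 4, 8, 11, 8, 6, 4, 2, 10, 8, 6, 11], 8, [(1796, [], [1, 4, 2, 2, 5]), (287, [39, 41, 39], [0, 1, 4, 2, 3, 4, 3, 1, 3]), (2115, [45, 34, 45], [1, 3, 0, 4, 2, 3, 1, 4, 3])], [], 0),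
  (1, 0, [], 0, [], [], 3578),
  (0, 6, [4, 6, 4, 10, 10, 8, 6, 4, 2, 11, 8, 6, 11], 8, [(2777, [], [0, 2, 2, 3, 4, 2, 5, 3, 1, 3, 1]), (3023, [38, 37], [0, 1, 2, 3, 4, 2, 3, 4, 2, 2, 3, 4]), (2915, [], [2, 5, 3, 4, 3, 4, 2, 2])], [], 0),
  (1, 0, [], 0, [], [], 3580),
  (0, 6, [4, 6, 4, 10, 8, 6, 4, 2, 12, 11, 8, 6, 11], 8, [(1652, [], [4, 2, 4, 5]), (2879, [38], [0, 4, 2, 3, 4, 2, 3, 1, 5, 3]), (428, [37, 38], [2, 3, 4, 2, 4, 3, 4, 2, 4, 5])], [], 0),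
  (1, 0, [], 0, [], [], 3582),
  (0, 6, [8, 6, 4, 10, 8, 6, 4, 2, 11, 11, 8, 6, 11], 9, [(731, [37, 38, 37], [2, 2, 5, 3, 4, 2]), (3435, [33, 45], [0, 1, 4, 3, 0, 4, 2, 4, 3, 4]), (2616, [], [0, 1, 4, 2, 5, 3, 1, 4, 2, 3, 4])], [], 0),
  (1, 0, [], 0, [], [], 3584),
  (0, 6, [8, 6, 4, 10, 8, 6, 4, 2, 11, 8, 6, 12, 11], 8, [(879, [38, 37], [2, 3, 5, 0, 3, 1, 3, 4, 3]), (2037, [38, 37], [2, 3, 0, 4, 2, 3, 1, 3, 4, 3]), (1233, [38, 37], [2, 3, 4, 5, 0, 3, 1, 3, 5])], [], 0),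
  (1, 0, [], 0, [], [], 3586),
  (0, 6, [4, 6, 4, 6, 11, 8, 6, 4, 2, 10, 8, 6, 11], 8, [(2106, [], [1, 4, 2, 5]), (1144, [37, 38, 37], [4, 2, 3, 5, 0, 3, 4, 2, 3]), (1972, [37, 38, 37], [1, 2, 5, 3, 0, 1, 4, 2, 3])], [], 0),
  (1, 0, [], 0, [], [], 3588),
  (0, 6, [6, 10, 8, 6, 4, 6, 4, 2, 8, 10, 8, 6, 11], 8, [(2054, [], [1, 4, 2, 5]), (2986, [], [2, 5, 3, 1, 3, 4, 5]), (3124, [38], [1, 2, 2, 3, 0, 4, 2, 3, 1, 5, 3, 4])], [], 0),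
  (1, 0, [], 0, [], [], 3590),
  (0, 6, [0, 4, 2, 0, 6, 4, 6, 11, 11, 8, 6, 4, 2, 6], 8, [(2777, [], [3, 1, 3, 4, 5, 3, 1, 4, 3, 1]), (2903, [38, 37], [4, 2, 5, 3, 1, 4, 3, 4]), (789, [38], [0, 3, 4, 2, 5, 3, 4, 2, 4, 3, 1, 5])], [], 0),
  (1, 0, [], 0, [], [], 3592),
  (0, 6, [0, 2, 0, 11, 8, 6, 4, 6, 11, 8, 6, 4, 2, 6], 8, [(3351, [], [4, 2, 3, 5, 0, 3, 1, 4, 2]), (3452, [38, 37], [0, 4, 2, 3, 5, 3, 1, 4, 3, 1]), (3030, [], [0, 4, 2, 3, 1, 5, 3, 1, 3, 4, 3])], [], 0),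
  (1, 0, [], 0, [], [], 3594),
  (0, 6, [2, 0, 6, 4, 8, 10, 8, 6, 11, 8, 6, 4, 2, 6], 14, [(1397, [], [1, 2, 3, 0, 3, 4]), (286, [34, 33, 45], [1, 3, 4, 2, 3, 4, 2, 2, 3, 1]), (1232, [40, 39, 40, 41, 39], [2, 4, 2, 2, 3, 0, 4, 2, 3, 5])], [], 0),
  (1, 0, [], 0, [], [], 3596),
  (0, 6, [0, 4, 6, 8, 6, 4, 6, 13, 10, 8, 6, 4, 2, 6], 8, [(3299, [38, 37], [3, 4, 5, 0, 3, 4, 2, 2]), (379, [38], [2, 3, 0, 1, 4, 3, 5, 3, 4]), (2014, [37], [1, 2, 4, 2, 3, 0, 4, 5, 3, 4])], [], 0),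
  (1, 0, [], 0, [], [], 3598),
  (0, 6, [0, 6, 12, 10, 8, 6, 4, 6, 10, 8, 6, 4, 2, 6], 8, [(2232, [], [1, 5]), (1323, [37, 38], [4, 2, 5, 3, 1]), (1336, [25, 26, 25, 26, 32], [1, 5, 3, 0, 1, 4, 3, 4, 2, 2])], [], 0),
  (1, 0, [], 0, [], [], 3600),
  (0, 6, [0, 4, 6, 4, 8, 11, 8, 6, 10, 8, 6, 4, 2, 6], 8, [(1986, [], [2, 2, 4, 2, 5]), (3291, [43], [2, 2, 3, 0, 1, 4, 5, 3, 4, 2, 4]), (3222, [38], [2, 2, 5, 3, 0, 4, 2, 4, 3, 1])], [], 0),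
  (1, 0, [], 0, [], [], 3602),
  (0, 6, [0, 2, 0, 6, 4, 6, 8, 13, 11, 8, 6, 4, 2, 6], 8, [(842, [], [1, 4, 3, 5, 3, 4, 2]), (2268, [37, 38], [1, 4, 2, 3, 1, 3, 4, 2, 2, 3, 4]), (3566, [], [0, 2, 3, 5, 3, 4, 2, 3, 1, 3])], [], 0),
  (1, 0, [], 0, [], [], 3604),
  (0, 6, [0, 2, 0, 6, 4, 6, 13, 10, 8, 6, 4, 2, 6, 11], 8, [(2007, [], [3, 0, 1, 3, 4, 2, 2, 5, 3]), (1343, [38, 37], [1, 2, 5, 3, 4, 2, 4, 3, 1, 4, 2]), (1360, [36], [3, 4, 2, 2, 3, 1, 4, 3])], [], 0),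
  (1, 0, [], 0, [], [], 3606),
  (0, 6, [0, 4, 6, 4, 8, 6, 12, 11, 8, 6, 4, 2, 6, 11], 8, [(1341, [], [2, 3, 4, 3, 5, 3, 4, 2]), (3393, [46, 46], [0, 3, 4, 2, 2, 5, 3]), (3203, [37, 38], [3, 1, 3, 4, 2, 3, 4, 3, 1, 3])], [], 0),
  (1, 0, [], 0, [], [], 3608),
  (0, 6, [0, 4, 6, 4, 8, 6, 10, 8, 6, 4, 2, 6, 13, 11], 8, [(1712, [], [4, 2, 4, 5]), (1218, [40, 41, 39, 40, 41, 41], [1, 2, 3, 4, 3, 1, 3, 4, 2, 3, 4, 2]), (2058, [37], [1, 4, 3, 0, 1, 4, 5])], [], 0),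
  (1, 0, [], 0, [], [], 3610),
  (0, 6, [0, 6, 4, 10, 13, 10, 8, 6, 4, 2, 11, 8, 6, 11], 9, [(3323, [], [4, 2, 4, 3, 0, 1, 3, 5, 3, 4]), (2840, [37, 38], [0, 3, 4, 3, 5, 3, 1, 4, 3]), (1475, [38], [3, 1, 5, 3, 4, 2, 3, 4, 5])], [], 0),
  (1, 0, [], 0, [], [], 3612),
  (0, 6, [0, 4, 6, 4, 8, 6, 13, 10, 8, 6, 4, 2, 6, 10], 9, [(2071, [38], [4, 2, 3, 0, 4, 2, 2, 3, 4, 3, 1]), (2528, [], [4, 2, 5, 3, 0, 1, 3, 4, 5, 3]), (631, [34, 44], [3, 1, 3, 4, 2, 4, 5, 3])], [], 0),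
  (1, 0, [], 0, [], [], 3614),
  (0, 6, [0, 6, 4, 12, 10, 8, 6, 11, 8, 6, 4, 2, 6, 10], 8, [(3417, [37, 38], [0, 5, 3, 1, 4, 2, 3, 1, 4, 3]), (3598, [37], [0, 2, 4, 3, 4, 2, 2, 3, 5]), (3492, [37, 38, 37], [2, 4, 2, 3, 1, 4, 2, 3, 1, 5])], [], 0),
  (1, 0, [], 0, [], [], 3616),
  (0, 6, [0, 4, 2, 0, 6, 4, 11, 8, 6, 4, 2, 10, 8, 6], 8, [(1812, [], [3, 1, 5]), (488, [38, 37], [0, 4, 2, 3, 5, 3, 4, 3, 1, 3]), (993, [38], [0, 2, 3, 5, 3, 4, 2, 4, 3, 1])], [], 0),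
  (1, 0, [], 0, [], [], 3618),
  (0, 6, [0, 4, 8, 6, 4, 12, 11, 8, 6, 4, 2, 10, 8, 6], 8, [(1748, [38], [4, 3, 1, 4, 2, 4, 5, 0]), (807, [45, 34, 33, 45], [0, 1, 3, 4, 3, 1, 4, 3, 5]), (2220, [38, 37], [0, 1, 4, 3, 4, 2, 3, 5, 3, 1])], [], 0),
  (1, 0, [], 0, [], [], 3620),
  (0, 6, [0, 4, 6, 8, 6, 4, 11, 8, 6, 4, 2, 10, 8, 6], 8, [(1936, [38], [2, 2, 4, 2, 3, 1, 4, 5, 0]), (1899, [37, 38, 37], [0, 4, 3, 1, 3, 1, 4, 5, 3, 4]), (1048, [], [0, 5, 3, 1, 4, 3, 4])], [], 0),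
  (1, 0, [], 0, [], [], 3622),
  (0, 6, [0, 6, 4, 8, 6, 4, 10, 8, 6, 4, 2, 11, 8, 6], 8, [(1337, [37], [3, 5, 3, 4, 2, 3, 4, 2, 3, 1, 5]), (99, [26, 25, 46], [4, 3, 1, 4, 2, 3, 5, 3, 1, 3]), (1232, [40, 39, 40, 39, 40, 39], [1, 3, 4, 3, 1, 3, 4, 2])], [], 0),
  (1, 0, [], 0, [], [], 3624),
  (0, 6, [0, 4, 8, 6, 4, 11, 8, 6, 4, 2, 12, 11, 8, 6], 15, [(1976, [38], [0, 4, 2, 2, 3, 0, 4, 2]), (1609, [39, 40, 39, 40, 39, 41], [0, 1, 3, 1, 4, 3, 4, 2, 2, 5]), (645, [38], [2, 2, 4, 3, 4, 5, 0, 3, 1, 3, 4])], [], 0),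
  (1, 0, [], 0, [], [], 3626),
  (0, 6, [0, 11, 8, 6, 4, 6, 10, 8, 6, 4, 2, 10, 8, 6], 8, [(1637, [37, 38], [1, 3, 1, 5, 3, 1, 4, 2, 3, 4, 5, 3]), (768, [], [0, 1, 4, 2, 4, 3, 1, 3, 4, 3]), (2277, [37], [0, 1, 4, 2, 2, 3, 4, 3, 5])], [], 0),
  (1, 0, [], 0, [], [], 3628),
  (0, 6, [2, 0, 6, 4, 6, 12, 10, 8, 6, 4, 2, 11, 8, 6], 8, [(1754, [], [3, 1, 4, 5]), (2705, [], [0, 4, 3, 1, 4, 2, 3, 4, 3, 4, 2]), (1880, [], [1, 2, 3, 1, 4, 3, 4, 5, 3, 4, 3])], [], 0),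
  (1, 0, [], 0, [], [], 3630),
  (0, 6, [0, 10, 8, 6, 4, 6, 11, 8, 6, 4, 2, 11, 8, 6], 8, [(1801, [37], [5, 3, 1, 3, 1, 5, 3, 1]), (772, [], [1]), (233, [43, 43, 43, 43, 42, 43], [2, 2, 3, 1, 3, 1, 5, 3, 1])], [], 0),
  (1, 0, [], 0, [], [], 3632),
  (0, 6, [0, 8, 6, 4, 6, 11, 11, 8, 6, 4, 2, 11, 8, 6], 14, [(1948, [], [2, 2, 4, 2]), (997, [45, 33, 44, 45], [1, 3, 5, 0, 3, 1, 4, 2, 3, 4, 5]), (2503, [37], [2, 2, 3, 4, 3, 1, 5, 0, 3, 4])], [], 0),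
  (1, 0, [], 0, [], [], 3634),
  (0, 6, [0, 8, 6, 4, 6, 11, 8, 6, 4, 2, 12, 11, 8, 6], 9, [(1928, [], [1, 2, 2, 4, 5]), (1487, [38, 37], [1, 2, 5, 3, 4, 2, 4, 3, 1, 4]), (756, [34, 45], [1, 4, 2, 3, 0, 1, 5, 3, 1])], [], 0),
  (1, 0, [], 0, [], [], 3636),
  (0, 6, [0, 6, 4, 6, 11, 11, 8, 6, 4, 2, 11, 8, 6, 11], 14, [(1750, [], [1, 2, 4, 2]), (1875, [37, 38, 37], [5, 3, 1, 4, 3, 1, 5, 3, 4, 3]), (1930, [37, 38], [1, 5, 3, 1, 3, 4, 5, 3, 1])], [], 0),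
  (1, 0, [], 0, [], [], 3638),
  (0, 6, [2, 0, 6, 4, 12, 11, 8, 6, 4, 2, 10, 8, 6, 10], 16, [(3323, [], [0, 2, 3, 4, 5, 3, 4, 2, 2, 3]), (2758, [37, 38, 37], [2, 2, 3, 1, 3, 4, 2, 3, 1, 3, 5]), (3027, [37], [3, 4, 3, 1, 4, 2, 5, 3])], [], 0),
  (1, 0, [], 0, [], [], 3640),
  (0, 6, [0, 6, 4, 8, 10, 10, 8, 6, 4, 2, 10, 8, 6, 10], 8, [(1736, [], [2, 4, 5]), (995, [], [2, 4, 2, 5, 3, 1, 4, 3, 4, 2]), (2166, [], [0, 1, 2, 3, 1, 4, 2, 3, 4])], [], 0),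
  (1, 0, [], 0, [], [], 3642),
  (0, 6, [0, 4, 6, 4, 11, 8, 6, 4, 2, 10, 10, 8, 6, 10], 8, [(1738, [], [4, 5]), (1171, [37, 38, 37], [0, 3, 4, 2, 3, 1, 3, 4, 2, 3, 4]), (920, [38, 37], [0, 1, 2, 2, 4, 2, 3, 0])], [], 0),
  (1, 0, [], 0, [], [], 3644),
  (0, 6, [0, 4, 6, 4, 10, 8, 6, 4, 2, 11, 11, 8, 6, 10], 8, [(3343, [37, 38], [1, 5, 3, 1, 4, 2, 3, 1, 5]), (1560, [37, 38, 37], [2, 5, 3, 4, 2, 2, 3, 4, 3, 1, 5]), (3560, [], [0, 1, 4, 3, 4, 5, 3, 1, 4, 3])], [], 0),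
  (1, 0, [], 0, [], [], 3646),
  (0, 6, [2, 0, 6, 4, 12, 11, 8, 6, 4, 2, 10, 8, 6, 11], 15, [(2215, [37, 38, 37], [2, 3, 4, 2, 2, 3, 4, 5, 3, 4, 3]), (1759, [37, 38], [0, 4, 2, 4, 3, 0, 1, 4, 2]), (3639, [37], [1, 3, 4, 3, 5, 3, 1, 4, 3, 4])], [], 0),
  (1, 0, [], 0, [], [], 3648),
  (0, 6, [0, 4, 8, 6, 4, 10, 8, 6, 4, 2, 11, 8, 6, 11], 8, [(1710, [], [1, 2, 4, 2, 2, 5]), (2647, [38], [3, 0, 4, 2, 2, 3, 4, 2, 3, 5]), (2634, [37, 38], [1, 2, 2, 5, 3, 0, 4, 2, 3, 4])], [], 0),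
  (1, 0, [], 0, [], [], 3650),
  (0, 6, [0, 4, 6, 4, 8, 10, 8, 6, 4, 2, 11, 8, 6, 11], 8, [(1734, [], [1, 2, 4, 2, 2, 5]), (1306, [43, 42, 43, 43, 43, 42, 43, 43], [2, 3, 0, 5, 3, 1, 4, 3, 4, 5]), (3568, [], [0, 2, 4, 2, 5, 3, 4, 2, 3, 1, 4, 5])], [], 0)]

def stepC23 : List (Nat × Nat × List Nat × Nat × List (Nat × List Nat × List Nat) × List (Nat × List Nat × List Nat) × Nat) := [(1, 0, [], 0, [], [], 3652),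
  (0, 6, [0, 2, 6, 4, 8, 10, 8, 6, 11, 8, 6, 4, 2, 6], 14, [(408, [], [3, 1]), (3154, [], [0, 3, 1, 3, 1, 5, 3, 4, 2, 2, 3, 5]), (3021, [37, 38], [3, 4, 3, 5, 3, 4])], [], 0),
  (1, 0, [], 0, [], [], 3654),
  (0, 6, [4, 2, 8, 6, 4, 10, 8, 6, 11, 8, 6, 4, 2, 6], 8, [(2750, [37, 38, 37], [1, 5]), (3327, [38], [1, 3, 5, 3, 4, 3, 1, 4]), (927, [37, 38, 37], [1, 3, 1, 5, 3, 1, 4, 2, 3, 1])], [], 0),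
  (1, 0, [], 0, [], [], 3656),
  (0, 6, [4, 8, 6, 4, 10, 8, 6, 13, 10, 8, 6, 4, 2, 6], 9, [(2114, [38], [4, 2, 3, 1, 4, 2, 5, 0]), (1378, [33, 33, 44, 44], [1, 3, 1, 4, 2]), (2114, [37, 38, 37], [4, 2, 3, 4, 2, 2, 5, 0])], [], 0),
  (1, 0, [], 0, [], [], 3658),
  (0, 6, [2, 4, 6, 4, 12, 10, 8, 6, 11, 8, 6, 4, 2, 6], 8, [(2161, [38, 37], [1, 2, 3, 4, 2, 3, 5, 3, 1, 4]), (2706, [37], [5, 3, 1, 4, 2, 4, 3, 4, 2, 3]), (1895, [37, 38, 37], [2, 4, 2, 3, 5, 3, 1, 4])], [], 0),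
  (1, 0, [], 0, [], [], 3660),
  (0, 6, [8, 6, 4, 6, 11, 8, 6, 10, 8, 6, 4, 2, 6, 11], 8, [(2086, [38], [2, 2, 4, 3, 4, 2, 4, 5, 0]), (3058, [37, 38], [4, 3, 1, 4, 3, 5, 3, 1, 3]), (2038, [38], [3, 1, 4, 2, 5, 3, 4, 2, 2, 3, 1])], [], 0),
  (1, 0, [], 0, [], [], 3662),
  (0, 6, [4, 2, 8, 6, 4, 11, 11, 8, 6, 4, 2, 10, 8, 6], 8, [(2758, [37, 38, 37], [1, 5]), (2456, [37, 38, 37], [0, 4, 3, 1, 4, 5, 3, 1, 3, 4]), (1282, [42, 43, 43, 43, 43, 42], [0, 4, 2, 3, 4, 2, 2, 5])], [], 0),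
  (1, 0, [], 0, [], [], 3664),
  (0, 6, [10, 10, 8, 6, 4, 10, 10, 8, 6, 4, 2, 10, 8, 6], 14, [(2906, [], [1]), (608, [39, 41, 39, 41, 39], [0, 2, 2, 3, 1, 3, 1, 5, 3]), (609, [38], [0, 3, 5, 3, 1, 3, 4, 2, 4, 5, 3])], [], 0),
  (1, 0, [], 0, [], [], 3666),
  (0, 6, [11, 8, 6, 4, 6, 11, 11, 8, 6, 4, 2, 10, 8, 6], 14, [(2306, [37, 38], [4, 3, 1, 5, 0]), (238, [28, 35, 35, 31], [0, 1, 2, 3, 1, 4, 2]), (3532, [37, 38, 37], [0, 3, 1, 3, 1, 4, 2, 3, 4, 2, 2, 3])], [], 0),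
  (1, 0, [], 0, [], [], 3668),
  (0, 6, [13, 11, 8, 6, 4, 6, 10, 8, 6, 4, 2, 10, 8, 6], 8, [(2500, [], [2, 4, 2, 2, 5]), (2847, [], [4, 2, 2, 3, 4, 2, 3, 4, 3, 5, 0]), (2880, [38, 37], [0, 1, 3, 1, 3, 5, 3, 4])], [], 0),
  (1, 0, [], 0, [], [], 3670),
  (0, 6, [4, 8, 6, 4, 6, 11, 8, 6, 4, 2, 12, 11, 8, 6], 8, [(2454, [38], [1, 2, 2, 4, 3, 1, 5, 0]), (1865, [], [1, 2, 3, 1, 4, 3, 4, 2, 2, 3]), (617, [38, 37], [0, 1, 2, 4, 2, 3, 4, 2, 3, 4, 5, 3])], [], 0),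
  (1, 0, [], 0, [], [], 3672),
  (0, 6, [13, 10, 8, 6, 4, 6, 11, 8, 6, 4, 2, 11, 8, 6], 8, [(2524, [], [1, 4, 5]), (2076, [37], [0, 2, 4, 2, 3, 1, 4, 3, 4, 3]), (2251, [], [1, 3, 5, 0, 3, 4, 2, 3, 5])], [], 0),
  (1, 0, [], 0, [], [], 3674),
  (0, 6, [12, 10, 8, 6, 4, 6, 11, 8, 6, 4, 2, 11, 8, 6], 8, [(1751, [37, 38], [2, 4, 2, 5, 0, 3, 4, 2, 4, 3, 5]), (768, [], [0, 2, 2, 4, 2, 3, 1, 3, 4, 3]), (3662, [38], [2, 5, 3, 1, 3, 1, 4, 3])], [], 0),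
  (1, 0, [], 0, [], [], 3676),
  (0, 6, [4, 8, 6, 4, 12, 11, 8, 6, 4, 2, 10, 8, 6, 11], 9, [(2454, [], [1, 4, 2, 2, 5]), (2109, [38, 37], [1, 2, 2, 3, 1, 3, 4, 5, 3, 1, 3, 4, 5]), (1538, [], [0, 4, 3, 1, 4, 2, 4, 3, 5])], [], 0),
  (1, 0, [], 0, [], [], 3678),
  (0, 6, [13, 11, 8, 6, 4, 10, 8, 6, 4, 2, 10, 8, 6, 11], 8, [(2458, [], [1, 4, 2, 2, 5]), (3284, [38], [1, 4, 2, 4, 3, 5, 3, 4, 3, 1, 5]), (2364, [37, 38], [3, 4, 2, 2, 3, 4, 2, 5, 3, 4, 3, 5])], [], 0),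
  (1, 0, [], 0, [], [], 3680),
  (0, 6, [0, 12, 11, 8, 6, 4, 6, 10, 8, 6, 4, 2, 10, 8, 6], 8, [(1771, [38], [1, 4, 2, 2, 3, 4, 2, 4]), (2076, [], [1, 3, 4, 2, 4, 5, 3, 1, 3, 1, 5]), (1237, [37, 38, 37], [1, 2, 2, 3, 4, 2, 3, 4, 2, 2, 5])], [], 0),
  (1, 0, [], 0, [], [], 3682),
  (0, 6, [0, 11, 8, 6, 4, 11, 8, 6, 4, 2, 11, 11, 8, 6, 10], 8, [(2256, [], [4, 5]), (3292, [38, 37], [1, 2, 2, 4, 3, 0, 1, 5, 3, 4, 2]), (3341, [38], [1, 2, 2, 3, 0, 4, 3, 1, 3, 5])], [], 0),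
  (1, 0, [], 0, [], [], 3684),
  (0, 6, [4, 2, 8, 6, 4, 12, 10, 8, 6, 11, 8, 6, 4, 2, 6], 15, [(1979, [37, 38, 37], [0, 5, 3, 1, 4, 2, 3, 4, 5, 3]), (1700, [], [0, 1, 4, 2, 2, 3, 4, 2, 3, 4]), (1415, [37], [3, 0, 1, 3, 4, 2, 4, 3, 5, 3, 1])], [], 0),
  (1, 0, [], 0, [], [], 3686),
  (0, 6, [0, 2, 6, 4, 6, 4, 12, 10, 8, 6, 4, 2, 11, 8, 6], 8, [(1223, [], [3, 1, 3, 1, 4, 2, 5, 3, 4]), (1248, [39, 39, 39, 41, 41], [2, 4, 2, 2, 5, 3, 4, 2, 4, 3, 1]), (840, [37, 38], [0, 1, 3, 1, 4, 2, 3, 5, 3, 4, 2])], [], 0),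
  (1, 0, [], 0, [], [], 3688),
  (0, 6, [13, 10, 8, 6, 4, 6, 11, 8, 6, 4, 2, 11, 8, 6, 11], 22, [(3686, [37], [0, 3, 1, 3, 1, 5, 3, 4, 2, 4]), (3689, [34, 45, 45], [2, 2, 4, 2, 3, 0, 5, 3, 1, 3])], [], 0),
  (1, 0, [], 0, [], [], 3690),
  (0, 6, [0, 12, 11, 8, 6, 4, 11, 8, 6, 4, 2, 11, 11, 8, 6, 10], 8, [(2688, [], [2, 2, 4, 5]), (1295, [38, 37], [0, 2, 2, 3, 4, 5, 3, 1, 3, 5]), (1553, [43, 42], [1, 3, 0, 4, 2, 2, 3, 4, 5])], [], 0),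
  (1, 0, [], 0, [], [], 3692),
  (0, 7, [0, 10, 8, 6, 4, 2, 6, 10], 9, [(973, [], [4, 3, 4, 2, 3, 4, 5, 3, 4]), (2768, [], [0, 4, 2, 4, 5, 3, 1, 3, 4, 5]), (2131, [37], [0, 1, 3, 5, 3, 1, 4, 2, 4, 3, 5])], [], 0),
  (1, 0, [], 0, [], [], 3694),
  (0, 7, [0, 8, 10, 8, 6, 4, 2, 6, 10], 8, [(973, [39, 40, 39, 40, 39], [3, 1, 5, 3, 4, 2, 3, 1, 4, 5]), (2480, [], [0, 2, 4, 3, 1, 3, 1, 5, 3, 4, 2]), (2557, [38, 37], [1, 2, 2, 3, 1, 5, 3, 1, 4, 3, 1])], [], 0),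
  (1, 0, [], 0, [], [], 3696),
  (0, 7, [0, 10, 8, 6, 4, 2, 11, 8, 6], 8, [(973, [], [5, 3, 1, 4, 2, 4, 3, 4, 3]), (2768, [], [1, 4, 2, 4, 5, 3, 1, 3, 4, 5]), (3206, [], [1, 3, 0, 4, 2, 3, 4, 2, 3])], [], 0),
  (1, 0, [], 0, [], [], 3698),
  (0, 7, [10, 8, 6, 11, 8, 6, 4, 2, 6], 8, [(592, [], [1, 5]), (1977, [40, 39, 40, 39, 41], [1, 2, 3, 5, 0]), (982, [37, 38, 37], [0, 3, 1, 3, 5, 3])], [], 0),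
  (1, 0, [], 0, [], [], 3700),
  (0, 7, [0, 10, 8, 6, 11, 8, 6, 4, 2, 6], 15, [(973, [], [5, 3, 1, 4, 2, 4, 3, 4, 3, 5]), (3322, [], [0, 4, 3, 1, 5, 3, 4, 2, 2]), (2518, [38, 37], [1, 4, 3, 4, 2, 2, 5, 3, 1, 3])], [], 0),
  (1, 0, [], 0, [], [], 3702),
  (0, 7, [0, 10, 8, 6, 4, 2, 10, 8, 6, 10], 8, [(857, [39, 40, 41, 39, 41, 41], [1, 5, 3, 0, 1, 4, 2, 3, 4, 2]), (1783, [], [2, 4, 3, 1, 3, 4, 2, 2, 5]), (1509, [37, 38, 37], [2, 3, 4, 3, 1, 4, 2, 3])], [], 0),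
  (1, 0, [], 0, [], [], 3704),
  (0, 7, [0, 10, 8, 6, 4, 2, 11, 8, 6, 10], 8, [(2889, [], [4, 3, 4, 2, 2, 3, 4, 2, 5, 3, 4]), (3104, [38, 37], [0, 1, 2, 2, 5, 3, 1, 4, 2, 3, 4]), (2888, [38], [4, 2, 4, 5])], [], 0),
  (1, 0, [], 0, [], [], 3706),
  (0, 7, [0, 10, 8, 6, 4, 2, 11, 8, 6, 11], 8, [(857, [39, 40, 41, 39, 41, 41], [1, 2, 5, 3, 0, 4, 2, 4, 3]), (2237, [], [5, 3, 1, 4, 3, 4, 2, 5, 3, 1]), (998, [], [2, 3, 5, 3, 1, 3, 1, 4, 2, 5, 3])], [], 0),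
  (1, 0, [], 0, [], [], 3708),
  (0, 8, [0, 2], 8, [(1252, [], [2, 2]), (1508, [44], [1, 2, 2, 3, 0, 4, 2, 5, 3, 1, 4]), (1684, [37], [0, 2, 3, 4, 2, 2, 3, 1, 4, 2, 5])], [], 0),
  (1, 0, [], 0, [], [], 3710),
  (0, 8, [0, 8, 6, 4, 2, 6], 8, [(945, [43, 43, 42, 43, 43, 43, 43], [3, 1, 3, 1, 4, 3, 5, 3, 1, 4]), (3549, [], [0, 1, 3, 1, 5, 3, 1, 4, 3, 4, 2, 5, 3]), (2708, [], [0, 2, 3, 1, 4, 3, 4, 2, 3, 4, 3])], [], 0),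
  (1, 0, [], 0, [], [], 3712),
  (0, 8, [2, 6, 8, 10, 8, 6], 8, [(1553, [43, 42], [4, 5, 0, 3, 1, 3, 4, 2, 2]), (1588, [], [2, 3, 0, 1, 4, 3, 1, 5, 3]), (412, [], [1, 3, 0, 1, 4, 2, 4, 5, 3])], [], 0),
  (1, 0, [], 0, [], [], 3714),
  (0, 8, [6, 8, 6, 4, 2, 6, 12, 11], 8, [(1284, [], [0, 2, 4, 2, 2]), (2437, [34, 33, 45], [1, 3, 1, 3, 4, 2, 4, 3, 1]), (1729, [], [2, 3, 4, 2, 4, 3, 4, 2, 3, 1, 4])], [], 0),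
  (1, 0, [], 0, [], [], 3716),
  (0, 4, [6, 4, 2, 0, 6, 4, 12, 11, 8, 6, 4], 8, [(3511, [27, 35, 27, 36], [3, 5, 0, 3, 1, 4, 2, 3, 1, 4, 5]), (1074, [37, 38], [2, 4, 2, 3, 4, 3, 1, 5, 3]), (2258, [37], [2, 2, 3, 1, 3, 4, 2, 4, 5, 3, 4])], [], 0),
  (1, 0, [], 0, [], [], 3718),
  (0, 5, [0, 6, 4, 11, 11, 8, 6, 4, 2, 10, 8, 11, 12], 14, [(599, [33, 45, 44], [2, 3, 4, 3, 1, 3, 1, 5, 3, 1]), (3071, [39, 41, 41, 39, 40, 41], [1, 4, 2, 4, 3, 4, 5, 3, 4]), (2838, [37], [0, 1, 2, 3, 4, 3, 1, 5, 3, 4])], [], 0),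
  (1, 0, [], 0, [], [], 3720),
  (0, 5, [4, 6, 4, 8, 6, 4, 2, 11, 13], 9, [(1384, [33], [0, 2, 5, 3, 1, 4, 2]), (3180, [38, 37], [1, 3, 1, 4, 2, 5, 0, 3, 1, 4, 3]), (1467, [38], [0, 2, 2, 5, 3, 4, 2, 3, 4, 2, 2])], [], 0),
  (1, 0, [], 0, [], [], 3722),
  (0, 5, [11, 11, 8, 6, 4, 2, 6, 10, 8, 6, 4, 2, 6, 4, 13, 13, 11, 1, 1, 3, 1, 10, 3, 13, 1], 8, [(272, [34], [0, 1, 2, 3, 1, 3, 5, 3, 1, 3]), (3591, [42, 43, 43, 43, 42, 43, 43, 43], [0, 1, 3, 4, 5, 3, 1, 4, 2, 3]), (3600, [38, 37], [0, 2, 2, 4, 2, 5, 3, 4, 2])], [], 0),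
  (1, 0, [], 0, [], [], 3724),
  (0, 5, [6, 4, 2, 8, 10, 8, 6, 11, 8, 13, 11], 8, [(1472, [], [1, 4, 2, 2]), (965, [], [1, 3, 4, 2, 2, 5, 3, 1, 3, 1]), (561, [37, 38, 37], [1, 2, 3, 4, 3, 5, 0, 3, 4])], [], 0),
  (1, 0, [], 0, [], [], 3726),
  (0, 6, [0, 2, 4, 2, 6, 8, 6, 4, 6, 4, 11, 12], 9, [(1542, [37, 38, 37], [1, 2, 4, 3, 0]), (1380, [], [0, 2, 4, 2, 3, 1, 3, 1, 5, 3]), (3076, [], [4, 2, 2, 3, 4, 2, 4, 3, 1])], [], 0),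
  (1, 0, [], 0, [], [], 3728),
  (0, 6, [4, 2, 6, 8, 10, 8, 10, 12], 8, [(1604, [37, 38, 37], [0, 3, 0, 4]), (2333, [38, 37], [0, 5, 3, 4, 2, 2, 3, 1, 3, 5, 3]), (915, [37, 38], [0, 2, 4, 2, 2, 3, 4, 5, 3, 1, 4])], [], 0),
  (1, 0, [], 0, [], [], 3730),
  (0, 6, [2, 4, 6, 4, 2, 0, 6, 4, 13, 11, 8, 11], 8, [(609, [38], [1, 4, 2, 2, 3, 1, 4, 3, 1, 5]), (1232, [39, 39, 40, 39, 40, 41], [0, 2, 4, 2, 3, 1, 3, 4, 3, 4]), (3285, [], [4, 2, 3, 4, 2, 2, 3, 4, 2, 4])], [], 0),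
  (1, 0, [], 0, [], [], 3732),
  (0, 6, [0, 6, 4, 8, 6, 4, 2, 10, 10, 8, 11, 12], 8, [(1822, [37, 38], [0, 1, 2, 4, 2, 3, 0, 1, 4, 2]), (3012, [37, 38], [1, 2, 2, 4, 2, 5, 3, 0, 1, 3, 4]), (1809, [38], [1, 2, 2, 4, 2, 3, 4, 3, 1])], [], 0),
  (1, 0, [], 0, [], [], 3734),
  (0, 6, [2, 13, 10, 8, 6, 11, 8], 8, [(3545, [38], [1, 2, 4, 2, 5, 3, 1, 3, 4, 2, 2]), (3316, [37, 38, 37], [3, 5, 3, 4, 2, 2, 3, 1]), (3426, [38, 37], [0, 4, 2, 3, 1, 5, 3, 4, 3, 5])], [], 0),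
  (1, 0, [], 0, [], [], 3736),
  (0, 6, [2, 6, 11, 8, 6, 4, 2, 6, 12, 10, 8, 11], 8, [(2748, [], [2, 3, 4, 2, 4]), (3251, [37], [0, 3, 4, 3, 4, 5, 3, 1, 3, 5]), (842, [], [4, 2, 2, 3, 4, 2, 4, 3, 4, 2])], [], 0),
  (1, 0, [], 0, [], [], 3738),
  (0, 6, [6, 4, 2, 6, 13, 11, 8, 6], 8, [(3717, [], [2, 4, 2, 3, 4, 5, 0, 3, 1, 3]), (419, [42, 43, 43, 42, 43, 43], [0, 3, 1, 4, 3, 1, 4, 2, 5, 3, 4, 2]), (927, [37], [1, 3, 1, 4, 5, 0, 3, 4, 2, 4])], [], 0),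
  (1, 0, [], 0, [], [], 3740),
  (0, 6, [0, 6, 4, 6, 11, 8, 6, 4, 2, 10, 8, 12], 8, [(2980, [], [2]), (1769, [], [2, 2, 3, 5, 3, 1, 4, 3, 1]), (2566, [37], [2, 3, 0, 1, 4, 2, 5])], [], 0),
  (1, 0, [], 0, [], [], 3742),
  (0, 6, [6, 4, 2, 8, 6, 11, 13, 11], 22, [(1551, [38, 37], [1, 4, 2, 4]), (1638, [], [2, 2, 4, 2])], [], 0),
  (1, 0, [], 0, [], [], 3744),
  (0, 6, [0, 4, 2, 12, 10, 8, 6, 11, 8, 6, 4, 11], 8, [(1600, [], [1, 2, 4, 2, 2, 3]), (1698, [37], [2, 2, 3, 1, 3, 4, 5, 3, 1]), (3630, [37, 38], [0, 2, 2, 3, 5, 3, 4, 3, 4, 2, 4])], [], 0),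
  (1, 0, [], 0, [], [], 3746),
  (0, 6, [0, 4, 2, 6, 12, 11, 8, 6, 4, 11], 8, [(1532, [], [4, 2, 4, 3]), (2954, [37, 38], [3, 0, 4, 2, 3, 1, 4, 5, 3, 1]), (3359, [38, 37], [3, 0, 4, 2, 3, 4, 5, 3, 4])], [], 0),
  (1, 0, [], 0, [], [], 3748),
  (0, 6, [2, 6, 4, 2, 12, 10, 8, 6, 4, 2, 6], 8, [(356, [], [5, 0]), (2929, [37], [2, 3, 1, 3, 5, 3, 4, 3, 4]), (3129, [37, 38], [1, 4, 2, 3, 1, 4, 2, 3, 1])], [], 0),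
  (1, 0, [], 0, [], [], 3750),
  (0, 6, [6, 11, 11, 8, 6, 4, 2, 6, 4], 8, [(1558, [], [1, 5, 3]), (2769, [38, 37], [4, 3, 0, 4, 5]), (2835, [37], [2, 2, 4, 2, 3, 1, 3, 4, 2, 2, 3])], [], 0),
  (1, 0, [], 0, [], [], 3752),
  (0, 6, [10, 10, 8, 6, 4, 2, 6, 8, 11, 13], 8, [(1896, [], [1, 2, 4, 2]), (3279, [37, 38, 37], [0, 2, 2, 3, 1, 4, 2, 3, 1, 5]), (2092, [37, 38], [2, 2, 3, 0, 4, 2, 5])], [], 0),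
  (1, 0, [], 0, [], [], 3754),
  (0, 6, [6, 8, 6, 4, 2, 10, 8, 6, 4, 10, 8, 11, 12], 9, [(1918, [38], [0, 1, 2, 2, 3, 0, 4, 2, 4, 3]), (3449, [37, 38], [1, 2, 4, 2, 3, 1, 3, 5]), (1064, [37, 38, 37], [1, 3, 4, 2, 5, 3, 1, 3, 1, 4, 2])], [], 0),
  (1, 0, [], 0, [], [], 3756),
  (0, 6, [4, 2, 6, 4, 2, 8, 10, 8, 6, 4, 2, 6, 8, 12], 8, [(3032, [], [2, 3, 1]), (3482, [37, 38, 37], [2, 2, 3, 0, 5, 3, 4, 2, 3, 1]), (1874, [37], [3, 1, 4, 2, 3, 4, 2, 3, 5, 0])], [], 0),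
  (1, 0, [], 0, [], [], 3758),
  (0, 6, [6, 4, 8, 10, 10, 8, 6, 4, 2, 6, 4], 8, [(2123, [], [0, 4, 3, 5, 3, 1, 4, 3, 1, 4]), (2762, [37, 38, 37], [1, 2, 2, 4, 2, 3, 1, 5]), (2388, [37], [1, 2, 4, 5, 3, 0, 4, 2, 2, 3, 5])], [], 0),
  (1, 0, [], 0, [], [], 3760),
  (0, 6, [0, 6, 8, 6, 10, 10, 8, 6, 4, 2, 6, 4, 8, 10, 12], 8, [(2038, [], [2, 2, 4, 2, 3]), (1555, [40, 41, 41, 39], [5, 3, 4, 2, 3, 4, 2, 3]), (1089, [37], [0, 3, 5, 3, 4, 2, 2, 3, 4, 2, 3])], [], 0),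
  (1, 0, [], 0, [], [], 3762),
  (0, 6, [0, 8, 13, 10, 8, 6, 4, 2, 6, 8, 10], 8, [(2765, [38, 37], [4, 5, 3, 1, 4, 2, 4, 3, 1, 4]), (2992, [38], [4, 2, 3, 1, 5, 3, 1, 3, 4]), (3726, [45, 33, 44, 45], [0, 3, 1, 4, 3, 4, 2, 5, 3])], [], 0),
  (1, 0, [], 0, [], [], 3764),
  (0, 6, [0, 12, 11, 8, 6, 4, 2, 0, 6, 4, 11, 8, 6, 4], 8, [(1776, [], [1, 3, 0]), (1814, [37], [0, 2, 2, 4, 3, 4, 2, 3, 4, 5]), (1777, [37], [1, 4, 2, 3, 1, 3, 4, 2, 3, 4, 2])], [], 0),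
  (1, 0, [], 0, [], [], 3766),
  (0, 6, [4, 6, 8, 6, 11, 8, 6, 4, 2, 6, 11, 8, 10, 12], 9, [(3573, [37, 38, 37], [1, 3, 1, 3, 4, 2, 2, 3, 4]), (1846, [], [1, 2, 3, 4, 3, 5, 0, 3, 4, 3]), (2463, [39, 39, 41, 39, 41, 41], [0, 2, 3, 4, 5, 3, 4, 2, 3, 5])], [], 0),
  (1, 0, [], 0, [], [], 3768),
  (0, 6, [0, 4, 8, 11, 8, 6, 4, 13, 11, 8, 6, 4, 2, 0], 8, [(2884, [], [0, 2, 5]), (2108, [38, 37], [1, 3, 1, 4, 2, 4, 5, 3, 1]), (2200, [38, 37], [1, 2, 2, 4, 5, 3, 0, 1, 4, 3, 5])], [], 0),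
  (1, 0, [], 0, [], [], 3770),
  (0, 6, [0, 4, 8, 6, 4, 2, 13, 10, 8, 6, 4, 2, 0, 6, 4], 8, [(1916, [], [5, 3, 0]), (3322, [38], [1, 2, 2, 3, 1, 5, 3, 1, 3]), (1732, [], [2, 5, 3, 0, 1, 3, 4, 2, 2, 5, 3])], [], 0),
  (1, 0, [], 0, [], [], 3772),
  (0, 6, [0, 8, 6, 4, 2, 11, 8, 6, 4, 2, 6, 4, 12, 10], 8, [(1916, [38], [1, 2, 2, 3, 4, 5, 3]), (516, [], [4, 5, 0, 3, 1, 3, 4, 2]), (1917, [], [3, 0, 4, 2, 5, 3, 4, 3, 1, 3])], [], 0),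
  (1, 0, [], 0, [], [], 3774),
  (0, 6, [10, 13, 10, 8, 6, 4, 6, 4, 2, 10, 8, 6, 4, 10, 10, 3, 9, 7, 12, 5, 13, 9, 3, 13, 10, 12, 3, 1, 3, 12, 12, 10], 8, [(3359, [37, 38], [0, 2, 2, 3, 0, 4, 2, 3, 4, 2, 2, 3]), (958, [38, 37], [0, 3, 4, 3, 5, 3, 4, 2, 2]), (3358, [37, 38], [0, 4, 2, 2, 5, 3, 4, 3, 1, 5])], [], 0),
  (1, 0, [], 0, [], [], 3776),
  (0, 6, [2, 4, 6, 4, 6, 12, 10, 8, 6, 4, 2, 0, 6, 8], 8, [(1951, [], [2, 2, 5, 0, 3, 1, 3, 4, 3]), (2184, [37, 38], [3, 1, 4, 5, 3, 4, 2]), (2497, [37], [1, 4, 2, 3, 0, 1, 4, 5, 3, 1])], [], 0),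
  (1, 0, [], 0, [], [], 3778),
  (2, 0, [], 0, [], [], 0),
  (1, 0, [], 0, [], [], 3780),
  (0, 6, [0, 2, 6, 12, 11], 26, [(3579, [38, 37], [0, 1, 3, 1, 3, 4, 2, 5, 3, 4, 2, 4]), (2359, [37], [0, 1, 2, 3, 1, 3, 4, 2, 3, 4]), (3304, [], [4, 2, 3, 4, 5, 3, 1, 3, 5]), (2617, [], [3, 5, 3, 1, 4, 3, 4, 5]), (2678, [], [0, 2, 3, 1, 4, 5, 3, 1, 4, 3, 5]), (219, [43, 42, 43, 43], [2, 4, 3, 1, 5, 3, 4, 3, 4, 2]), (3780, [25, 25, 26, 25], [2, 2, 3, 1, 4, 3, 1, 5, 3, 1, 3, 4])], [], 0),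
  (1, 0, [], 0, [], [], 3782),
  (0, 6, [6, 4, 2, 8, 6, 11], 9, [(899, [], [1, 3, 5, 3, 4, 2, 3, 1, 3, 4]), (3288, [], [1, 3, 4, 2, 4, 3, 1, 3, 4, 5]), (3780, [25, 46, 25, 46, 32], [0, 1, 5, 3, 4, 2, 3, 5])], [], 0),
  (1, 0, [], 0, [], [], 3784),
  (0, 6, [6, 4, 2, 12, 10, 8, 10, 8, 6], 9, [(899, [], [1, 3, 5, 3, 4, 2, 2, 3, 1, 3]), (1208, [37], [4, 3, 0, 1, 5, 3, 1, 4, 2, 4]), (3780, [25, 25, 26, 46, 26], [2, 2, 4, 2, 5, 3, 4, 2, 3, 1, 5])], [], 0),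
  (1, 0, [], 0, [], [], 3786),
  (0, 6, [0, 4, 8, 6, 4, 2, 13, 11, 8, 6], 8, [(1301, [37, 38, 37], [0, 4, 2, 3, 4, 3, 1, 3, 5]), (1715, [42, 43, 43], [0, 4, 2, 3, 1, 3, 4, 2, 2, 3]), (3784, [37, 38], [0, 3, 1, 5, 3, 4, 2, 4, 3])], [], 0),
  (1, 0, [], 0, [], [], 3788),
  (0, 6, [0, 4, 6, 4, 2, 10, 10, 8, 6, 10], 15, [(1606, [37, 38, 37], [0, 2, 3, 0, 4, 2, 4]), (3138, [38, 37], [3, 0, 4, 2, 5, 3, 1, 4, 3, 1]), (3788, [37, 38], [0, 1, 2, 4, 3, 4, 2, 2, 3, 5])], [], 0),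
  (1, 0, [], 0, [], [], 3790),
  (3, 6, [0, 4, 6, 4, 2, 10, 10, 8, 6, 10], 17, [(1534, [], [4, 5]), (2194, [38], [1, 2, 5, 0, 3, 1, 3, 4, 3, 4, 5]), (3790, [37, 38], [0, 3, 4, 2, 3, 5, 3, 1, 4, 3, 4])], [(3790, [], [])], 0),
  (0, 6, [4, 13, 10, 8, 6, 4, 2, 10, 8, 6], 22, [(2111, [], [0, 2, 3, 4, 2, 3, 4, 2, 2, 3, 4]), (3790, [], [1, 2, 3, 0, 4, 2, 3, 4, 2, 2, 3])], [], 0),
  (1, 0, [], 0, [], [], 3792),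
  (0, 6, [2, 4, 6, 4, 2, 10, 8, 10, 8, 6], 9, [(324, [37, 38], [0, 2, 5, 3, 1, 4, 2, 3, 4, 2, 2]), (1735, [42], [0, 1, 4, 3, 4, 2, 3]), (3784, [37, 38], [0, 2, 3, 1, 4, 2, 5, 3, 1, 3, 4])], [], 0),
  (1, 0, [], 0, [], [], 3794),
  (0, 6, [2, 4, 6, 4, 2, 11, 11, 8, 6, 10], 15, [(129, [37, 38], [0, 4, 2, 3, 1, 4, 2, 3, 1, 4]), (227, [], [3, 0, 1, 3, 5, 3, 4, 2, 2, 3, 5]), (3780, [25, 26, 32, 32, 26], [0, 1, 3, 5, 3, 1, 4, 2, 3, 4, 2])], [], 0),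
  (1, 0, [], 0, [], [], 3796),
  (0, 6, [2, 0, 6, 10, 8, 6, 4, 2, 6, 13, 11], 8, [(131, [], [4, 2, 5, 3, 1, 3]), (912, [38, 37], [0, 2, 2, 4, 2, 3, 0, 4, 2, 4, 3]), (3790, [37, 38], [2, 4, 2, 2, 3, 4, 5, 3, 1, 4, 3])], [], 0),
  (1, 0, [], 0, [], [], 3798),
  (3, 6, [2, 0, 6, 10, 8, 6, 4, 2, 6, 13, 11], 15, [(760, [], [1, 2, 2, 4, 5, 0]), (130, [], [0, 3, 4, 2, 2, 3, 1, 3, 4, 3]), (3798, [37], [0, 1, 3, 1, 3, 5, 3, 1, 3, 5])], [(3798, [], [])], 0),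
  (0, 6, [0, 4, 6, 11, 8, 6, 4, 2, 6, 12, 10], 33, [(1541, [37, 38, 37], [0, 2, 4, 5, 3, 1, 4, 2, 4, 3, 1]), (2250, [], [0, 1, 2, 4, 3, 1, 4, 2, 3]), (3788, [37, 38, 37], [2, 3, 1, 5, 3, 4, 2, 3, 4, 3, 5])], [], 0),
  (1, 0, [], 0, [], [], 3800),
  (0, 6, [0, 8, 6, 13, 10, 8, 6, 4, 2, 6, 10], 8, [(772, [], [1, 2, 2, 3, 4]), (219, [42, 43, 42, 43, 43], [1, 2, 3, 0, 5, 3, 1, 4, 3, 1]), (3780, [32, 32, 25, 46], [2, 4, 2, 2, 3, 1, 3, 1, 5])], [], 0),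
  (1, 0, [], 0, [], [], 3802),
  (0, 6, [6, 4, 8, 6, 13, 10, 8, 6, 4, 2, 6], 8, [(836, [], [1, 2, 2, 5]), (2817, [], [1, 3, 4, 3, 5, 3, 1, 4, 3]), (3792, [38, 37], [2, 3, 1, 3, 4, 3, 5, 0, 3, 4])], [], 0),
  (1, 0, [], 0, [], [], 3804),
  (0, 6, [4, 6, 8, 6, 12, 10, 8, 6, 4, 2, 6], 22, [(1325, [37, 38, 37], [0, 3, 1, 4, 3, 4, 2, 2, 5, 3]), (3780, [], [4, 3, 4, 2, 3, 4, 5, 3])], [], 0),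
  (1, 0, [], 0, [], [], 3806),
  (0, 6, [6, 10, 8, 6, 12, 10, 8, 6, 4, 2, 6], 15, [(2899, [37, 38], [0, 1, 4, 2, 4, 3, 5, 3, 4, 2]), (3000, [38], [1, 4, 3, 4, 2, 2, 3, 4, 5, 3, 4]), (3794, [37], [1, 2, 3, 5, 3, 4, 2, 3, 1, 4])], [], 0),
  (1, 0, [], 0, [], [], 3808),
  (0, 6, [11, 11, 8, 6, 4, 2, 11, 8, 6, 12, 11], 8, [(1471, [], [1, 4, 2, 3, 1, 3, 4, 2]), (3557, [], [1, 2, 2, 5, 3, 0, 4, 2, 3, 4, 5]), (3808, [], [0, 1, 4, 3, 1, 4, 2, 3, 5, 3, 4, 2])], [], 0)]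

def stepC24 : List (Nat × Nat × List Nat × Nat × List (Nat × List Nat × List Nat) × List (Nat × List Nat × List Nat) × Nat) := [(1, 0, [], 0, [], [], 3810),
  (0, 6, [2, 4, 6, 11, 8, 6, 4, 2, 11, 8, 6], 8, [(130, [37, 38], [2, 4, 5, 3, 1, 4, 2, 3, 4, 2]), (1951, [38, 37], [3, 1, 4, 5, 3, 4, 2, 2]), (3808, [38, 37], [0, 2, 3, 1, 4, 3, 5, 3, 4, 2, 2])], [], 0),
  (1, 0, [], 0, [], [], 3812),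
  (0, 6, [11, 8, 6, 10, 8, 6, 4, 2, 11, 8, 6], 26, [(3597, [38, 37], [2, 2, 3, 0, 1, 5, 3, 4, 2, 3, 1]), (1619, [37, 38], [2, 2, 4, 5, 3, 4, 3, 1, 5, 3]), (1870, [], [2, 4, 5, 3, 1, 3, 1, 4, 5, 3]), (3194, [38], [1, 2, 3, 1, 3, 4, 5, 3, 1, 4]), (2395, [37, 38], [4, 2, 3, 4, 3, 1, 3, 1, 5]), (2024, [], [0, 2, 3, 1, 4, 3, 4, 3, 5]), (3788, [38], [1, 3, 1, 3, 4, 2, 3, 1, 4, 2, 5])], [], 0),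
  (1, 0, [], 0, [], [], 3814),
  (0, 6, [0, 2, 4, 6, 4, 2, 10, 10, 8, 6, 10], 17, [(461, [37, 38], [2, 4, 2, 2, 3, 1, 3, 4, 5]), (3303, [37, 38, 37], [1, 2, 4, 5, 3, 0, 1, 4, 2]), (3802, [38], [3, 1, 4, 2, 3, 5, 3, 4, 2, 3])], [], 0),
  (1, 0, [], 0, [], [], 3816),
  (3, 6, [0, 2, 4, 6, 4, 2, 10, 10, 8, 6, 10], 22, [(2210, [], []), (3802, [], [0, 2, 4, 2, 3, 1, 4, 3, 4, 2, 4])], [(3816, [], [])], 0),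
  (0, 6, [0, 4, 6, 8, 6, 12, 10, 8, 6, 4, 2, 6], 8, [(784, [37, 38, 37], [1, 4, 3, 0, 5, 3, 1, 4, 2]), (3645, [], [1, 3, 4, 2, 5, 3, 1, 3, 5]), (3800, [], [5, 3, 0, 4, 2, 4, 3, 1, 3])], [], 0),
  (1, 0, [], 0, [], [], 3818),
  (0, 6, [0, 6, 4, 11, 8, 6, 4, 2, 13, 11, 8, 6], 8, [(655, [], [1, 2, 4, 3, 4, 2, 3, 4, 3, 4]), (1264, [], [0, 1, 4, 3, 1, 4, 2, 3]), (3806, [37], [1, 2, 5, 3, 0, 1, 4, 3, 1, 5])], [], 0),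
  (1, 0, [], 0, [], [], 3820),
  (0, 6, [0, 4, 11, 8, 6, 4, 2, 10, 8, 10, 8, 6], 8, [(1560, [37, 38, 37], [3, 4, 2, 2, 5, 0]), (2972, [38, 37], [1, 2, 3, 1, 3, 4, 2, 2, 5, 3, 1, 3]), (3818, [37], [0, 1, 3, 4, 2, 3, 1, 4, 2, 3, 1])], [], 0),
  (1, 0, [], 0, [], [], 3822),
  (0, 6, [0, 4, 11, 8, 6, 4, 2, 10, 10, 8, 6, 10], 8, [(1576, [], [4, 5]), (2176, [38, 37], [0, 2, 3, 1, 5, 3, 4, 2, 3, 4, 5]), (3812, [37], [0, 1, 2, 2, 4, 2, 3, 1, 4, 3, 1, 5])], [], 0),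
  (1, 0, [], 0, [], [], 3824),
  (0, 6, [0, 4, 10, 8, 6, 4, 2, 10, 8, 6, 13, 11], 8, [(3157, [37, 38, 37], [2, 4, 2, 3, 0, 4, 2, 4, 5, 3, 1]), (3281, [37], [2, 2, 4, 2, 3, 1, 3, 4, 2, 4]), (3786, [], [0, 3, 4, 2, 3, 4, 5, 3, 1, 4, 2])], [], 0),
  (1, 0, [], 0, [], [], 3826),
  (0, 6, [4, 6, 8, 6, 4, 6, 11, 8, 6, 4, 2, 6], 15, [(3579, [], [1, 3, 4, 2, 4, 5, 3, 1, 3, 5]), (2805, [37], [1, 2, 2, 3, 1, 4, 3, 1, 5]), (3806, [], [0, 2, 2, 3, 4, 3])], [], 0),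
  (1, 0, [], 0, [], [], 3828),
  (0, 6, [6, 4, 6, 4, 8, 6, 10, 8, 6, 4, 2, 6], 26, [(3144, [37], [0, 3, 1, 3, 1, 5, 3]), (2353, [38], [4, 2, 5, 3, 4, 2, 2, 3, 4, 5]), (2342, [38], [2, 5, 3, 4, 2, 3, 4, 2, 3]), (3562, [], [0, 1, 4, 2, 2, 3, 4, 2, 3, 4]), (3033, [], [3, 0, 1, 4, 5, 3, 4]), (2405, [37, 38, 37], [4, 2, 3, 5, 0, 3, 4, 2, 2, 3, 5]), (3818, [], [1, 3, 0, 4, 2, 3, 4, 2, 3, 1])], [], 0),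
  (1, 0, [], 0, [], [], 3830),
  (0, 6, [2, 6, 4, 6, 11, 11, 8, 6, 4, 2, 6, 11], 17, [(399, [], [1, 2, 4, 2, 3, 1, 4, 3, 5]), (2288, [], [4, 3, 4, 2, 4, 3, 5]), (3818, [38], [1, 2, 2, 5, 0, 3, 4, 2])], [], 0),
  (1, 0, [], 0, [], [], 3832),
  (0, 6, [4, 8, 13, 10, 8, 6, 4, 2, 10, 8, 6, 11], 9, [(3746, [], [0, 2, 4, 5]), (3759, [37, 38], [2, 2, 3, 4, 2, 3, 4, 3, 5]), (3792, [], [2, 2, 4, 5, 0, 3, 4, 3, 1, 5])], [], 0),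
  (1, 0, [], 0, [], [], 3834),
  (0, 6, [6, 4, 8, 6, 10, 8, 6, 4, 2, 6, 13, 11], 17, [(3695, [], [1, 3, 5, 3, 1, 4, 2, 3, 4, 2, 4, 5]), (1201, [39, 39, 40, 41, 39, 40], [1, 2, 4, 3, 1, 4, 3, 5]), (3796, [38], [0, 1, 4, 3, 0, 4, 2, 4, 3, 4])], [], 0),
  (1, 0, [], 0, [], [], 3836),
  (0, 6, [4, 10, 10, 8, 6, 4, 2, 11, 11, 8, 6, 10], 15, [(1666, [], [4, 2, 4]), (1882, [37, 38, 37], [0, 2, 3, 0, 4, 2, 3, 4]), (3812, [38], [1, 5, 3, 4, 2, 3, 4, 3, 4])], [], 0),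
  (1, 0, [], 0, [], [], 3838),
  (0, 6, [2, 6, 4, 10, 8, 6, 4, 2, 13, 10, 8, 6], 26, [(2801, [37, 38, 37], [2, 4, 3, 4, 2, 3, 5]), (2685, [], [1, 4, 2, 2, 5, 0, 3, 1, 3, 4, 2]), (2771, [38, 37], [2, 3, 1, 4, 3, 4, 3, 5, 3, 1]), (2643, [38], [2, 4, 2, 5, 3, 1, 3, 1, 4]), (1771, [38], [3, 0, 1, 4, 2, 3, 4, 2, 3, 1]), (2491, [38], [0, 4, 2, 4, 3, 4, 5, 3, 4, 2, 4]), (3822, [], [5, 0, 3, 1, 3, 4, 2, 3, 4, 5])], [], 0),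
  (1, 0, [], 0, [], [], 3840),
  (0, 6, [11, 8, 6, 4, 11, 8, 6, 4, 2, 10, 8, 6], 9, [(882, [], [3, 5, 3, 4, 3, 1, 5]), (907, [45, 34], [0, 1, 2, 4, 2, 3, 1, 3, 4, 3, 4, 2]), (3830, [37], [1, 2, 2, 3, 4, 2, 4, 5])], [], 0),
  (1, 0, [], 0, [], [], 3842),
  (0, 6, [4, 8, 6, 4, 10, 8, 6, 4, 2, 11, 8, 6], 15, [(3293, [37, 38, 37], [1, 3, 4, 2, 3, 1, 4, 5]), (1997, [37], [4, 2, 3, 4, 5, 3, 1, 4, 3, 1]), (3798, [], [0, 3, 4, 2, 2, 3, 4, 2, 3])], [], 0),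
  (1, 0, [], 0, [], [], 3844),
  (0, 6, [6, 4, 8, 6, 11, 8, 6, 4, 2, 11, 8, 6], 9, [(1838, [], [1, 4, 5]), (1426, [34, 44, 45], [1, 3, 0, 5, 3, 1, 4, 3, 4, 5]), (3844, [37, 38], [0, 1, 5, 3, 4, 2, 2, 3, 1, 5])], [], 0),
  (1, 0, [], 0, [], [], 3846),
  (0, 6, [2, 6, 4, 11, 8, 6, 4, 2, 10, 8, 6, 11], 33, [(404, [], [5, 3, 0, 4, 2, 3, 1, 3]), (1534, [], [5, 3, 1, 3, 4, 2, 3, 1, 5]), (3842, [38], [2, 4, 2, 2, 3, 0, 5, 3, 1])], [], 0),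
  (1, 0, [], 0, [], [], 3848),
  (0, 6, [0, 6, 4, 8, 6, 11, 8, 6, 4, 2, 6, 13, 10], 17, [(2215, [37, 38, 37], [0, 2, 3, 4, 2, 2, 5, 3, 4, 2, 4]), (3392, [38, 37], [0, 2, 2, 3, 1, 3, 4, 2, 3, 4, 2, 2]), (3780, [25, 25, 46], [4, 2, 2, 3, 0, 5, 3])], [], 0),
  (1, 0, [], 0, [], [], 3850),
  (0, 6, [2, 0, 6, 4, 11, 8, 6, 4, 2, 10, 8, 6, 11], 33, [(655, [], [1, 2, 2, 4, 2, 5, 3, 1, 4, 3, 1]), (435, [43, 42, 43, 42], [3, 1, 4, 2, 3, 5, 0, 3, 1, 4, 2]), (3846, [37, 38, 37], [1, 2, 4, 2, 2, 5, 0, 3, 4, 2, 4])], [], 0),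
  (1, 0, [], 0, [], [], 3852),
  (0, 6, [2, 8, 6, 4, 10, 8, 6, 11, 8, 6, 4, 2, 6], 14, [(729, [38, 37], [0, 1, 2, 2, 3, 4, 3, 5, 3, 4]), (495, [34, 45, 45], [3, 1, 3, 4, 2, 2, 5, 3, 1, 3, 1]), (3818, [38, 37], [0, 2, 3, 5, 3, 4, 2, 3, 1, 3, 1])], [], 0),
  (1, 0, [], 0, [], [], 3854),
  (0, 6, [2, 6, 4, 10, 8, 6, 13, 11, 8, 6, 4, 2, 6], 17, [(395, [], [4, 3, 1, 4, 2, 3, 5, 3, 4, 3]), (3547, [38], [1, 3, 1, 4, 3, 4, 2, 2, 3, 4, 2]), (3786, [], [0, 1, 2, 4, 3, 4, 2])], [], 0),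
  (1, 0, [], 0, [], [], 3856),
  (0, 6, [2, 6, 4, 8, 10, 8, 6, 11, 8, 6, 4, 2, 6], 14, [(408, [], [1]), (1896, [], [4, 2, 2, 3, 5, 3]), (3798, [37], [0, 4, 2, 3, 5, 3, 1, 4, 3, 4, 3])], [], 0),
  (1, 0, [], 0, [], [], 3858),
  (0, 6, [4, 6, 8, 6, 4, 6, 12, 10, 8, 6, 4, 2, 6], 8, [(2456, [38], [1, 2, 2, 4, 3, 1, 4, 2, 5, 0]), (1306, [43, 43, 43, 42, 43, 43, 43], [1, 3, 0, 5, 3, 4, 2, 3, 1, 3]), (3806, [37, 38, 37], [2, 2, 4, 3, 0, 1, 4, 5, 3, 1])], [], 0),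
  (1, 0, [], 0, [], [], 3860),
  (0, 6, [4, 6, 4, 6, 11, 8, 6, 10, 8, 6, 4, 2, 6], 15, [(3009, [], [2, 4, 3, 4, 2, 3, 5, 3, 1, 3]), (2722, [37, 38], [0, 3, 1, 3, 1, 4, 2, 5, 3, 1]), (3820, [37, 38], [1, 3, 1, 4, 2, 5, 3, 4, 2, 4, 3])], [], 0),
  (1, 0, [], 0, [], [], 3862),
  (0, 6, [2, 4, 6, 4, 6, 8, 6, 11, 8, 6, 4, 2, 6], 22, [(2959, [37], [0, 1, 2, 4, 3, 4, 2, 2, 3, 4, 5]), (3852, [], [2, 2, 4, 3, 4, 2, 3, 1, 4, 5])], [], 0),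
  (1, 0, [], 0, [], [], 3864),
  (0, 6, [0, 2, 6, 4, 8, 6, 10, 8, 6, 4, 2, 6, 11], 15, [(1522, [38], [0, 3, 1, 5, 3, 1, 3, 4]), (394, [38], [1, 4, 2, 4, 3, 1, 3, 4, 2, 4]), (3856, [37], [0, 1, 2, 2, 5, 3, 4, 2, 3, 1, 5, 3])], [], 0),
  (1, 0, [], 0, [], [], 3866),
  (0, 6, [2, 6, 4, 8, 6, 10, 8, 6, 4, 2, 6, 13, 11], 9, [(356, [], [4, 2, 4, 5]), (3438, [37], [2, 3, 5, 0, 3, 4, 2, 3, 5]), (3798, [], [1, 2, 4, 3, 4, 2, 2, 5, 3, 1, 3])], [], 0),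
  (1, 0, [], 0, [], [], 3868),
  (0, 6, [4, 6, 4, 8, 6, 10, 8, 6, 4, 2, 6, 13, 11], 8, [(1796, [], [4, 2, 4, 5]), (200, [39, 39, 39, 41], [0, 2, 2, 3, 1, 3, 4, 2, 5]), (3796, [37, 38, 37], [1, 2, 2, 3, 4, 3, 1, 4, 3])], [], 0),
  (1, 0, [], 0, [], [], 3870),
  (0, 6, [2, 6, 4, 8, 6, 11, 11, 8, 6, 4, 2, 6, 10], 8, [(391, [], [1, 2, 3, 1, 5, 3, 1, 4, 3, 4]), (2635, [37, 38], [0, 2, 4, 2, 2, 5, 3, 4, 2]), (3818, [38], [3, 5, 0, 3, 4, 2, 3, 1, 4, 3])], [], 0),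
  (1, 0, [], 0, [], [], 3872),
  (0, 6, [6, 8, 6, 4, 6, 11, 8, 6, 4, 2, 6, 13, 10], 17, [(1699, [37, 38], [2, 3, 0, 4, 2]), (2430, [37, 38], [1, 4, 2, 2, 3, 4, 2, 3, 4, 3, 1]), (3860, [38, 37], [4, 2, 2, 5])], [], 0),
  (1, 0, [], 0, [], [], 3874),
  (0, 6, [4, 6, 4, 8, 6, 13, 10, 8, 6, 4, 2, 6, 10], 17, [(3009, [], [4, 2, 3, 0, 1, 4, 3, 1]), (2327, [37, 38, 37], [2, 4, 2, 3, 4, 5, 3, 1, 4]), (3788, [37, 38, 37], [2, 2, 3, 1, 3, 4, 3, 5, 3])], [], 0),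
  (1, 0, [], 0, [], [], 3876),
  (0, 6, [4, 6, 4, 8, 6, 10, 8, 6, 4, 2, 6, 13, 10], 17, [(2112, [], [2, 4, 5]), (937, [37], [0, 2, 2, 3, 5, 3, 1]), (3856, [37, 38], [3, 4, 2, 2, 5, 3, 4, 3])], [], 0),
  (1, 0, [], 0, [], [], 3878),
  (0, 6, [2, 11, 8, 6, 4, 11, 8, 6, 4, 2, 10, 8, 6], 14, [(497, [37], [2, 4, 2, 2, 5, 0, 3, 4]), (3567, [37, 38, 37], [0, 3, 4, 2, 3, 4, 5, 3, 4, 2]), (3814, [37, 38, 37], [1, 3, 4, 2, 2, 3, 4, 3, 1])], [], 0),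
  (1, 0, [], 0, [], [], 3880),
  (0, 6, [4, 8, 6, 4, 13, 11, 8, 6, 4, 2, 10, 8, 6], 15, [(2058, [38], [0, 1, 2, 2, 3, 0, 1, 4, 2]), (3089, [37, 38], [0, 2, 4, 2, 2, 3, 4, 2, 3, 1, 5]), (3836, [], [0, 1, 4, 2, 3, 1, 4, 3])], [], 0),
  (1, 0, [], 0, [], [], 3882),
  (0, 6, [4, 6, 4, 6, 12, 11, 8, 6, 4, 2, 10, 8, 6], 22, [(1196, [37, 38, 37], [0, 3, 4, 2, 3, 4, 3, 1, 5, 3]), (3806, [], [3, 1, 3, 4, 2, 5, 3, 1, 3])], [], 0),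
  (1, 0, [], 0, [], [], 3884),
  (0, 6, [2, 6, 4, 6, 11, 11, 8, 6, 4, 2, 11, 8, 6], 33, [(388, [], [1, 5, 3, 0, 4, 2, 3, 1, 3]), (1591, [], [0, 2, 4, 3, 5, 3, 4, 2, 4]), (3868, [37, 38, 37], [2, 4, 3, 4, 5, 3, 4, 2])], [], 0),
  (1, 0, [], 0, [], [], 3886),
  (0, 6, [2, 6, 4, 13, 10, 8, 6, 4, 2, 11, 8, 6, 10], 33, [(388, [], [0, 2, 3, 4, 2, 2, 3, 5, 3, 1, 4]), (3082, [38], [0, 1, 4, 2, 3, 5]), (3868, [38, 37], [0, 2, 4, 2, 3, 4, 5, 3, 1, 4, 3])], [], 0),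
  (1, 0, [], 0, [], [], 3888),
  (0, 6, [8, 6, 4, 11, 11, 8, 6, 4, 2, 10, 8, 6, 10], 9, [(3369, [37], [4, 3, 1, 3, 4, 2, 2, 5, 3, 1, 3]), (1073, [37, 38], [0, 1, 4, 2, 5, 3, 4, 2, 2, 3, 1]), (3788, [37], [1, 2, 3, 4, 3, 1, 3, 5, 0])], [], 0),
  (1, 0, [], 0, [], [], 3890),
  (0, 6, [2, 4, 6, 4, 11, 8, 6, 4, 2, 11, 8, 6, 10], 8, [(1982, [37, 38, 37], [2, 3, 4, 5]), (2488, [], [0, 2, 4, 3, 1, 3, 5, 3, 1, 4]), (3782, [], [1, 2, 4, 2, 3, 4, 2, 3, 4, 5])], [], 0),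
  (1, 0, [], 0, [], [], 3892),
  (0, 6, [4, 6, 4, 6, 11, 8, 6, 4, 2, 11, 8, 6, 10], 9, [(2118, [], [4, 2, 4, 5]), (1478, [33, 44], [4, 2, 3, 0, 4, 2, 3, 1, 4, 5]), (3848, [38], [0, 3, 1, 4, 2, 3, 1, 5])], [], 0),
  (1, 0, [], 0, [], [], 3894),
  (0, 6, [4, 8, 6, 4, 11, 8, 6, 4, 2, 10, 8, 6, 11], 15, [(1427, [37], [3, 5, 3, 1, 4, 2, 4]), (3569, [33, 33, 45, 34], [1, 2, 3, 4, 2, 5, 3, 4, 2, 2]), (3892, [38], [0, 4, 2, 3, 0, 1, 4, 3, 4, 2, 4])], [], 0),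
  (1, 0, [], 0, [], [], 3896),
  (0, 6, [2, 4, 6, 4, 11, 8, 6, 4, 2, 11, 8, 6, 11], 8, [(1107, [38, 37], [0, 2, 4, 2, 5, 3, 4, 2, 3, 1, 3]), (1208, [37], [3, 4, 2, 3, 1, 3, 4, 2, 2, 3, 4]), (3780, [26, 32, 46], [0, 4, 2, 5, 3, 1, 4, 3, 1, 5])], [], 0),
  (1, 0, [], 0, [], [], 3898),
  (0, 6, [6, 4, 8, 11, 8, 6, 4, 2, 10, 8, 6, 13, 11], 22, [(3135, [], [1, 3, 4, 5, 3, 4, 3, 5]), (3792, [], [2, 2, 4, 3, 1, 5, 3, 1, 3, 4, 5])], [], 0),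
  (1, 0, [], 0, [], [], 3900),
  (0, 6, [0, 4, 6, 4, 10, 8, 6, 13, 11, 8, 6, 4, 2, 6], 9, [(2252, [], [1, 5]), (2482, [38], [3, 0, 1, 3, 4, 2, 2, 5, 3]), (3892, [37, 38, 37], [1, 5, 3, 0, 4, 2, 4, 3])], [], 0),
  (1, 0, [], 0, [], [], 3902),
  (0, 6, [0, 6, 4, 6, 10, 8, 6, 13, 11, 8, 6, 4, 2, 6], 17, [(1736, [], [2, 2, 4, 2, 5]), (3748, [37, 38, 37], [1, 4, 3, 5, 3, 4, 2, 3, 4, 5]), (3870, [38, 37], [0, 2, 4, 2, 3, 4, 3, 5, 3, 1])], [], 0),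
  (1, 0, [], 0, [], [], 3904),
  (0, 6, [2, 0, 6, 4, 6, 12, 11, 8, 6, 4, 2, 11, 8, 6], 8, [(1750, [], [3, 1, 4, 5]), (1951, [37, 38], [0, 1, 3, 1, 4, 2, 4, 3, 4, 2, 4, 3]), (3794, [38], [0, 1, 2, 3, 4, 2, 2, 3, 4, 2])], [], 0),
  (1, 0, [], 0, [], [], 3906),
  (0, 6, [2, 0, 6, 4, 6, 10, 8, 6, 4, 2, 13, 11, 8, 6], 17, [(655, [], [1, 4, 2, 3, 4, 2, 4, 3, 5, 3, 4]), (1264, [42, 43, 43, 43, 43], [4, 5, 3, 4, 2, 3, 4, 2]), (3812, [38, 37], [0, 3, 0, 1, 3, 4, 2, 3, 4])], [], 0),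
  (1, 0, [], 0, [], [], 3908),
  (0, 6, [0, 6, 4, 8, 6, 10, 8, 6, 4, 2, 13, 11, 8, 6], 9, [(1750, [], [1, 2, 4, 5]), (2079, [37, 38, 37], [0, 1, 4, 3, 4, 3, 1, 5]), (3856, [37, 38, 37], [0, 2, 2, 4, 3, 1, 5, 3, 1])], [], 0),
  (1, 0, [], 0, [], [], 3910),
  (0, 6, [0, 4, 6, 4, 11, 8, 6, 4, 2, 13, 10, 8, 6, 11], 15, [(3734, [37, 38], [0, 2, 4, 2, 3, 5, 3, 4, 2, 2]), (1954, [37, 38], [0, 1, 2, 2, 4, 2, 3, 1, 3]), (3824, [38], [2, 2, 3, 1, 4, 2, 3, 4, 5, 0])], [], 0),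
  (1, 0, [], 0, [], [], 3912),
  (0, 6, [0, 4, 6, 4, 10, 8, 6, 4, 2, 11, 11, 8, 6, 11], 8, [(1495, [37, 38], [2, 2, 4, 5, 3, 1, 3, 1, 4]), (1859, [33, 45, 34, 33], [0, 4, 3, 1, 3, 1, 5]), (3910, [37], [0, 2, 2, 3, 1, 3, 5, 3, 1])], [], 0),
  (1, 0, [], 0, [], [], 3914),
  (0, 6, [2, 4, 2, 6, 4, 8, 10, 8, 6, 4, 2, 10, 8, 6], 15, [(1816, [37, 38, 37], [3, 1]), (2333, [38], [0, 2, 2, 3, 1, 3, 5, 3]), (3880, [38, 37], [2, 2, 4, 2, 3, 4, 2, 4, 3, 4, 5])], [], 0),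
  (1, 0, [], 0, [], [], 3916),
  (0, 6, [2, 8, 6, 4, 12, 10, 8, 6, 11, 8, 6, 4, 2, 6], 15, [(2288, [37, 38, 37], [1]), (2294, [], [0, 1, 4, 2, 2, 3, 1, 3, 4, 2, 5]), (3828, [37, 38, 37], [2, 3, 1, 4, 2, 5, 0, 3, 4])], [], 0),
  (1, 0, [], 0, [], [], 3918),
  (0, 6, [2, 6, 4, 10, 13, 10, 8, 6, 4, 2, 11, 8, 6, 10], 8, [(400, [], [2, 4, 5]), (1137, [27, 35, 31, 35], [1, 3, 5, 3, 4, 2, 2, 3, 4, 2]), (3888, [38, 37], [2, 3, 4, 3, 1, 4, 3, 5, 3])], [], 0),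
  (1, 0, [], 0, [], [], 3920),
  (0, 6, [6, 8, 6, 4, 6, 10, 8, 6, 4, 2, 10, 10, 8, 6], 17, [(1679, [], [2, 2, 3, 4, 2, 4, 3, 1, 4]), (1693, [37, 38], [2, 3, 0, 4, 2, 3, 1, 5, 3, 1, 4]), (3910, [38], [0, 3, 1, 3, 4, 3, 4, 2, 5, 3])], [], 0),
  (1, 0, [], 0, [], [], 3922),
  (0, 7, [2, 10, 8, 10, 8, 6], 8, [(697, [41, 39, 41, 41], [0, 1, 4, 3, 5, 3, 1, 4, 2, 4, 3]), (3659, [34, 33, 44], [0, 1, 3, 0, 4, 2, 4]), (3910, [38], [1, 4, 2, 2, 3, 4, 5, 3])], [], 0),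
  (1, 0, [], 0, [], [], 3924),
  (0, 7, [0, 10, 8, 6, 4, 2, 6], 8, [(857, [39, 40, 41, 39, 41, 41], [4, 2, 5, 0, 3, 4, 2, 4, 3]), (1681, [38, 37], [0, 1, 2, 4, 2, 2, 5, 3, 1, 4]), (3838, [], [1, 5, 0, 3, 4, 2, 3, 4, 5])], [], 0),
  (1, 0, [], 0, [], [], 3926),
  (0, 7, [6, 11, 8, 6, 4, 2, 6], 9, [(590, [39, 39, 40, 39, 40], [0, 4, 2, 3, 5, 3, 4, 2, 2, 3, 4]), (2267, [], [1, 4, 2, 4, 5, 3, 4, 2, 3, 4, 2]), (3878, [37, 38], [0, 2, 4, 2, 2, 3, 5, 3, 1, 3, 1])], [], 0),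
  (1, 0, [], 0, [], [], 3928),
  (0, 7, [0, 11, 8, 6, 4, 2, 10, 8, 6], 17, [(2889, [40, 41, 41, 39, 40, 41], [4, 3, 4, 2, 2, 3, 4, 3, 1]), (916, [38], [1, 2, 3, 5, 3, 4]), (3846, [37], [2, 5, 3, 0, 4, 3, 1, 5, 3, 4])], [], 0),
  (1, 0, [], 0, [], [], 3930),
  (0, 7, [10, 10, 8, 6, 4, 2, 10, 8, 6], 17, [(592, [39, 41, 39, 40, 41, 41], [1, 3, 4, 2, 4, 5, 3, 4, 3]), (1141, [41], [2, 2, 3, 5, 3, 1, 4, 3, 5]), (3848, [37], [0, 1, 2, 3, 1, 4, 3, 4, 2, 2, 3])], [], 0),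
  (1, 0, [], 0, [], [], 3932),
  (0, 7, [0, 11, 8, 6, 4, 2, 10, 8, 6, 10], 15, [(973, [39, 40, 41, 39, 41, 41], [3, 1, 5, 3, 4, 2, 2, 3, 1, 4]), (1745, [38, 37], [4, 2, 3, 1, 4, 2, 3, 4, 2, 2]), (3848, [37, 38, 37], [0, 3, 1, 3, 4, 3, 4, 2, 5, 3])], [], 0),
  (1, 0, [], 0, [], [], 3934),
  (0, 7, [6, 10, 8, 6, 11, 8, 6, 4, 2, 6], 8, [(592, [39, 39, 40, 39, 40], [4, 2, 3, 4, 2, 4, 5, 3, 4, 2, 3]), (1222, [], [3, 1, 3, 5, 3, 1, 4, 3, 1, 5]), (3792, [38, 37], [4, 3, 1, 4, 3, 5, 3, 1, 4, 2])], [], 0),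
  (1, 0, [], 0, [], [], 3936),
  (0, 7, [11, 8, 6, 4, 2, 11, 11, 8, 6, 10], 15, [(281, [39, 40, 39, 40, 39], [0, 1, 2, 2, 3, 0, 1, 4, 2, 3, 4]), (495, [34], [3, 4, 2, 4, 3, 4, 2, 4]), (3904, [37, 38], [3, 1, 3, 4, 2, 3, 5, 3, 1])], [], 0),
  (1, 0, [], 0, [], [], 3938),
  (0, 8, [2, 6, 11, 11], 15, [(1280, [], [2, 4, 2, 5]), (2296, [37], [1, 2, 2, 3, 0, 4, 2, 3, 4, 5]), (3854, [37, 38, 37], [3, 4, 2, 2, 3, 4, 2, 3])], [], 0),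
  (1, 0, [], 0, [], [], 3940),
  (0, 8, [2, 6, 12, 11], 8, [(3291, [42, 43, 43, 43, 43], [1, 2, 3, 1, 5, 3, 4, 2, 2, 3]), (2087, [38], [1, 2, 3, 0, 1, 5, 3]), (3916, [37, 38, 37], [0, 1, 2, 2, 3, 0, 1])], [], 0),
  (1, 0, [], 0, [], [], 3942),
  (0, 8, [0, 4, 2, 11, 8, 6], 8, [(636, [], [1, 5]), (2387, [], [1, 4, 5, 3, 1, 4, 3]), (3844, [38], [4, 3, 0, 1, 5, 3, 4, 2, 2])], [], 0),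
  (1, 0, [], 0, [], [], 3944),
  (0, 8, [0, 2, 8, 6, 13, 10], 8, [(685, [42, 43, 43, 43], [2, 2, 3, 5, 0, 3, 1, 3, 4, 2, 5]), (232, [30, 36, 36], [5, 3, 0, 1, 4, 2, 4, 3, 1]), (3944, [42, 43, 42, 43, 43, 43, 42, 43], [4, 2, 2, 3, 1, 3, 1, 4, 2])], [], 0),
  (1, 0, [], 0, [], [], 3946),
  (0, 8, [2, 8, 12, 11, 8, 6], 8, [(1179, [43, 42, 43, 42], [2, 5, 3, 0, 1, 4, 2, 3, 4, 2, 5]), (1846, [], [2, 4, 2, 2, 5, 3, 4, 2]), (3934, [41, 39, 41, 39], [4, 3, 4, 3, 5, 3, 4, 3])], [], 0),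
  (1, 0, [], 0, [], [], 3948),
  (0, 8, [2, 12, 11, 8, 6, 10], 26, [(1272, [], [5]), (1516, [45, 34, 33, 45], [1, 3, 5, 3, 1, 4, 2, 3, 1, 3, 4, 5]), (1391, [38, 37], [3, 4, 2, 3, 4, 3]), (583, [45, 33, 44, 45], [2, 4, 2, 3, 1, 4, 5, 3, 4, 3]), (3469, [38, 37], [1, 3, 1, 5, 3, 1, 4, 3, 4, 2, 5, 3]), (3478, [], [2, 2, 3, 0, 1, 3, 4, 3, 1, 3]), (3932, [40, 39, 40, 39, 41], [2, 4, 3, 4, 2, 4, 5, 0, 3, 1])], [], 0),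
  (1, 0, [], 0, [], [], 3950),
  (0, 8, [0, 4, 2, 10, 8, 6, 13, 10], 8, [(636, [], [2, 2, 4, 5]), (3411, [], [0, 2, 2, 5, 3, 4, 2, 3, 1, 5]), (3848, [37, 38, 37], [3, 5, 3, 1, 4, 3, 1])], [], 0),
  (1, 0, [], 0, [], [], 3952),
  (0, 8, [2, 0, 8, 6, 4, 2, 11, 8, 6], 8, [(202, [], [1, 2, 2, 3, 1, 5]), (3645, [42, 43, 43, 43, 42], [0, 2, 4, 3, 1, 4, 2, 4, 5, 3]), (3834, [38], [4, 5, 3, 4, 2, 2, 3, 1])], [], 0),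
  (1, 0, [], 0, [], [], 3954),
  (0, 9, [2], 8, [(3905, [47, 49, 47, 47, 49], [1, 3, 1, 4, 3, 4, 2, 3, 4, 3, 4, 2]), (1736, [], [0, 4, 2, 3, 1, 3, 5, 3, 4]), (3181, [], [0, 4, 3, 5, 3, 1, 4, 2, 3, 1, 3])], [], 0),
  (1, 0, [], 0, [], [], 3956),
  (0, 9, [2, 11], 14, [(3905, [49, 47, 47, 49], [1, 3, 5, 3, 4, 2, 3, 1, 3, 1, 5]), (1586, [37, 38], [0, 3, 1, 5, 3, 1, 4, 3, 4, 2, 5, 3]), (2738, [37], [1, 4, 2, 2, 5, 0, 3, 1, 4, 2, 3, 4])], [], 0),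
  (1, 0, [], 0, [], [], 3958),
  (0, 9, [2, 10], 22, [(3956, [], []), (2634, [], [0, 3, 1, 4, 2, 4, 5, 3, 4, 2, 4])], [], 0),
  (1, 0, [], 0, [], [], 3960),
  (0, 9, [8, 6], 8, [(3781, [], [1]), (3289, [32, 32, 25, 46], [1, 2, 4, 3, 0, 1, 5, 3, 4, 3]), (2283, [37, 38], [1, 2, 2, 3, 1, 4, 5, 0, 3, 1])], [], 0),
  (1, 0, [], 0, [], [], 3962),
  (0, 9, [6, 10], 8, [(3851, [47, 47], [1, 2, 4, 3, 4, 3, 1, 3, 5]), (3330, [37], [2, 4, 2, 2, 3, 5, 3, 4, 2, 3]), (1751, [37, 38, 37], [0, 2, 3, 4, 2, 2, 3, 4, 2, 3, 4, 3])], [], 0),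
  (1, 0, [], 0, [], [], 3964),
  (0, 9, [0, 2, 6], 8, [(3962, [49, 49, 47], [0, 1, 2, 3, 4, 2, 2, 5, 3, 1, 4]), (2525, [38], [1, 4, 2, 2, 3, 4, 5]), (3646, [37], [0, 2, 3, 4, 2, 2, 5, 3, 4])], [], 0),
  (1, 0, [], 0, [], [], 3966),
  (0, 9, [0, 2, 11], 22, [(3923, [47, 49, 47, 48, 49], [1, 4, 3, 0, 5, 3, 4, 2, 4, 3]), (3341, [], [2, 3, 4, 3, 5, 3, 4, 2, 3, 4])], [], 0),
  (1, 0, [], 0, [], [], 3968)]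

def stepC25 : List (Nat × Nat × List Nat × Nat × List (Nat × List Nat × List Nat) × List (Nat × List Nat × List Nat) × Nat) := [(0, 9, [0, 2, 10], 22, [(3962, [49, 49, 47], [0, 1, 2, 3, 4, 2, 2, 5, 3, 1, 4]), (3772, [37, 38], [0, 4, 3, 4, 2, 3, 4, 5, 3])], [], 0),
  (1, 0, [], 0, [], [], 3970),
  (0, 9, [2, 6, 10], 8, [(3958, [], []), (2739, [], [1, 4, 2, 2, 5, 3, 1, 4, 2, 3, 4]), (3302, [38, 37], [1, 3, 4, 2, 2, 3, 1, 4, 3])], [], 0),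
  (1, 0, [], 0, [], [], 3972),
  (0, 9, [2, 6, 11], 8, [(3960, [], []), (2073, [38], [4, 3, 1, 4, 2, 3, 4, 3, 1, 5]), (1473, [38], [0, 2, 3, 0, 4, 2, 2])], [], 0),
  (1, 0, [], 0, [], [], 3974),
  (0, 9, [2, 12, 11], 14, [(3972, [47, 47], [2, 2, 5, 3, 0, 4, 2]), (1086, [37, 38], [1, 3, 1, 5, 3, 4, 3, 1, 4, 2]), (3287, [43, 43, 42, 43, 43, 43], [2, 4, 2, 3, 1, 4, 2, 5, 3])], [], 0),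
  (1, 0, [], 0, [], [], 3976),
  (0, 9, [2, 12, 10], 22, [(3956, [], [2]), (2770, [], [0, 3, 4, 5, 3, 1])], [], 0),
  (1, 0, [], 0, [], [], 3978),
  (0, 9, [6, 12, 11], 8, [(3783, [], [1, 3, 4, 2, 4, 3, 4, 2, 2, 5]), (3744, [], [1, 2, 5, 3, 0, 4, 2, 3, 5]), (3782, [37], [4, 2, 3, 4, 2, 2, 3, 5, 3])], [], 0),
  (1, 0, [], 0, [], [], 3980),
  (0, 9, [0, 4, 2, 6], 9, [(3956, [], [5]), (3655, [37, 38], [1, 2, 4, 5, 0, 3, 1, 4, 2, 3, 5]), (3866, [], [1, 3, 1, 3, 4, 2, 3, 1, 3, 4])], [], 0),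
  (1, 0, [], 0, [], [], 3982),
  (0, 9, [0, 2, 8, 6], 8, [(3962, [49, 49, 47], [0, 1, 2, 3, 4, 2, 2, 5, 3, 4]), (3063, [37, 38], [0, 1, 3, 1, 3, 4, 2, 2, 3, 4]), (3088, [], [2, 4, 2, 2, 3, 0, 4, 2, 3, 4, 2, 3])], [], 0),
  (1, 0, [], 0, [], [], 3984),
  (0, 9, [0, 2, 6, 10], 8, [(3968, [], []), (3037, [38], [0, 4, 2, 4, 3, 5, 3, 4, 3]), (3466, [37, 38, 37], [1, 2, 2, 4, 5, 3, 4, 2, 3, 5])], [], 0),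
  (1, 0, [], 0, [], [], 3986),
  (0, 9, [0, 2, 6, 11], 8, [(3970, [], []), (3746, [38], [5, 0, 3, 4, 2, 3, 1, 3, 1, 4]), (2438, [37], [0, 1, 2, 3, 1, 4, 2, 5, 3, 1, 3])], [], 0),
  (1, 0, [], 0, [], [], 3988),
  (0, 9, [0, 2, 10, 10], 8, [(3835, [47, 47, 49, 48, 48, 49], [3, 1, 4, 3, 5, 3, 1, 4, 3, 5]), (3011, [38, 37], [4, 5, 3, 4, 2, 3, 4, 3, 4, 5]), (1475, [37, 38], [0, 1, 4, 2, 2, 3, 4, 2, 4])], [], 0),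
  (1, 0, [], 0, [], [], 3990),
  (0, 9, [6, 4, 2, 6], 8, [(3966, [], [5]), (3550, [37, 38], [1, 4, 3, 0, 1, 4, 2, 4, 5, 3, 4]), (3004, [37], [1, 3, 0, 4, 2, 2, 5, 3, 1, 3])], [], 0),
  (1, 0, [], 0, [], [], 3992),
  (0, 9, [4, 2, 8, 6], 8, [(3962, [49, 49, 47], [0, 1, 2, 3, 4, 2, 2, 3, 5, 3, 4]), (2105, [37], [1, 2, 3, 4, 2, 2, 3, 1, 3, 4, 3]), (3693, [], [0, 1, 4, 2, 4, 3, 0, 4, 2])], [], 0),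
  (1, 0, [], 0, [], [], 3994),
  (0, 9, [4, 2, 6, 11], 8, [(3970, [], [5]), (3660, [37], [0, 3, 1, 5, 3, 1, 4, 3, 4, 2]), (3658, [], [2, 4, 3, 1, 3, 4, 5, 0, 3, 1])], [], 0),
  (1, 0, [], 0, [], [], 3996),
  (0, 9, [2, 8, 6, 10], 8, [(3958, [], [4]), (1243, [37, 38, 37], [0, 2, 3, 1, 5, 3, 1, 4, 2]), (1579, [41, 39], [2, 4, 2, 3, 4, 2, 4, 3, 1, 4, 3])], [], 0),
  (1, 0, [], 0, [], [], 3998),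
  (0, 9, [2, 6, 12, 10], 8, [(3976, [], []), (3286, [], [0, 1, 4, 2, 2, 3, 4, 2, 5, 3]), (1264, [42, 43, 43, 43, 43, 42, 43, 42], [2, 2, 3, 5, 3, 4, 2, 3, 1, 4])], [], 0),
  (1, 0, [], 0, [], [], 4000),
  (0, 9, [2, 8, 6, 11], 8, [(3960, [], [1, 2, 4, 2, 2]), (2956, [38, 37], [1, 2, 2, 3, 5, 3, 1, 3, 1, 4, 2, 5]), (2247, [37, 38, 37], [4, 3, 4, 2, 4, 5, 3, 4, 2, 3])], [], 0),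
  (1, 0, [], 0, [], [], 4002),
  (0, 9, [2, 6, 11, 11], 8, [(3841, [48, 48], [2, 4, 5, 3, 4, 2, 3, 1, 4, 5]), (2063, [38, 37], [3, 4, 3, 1, 4, 3, 5]), (2960, [37], [2, 2, 3, 0, 5, 3, 4, 2, 3, 1])], [], 0),
  (1, 0, [], 0, [], [], 4004),
  (0, 9, [2, 6, 12, 11], 8, [(3978, [], []), (1608, [], [0, 3, 4, 2, 5, 3, 4, 2, 3, 1, 3]), (1236, [39, 39, 41, 41, 39], [3, 1, 4, 2, 3, 4, 3, 1, 3])], [], 0),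
  (1, 0, [], 0, [], [], 4006),
  (0, 9, [0, 4, 2, 8, 6], 8, [(3956, [], [1, 5]), (3655, [37, 38], [2, 5, 3, 0, 1, 4, 3, 4, 2, 5]), (1038, [37], [3, 1, 3, 4, 2, 2, 3, 4])], [], 0),
  (1, 0, [], 0, [], [], 4008),
  (0, 9, [0, 4, 2, 6, 10], 8, [(3958, [], [5]), (1869, [37, 38, 37], [0, 1, 3, 4, 3, 5, 3, 4, 2, 2]), (3560, [], [2, 2, 5, 3, 1, 4, 3, 4, 2, 4, 5])], [], 0),
  (1, 0, [], 0, [], [], 4010),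
  (0, 9, [0, 4, 2, 6, 11], 8, [(3960, [], [5]), (2151, [38], [0, 2, 3, 1, 3, 4, 5, 3, 1, 3, 4]), (2074, [], [3, 4, 2, 2, 3, 5])], [], 0),
  (1, 0, [], 0, [], [], 4012),
  (0, 9, [0, 2, 11, 8, 6], 8, [(3968, [], [1]), (2818, [38, 37], [0, 2, 3, 1, 4, 3, 5, 3, 4, 2, 3]), (2050, [37, 38, 37], [0, 1, 2, 2, 4, 3, 1, 4])], [], 0),
  (1, 0, [], 0, [], [], 4014),
  (0, 9, [0, 2, 6, 10, 10], 8, [(3923, [47, 49, 47, 48, 49], [1, 4, 3, 0, 5, 3, 4, 2, 4, 3]), (2884, [], [0, 3, 1, 4, 2, 3, 4, 3, 5]), (1887, [37, 38, 37], [0, 2, 2, 4, 3, 1, 3, 1, 4, 5, 3, 1])], [], 0),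
  (1, 0, [], 0, [], [], 4016),
  (0, 9, [0, 2, 6, 12, 10], 22, [(3966, [], [2]), (3790, [37, 38, 37], [3, 4, 2, 3, 1, 3, 4, 2])], [], 0),
  (1, 0, [], 0, [], [], 4018),
  (0, 9, [0, 2, 8, 6, 11], 8, [(3970, [], [1, 2, 4, 2, 2]), (2222, [37, 38, 37], [2, 4, 3, 4, 2, 3, 1, 4, 3, 5]), (3095, [], [2, 2, 4, 3, 0, 4, 2, 2])], [], 0),
  (1, 0, [], 0, [], [], 4020),
  (0, 9, [0, 2, 6, 12, 11], 8, [(3787, [49, 47], [5, 0, 3, 4, 2, 4, 3, 4, 3]), (1132, [38, 37], [0, 3, 4, 2, 4, 3, 4, 2, 4, 3, 1]), (2499, [38, 37], [1, 2, 2, 4, 3, 1, 4, 5, 0, 3, 4])], [], 0),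
  (1, 0, [], 0, [], [], 4022),
  (0, 9, [8, 6, 4, 2, 6], 8, [(3984, [], [5]), (1776, [], [1, 2, 2, 3, 5, 0, 3, 4, 3, 5]), (1814, [37], [4, 5, 3, 0, 1, 4, 2, 4, 3, 1])], [], 0),
  (1, 0, [], 0, [], [], 4024),
  (0, 9, [6, 4, 2, 6, 10], 8, [(3988, [], [5]), (3021, [38], [1, 3, 4, 2, 3, 4, 2, 3, 4]), (820, [], [0, 2, 4, 2, 3, 1, 5])], [], 0),
  (1, 0, [], 0, [], [], 4026),
  (0, 9, [6, 4, 2, 8, 6], 8, [(3966, [], [1, 5]), (3478, [38], [2, 4, 2, 5, 3, 4, 2, 4, 3]), (624, [39, 39, 40, 39, 40, 41, 41], [1, 2, 4, 2, 3, 1, 3, 4, 3])], [], 0),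
  (1, 0, [], 0, [], [], 4028),
  (0, 9, [4, 2, 10, 8, 6], 9, [(3970, [], [1, 5]), (3660, [37], [3, 4, 5, 0, 3, 1, 4, 2, 3]), (580, [37], [4, 3, 1, 5, 3, 4, 3, 1, 5])], [], 0),
  (1, 0, [], 0, [], [], 4030),
  (0, 9, [4, 2, 8, 6, 10], 8, [(3968, [], [4, 5]), (3352, [37], [2, 2, 4, 3, 1, 4, 3, 5, 3, 1]), (4021, [], [4, 2, 4, 3, 1, 4, 2, 5])], [], 0),
  (1, 0, [], 0, [], [], 4032),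
  (0, 9, [4, 2, 8, 6, 11], 8, [(3970, [], [1, 2, 4, 2, 2, 5]), (3230, [], [1, 2, 3, 1, 5, 3, 1]), (3678, [37], [0, 2, 4, 3, 1, 3, 5, 3, 1, 3])], [], 0),
  (1, 0, [], 0, [], [], 4034),
  (0, 9, [2, 8, 11, 8, 6], 8, [(3958, [], [1, 4]), (2771, [37], [4, 3, 1, 4, 5]), (2753, [37, 38], [0, 4, 2, 2, 3, 1, 4, 2, 3, 4])], [], 0),
  (1, 0, [], 0, [], [], 4036),
  (0, 9, [2, 10, 10, 8, 6], 8, [(3841, [48, 48], [2, 4, 5, 3, 4, 2, 3, 4, 5]), (3989, [38, 37], [0, 3, 4, 2, 5, 3, 4, 2, 4, 3, 1, 5]), (4032, [49, 48, 48], [0, 4, 2, 3, 4, 2, 4, 3, 4, 3, 1])], [], 0),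
  (1, 0, [], 0, [], [], 4038),
  (0, 9, [2, 11, 8, 6, 10], 8, [(3823, [48, 48], [0, 3, 4, 2, 5, 3, 1]), (2938, [38, 37], [0, 2, 2, 4, 3, 1, 4, 3, 1, 5]), (3914, [38], [4, 3, 4, 2, 2, 5, 3, 4, 3])], [], 0),
  (1, 0, [], 0, [], [], 4040),
  (0, 9, [2, 10, 8, 6, 10], 9, [(3956, [], [4]), (3539, [37, 38, 37], [0, 1, 3, 5, 3, 4, 2, 2, 3, 1, 3, 5]), (1779, [38, 37], [4, 5, 0, 3, 1, 3, 4, 2, 5])], [], 0),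
  (1, 0, [], 0, [], [], 4042),
  (0, 9, [2, 8, 6, 13, 10], 8, [(3823, [48, 48], [0, 3, 4, 2, 2, 5, 3, 4, 2]), (2581, [37, 38], [1, 2, 2, 3, 0, 4, 2, 3, 4, 3]), (1116, [], [0, 1, 2, 4, 2, 3, 1, 4, 3, 4, 2])], [], 0),
  (1, 0, [], 0, [], [], 4044),
  (0, 9, [2, 11, 8, 6, 11], 8, [(3956, [], [1, 2, 4, 2, 2]), (3526, [37, 38], [2, 4, 2, 3, 4, 3, 4, 5, 3, 4]), (1191, [37, 38], [5, 3, 1, 3, 1, 4, 3, 5, 3, 1])], [], 0),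
  (1, 0, [], 0, [], [], 4046),
  (0, 9, [2, 10, 8, 6, 11], 8, [(3841, [48, 48], [0, 2, 5, 3, 4, 2, 3, 1, 5]), (1884, [], [4, 2, 3, 0, 5, 3]), (1896, [37, 38], [4, 2, 5, 3, 0, 4, 2, 2, 3, 1])], [], 0),
  (1, 0, [], 0, [], [], 4048),
  (0, 9, [2, 8, 6, 12, 11], 8, [(3978, [], [1, 2, 4, 2, 2]), (3772, [37, 38, 37], [1, 2, 3, 0, 5, 3, 4, 2, 2, 3, 4]), (3364, [37, 38, 37], [1, 4, 2, 2, 5, 3, 0, 4, 2, 4])], [], 0),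
  (1, 0, [], 0, [], [], 4050),
  (0, 9, [8, 13, 10, 8, 6], 8, [(3911, [47, 47, 48, 49, 49], [5, 3, 1, 4, 3, 4, 2, 2, 3, 4, 5]), (3254, [37, 38, 37], [1, 5, 0, 3, 4, 3, 1, 3, 1]), (3884, [37, 38, 37], [3, 5, 3, 1, 4, 2, 4, 3])], [], 0),
  (1, 0, [], 0, [], [], 4052),
  (0, 9, [0, 8, 6, 4, 2, 6], 8, [(3935, [47, 49, 48, 48, 49], [0, 1, 3, 5, 3, 1, 3, 4, 2, 2]), (612, [39, 41, 41, 39, 41, 39], [1, 3, 4, 3, 1, 4, 2, 4, 5]), (1439, [38, 37], [1, 4, 5, 0, 3, 4, 2, 2, 3, 4, 2, 5])], [], 0),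
  (1, 0, [], 0, [], [], 4054),
  (0, 9, [0, 4, 2, 11, 8, 6], 8, [(3958, [], [1, 5]), (3218, [37, 38, 37], [1, 2, 4, 2]), (2938, [37, 38, 37], [1, 3, 5, 3, 1, 4, 2, 4, 3])], [], 0),
  (1, 0, [], 0, [], [], 4056),
  (0, 9, [0, 4, 2, 8, 6, 11], 8, [(3960, [], [1, 2, 4, 2, 2, 5]), (3234, [37, 38], [0, 2, 5, 3, 1, 3, 4, 2, 3, 4, 3]), (3132, [37, 38, 37], [0, 2, 4, 2, 3, 1, 3, 4, 3, 1, 5])], [], 0),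
  (1, 0, [], 0, [], [], 4058),
  (0, 9, [0, 4, 2, 6, 11, 11], 8, [(3841, [48, 48], [2, 4, 5, 3, 4, 2, 3, 1, 4]), (3365, [], [0, 2, 3, 4, 5, 3, 1, 3, 1, 4]), (2342, [], [4, 2, 2, 3, 5, 3, 4, 3, 1])], [], 0),
  (1, 0, [], 0, [], [], 4060),
  (0, 9, [0, 4, 2, 6, 12, 11], 8, [(3978, [], [5]), (2939, [37, 38], [2, 4, 5, 3, 4, 2, 2, 3, 4, 2, 5]), (3582, [38, 37], [1, 5, 0, 3, 1, 4, 2, 3])], [], 0),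
  (1, 0, [], 0, [], [], 4062),
  (0, 9, [0, 2, 10, 10, 8, 6], 8, [(3990, [], [1]), (1474, [], [0, 1, 2, 3, 4, 2, 4, 3, 4, 2, 4, 3]), (2783, [38, 37], [2, 2, 3, 0, 1, 3, 5, 3, 1, 4, 3])], [], 0),
  (1, 0, [], 0, [], [], 4064),
  (0, 9, [0, 2, 11, 8, 6, 10], 8, [(3923, [47, 49, 47, 48, 49], [3, 4, 2, 3, 1, 4, 3, 5, 0]), (2419, [37, 38], [4, 3, 1, 5, 0, 3]), (3141, [37], [0, 2, 4, 2, 2, 3, 0, 4, 2, 3, 1, 3])], [], 0),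
  (1, 0, [], 0, [], [], 4066),
  (0, 9, [0, 2, 8, 6, 13, 10], 8, [(3923, [47, 49, 47, 48, 49], [0, 2, 4, 3, 4, 2, 2, 5, 3, 1, 3, 1]), (4059, [37, 38], [1, 2, 2, 4, 2, 3, 1, 4, 2, 5, 0]), (4050, [49, 47], [0, 3, 5, 3, 1, 3, 1, 4, 5, 3])], [], 0),
  (1, 0, [], 0, [], [], 4068),
  (0, 9, [0, 2, 11, 8, 6, 11], 8, [(3962, [49, 49, 47], [0, 1, 2, 3, 4, 2, 5, 3, 1, 4, 2]), (1659, [38, 37], [3, 1, 4, 3, 4, 2, 5, 0, 3, 1, 4]), (3036, [37, 38, 37], [2, 4, 2, 2, 3, 1, 5, 3, 1, 3])], [], 0),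
  (1, 0, [], 0, [], [], 4070),
  (0, 9, [0, 2, 8, 6, 13, 11], 8, [(3990, [], [1, 4, 2, 2]), (2363, [34], [0, 4, 2, 3, 1, 3, 1, 4, 2, 5]), (1078, [38, 37], [2, 4, 3, 0, 1, 5, 3, 4, 2, 3])], [], 0),
  (1, 0, [], 0, [], [], 4072),
  (0, 9, [6, 8, 6, 4, 2, 6], 8, [(3984, [], [1, 5]), (3766, [], [0, 1, 2, 2, 3, 1, 4, 5, 3, 1, 3, 4, 5]), (3985, [], [3, 0, 4, 2, 2, 3, 5, 3, 1, 3, 1])], [], 0),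
  (1, 0, [], 0, [], [], 4074),
  (0, 9, [6, 4, 2, 11, 8, 6], 9, [(3988, [], [1, 5]), (3021, [38], [1, 3, 4, 2, 3, 4, 2, 3, 1, 4]), (1764, [], [1, 2, 4, 3, 1, 4, 5, 3, 4])], [], 0),
  (1, 0, [], 0, [], [], 4076),
  (0, 9, [4, 2, 12, 10, 8, 6], 8, [(3787, [49, 47], [5, 0, 3, 4, 2, 4, 3, 4, 3, 1, 5]), (2785, [37, 38], [0, 2, 2, 3, 4, 2, 5, 3, 4, 3, 1, 4]), (3523, [37, 38], [2, 2, 4, 3, 5, 0, 3, 4, 2, 3, 4])], [], 0),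
  (1, 0, [], 0, [], [], 4078),
  (0, 9, [2, 6, 8, 11, 8, 6], 8, [(3974, [], [1, 4]), (726, [45, 34, 33, 45], [3, 0, 1, 3, 4, 2, 4, 3, 1, 3]), (1260, [43, 43, 42, 43, 42], [3, 1, 5, 3, 1, 3, 4, 5, 3, 1])], [], 0),
  (1, 0, [], 0, [], [], 4080),
  (0, 9, [2, 8, 10, 8, 6, 10], 8, [(3956, [], [1, 4]), (3539, [37, 38, 37], [1, 2, 4, 3, 1, 4, 2, 3, 5, 3, 4]), (735, [37, 38], [2, 3, 4, 2, 3, 1, 4, 2, 3, 5, 3])], [], 0),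
  (1, 0, [], 0, [], [], 4082),
  (0, 9, [2, 8, 13, 11, 8, 6], 8, [(3823, [48, 48], [0, 3, 4, 2, 2, 5, 3, 1, 4, 2]), (1655, [37, 38, 37], [0, 2, 3, 4, 3, 1, 4, 2, 4, 3, 1, 4]), (3647, [37, 38, 37], [0, 4, 2, 4, 3, 1, 5])], [], 0),
  (1, 0, [], 0, [], [], 4084),
  (0, 9, [2, 8, 11, 8, 6, 11], 8, [(3956, [], [2, 4, 2, 2]), (2350, [37, 38], [4, 2, 4, 5, 3, 1, 3, 4, 2]), (3686, [], [0, 5, 3, 1, 4, 3, 1])], [], 0),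
  (1, 0, [], 0, [], [], 4086),
  (0, 9, [2, 10, 8, 10, 8, 6], 8, [(3841, [48, 48], [0, 2, 5, 3, 4, 2, 3, 5]), (870, [], [2, 4, 3, 1, 3, 1, 4, 2, 5, 3, 1, 3]), (2347, [37], [3, 1, 3, 4, 5, 3, 4, 2, 2])], [], 0),
  (1, 0, [], 0, [], [], 4088),
  (0, 9, [2, 8, 13, 10, 8, 6], 8, [(3841, [48, 48], [2, 4, 5, 3, 4, 3, 1, 5]), (1866, [37], [0, 1, 4, 3, 4, 2, 5, 3, 4, 2]), (2901, [38, 37], [2, 2, 4, 2, 5, 3, 0, 4, 2, 2, 3])], [], 0),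
  (1, 0, [], 0, [], [], 4090),
  (0, 9, [2, 13, 11, 8, 6, 10], 9, [(3976, [], [2, 4]), (3686, [], [2, 2, 3, 1, 4, 2, 3, 1, 4, 3]), (4055, [45, 44], [4, 5, 0, 3, 1])], [], 0),
  (1, 0, [], 0, [], [], 4092),
  (0, 9, [2, 11, 11, 8, 6, 11], 8, [(3958, [], [1, 2, 4, 2, 2]), (2994, [38, 37], [0, 2, 2, 4, 2, 3, 0, 4, 2]), (889, [43, 42, 43], [5, 3, 1, 3, 1, 5, 3, 1])], [], 0),
  (1, 0, [], 0, [], [], 4094),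
  (0, 9, [2, 8, 10, 8, 6, 11], 8, [(3841, [48, 48], [0, 2, 5, 3, 4, 2, 3, 4, 5]), (2735, [38], [3, 0, 4, 5, 3, 1, 4, 2, 4]), (1132, [37], [1, 3, 4, 2, 5, 3, 1, 3, 1, 4, 5, 3])], [], 0),
  (1, 0, [], 0, [], [], 4096),
  (0, 9, [2, 10, 8, 6, 13, 11], 8, [(3976, [], [4, 2, 4]), (2772, [], [3, 5, 3, 4, 2, 3, 1, 3, 1]), (2476, [37], [3, 4, 2, 4, 3, 4, 2, 2, 3, 1])], [], 0),
  (1, 0, [], 0, [], [], 4098),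
  (0, 9, [2, 0, 6, 4, 2, 6, 11], 8, [(3964, [], [5]), (3449, [38, 37], [1, 3, 0, 4, 2, 3, 4, 3, 1, 3, 5]), (1064, [37, 38, 37], [2, 3, 0, 4, 2, 2, 5, 3, 4])], [], 0),
  (1, 0, [], 0, [], [], 4100),
  (0, 9, [2, 0, 6, 4, 2, 6, 10], 8, [(3964, [47, 47, 49, 47], [1, 5, 3, 4, 3, 4, 2]), (1919, [37, 38], [1, 3, 1, 4, 2, 3, 4, 3, 1, 4]), (411, [37], [3, 1, 4, 3, 5, 0, 3, 1, 3])], [], 0),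
  (1, 0, [], 0, [], [], 4102),
  (0, 9, [2, 0, 6, 4, 2, 8, 6], 8, [(3785, [], [3, 1, 3, 5, 3, 1, 4, 2, 4, 3]), (1668, [37, 38], [1, 2, 3, 4, 2]), (1895, [], [0, 2, 3, 0, 4, 2, 3, 1, 3, 4, 3])], [], 0),
  (1, 0, [], 0, [], [], 4104),
  (0, 9, [2, 0, 4, 2, 8, 6, 11], 8, [(3885, [], [0, 1, 5, 3, 4, 2, 2, 3, 1, 3]), (3538, [37, 38, 37], [2, 3, 0, 1, 5, 3, 4, 2, 4]), (2606, [37, 38], [5, 3, 4, 2, 4, 3, 4, 3])], [], 0),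
  (1, 0, [], 0, [], [], 4106),
  (0, 9, [0, 6, 8, 6, 4, 2, 6], 8, [(3935, [47, 49, 48, 48, 49], [0, 1, 2, 3, 5, 3, 1, 3, 4, 2, 4]), (3694, [39, 40, 39, 41, 41], [0, 5, 3, 1, 3, 4, 5]), (3103, [37], [3, 0, 4, 2, 5, 3, 1, 4, 2])], [], 0),
  (1, 0, [], 0, [], [], 4108),
  (0, 9, [0, 11, 8, 6, 4, 2, 6], 8, [(3859, [48], [1, 3, 4, 3, 4, 5, 3, 1, 4, 3, 5]), (3523, [], [4, 5, 3, 0, 4, 2, 4, 3]), (2145, [], [4, 2, 2, 3, 1, 3, 4, 3, 5])], [], 0),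
  (1, 0, [], 0, [], [], 4110),
  (0, 9, [0, 10, 8, 6, 4, 2, 6], 8, [(3845, [47, 48, 49, 49, 48], [0, 4, 2, 3, 1, 4, 2, 5, 3, 1, 3]), (1938, [38], [1, 2, 2, 3, 4, 3, 5, 3, 1, 3]), (1102, [38], [1, 3, 5, 3, 4, 3, 1])], [], 0),
  (1, 0, [], 0, [], [], 4112),
  (0, 9, [0, 4, 2, 11, 11, 8, 6], 8, [(3823, [48, 48], [0, 3, 4, 2, 3, 5, 3, 4]), (941, [37, 38], [1, 3, 4, 2, 2, 3, 1, 3, 5]), (3280, [37, 38, 37], [0, 1, 3, 5, 3, 4, 2, 3, 1, 3, 5])], [], 0),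
  (1, 0, [], 0, [], [], 4114),
  (0, 9, [0, 4, 2, 8, 10, 8, 6], 8, [(3960, [], [2, 4, 2, 2, 5]), (3752, [38], [2, 2, 3, 5, 0, 3, 1, 4, 3]), (3961, [38], [0, 3, 5, 3, 4, 3, 1, 3, 1, 5])], [], 0),
  (1, 0, [], 0, [], [], 4116),
  (0, 9, [0, 4, 2, 12, 10, 8, 6], 8, [(3978, [], [1, 5]), (1559, [38, 37], [1, 2, 2, 4, 2, 5, 3, 4, 3, 1]), (1835, [37, 38], [4, 5, 3, 0, 1, 3, 4])], [], 0),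
  (1, 0, [], 0, [], [], 4118),
  (0, 9, [0, 4, 2, 11, 8, 6, 10], 8, [(3823, [48, 48], [0, 3, 4, 2, 3, 5, 3, 1]), (2806, [], [1, 3, 1, 4, 2, 3, 5, 3, 1, 3, 1]), (1891, [37], [1, 2, 2, 3, 4, 3, 1, 5, 3, 4])], [], 0),
  (1, 0, [], 0, [], [], 4120),
  (0, 9, [0, 2, 8, 12, 10, 8, 6], 8, [(3787, [49, 47], [2, 3, 1, 4, 3, 1, 5, 3, 4]), (984, [38], [1, 3, 1, 4, 2, 5, 0, 3, 4, 2, 3]), (1475, [37], [1, 4, 2, 3, 0, 5, 3, 4, 2])], [], 0),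
  (1, 0, [], 0, [], [], 4122),
  (0, 9, [0, 2, 11, 8, 6, 12, 11], 8, [(3925, [47, 47, 49, 48], [0, 2, 3, 1, 4, 2, 3, 1, 3, 5, 3]), (1230, [40, 41, 41, 39, 40, 41], [2, 5, 3, 4, 2, 4, 3, 1, 4, 5]), (160, [33, 44, 45], [0, 3, 5, 3, 1, 3, 1, 4, 2, 4, 3])], [], 0),
  (1, 0, [], 0, [], [], 4124),
  (0, 9, [6, 10, 8, 6, 4, 2, 6], 8, [(4014, [], [1, 5]), (2231, [], [2, 3, 4, 2, 5, 3, 1, 4, 3, 1, 5]), (1769, [37, 38], [1, 2, 2, 4, 3, 4, 2, 3, 5, 3])], [], 0),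
  (1, 0, [], 0, [], [], 4126),
  (0, 9, [8, 10, 8, 6, 4, 2, 6], 8, [(3951, [47, 49, 48, 48, 49], [3, 5, 3, 4, 3]), (1318, [42, 43, 43, 42, 43, 43, 42], [1, 4, 2, 3, 1, 5, 0, 3, 4, 3]), (2959, [], [3, 4, 2, 2, 3, 5, 3, 4, 2, 3])], [], 0),
  (1, 0, [], 0, [], [], 4128)]

def stepC26 : List (Nat × Nat × List Nat × Nat × List (Nat × List Nat × List Nat) × List (Nat × List Nat × List Nat) × Nat) := [(0, 9, [6, 4, 2, 11, 11, 8, 6], 8, [(3835, [47, 47, 49, 48, 48, 49], [3, 1, 4, 3, 5, 3, 1, 4, 3, 1]), (1059, [37, 38, 37], [4, 3, 0, 1, 5, 3, 4, 2]), (3495, [37, 38, 37], [4, 2, 4, 3, 0, 4, 5])], [], 0),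
  (1, 0, [], 0, [], [], 4130),
  (0, 9, [6, 4, 2, 12, 11, 8, 6], 8, [(4022, [], [1, 5]), (855, [37, 38], [2, 4, 3, 4, 2, 2, 5, 3, 4, 2]), (4105, [], [1, 4, 2, 3, 1, 3, 4])], [], 0),
  (1, 0, [], 0, [], [], 4132),
  (0, 9, [6, 4, 2, 8, 10, 8, 6], 8, [(3986, [], [2, 4, 2, 2, 5]), (928, [37, 38], [3, 1, 3, 4, 5, 3, 4, 2, 4, 3]), (939, [37, 38, 37], [0, 1, 4, 2, 2, 3, 4, 2, 3, 4])], [], 0),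
  (1, 0, [], 0, [], [], 4134),
  (0, 9, [6, 4, 2, 10, 8, 6, 10], 8, [(3966, [], [4, 5]), (3534, [37], [0, 4, 3, 1, 5, 3, 1, 3]), (2303, [33, 44, 44], [0, 4, 3, 0, 1, 3, 4, 2, 2, 3])], [], 0),
  (1, 0, [], 0, [], [], 4136),
  (0, 9, [6, 4, 2, 11, 8, 6, 10], 9, [(3835, [47, 47, 49, 48, 48, 49], [3, 1, 4, 3, 5, 3, 1, 4, 3, 4]), (3644, [38], [1, 3, 1, 5, 0, 3, 4, 2, 2, 3, 4]), (672, [42, 43, 42, 43, 43], [1, 2, 4, 2, 3, 4, 2, 4, 5])], [], 0),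
  (1, 0, [], 0, [], [], 4138),
  (0, 9, [6, 4, 2, 11, 8, 6, 11], 8, [(3966, [], [1, 2, 4, 2, 2, 5]), (2698, [38], [1, 4, 3, 4, 5, 3, 1]), (3967, [], [1, 4, 2, 4, 5, 3, 0, 1, 4, 2, 3])], [], 0),
  (1, 0, [], 0, [], [], 4140),
  (0, 9, [2, 10, 8, 12, 11, 8, 6], 8, [(3978, [], [1, 4]), (2464, [37, 38], [1, 2, 3, 0, 1, 4, 3, 5, 3]), (3720, [33, 33, 45, 34], [5, 3, 4, 2, 3, 1, 3, 5])], [], 0),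
  (1, 0, [], 0, [], [], 4142),
  (0, 9, [4, 2, 6, 8, 10, 8, 6], 8, [(3951, [49, 47], [1, 3, 4, 2, 4, 3, 4, 2, 3, 1, 4, 3]), (3714, [43, 42, 43, 43, 43, 42], [1, 2, 2, 4, 5, 3, 1, 3, 4, 2]), (2018, [37, 38, 37], [0, 4, 3, 4, 2, 3, 4])], [], 0),
  (1, 0, [], 0, [], [], 4144),
  (0, 9, [2, 12, 10, 8, 10, 8, 6], 8, [(3960, [], [1, 4, 2, 4]), (3985, [37], [0, 3, 1, 4, 3, 4, 2, 3, 4, 5]), (3873, [], [0, 1, 2, 2, 3, 1, 5, 3, 1, 3])], [], 0),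
  (1, 0, [], 0, [], [], 4146),
  (0, 9, [4, 2, 0, 6, 4, 2, 6, 11], 8, [(3964, [], [3, 5]), (1933, [38, 37], [3, 4, 5, 0, 3, 4, 2, 2]), (2125, [], [0, 1, 4, 2, 2, 3, 5, 3])], [], 0),
  (1, 0, [], 0, [], [], 4148),
  (0, 9, [2, 0, 6, 4, 2, 6, 12, 11], 8, [(3785, [47, 47, 49, 47], [2, 4, 5, 0, 3, 4, 2, 2, 3, 4]), (949, [37, 38], [1, 3, 4, 2, 4, 3, 4, 2, 4]), (1097, [37], [0, 3, 0, 4, 2, 3, 4, 2, 3, 4])], [], 0),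
  (1, 0, [], 0, [], [], 4150),
  (0, 9, [2, 0, 6, 4, 2, 6, 10, 10], 8, [(3785, [47, 47, 49, 49, 47], [0, 1, 3, 1, 4, 3, 5, 3, 1, 3]), (1660, [37, 38], [4, 3, 1, 4, 3, 1]), (606, [], [2, 2, 3, 0, 1, 3, 4, 3, 5, 3])], [], 0),
  (1, 0, [], 0, [], [], 4152),
  (0, 9, [2, 0, 4, 2, 8, 10, 8, 6], 8, [(3885, [], [1, 2, 5, 3, 4, 2, 4, 3, 1, 3]), (1427, [], [0, 1, 2, 2, 4, 2, 3, 1, 3, 5, 3]), (601, [34, 45, 45], [1, 2, 2, 3, 1, 3, 4, 5])], [], 0),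
  (1, 0, [], 0, [], [], 4154),
  (0, 9, [2, 0, 4, 2, 10, 10, 8, 6], 8, [(3911, [47, 47, 48, 49, 49], [4, 2, 2, 3, 4, 3, 4, 2, 5, 3]), (2849, [37, 38, 37], [2, 2, 4, 3, 4, 5, 3, 1, 4, 3]), (3069, [], [3, 1, 4, 2, 3, 1, 5, 3, 1, 4])], [], 0),
  (1, 0, [], 0, [], [], 4156),
  (0, 9, [2, 0, 4, 2, 12, 10, 8, 6], 8, [(3783, [], [1, 2, 2, 3, 1, 4, 3, 4, 2, 4]), (983, [], [4, 2, 3, 0, 4, 2, 2, 3, 1]), (2940, [37], [2, 4, 3, 4, 3, 1, 3, 5, 3, 1])], [], 0),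
  (1, 0, [], 0, [], [], 4158),
  (0, 9, [2, 0, 4, 2, 8, 6, 13, 10], 8, [(3807, [], [3, 4, 2, 3, 4, 2, 2, 3, 1, 4]), (1575, [37], [1, 2, 4, 3, 5, 0, 3, 1, 3]), (1858, [37, 38, 37], [1, 2, 5, 3, 4, 2, 4, 3, 1, 5])], [], 0),
  (1, 0, [], 0, [], [], 4160),
  (0, 9, [2, 0, 4, 2, 8, 6, 12, 11], 8, [(3783, [], [1, 2, 2, 3, 1, 4, 2, 3, 1]), (2547, [37, 38], [4, 2, 2, 3, 0, 1, 3, 4, 5]), (2125, [38, 37], [0, 3, 1, 4, 2, 4, 3, 1])], [], 0),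
  (1, 0, [], 0, [], [], 4162),
  (0, 9, [0, 4, 6, 8, 6, 4, 2, 6], 8, [(3994, [], [1, 5]), (1603, [], [0, 1, 3, 4, 3, 4, 2, 4, 3, 1, 3]), (3353, [37, 38, 37], [1, 2, 4, 3, 1, 3, 5, 3, 1, 4, 2])], [], 0),
  (1, 0, [], 0, [], [], 4164),
  (0, 9, [0, 8, 11, 8, 6, 4, 2, 6], 8, [(4036, [], [5]), (1063, [37, 38], [1, 5, 3, 4, 2, 3, 4, 3, 4, 2]), (2155, [], [2, 2, 5, 3, 4, 2, 3, 5])], [], 0),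
  (1, 0, [], 0, [], [], 4166),
  (0, 9, [0, 12, 10, 8, 6, 4, 2, 6], 8, [(4024, [47, 47, 48, 49], [2, 5, 3, 1, 3, 1, 4]), (1757, [37], [1, 4, 2, 4, 5, 3, 0, 4, 3]), (1895, [37, 38], [1, 4, 5, 0, 3, 4, 2, 3, 4, 2, 2])], [], 0),
  (1, 0, [], 0, [], [], 4168),
  (0, 9, [0, 10, 8, 6, 4, 2, 6, 11], 8, [(4042, [], [5]), (950, [37, 38], [0, 1, 2, 3, 1, 3, 4, 3, 4, 2, 4, 3]), (1609, [], [4, 2, 3, 5, 3, 4, 2, 4, 3, 4, 5])], [], 0),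
  (1, 0, [], 0, [], [], 4170),
  (0, 9, [0, 10, 8, 6, 4, 2, 6, 10], 8, [(4048, [], [5]), (1935, [37, 38], [2, 4, 2, 5, 3, 0, 1, 3, 4, 2]), (3402, [37], [1, 4, 2, 4, 5, 3, 4, 2, 3, 1, 4])], [], 0),
  (1, 0, [], 0, [], [], 4172),
  (0, 9, [0, 6, 4, 2, 12, 10, 8, 6], 8, [(4000, [], [1, 5]), (2252, [37], [0, 1, 5, 3, 4, 2, 3, 5]), (2327, [38, 37], [0, 2, 5, 3, 1, 4, 3, 1])], [], 0),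
  (1, 0, [], 0, [], [], 4174),
  (0, 9, [0, 4, 2, 11, 8, 11, 8, 6], 8, [(3823, [48, 48], [0, 3, 4, 2, 3, 5, 3]), (3365, [38], [2, 2, 4, 2, 5, 3, 0, 4, 3, 5]), (1951, [37, 38], [4, 2, 5, 0, 3])], [], 0),
  (1, 0, [], 0, [], [], 4176),
  (0, 9, [0, 4, 2, 8, 11, 8, 6, 10], 8, [(3823, [48, 48], [0, 3, 4, 3, 5, 3, 1, 4, 2]), (2592, [38, 37], [4, 2, 3, 4, 2, 5, 0, 3]), (2732, [38, 37], [0, 1, 3, 5, 3, 4, 2, 3, 1, 3, 5])], [], 0),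
  (1, 0, [], 0, [], [], 4178),
  (0, 9, [0, 4, 2, 11, 11, 8, 6, 10], 8, [(3978, [], [2, 2, 4, 5]), (1896, [37, 38], [1, 4, 3, 5, 3, 1, 3, 1, 4, 5, 3]), (1030, [37, 38, 37], [3, 4, 2, 4, 5, 3, 4, 2])], [], 0),
  (1, 0, [], 0, [], [], 4180),
  (0, 9, [0, 4, 2, 13, 11, 8, 6, 10], 9, [(3976, [], [2, 4, 5]), (1849, [37, 38, 37], [1, 5, 3, 1, 4, 2, 3, 1, 4, 3]), (3596, [37], [2, 2, 3, 4, 5, 3, 1, 4])], [], 0),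
  (1, 0, [], 0, [], [], 4182),
  (0, 9, [0, 4, 2, 12, 11, 8, 6, 10], 8, [(3958, [], [2, 4, 5]), (1668, [37, 38, 37], [4, 2, 4, 5]), (3171, [], [1, 2, 4, 2, 3, 1, 3, 5, 3, 4])], [], 0),
  (1, 0, [], 0, [], [], 4184),
  (0, 9, [0, 4, 2, 11, 11, 8, 6, 11], 8, [(3958, [], [1, 2, 4, 2, 2, 5]), (3550, [37, 38, 37], []), (3365, [38], [2, 2, 3, 5, 0, 3, 4, 2, 3, 1])], [], 0),
  (1, 0, [], 0, [], [], 4186),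
  (0, 9, [0, 4, 2, 13, 10, 8, 6, 11], 8, [(3978, [], [4, 2, 4, 5]), (1570, [38], [1, 2, 4, 2, 3, 5, 0, 3, 4, 2, 3]), (382, [], [2, 3, 5, 3, 4, 2, 3, 1, 3, 1])], [], 0),
  (1, 0, [], 0, [], [], 4188),
  (0, 9, [0, 4, 2, 12, 10, 8, 6, 11], 8, [(3960, [], [4, 2, 4, 5]), (3433, [], [0, 1, 2, 4, 3, 4, 2, 2, 3, 5]), (1173, [38, 37], [1, 3, 1, 3, 4, 2, 3, 4, 3, 4])], [], 0),
  (1, 0, [], 0, [], [], 4190),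
  (0, 9, [6, 4, 6, 8, 6, 4, 2, 6], 8, [(3893, [47, 49, 47, 48], [0, 2, 3, 5, 3, 1, 3, 4, 2, 3]), (3439, [38], [0, 2, 3, 4, 2, 2, 3, 1, 4]), (3526, [37], [0, 3, 1, 3, 1, 4, 3, 1, 3])], [], 0),
  (1, 0, [], 0, [], [], 4192),
  (0, 9, [8, 6, 10, 8, 6, 4, 2, 6], 8, [(3793, [47, 47, 49, 48, 48, 49], [1, 2, 4, 3, 1, 3, 5, 3, 4, 3]), (3776, [], [0, 2, 3, 1, 4, 2, 5, 3, 1, 4, 2]), (3792, [38, 37], [2, 4, 2, 3, 4, 2, 2, 3, 4, 5, 3])], [], 0),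
  (1, 0, [], 0, [], [], 4194),
  (0, 9, [8, 12, 11, 8, 6, 4, 2, 6], 8, [(4032, [49, 48, 48], [5, 3, 4, 2, 4, 3, 4, 2, 4]), (3839, [47, 47, 49, 47], [1, 2, 4, 2, 3, 4, 2, 4, 5, 3, 1, 4]), (2710, [], [2, 2, 3, 4, 2, 5, 3, 1, 4, 3])], [], 0),
  (1, 0, [], 0, [], [], 4196),
  (0, 9, [6, 10, 8, 6, 4, 2, 6, 11], 8, [(4066, [], [1, 2, 4, 2, 2, 5]), (681, [38], [1, 4, 2, 4, 3, 4, 2, 4, 5]), (2725, [27, 35, 27, 35], [4, 2, 2, 3, 1, 5])], [], 0),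
  (1, 0, [], 0, [], [], 4198),
  (0, 9, [6, 10, 8, 6, 4, 2, 6, 10], 8, [(4070, [], [4, 5]), (1773, [37, 38, 37], [1, 4, 3, 0, 1, 4, 2, 4, 3, 1, 5]), (2074, [37, 38], [0, 4, 2, 3, 1, 5, 3, 1, 4, 3, 4, 2])], [], 0),
  (1, 0, [], 0, [], [], 4200),
  (0, 9, [4, 8, 6, 4, 2, 10, 8, 6], 8, [(4048, [49, 47], [1, 2, 2, 4, 5, 0, 3, 1]), (2334, [38], [4, 2, 3, 0, 1, 5, 3, 4, 3, 5]), (3403, [38], [4, 3, 1, 5, 3])], [], 0),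
  (1, 0, [], 0, [], [], 4202),
  (0, 9, [4, 6, 4, 2, 11, 11, 8, 6], 8, [(4060, [], [1, 5]), (2144, [37, 38, 37], [1, 2, 3, 1, 3, 4, 2, 3, 5]), (3522, [], [0, 4, 2, 3, 4, 3, 1, 5])], [], 0),
  (1, 0, [], 0, [], [], 4204),
  (0, 9, [6, 4, 2, 8, 12, 11, 8, 6], 8, [(4022, [], [1, 4, 5]), (2210, [38], [0, 3, 1, 4, 3, 1, 4, 2, 5]), (2189, [37, 38], [4, 3, 5, 3, 4, 3, 1, 4, 3])], [], 0),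
  (1, 0, [], 0, [], [], 4206),
  (0, 9, [6, 4, 2, 8, 12, 10, 8, 6], 9, [(4018, [], [2, 4, 2, 2, 5]), (3933, [48, 48, 49], [0, 2, 2, 4, 2, 3, 0, 4, 2, 4]), (1977, [39, 39, 41, 39, 40], [1, 5, 3, 4, 2, 4, 3, 1, 4, 5])], [], 0),
  (1, 0, [], 0, [], [], 4208),
  (0, 9, [6, 4, 2, 11, 11, 8, 6, 10], 8, [(4018, [], [2, 2, 4, 5]), (3831, [48, 48, 49], [0, 3, 1, 4, 5, 3, 1, 3, 4, 2, 2]), (1706, [38, 37], [0, 2, 4, 2, 5, 3, 4, 2, 2, 3, 1])], [], 0),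
  (1, 0, [], 0, [], [], 4210),
  (0, 9, [6, 4, 2, 8, 10, 8, 6, 11], 8, [(4016, [], [1, 2, 2, 4, 2, 5]), (1319, [37, 38, 37], [1, 3, 4, 2, 2, 3, 1, 3, 4, 2, 3]), (277, [43, 43, 42, 43], [1, 4, 2, 2, 5, 3, 0, 1, 4])], [], 0),
  (1, 0, [], 0, [], [], 4212),
  (0, 9, [6, 4, 2, 6, 8, 10, 8, 6], 8, [(4026, [], [2, 4, 2, 2]), (2405, [37, 38, 37], [3, 1, 4, 3, 5, 3, 1, 4, 3]), (3668, [37, 38], [2, 5, 3, 0, 4, 2, 4, 3, 1, 4, 2])], [], 0),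
  (1, 0, [], 0, [], [], 4214),
  (0, 9, [2, 0, 6, 4, 2, 11, 11, 8, 6], 8, [(3785, [47, 47, 49, 49, 47], [1, 3, 1, 4, 3, 1, 5, 3, 1, 3]), (1526, [37, 38], [1, 2, 5, 3, 4, 2, 2, 3, 1]), (2503, [38], [0, 4, 2, 4, 3, 1, 3, 4, 5, 3, 1, 3])], [], 0),
  (1, 0, [], 0, [], [], 4216),
  (0, 9, [2, 0, 6, 4, 2, 8, 11, 8, 6], 8, [(3964, [47, 47, 49, 47], [1, 5, 3, 4, 3, 1, 4, 2, 4]), (1830, [37, 38], [0, 4, 2, 3, 4, 2, 2, 3, 1, 4, 2]), (3469, [37, 38, 37], [2, 4, 2, 3, 4, 3, 4, 5, 3, 4])], [], 0),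
  (1, 0, [], 0, [], [], 4218),
  (0, 9, [2, 0, 4, 2, 8, 10, 8, 6, 10], 8, [(3781, [], [1, 4, 5]), (2737, [32, 26, 32], [1, 2, 3, 5]), (552, [], [1, 2, 3, 5, 3, 1, 4, 3])], [], 0),
  (1, 0, [], 0, [], [], 4220),
  (0, 9, [2, 0, 6, 4, 2, 8, 6, 12, 10], 15, [(3787, [47, 47, 49, 49, 47], [0, 2, 3, 4, 5, 3, 1, 3, 1, 5]), (3744, [], [0, 2, 2, 4, 2, 3, 4, 2, 3, 1, 3]), (4001, [37, 38], [2, 2, 3, 4, 3, 1, 5, 3, 4])], [], 0),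
  (1, 0, [], 0, [], [], 4222),
  (0, 9, [4, 2, 0, 6, 4, 2, 8, 6, 11], 8, [(3964, [], [2, 2, 3, 4, 2, 4, 5]), (1958, [38, 37], [1, 4, 5, 3, 1, 3, 4, 2, 4, 5]), (1751, [37, 38], [2, 2, 4, 2, 5, 3, 4, 2, 3, 4])], [], 0),
  (1, 0, [], 0, [], [], 4224),
  (0, 9, [0, 8, 6, 11, 8, 6, 4, 2, 6], 8, [(3943, [47, 49, 49], [3, 4, 2, 2, 3, 4, 2, 4, 3, 4, 5]), (275, [42, 43, 43, 43, 42, 43, 43, 43], [0, 1, 2, 3, 1, 4, 3, 4, 5]), (4029, [45, 34], [0, 2, 4, 2, 2, 5, 3, 1, 3, 4, 3])], [], 0),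
  (1, 0, [], 0, [], [], 4226),
  (0, 9, [0, 6, 4, 2, 8, 11, 8, 6, 11], 8, [(3905, [47, 49, 47, 47, 49], [1, 4, 2, 2, 5, 3, 4, 3, 1]), (3255, [37, 38, 37], [2, 3, 4, 3, 1, 5, 3, 1, 3, 5]), (3912, [38, 37], [0, 2, 4, 2, 5, 3, 4, 2, 3, 1])], [], 0),
  (1, 0, [], 0, [], [], 4228),
  (0, 9, [0, 4, 2, 8, 10, 8, 10, 8, 6], 8, [(3841, [48, 48], [0, 2, 5, 3, 4, 2, 3, 1, 4]), (2060, [37], [1, 2, 3, 4, 2, 3, 1, 4, 5]), (1039, [], [0, 1, 3, 1, 4, 2, 5, 3, 1])], [], 0),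
  (1, 0, [], 0, [], [], 4230),
  (0, 9, [0, 4, 2, 10, 8, 13, 10, 8, 6], 8, [(3976, [], [1, 4, 2, 4, 5]), (1698, [38], [1, 3, 1, 4, 3, 5, 3, 1, 3, 4, 5]), (982, [], [2, 2, 4, 2, 3, 0, 5])], [], 0),
  (1, 0, [], 0, [], [], 4232),
  (0, 9, [0, 6, 4, 2, 11, 11, 8, 6, 10], 8, [(4000, [], [2, 2, 4, 5]), (3744, [38], [1, 2, 3, 4, 2, 4, 5, 0, 3, 1]), (4001, [37, 38], [1, 5, 3, 4, 2, 4, 3, 1])], [], 0),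
  (1, 0, [], 0, [], [], 4234),
  (0, 9, [11, 11, 8, 6, 4, 2, 10, 8, 6], 8, [(3827, [49, 47], [1, 2, 2, 3, 1, 3, 4, 5, 3, 1, 3, 4]), (3474, [38, 37], [1, 2, 4, 3, 1, 4, 2, 4, 5, 3, 1]), (3830, [37], [1, 2, 4, 3, 4, 2, 4, 5, 0, 3])], [], 0),
  (1, 0, [], 0, [], [], 4236),
  (0, 9, [4, 6, 4, 2, 8, 10, 8, 6, 10], 8, [(3982, [], [1, 4, 5]), (4088, [47, 49, 47, 47, 49], [1, 2, 3, 1, 4, 3, 4, 5, 3, 4, 3]), (3087, [], [4, 2, 3, 0, 4, 5, 3, 4])], [], 0),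
  (1, 0, [], 0, [], [], 4238),
  (0, 9, [2, 0, 6, 4, 2, 8, 12, 11, 8, 6], 14, [(3783, [47, 47, 49, 47], [0, 1, 3, 1, 4, 2, 3, 5, 3, 4]), (1664, [37, 38], [0, 2, 2, 3, 4, 3, 4, 2, 4, 3]), (1374, [27, 30], [0, 2, 2, 3, 1, 4, 3, 4, 2, 3, 5, 3])], [], 0),
  (1, 0, [], 0, [], [], 4240),
  (0, 9, [2, 0, 6, 4, 2, 11, 11, 8, 6, 10], 8, [(3785, [47, 47, 49, 47], [2, 5, 3, 0, 4, 2, 3, 1]), (1513, [37, 38], [4, 2, 3, 0, 5, 3, 1, 4, 3, 5]), (1499, [], [0, 3, 4, 2, 2, 3, 4])], [], 0),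
  (1, 0, [], 0, [], [], 4242),
  (0, 9, [0, 11, 8, 6, 10, 8, 6, 4, 2, 6], 8, [(4080, [], [1, 2, 2, 4, 2, 5]), (1390, [33, 45], [3, 5, 3, 4, 2, 2, 3, 1, 3]), (3482, [37, 38], [0, 1, 4, 2, 4, 3, 1, 4, 2, 5, 3, 4])], [], 0),
  (1, 0, [], 0, [], [], 4244),
  (0, 9, [0, 8, 6, 11, 8, 6, 4, 2, 6, 11], 8, [(4082, [], [1, 2, 4, 2, 2, 5]), (495, [45, 33, 44, 45], [2, 5, 3, 1, 3, 4, 2, 3, 4, 3]), (3818, [38, 37], [2, 5, 0, 3, 4, 2, 3, 4, 3, 4])], [], 0),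
  (1, 0, [], 0, [], [], 4246),
  (0, 9, [0, 11, 8, 6, 4, 2, 12, 11, 8, 6], 8, [(4074, [47, 47, 48, 49], [3, 5, 0, 3, 1, 3, 4, 2, 4]), (4228, [49, 48], [4, 3, 0, 5, 3, 1, 3, 4, 2, 4]), (4041, [48], [2, 2, 3, 1, 4, 3, 1, 4, 2, 5])], [], 0),
  (1, 0, [], 0, [], [], 4248),
  (0, 9, [2, 6, 4, 6, 10, 8, 6, 4, 2, 6], 8, [(4100, [47, 47, 49, 47], [2, 2, 4, 2, 3, 4, 2, 4, 3, 5, 0]), (494, [38], [2, 2, 4, 2, 5, 0, 3, 4, 2, 4]), (292, [], [2, 2, 3, 1, 3, 4, 3, 1, 3, 4])], [], 0),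
  (1, 0, [], 0, [], [], 4250),
  (0, 9, [8, 6, 10, 8, 6, 4, 2, 6, 13, 11], 8, [(3791, [47, 47, 49, 48, 48, 49], [1, 2, 4, 3, 4, 5, 3, 4, 2, 3]), (1697, [38, 37], [0, 1, 3, 4, 5, 3, 1, 4, 3, 1]), (132, [], [3, 0, 1, 3, 5, 3, 4, 3, 4])], [], 0),
  (1, 0, [], 0, [], [], 4252),
  (0, 9, [6, 4, 8, 6, 4, 2, 12, 11, 8, 6], 8, [(3857, [49, 47, 48], [2, 2, 3, 4, 2, 4, 3, 1, 4, 3, 4]), (3128, [37], [2, 4, 2, 5, 3, 1, 3, 1, 4, 5, 3]), (836, [37, 38, 37], [3, 5, 3, 1, 3, 1, 4, 2, 4, 3])], [], 0),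
  (1, 0, [], 0, [], [], 4254),
  (0, 9, [0, 6, 8, 11, 8, 6, 4, 2, 11, 8, 6], 8, [(3803, [47, 48, 48, 49], [2, 2, 3, 5, 3, 1, 4, 3, 1, 3, 5]), (1241, [38], [2, 3, 1, 4, 2, 3, 4, 2, 4]), (590, [40, 39, 40], [0, 2, 3, 1, 5, 3, 4, 3, 4, 2])], [], 0),
  (1, 0, [], 0, [], [], 4256),
  (0, 9, [0, 11, 8, 6, 10, 8, 6, 4, 2, 6, 10], 8, [(3803, [47, 48, 48, 49], [0, 2, 3, 1, 4, 3, 4, 2, 5, 3, 1]), (1172, [37, 38], [3, 5, 3, 4, 2, 3, 4, 2, 2, 3, 5]), (3646, [38], [5, 0, 3, 4, 2, 2, 3, 4, 3])], [], 0),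
  (1, 0, [], 0, [], [], 4258),
  (0, 9, [6, 4, 6, 10, 10, 8, 6, 4, 2, 6, 11], 8, [(4234, [], [1, 2, 4, 2, 2, 5]), (4223, [], [0, 1, 3, 4, 3, 4, 2, 4, 3, 4]), (4240, [], [0, 2, 3, 1, 4, 3, 4, 2, 3])], [], 0),
  (1, 0, [], 0, [], [], 4260),
  (0, 9, [0, 4, 6, 4, 8, 10, 8, 6, 4, 2, 10, 8, 6], 8, [(4238, [], [1, 5]), (760, [38], [4, 2, 5, 3, 0, 1, 3, 4, 2, 5]), (4239, [38], [2, 4, 2, 5, 3, 4, 2, 3, 1, 4, 3])], [], 0),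
  (1, 0, [], 0, [], [], 4262),
  (2, 0, [], 0, [], [], 0),
  (1, 0, [], 0, [], [], 4264),
  (3, 4, [6, 4, 6, 8, 12, 10, 8, 6, 4, 2, 6], 37, [(4264, [36, 28, 35, 35], [0, 2, 3, 4, 3, 1, 5, 3, 4, 2, 3])], [(4264, [], [])], 0),
  (0, 6, [2, 0, 6, 4, 2, 8, 13, 10, 8, 6], 26, [(379, [], [0, 1, 3, 1, 4, 5, 3, 1, 3, 4, 2, 2, 5]), (393, [], [2, 5, 3, 4, 2, 3, 1, 5, 3, 1]), (390, [], [0, 2, 5, 3, 4, 2, 2, 3, 4, 5, 3, 4]), (393, [], [1, 3, 5, 3, 1, 4, 3, 1, 5, 3]), (1760, [], [0, 1, 4, 3, 0, 4, 2, 4, 3, 1, 4, 2]), (1371, [], [2, 3, 4, 3, 1, 3, 1, 4, 5, 3, 1]), (4264, [], [4, 3, 4, 5, 0, 3, 4, 2])], [], 0),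
  (1, 0, [], 0, [], [], 4266),
  (0, 6, [2, 0, 6, 4, 2, 11, 11, 8, 6, 11], 22, [(1371, [], [1, 4, 3, 1, 4, 5, 3, 1, 3, 4, 2]), (4264, [], [4, 2, 3, 1, 4, 5, 3, 1, 4, 3])], [], 0),
  (1, 0, [], 0, [], [], 4268),
  (0, 6, [6, 4, 6, 8, 6, 11, 8, 6, 4, 2, 6, 11], 9, [(1828, [], [2, 4, 5]), (3447, [38], [1, 2, 2, 5, 3, 4, 2, 3, 1, 5]), (4268, [], [3, 1, 4, 3, 4, 2, 3, 5, 3, 1])], [], 0),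
  (1, 0, [], 0, [], [], 4270),
  (0, 6, [4, 6, 4, 6, 8, 6, 11, 8, 6, 4, 2, 6, 11], 8, [(2110, [], [2, 4, 5]), (2025, [37, 38], [2, 3, 1, 3, 4, 3, 1, 5]), (4266, [], [1, 2, 4, 2, 3, 4, 5, 0, 3, 4])], [], 0),
  (1, 0, [], 0, [], [], 4272),
  (3, 6, [4, 6, 4, 6, 8, 6, 11, 8, 6, 4, 2, 6, 11], 9, [(2110, [], [2, 4, 5]), (3616, [], [1, 4, 3, 0, 5, 3, 4, 2, 2, 3]), (4272, [37, 38, 37], [1, 4, 3, 4, 2, 5, 0, 3, 4, 2, 2])], [(4272, [], [])], 0),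
  (0, 9, [0, 4, 2, 10, 8, 10, 8, 6], 8, [(3841, [48, 48], [0, 2, 5, 3, 4, 2, 3]), (1054, [38], [1, 2, 2, 3, 1, 3, 4, 3, 4, 5, 3]), (4272, [37], [2, 4, 2, 2, 3, 1, 4, 5, 3, 4])], [], 0),
  (1, 0, [], 0, [], [], 4274),
  (0, 9, [4, 6, 4, 2, 11, 11, 8, 6, 10], 15, [(3921, [47, 49, 47], [2, 2, 3, 0, 5, 3, 1, 4, 3, 5]), (400, [], [2, 3, 1, 4, 3, 5, 3, 1, 4, 2, 3, 1]), (4264, [28, 36, 36, 29], [0, 4, 3, 1, 5, 3, 4, 3])], [], 0),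
  (1, 0, [], 0, [], [], 4276),
  (0, 9, [0, 11, 8, 6, 4, 2, 10, 8, 12, 11, 8, 6], 15, [(3909, [47, 47, 49, 49, 48], [4, 2, 3, 4, 2, 4, 5, 0, 3, 1]), (402, [37, 38], [0, 1, 4, 2, 3, 1, 4, 3, 4, 3, 5]), (4268, [], [0, 3, 0, 1, 3, 4])], [], 0),
  (1, 0, [], 0, [], [], 4278),
  (0, 9, [6, 4, 6, 4, 10, 10, 8, 6, 4, 2, 10, 8, 6], 9, [(4276, [], [2, 4, 2, 2, 5]), (4265, [50, 50, 51, 50, 50, 51, 50, 50, 50, 51, 50, 50], [2, 3, 5, 3, 1, 4, 3, 4, 2, 2, 3]), (4264, [27, 28], [0, 4, 3, 5, 3, 4, 3, 1, 4])], [], 0),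
  (1, 0, [], 0, [], [], 4280),
  (0, 9, [0, 4, 6, 4, 8, 10, 8, 6, 4, 2, 10, 8, 6, 11], 9, [(4204, [47], [1, 2, 3, 4, 2, 2, 3, 4, 2, 5]), (408, [], [4, 2, 4, 5, 3, 0, 4, 2, 3, 4, 2, 5]), (4268, [], [1, 3, 4, 3, 4, 2, 2])], [], 0),
  (1, 0, [], 0, [], [], 4282),
  (0, 10, [2, 11], 8, [(4267, [51, 50, 50, 51, 50, 50, 50, 50, 50, 51], [0, 4, 2, 2, 3, 1, 4, 2, 5, 3, 1]), (1173, [38], [1, 4, 2, 2, 3, 5, 3, 4, 2, 3]), (2980, [], [1, 3, 5, 0, 3, 4, 3, 1, 3])], [], 0),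
  (1, 0, [], 0, [], [], 4284),
  (0, 10, [2, 10], 8, [(4269, [51, 50, 50, 51, 50, 50, 50, 50, 50, 51], [4, 2, 4, 3, 4, 2, 3, 4, 2, 5, 3]), (1896, [], [0, 2, 3, 5, 3, 1, 3, 4, 3, 4, 2, 2]), (2349, [38, 37], [2, 2, 3, 0, 5, 3])], [], 0),
  (1, 0, [], 0, [], [], 4286)]

def stepC27 : List (Nat × Nat × List Nat × Nat × List (Nat × List Nat × List Nat) × List (Nat × List Nat × List Nat) × Nat) := [(0, 10, [6, 4, 2, 12, 10, 8, 6], 8, [(4286, [51, 50, 50, 51, 51, 50, 51, 51, 51, 50, 51, 51], [4, 3, 1, 5, 3, 1, 4, 3, 4]), (760, [38], [3, 0, 1, 4, 2, 4, 3, 4]), (4287, [38], [0, 1, 2, 4, 2, 3, 5, 3, 1, 3, 1])], [], 0),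
  (1, 0, [], 0, [], [], 4288)]

end CfsgLib.Coset.Th
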