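import Cfsg.Agent.Coset.Th.Derive
import Cfsg.Agent.Coset.Th.StepData4

/-! Kernel checks of the derivation, part 4. -/

set_option autoImplicit false
set_option maxRecDepth 100000
set_option Elab.async false

namespace CfsgLib.Coset.Th

theorem chunk22 : checkAll stepC22 3493 47 3653 47 = true := by decide +kernel

theorem chunk23 : checkAll stepC23 3653 47 3811 49 = true := by decide +kernel

theorem chunk24 : checkAll stepC24 3811 49 3970 50 = true := by decide +kernel

theorem chunk25 : checkAll stepC25 3970 50 4130 50 = true := by decide +kernel

theorem chunk26 : checkAll stepC26 4130 50 4288 52 = true := by decide +kernel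

theorem chunk27 : checkAll stepC27 4288 52 4290 52 = true := by decide +kernel

end CfsgLib.Coset.Th
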