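import Cfsg.Agent.Coset.Th.DeriveCheck0
import Cfsg.Agent.Coset.Th.DeriveCheck1
import Cfsg.Agent.Coset.Th.DeriveCheck2
import Cfsg.Agent.Coset.Th.DeriveCheck3
import Cfsg.Agent.Coset.Th.DeriveCheck4

/-! All facts and stabilising elements hold. -/

set_option autoImplicit false
set_option maxRecDepth 100000

namespace CfsgLib.Coset.Th

/-- All facts and stabilising elements hold. -/
theorem Frame.known {Γ : Type*} [Group Γ] {L : List Γ} (hF : Frame L) : hF.Known numFacts 52 := by
  have h0 := hF.known_initial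
  have h1 := hF.known_of_checkAll _ _ _ _ _ chunk0 h0
  have h2 := hF.known_of_checkAll _ _ _ _ _ chunk1 h1
  have h3 := hF.known_of_checkAll _ _ _ _ _ chunk2 h2
  have h4 := hF.known_of_checkAll _ _ _ _ _ chunk3 h3
  have h5 := hF.known_of_checkAll _ _ _ _ _ chunk4 h4
  have h6 := hF.known_of_checkAll _ _ _ _ _ chunk5 h5
  have h7 := hF.known_of_checkAll _ _ _ _ _ chunk6 h6
  have h8 := hF.known_of_checkAll _ _ _ _ _ chunk7 h7
  have h9 := hF.known_of_checkAll _ _ _ _ _ chunk8 h8
  have h10 := hF.known_of_checkAll _ _ _ _ _ chunk9 h9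
  have h11 := hF.known_of_checkAll _ _ _ _ _ chunk10 h10
  have h12 := hF.known_of_checkAll _ _ _ _ _ chunk11 h11
  have h13 := hF.known_of_checkAll _ _ _ _ _ chunk12 h12
  have h14 := hF.known_of_checkAll _ _ _ _ _ chunk13 h13
  have h15 := hF.known_of_checkAll _ _ _ _ _ chunk14 h14
  have h16 := hF.known_of_checkAll _ _ _ _ _ chunk15 h15
  have h17 := hF.known_of_checkAll _ _ _ _ _ chunk16 h16
  have h18 := hF.known_of_checkAll _ _ _ _ _ chunk17 h17
  have h19 := hF.known_of_checkAll _ _ _ _ _ chunk18 h18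
  have h20 := hF.known_of_checkAll _ _ _ _ _ chunk19 h19
  have h21 := hF.known_of_checkAll _ _ _ _ _ chunk20 h20
  have h22 := hF.known_of_checkAll _ _ _ _ _ chunk21 h21
  have h23 := hF.known_of_checkAll _ _ _ _ _ chunk22 h22
  have h24 := hF.known_of_checkAll _ _ _ _ _ chunk23 h23
  have h25 := hF.known_of_checkAll _ _ _ _ _ chunk24 h24
  have h26 := hF.known_of_checkAll _ _ _ _ _ chunk25 h25
  have h27 := hF.known_of_checkAll _ _ _ _ _ chunk26 h26
  have h28 := hF.known_of_checkAll _ _ _ _ _ chunk27 h27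
  exact h28

end CfsgLib.Coset.Th
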