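import Mathlib.Data.List.Basic

/-! A derivation of the coset facts of the Thompson presentation. -/

set_option autoImplicit false
set_option maxRecDepth 100000

namespace CfsgLib.Coset.Th

def stepC0 : List (Nat × Nat × List Nat × Nat × List (Nat × List Nat × List Nat) × List (Nat × List Nat × List Nat) × Nat) := [(2, 0, [], 0, [], [], 0),
  (1, 0, [], 0, [], [], 0),
  (0, 1, [10], 22, [(1, [], []), (0, [0, 4, 5, 1, 11], [])], [], 0),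
  (1, 0, [], 0, [], [], 2),
  (2, 0, [], 0, [], [], 0),
  (1, 0, [], 0, [], [], 4),
  (3, 1, [2], 37, [(4, [15, 16, 16, 17, 14, 17], [1, 2, 5])], [(4, [], [])], 0),
  (3, 1, [2], 37, [(4, [15, 16, 17, 14, 17, 18, 16], [4, 2, 4, 5])], [(4, [], [])], 0),
  (3, 1, [2], 37, [(4, [14, 15, 16, 18, 16, 19, 14], [0, 4, 2, 4, 5, 0])], [(4, [], [])], 0),
  (0, 1, [6], 16, [(1, [], [1, 5]), (0, [0, 4, 8, 2, 0, 4, 2, 8, 5, 1, 7], []), (4, [19, 17, 14], [3, 5])], [], 0),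
  (1, 0, [], 0, [], [], 6),
  (3, 1, [6], 17, [(1, [], []), (0, [0, 4, 5, 1, 6, 3, 5, 1, 2, 7], []), (4, [14, 15, 17, 15, 19, 17], [0, 1, 3, 1, 5, 3, 1, 3])], [(6, [], [])], 0),
  (0, 2, [0, 2, 6, 4, 2, 0, 6, 4, 2, 11, 8, 6, 11], 14, [(5, [20, 21, 20, 20, 23, 23], [0, 2, 3, 4, 5, 3, 1, 4, 3, 1]), (4, [17, 15, 18, 17, 19, 17, 15, 18, 17], [2, 4, 2, 3, 1, 3, 4, 3, 1, 5]), (7, [23], [2, 2, 4, 5, 3, 4, 2, 2, 3, 5])], [], 0),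
  (1, 0, [], 0, [], [], 8),
  (0, 2, [0, 6, 4, 2, 6, 4, 6, 4, 2, 8, 11, 8, 6], 22, [(8, [23], []), (9, [18, 16, 18], [0, 1, 3, 1, 3, 4, 2, 2, 3, 1, 3, 4])], [], 0),
  (1, 0, [], 0, [], [], 10),
  (0, 2, [0, 2, 6, 4, 2, 0, 6, 4, 2, 10, 8, 10, 8, 6], 22, [(10, [20, 20, 20, 20], [1, 4, 2, 4]), (8, [20, 23], [1, 2, 4, 2, 2, 3, 4, 2, 3, 1, 4, 3])], [], 0),
  (1, 0, [], 0, [], [], 12),
  (0, 1, [6, 11, 8, 6, 4, 6, 12], 22, [(9, [15, 16, 18], [0, 3, 4, 5, 3, 1, 3, 1, 4, 2, 5]), (12, [], [4, 2, 2, 3, 4, 2, 3, 4, 2, 2, 3])], [], 0),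
  (1, 0, [], 0, [], [], 14),
  (0, 2, [0, 2, 4, 6, 4, 2, 0, 6, 4, 2, 10, 8], 22, [(7, [], [1, 3, 1, 3, 5, 3, 1, 3, 4, 5]), (14, [], [2, 2, 4, 3, 5, 0, 3, 4, 3, 5])], [], 0),
  (1, 0, [], 0, [], [], 16),
  (3, 1, [8, 6, 4, 13, 11, 8, 6, 4, 11, 8, 6, 10, 8, 6, 10, 12, 7, 13, 7, 9, 11, 3, 9, 3, 5, 10, 7, 10, 10, 1, 1, 5, 13], 37, [(6, [15, 18], [0, 4, 3, 1, 4, 2, 4, 3, 1, 3])], [(13, [], [])], 0),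
  (2, 0, [], 0, [], [], 0),
  (1, 0, [], 0, [], [], 18),
  (3, 1, [2, 6], 37, [(18, [14, 16, 16, 19, 17], [0, 2, 5, 3])], [(18, [], [])], 0),
  (3, 1, [2, 6], 37, [(18, [16, 16, 19], [0, 2, 3, 0])], [(18, [], [])], 0),
  (2, 0, [], 0, [], [], 0),
  (1, 0, [], 0, [], [], 20),
  (3, 1, [2, 11], 37, [(20, [15], [4])], [(20, [], [])], 0),
  (3, 1, [2, 11], 37, [(20, [17, 14, 17, 18], [2, 2, 4, 2, 5])], [(20, [], [])], 0),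
  (3, 1, [2, 11], 37, [(20, [17, 14, 17], [5])], [(20, [], [])], 0),
  (3, 1, [2, 11], 37, [(20, [15, 16, 16, 18, 16, 19], [2, 3, 0, 3, 4, 2, 2])], [(20, [], [])], 0),
  (3, 1, [2, 11], 37, [(20, [15, 16, 18, 16, 16], [1])], [(20, [], [])], 0),
  (0, 2, [10], 22, [(5, [], []), (20, [], [])], [], 0),
  (1, 0, [], 0, [], [], 22),
  (0, 4, [10], 22, [(21, [], []), (20, [16, 16], [2])], [], 0),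
  (1, 0, [], 0, [], [], 24),
  (0, 4, [6, 4, 2, 0, 6, 4, 2, 6, 10], 8, [(23, [], [3, 5]), (10, [24], [2, 4, 2, 2, 5, 3, 0, 1, 3, 4, 2]), (22, [21, 21, 24, 21, 20, 24, 21], [1, 4, 3, 0, 4, 5, 3, 4, 2])], [], 0),
  (1, 0, [], 0, [], [], 26),
  (0, 4, [6, 4, 2, 0, 6, 4, 2, 11, 8, 6], 8, [(23, [], [3, 1, 5]), (22, [20, 23, 21, 23, 20, 23], [0, 1, 2, 2, 4, 2, 3, 5]), (26, [], [1, 2, 2, 4, 3, 1, 3, 4, 2, 3])], [], 0),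
  (1, 0, [], 0, [], [], 28),
  (0, 4, [6, 4, 2, 0, 6, 4, 2, 10, 8, 6, 10], 8, [(21, [], [3, 4, 5]), (4, [16, 17, 15, 17, 18, 19, 17, 15, 17], [1, 4, 2, 4, 3, 4, 2, 4, 5, 3, 4]), (22, [20, 21, 23, 23, 21, 21, 23], [1, 4, 3, 4, 2, 5, 0, 3, 4, 2])], [], 0),
  (1, 0, [], 0, [], [], 30),
  (0, 4, [6, 4, 2, 0, 6, 4, 2, 11, 11, 8, 6, 10], 33, [(21, [], [2, 4, 2, 2, 3, 0, 5, 3, 1, 4]), (4, [16, 16, 17, 15, 17, 18, 19, 17, 15, 17], [0, 2, 4, 3, 4, 5, 3, 1]), (22, [20, 20, 21, 23, 22, 23, 23], [0, 1, 3, 1, 4, 5, 3])], [], 0),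
  (1, 0, [], 0, [], [], 32),
  (0, 4, [6, 4, 2, 0, 6, 4, 2, 11, 8, 6, 13, 11], 33, [(21, [], [0, 2, 3, 5, 3, 4, 2, 3, 1, 3]), (4, [16, 16, 17, 18, 17, 15, 17, 18, 17], [2, 2, 5, 3, 4, 3, 1, 4, 3, 5, 3]), (22, [24, 23, 23, 22, 24, 24], [0, 1, 2, 2, 3, 4, 5, 3, 1, 4])], [], 0),
  (1, 0, [], 0, [], [], 34),
  (0, 3, [2, 4, 8, 6, 4, 2, 6, 12], 14, [(19, [], [1, 2, 5]), (4, [15, 17, 19, 17, 15, 17], [0, 1, 2, 2, 3, 1, 5, 3]), (5, [21, 23, 20, 23, 20, 23, 21], [1, 2, 2, 3, 5, 3, 1, 3, 1, 5])], [], 0),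
  (1, 0, [], 0, [], [], 36),
  (0, 4, [0, 6, 4, 2, 0, 6, 4, 2, 11, 8, 6, 11, 8, 10, 10], 22, [(28, [], [2, 2, 3, 4, 2, 4]), (34, [], [5, 3, 4, 2, 2, 3, 4, 2, 4, 5, 3])], [], 0),
  (1, 0, [], 0, [], [], 38),
  (3, 1, [2, 6, 8, 6, 4, 6, 8, 12], 37, [(18, [], [1, 2, 3, 1])], [(37, [], [])], 0),
  (2, 0, [], 0, [], [], 0),
  (1, 0, [], 0, [], [], 40),
  (3, 1, [2, 6, 10], 37, [(40, [14, 19, 17], [0, 5, 3])], [(40, [], [])], 0),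
  (3, 1, [2, 6, 10], 37, [(40, [14, 17, 14], [5])], [(40, [], [])], 0),
  (0, 5, [10], 22, [(41, [], []), (18, [], [])], [], 0),
  (1, 0, [], 0, [], [], 42),
  (0, 5, [10, 10], 22, [(42, [], []), (43, [25], [3, 4, 5, 3, 4, 2, 3])], [], 0),
  (1, 0, [], 0, [], [], 44),
  (0, 2, [4, 11, 8, 6, 4, 2, 0, 6, 4, 2], 14, [(10, [23, 23, 24], [5, 0, 3, 1, 3, 4, 2, 5, 3]), (22, [23, 21, 22, 24, 23], [3, 4, 3, 1, 3, 1, 5, 3, 1, 4]), (26, [], [0, 4, 3, 1, 4, 3, 5])], [], 0),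
  (1, 0, [], 0, [], [], 46),
  (0, 4, [0, 2, 0, 4, 2, 8, 12, 11], 22, [(23, [], [4, 2, 5, 0]), (46, [], [2, 3, 5, 0, 3, 4, 2, 4])], [], 0),
  (1, 0, [], 0, [], [], 48),
  (0, 4, [2, 12, 11, 8, 6, 4, 6, 10, 8, 11], 22, [(47, [], [0, 1, 2, 3, 1, 5, 3, 1, 3, 4, 2]), (22, [20, 20, 20, 20], [1, 5, 3, 4, 2, 2, 3, 1, 3])], [], 0),
  (1, 0, [], 0, [], [], 50),
  (0, 4, [6, 4, 2, 0, 6, 4, 2, 6, 8, 6, 4, 6, 8, 10, 12, 10, 5, 10, 13, 7, 7, 12, 10], 33, [(23, [], [1, 3, 4, 3, 1, 3, 4, 2, 5, 3]), (10, [20, 20, 20, 20, 24], [3, 1, 4, 3, 1, 4, 2, 5, 3, 1, 4]), (46, [20, 22, 24, 20, 21, 24, 22], [1, 3, 4, 3, 1, 3, 4, 2])], [], 0),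
  (1, 0, [], 0, [], [], 52),
  (0, 4, [6, 4, 2, 0, 6, 4, 2, 8, 10, 8, 6, 4, 10, 8, 12], 8, [(30, [], [1, 2, 3]), (23, [], [1, 2, 2, 4, 3, 4, 2, 5, 0, 3]), (46, [20, 20, 24, 24, 22, 24, 20], [0, 1, 2, 2, 4, 2, 3, 0, 1, 4, 2])], [], 0),
  (1, 0, [], 0, [], [], 54),
  (0, 4, [2, 6, 4, 2, 0, 6, 4, 2, 11, 8, 6, 11, 12], 33, [(49, [], [1, 3, 0, 1, 4, 2, 4, 5, 3, 1, 4]), (54, [], [2, 4, 3, 0, 4, 2, 4, 3, 1, 4]), (49, [], [4, 2, 3, 4, 2, 3, 1, 3, 5])], [], 0),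
  (1, 0, [], 0, [], [], 56),
  (0, 4, [0, 6, 4, 2, 6, 4, 8, 10, 8, 6, 4, 10, 8, 11, 13, 9, 11, 12, 9, 7, 13, 3, 5, 11, 3, 13, 10, 10, 13, 3, 7, 13], 22, [(32, [], [2, 2, 3, 5, 3]), (54, [], [2, 2, 5, 0, 3, 4, 2, 3, 1, 3])], [], 0),
  (1, 0, [], 0, [], [], 58),
  (0, 4, [6, 4, 10, 8, 6, 4, 6, 11, 8, 6, 4, 2, 13, 1, 12, 7, 1, 9, 1, 10, 3, 7, 9, 13, 5, 10, 7, 10, 5, 3], 15, [(23, [], [2, 2, 3, 1, 4, 3, 4, 3, 5]), (5, [24, 24, 24, 23], [3, 1, 4, 5, 3, 4, 2, 3, 4, 3, 1]), (18, [14, 16, 18, 17], [0, 3, 4, 2, 4, 3, 4, 5, 3, 4])], [], 0),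
  (1, 0, [], 0, [], [], 60),
  (0, 4, [2, 6, 4, 2, 6, 4, 6, 8, 10, 8, 6, 4, 2], 22, [(55, [], [0, 2, 4, 5, 3, 1, 4, 2, 3, 4]), (58, [], [0, 2, 4, 2, 5, 3, 4, 2, 4])], [], 0),
  (1, 0, [], 0, [], [], 62),
  (3, 4, [2, 4, 6, 4, 2, 0, 6, 4, 2, 6, 10, 10, 8, 6, 4, 12, 12, 3, 9, 9, 10, 7, 10, 13, 9, 10, 3, 5], 37, [(52, [], [3, 1, 5, 3, 4, 2, 3, 4, 2, 2])], [(53, [], [])], 0),
  (3, 4, [2, 6, 4, 2, 6, 4, 6, 8, 10, 8, 6, 4, 2], 37, [(28, [27, 35, 31, 35], [0, 2, 4, 3, 4, 2, 2, 3, 1, 5])], [(62, [], [])], 0),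
  (0, 1, [2, 10], 22, [(4, [], []), (46, [], [0, 5, 3, 1])], [], 0),
  (1, 0, [], 0, [], [], 64),
  (0, 4, [2], 22, [(47, [], [0, 1, 3, 1, 5, 3, 4, 2, 4]), (22, [20, 20, 20, 20, 20], [3, 0, 3, 4, 2, 4])], [], 0),
  (1, 0, [], 0, [], [], 66),
  (0, 4, [2, 10], 22, [(66, [], []), (31, [35, 36, 36], [1, 3, 4, 2, 5, 0, 3, 1, 4, 2])], [], 0),
  (1, 0, [], 0, [], [], 68),
  (0, 4, [6, 4, 2, 0, 6, 4, 2, 6, 10, 10], 8, [(25, [], [2, 3, 5]), (52, [], [2, 2, 4, 2, 3, 4, 2, 4, 3]), (24, [30, 36, 36], [1, 4, 2, 4, 3, 4, 5, 3, 4, 3])], [], 0),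
  (1, 0, [], 0, [], [], 70),
  (0, 3, [6, 11, 8, 13], 33, [(61, [26, 26, 32, 25, 32], [1, 3, 5, 3, 1, 3, 1, 4, 5, 3, 4, 2]), (25, [27, 36, 28, 35, 35], [2, 3, 1, 3, 4, 5, 0, 3]), (60, [35, 36, 36], [0, 3, 1, 4, 3, 1, 4, 2])], [], 0),
  (1, 0, [], 0, [], [], 72),
  (2, 0, [], 0, [], [], 0),
  (1, 0, [], 0, [], [], 74),
  (3, 1, [2, 6, 11], 37, [(74, [19], [0, 3, 0])], [(74, [], [])], 0),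
  (3, 1, [2, 6, 11], 37, [(74, [14, 17, 19, 17], [0, 3, 5, 3])], [(74, [], [])], 0),
  (0, 3, [10], 22, [(19, [], []), (74, [], [])], [], 0),
  (1, 0, [], 0, [], [], 76),
  (0, 5, [12, 10], 22, [(41, [], [2]), (74, [], [2, 2])], [], 0),
  (1, 0, [], 0, [], [], 78),
  (0, 6, [10], 22, [(75, [], []), (74, [16, 16], [2])], [], 0),
  (1, 0, [], 0, [], [], 80),
  (0, 6, [10, 10], 22, [(80, [], []), (79, [], [2, 3, 0, 3])], [], 0),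
  (1, 0, [], 0, [], [], 82),
  (0, 6, [12, 10], 22, [(75, [], [2]), (40, [16], [2])], [], 0),
  (1, 0, [], 0, [], [], 84),
  (2, 0, [], 0, [], [], 0),
  (1, 0, [], 0, [], [], 86),
  (3, 2, [6], 37, [(86, [20, 20, 20, 20, 21, 20, 20, 22], [0, 2, 2, 3, 0])], [(86, [], [])], 0),
  (3, 2, [6], 17, [(5, [], []), (4, [17, 14], [5]), (86, [23, 21, 21, 21], [1, 5, 3, 0, 1, 3])], [(86, [], [])], 0),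
  (0, 3, [6], 8, [(19, [], []), (4, [], [0, 3, 0, 1]), (86, [20, 20, 20, 20, 20, 21, 21, 21], [2, 2, 3, 0, 5, 3, 1, 3, 5])], [], 0),
  (1, 0, [], 0, [], [], 88),
  (3, 3, [6], 16, [(19, [], [1, 5]), (4, [17, 14], [5]), (86, [21, 21, 22, 23, 20, 23], [0, 2, 3, 5, 3, 1, 3])], [(88, [], [])], 0),
  (0, 4, [2, 6, 12, 10], 9, [(30, [36, 36], [2, 3, 1, 4, 3, 5, 0, 3, 1, 4, 2]), (60, [27, 29, 30], [3, 1, 4, 3, 1, 4, 5, 3, 1, 4, 3, 5]), (88, [32, 32], [1, 2, 4, 2, 5, 3, 0, 4, 2, 3, 1])], [], 0),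
  (1, 0, [], 0, [], [], 90),
  (0, 7, [2, 6], 15, [(87, [41, 39, 41], [1, 3, 1, 5]), (86, [21, 24, 24, 21, 24, 23], [1, 2, 2, 3, 1, 3, 5, 3, 1, 3]), (89, [], [5, 3, 1, 3, 1, 5, 3])], [], 0),
  (1, 0, [], 0, [], [], 92),
  (0, 7, [8, 6], 8, [(87, [], [1]), (86, [20, 20, 20, 20, 20, 21, 21, 21], [0, 1, 2, 2, 3, 0, 1]), (89, [], [1, 5, 3, 1, 3, 5])], [], 0),
  (1, 0, [], 0, [], [], 94),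
  (0, 7, [6, 10], 22, [(89, [], [0, 1, 2, 2, 3]), (72, [25, 25, 26, 25, 25], [0, 1, 2, 3, 0, 4])], [], 0),
  (1, 0, [], 0, [], [], 96),
  (0, 7, [2, 0, 6, 4, 2, 10, 8, 6, 10], 8, [(89, [], [0, 1, 2, 2, 3, 4, 5]), (61, [26, 25, 25], [0, 2, 4, 3, 1, 4, 2, 3, 4, 3, 4]), (60, [27, 28, 29], [0, 1, 2, 2, 4, 3, 4, 2, 2])], [], 0),
  (1, 0, [], 0, [], [], 98),
  (0, 7, [6, 8, 6, 4, 6, 11, 12], 22, [(96, [39, 39, 39, 39, 39], [0, 1, 3, 1, 4, 2, 4, 3, 4, 2, 3, 4]), (88, [32, 32], [2, 2, 3, 1, 3, 4, 5, 3, 1])], [], 0),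
  (1, 0, [], 0, [], [], 100),
  (2, 0, [], 0, [], [], 0),
  (1, 0, [], 0, [], [], 102),
  (3, 2, [6, 10], 37, [(102, [20, 20, 21, 20, 20, 22], [0, 3, 0])], [(102, [], [])], 0),
  (0, 8, [10], 22, [(103, [], []), (86, [], [])], [], 0),
  (1, 0, [], 0, [], [], 104),
  (0, 8, [10, 10], 22, [(104, [], []), (105, [39, 39, 39, 39, 39], [3, 0, 5, 3, 4, 2, 3, 5])], [], 0),
  (1, 0, [], 0, [], [], 106),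
  (0, 8, [2, 0, 6, 4, 2, 6], 14, [(103, [], []), (46, [20, 20, 23, 22, 23, 23], [0, 2, 5, 3, 4, 2, 2, 3, 1, 5]), (67, [27, 36, 28, 35], [2, 2, 3, 4, 3, 1, 5, 3, 4])], [], 0),
  (1, 0, [], 0, [], [], 108),
  (0, 8, [2, 0, 12, 11, 8, 6, 4, 2, 6, 10], 14, [(103, [], [4, 2, 4]), (86, [24, 24, 22, 20, 24, 21], [1, 2, 3, 4, 2, 3, 1, 5, 0, 3]), (87, [40], [0, 3, 1, 4, 2, 5, 3])], [], 0),
  (1, 0, [], 0, [], [], 110),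
  (0, 8, [2, 0, 10, 8, 12, 11, 8, 6, 4, 2, 6], 22, [(110, [], []), (86, [20, 21, 23, 23, 21, 24, 20], [2, 4, 2, 2, 3, 4, 2, 5])], [], 0),
  (1, 0, [], 0, [], [], 112),
  (0, 8, [2, 0, 12, 10, 8, 10, 8, 6, 4, 2, 6], 22, [(112, [], []), (105, [39, 39, 39, 39], [1, 3, 5, 0, 3, 1, 3, 4, 2, 3, 4, 3])], [], 0),
  (1, 0, [], 0, [], [], 114),
  (0, 7, [2, 0, 10, 8, 6, 4, 2, 0, 6, 4, 6], 22, [(91, [39, 39, 41, 39, 40, 41], [3, 1, 3, 4, 3, 1, 5, 3, 4]), (109, [27, 29, 30], [3, 4, 2, 2, 3, 1, 3, 5, 3, 4, 2])], [], 0),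
  (1, 0, [], 0, [], [], 116),
  (0, 8, [8, 6, 4, 6, 10, 8, 6, 10, 12, 10], 33, [(104, [], [2, 2, 4, 2, 3, 0, 1, 4, 2, 3]), (94, [], [0, 4, 3, 0, 4, 2, 4, 3, 4, 2]), (43, [25], [2, 3, 0, 4, 2, 5, 3, 1, 4])], [], 0),
  (1, 0, [], 0, [], [], 118),
  (0, 8, [4, 2, 0, 6, 4, 2, 8, 12, 11, 8, 6, 4, 11], 14, [(108, [], [4, 2, 3, 4, 2, 2, 3, 4, 2, 3, 4, 3]), (25, [30, 36, 36], [1, 3, 1, 4, 2, 4, 5, 3, 4, 2]), (47, [27, 35, 31], [0, 1, 4, 2, 2, 3, 1, 3, 4, 5, 3, 1, 3])], [], 0),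
  (1, 0, [], 0, [], [], 120),
  (3, 2, [6, 8, 6, 4, 2, 6, 4, 8, 11, 8, 10, 3, 1, 12, 7, 3, 5, 9, 12, 7, 9, 1], 37, [(102, [22, 24, 23, 21, 20], [0, 3, 1, 3, 4, 5])], [(111, [], [])], 0),
  (0, 5, [11, 8, 6, 10], 33, [(42, [], [0, 4, 2, 2, 3, 4, 3, 1, 4, 2, 3]), (99, [25, 25, 32, 32, 26, 25, 26], [1, 2, 2, 3, 4, 3]), (116, [39, 41, 39, 40, 41], [2, 2, 4, 2, 3, 5, 3, 4])], [], 0),
  (1, 0, [], 0, [], [], 122),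
  (0, 5, [2, 0, 6, 10, 8, 6, 4, 2, 6, 11], 16, [(122, [], [2, 4, 2, 2]), (103, [43, 43, 42, 43, 43, 43], [1, 2, 2, 4, 5, 3, 1, 3, 4, 5]), (86, [22, 23, 22, 23, 24], [2, 4, 2, 2, 5, 0, 3, 1, 3, 4, 2])], [], 0),
  (1, 0, [], 0, [], [], 124),
  (0, 6, [10, 8, 6, 11], 16, [(82, [], [2, 4, 2, 2, 5]), (119, [34, 33], [1, 2, 5, 3, 4, 2, 3, 1, 5, 3]), (103, [43, 43, 42, 43, 42], [4, 5, 3, 4, 2, 2, 3, 1, 3, 4])], [], 0),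
  (1, 0, [], 0, [], [], 126),
  (0, 6, [8, 6, 13, 11], 33, [(80, [], [2, 3, 0, 4, 2, 3, 1, 3]), (126, [], [0, 1, 2, 2, 3, 4, 3, 1, 4, 2]), (127, [23, 24, 23, 20, 24, 22, 24], [1, 2, 5, 0, 3, 1, 3, 4, 2, 5])], [], 0),
  (1, 0, [], 0, [], [], 128),
  (0, 6, [8, 10, 8, 6, 11], 33, [(81, [], [0, 3, 4, 3, 1, 4, 2, 3]), (126, [], [0, 1, 2, 3, 4, 3, 1, 4, 2, 3]), (127, [20, 20, 23, 23, 22, 20], [2, 5, 3, 0, 4, 2, 3, 1, 5])], [], 0),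
  (1, 0, [], 0, [], [], 130),
  (0, 6, [2, 0, 6, 4, 2, 11, 8, 6, 11], 14, [(126, [], [4]), (46, [24, 23, 21, 20], [2, 4, 2, 3, 4, 2, 3, 4, 2, 4]), (55, [], [4, 2, 3, 5, 3, 4, 2, 2, 3, 4])], [], 0),
  (1, 0, [], 0, [], [], 132),
  (0, 7, [10], 22, [(87, [], []), (127, [23, 24, 24, 22, 20], [4, 2, 2, 5, 3, 1, 3, 1, 4, 2, 5])], [], 0),
  (1, 0, [], 0, [], [], 134)]

def stepC1 : List (Nat × Nat × List Nat × Nat × List (Nat × List Nat × List Nat) × List (Nat × List Nat × List Nat) × Nat) := [(0, 7, [10, 8, 6, 10], 9, [(87, [], [4]), (127, [23, 22, 24, 24, 20, 22], [2, 4, 3, 5, 3, 1, 4, 3, 4, 5]), (82, [], [2, 5, 3, 1, 4, 3, 1, 4, 2, 5])], [], 0),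
  (1, 0, [], 0, [], [], 136),
  (0, 7, [0, 2, 11, 8, 6, 11], 15, [(136, [41, 39, 40, 41, 41], [0, 4, 3, 4, 2, 4, 3, 4, 2]), (83, [], [2, 3, 4, 2, 3, 4, 3, 1]), (128, [38], [1, 2, 2, 5, 3, 4, 3, 1, 5, 3])], [], 0),
  (1, 0, [], 0, [], [], 138),
  (0, 8, [6], 9, [(103, [], []), (102, [20, 20, 20, 21, 20, 21], [0, 1, 3, 0]), (123, [43, 43, 43, 42, 43, 43, 43, 43], [4, 3, 5, 3, 1, 4, 2, 3, 5])], [], 0),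
  (1, 0, [], 0, [], [], 140),
  (0, 8, [12, 10], 22, [(103, [], [2]), (127, [23, 24, 24, 22, 20], [4, 2, 2, 5, 3, 1, 3, 1, 4, 5])], [], 0),
  (1, 0, [], 0, [], [], 142),
  (0, 8, [12, 11, 8, 6], 14, [(103, [43, 43, 42, 43, 42], [1, 2, 4, 2, 2, 5, 3, 1, 4, 2]), (127, [22, 24, 24, 21, 24, 23], [0, 1, 2, 3, 4, 2, 3, 4, 2, 3, 4]), (82, [], [2, 2, 4, 5, 3, 1, 4, 2, 3, 1, 4])], [], 0),
  (1, 0, [], 0, [], [], 144),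
  (0, 8, [8, 6, 12, 10], 33, [(104, [], [0, 2, 4, 2, 2, 3, 4, 3, 1, 4, 2, 3]), (136, [39, 39, 39, 39], [0, 1, 3, 4, 3, 1, 4, 2]), (45, [], [2, 4, 3, 1, 4, 3, 1, 5, 3, 4])], [], 0),
  (1, 0, [], 0, [], [], 146),
  (0, 8, [8, 13, 10, 8, 6], 14, [(104, [43, 43, 42, 43, 42], [1, 4, 2, 5, 3, 4, 2]), (125, [39, 39, 40], [0, 3, 4, 3, 4, 5, 3, 1, 3, 5]), (122, [], [1, 2, 5, 3, 4, 2, 4, 3, 1, 4, 2, 5])], [], 0),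
  (1, 0, [], 0, [], [], 148),
  (0, 8, [13, 10, 8, 6, 10], 8, [(103, [], [2, 2, 4]), (127, [22, 20, 24, 22, 23, 24], [1, 3, 1, 4, 5, 3, 1, 3, 4, 2, 2, 5]), (82, [], [1, 4, 2, 3, 0, 4, 2, 2, 3, 4, 2])], [], 0),
  (1, 0, [], 0, [], [], 150),
  (0, 8, [12, 11, 8, 6, 11], 16, [(103, [], [1, 4, 2, 4, 5]), (102, [20, 21, 23, 24, 22, 20, 24], [3, 5, 3, 1, 4, 2, 4, 3, 4, 2, 3]), (146, [42, 43, 43, 43, 43], [4, 2, 3, 0, 5, 3, 1])], [], 0),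
  (1, 0, [], 0, [], [], 152),
  (3, 8, [12, 11, 8, 6, 11], 22, [(149, [43, 43, 43, 42, 43, 43, 43, 43], [0, 4, 2, 4, 5, 3, 1, 3, 4, 2, 5]), (144, [], [0, 3, 4, 2, 3, 4, 3, 1, 4, 2, 3, 4])], [(152, [], [])], 0),
  (0, 8, [13, 10, 8, 6, 11], 8, [(142, [], [4, 2, 4]), (77, [], [0, 4, 2, 3, 4, 2, 2, 3, 4, 3, 4]), (61, [26, 32, 25, 32], [4, 3, 0, 5, 3, 4, 2, 3, 1, 4, 5])], [], 0),
  (1, 0, [], 0, [], [], 154),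
  (0, 3, [2, 4, 11, 8, 6, 4, 2, 6, 10], 15, [(19, [], [1, 2, 4, 2, 2, 5]), (40, [16, 17, 15, 18, 16, 17], [0, 4, 2, 4, 5, 3]), (141, [33, 33], [0, 1, 3, 4, 2, 2, 3, 1, 4, 2, 3, 1])], [], 0),
  (1, 0, [], 0, [], [], 156),
  (0, 5, [6, 4, 8, 6, 12], 8, [(141, [], [0, 1, 4, 2, 3, 1, 4, 3, 4, 2, 3, 4]), (154, [], [2, 4, 2, 3, 1, 3, 1, 4, 3]), (155, [27, 29, 31], [2, 5, 3, 1, 4, 3, 1, 5, 3, 4])], [], 0),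
  (1, 0, [], 0, [], [], 158),
  (0, 5, [2, 4, 2, 6, 4, 2, 6], 14, [(41, [], [0, 5]), (40, [14, 16, 17, 15, 18, 16, 19, 17, 18, 16, 18], [0, 3, 1, 5, 3, 1, 3, 5]), (158, [], [1, 2, 2, 3, 1, 5, 0])], [], 0),
  (1, 0, [], 0, [], [], 160),
  (0, 5, [4, 10, 8, 6, 11], 22, [(151, [], [2, 4, 3, 1, 3, 4, 3]), (154, [], [1, 4, 2, 3, 1, 3, 4, 2, 3, 1])], [], 0),
  (1, 0, [], 0, [], [], 162),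
  (0, 5, [2, 4, 8, 6, 4, 2, 0, 6], 9, [(141, [34], [3, 4, 3, 4, 2, 4, 3, 5, 3, 1, 3]), (108, [43, 43, 42, 43, 43, 43], [0, 2, 3, 5, 3, 4, 3, 5]), (66, [], [2, 2, 3, 1, 3, 4, 2, 5, 3])], [], 0),
  (1, 0, [], 0, [], [], 164),
  (0, 5, [11, 8, 11, 8, 6, 11, 8], 22, [(153, [34, 44], [0, 3, 4, 3, 1, 3, 4, 2, 2]), (148, [], [1, 3, 5, 3, 1, 3, 1, 4, 5])], [], 0),
  (1, 0, [], 0, [], [], 166),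
  (0, 5, [4, 2, 0, 11, 8, 6, 10, 8, 6, 4, 2, 10, 13], 22, [(166, [], [1, 3, 4, 2, 2, 5]), (152, [43, 43, 42, 43, 43, 43], [0, 1, 4, 3, 4, 2, 2, 3, 1, 5])], [], 0),
  (1, 0, [], 0, [], [], 168),
  (0, 5, [12, 11, 8, 6, 4, 10, 8, 6, 4, 2, 6, 4, 6, 8, 6, 1, 9, 10, 12, 10, 10, 5, 10, 13, 13, 11, 3, 10, 10], 15, [(83, [], [2, 2, 4, 3, 1, 4, 2, 3, 5, 0]), (126, [37, 38], [0, 3, 5, 3, 1, 4, 3, 5]), (102, [23, 24, 23, 21, 24], [2, 5, 0, 3, 1, 4, 3, 4])], [], 0),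
  (1, 0, [], 0, [], [], 170),
  (0, 5, [4, 2, 0, 6, 4, 2, 10, 8, 6, 4, 10, 13], 14, [(164, [33, 33], [0, 1, 4, 3, 1, 3, 4, 2, 2, 3]), (32, [], [4, 3, 0, 5, 3, 1, 4, 3, 4, 5]), (48, [], [1, 2, 3, 1, 4, 2, 3, 4, 3])], [], 0),
  (1, 0, [], 0, [], [], 172),
  (0, 6, [2, 0, 10, 8, 6, 4, 2, 13], 22, [(135, [], [4, 2, 4, 5, 3, 1, 4, 2, 4, 3, 1]), (134, [39, 39, 39, 39], [1, 2, 2, 5, 0, 3, 4, 2, 3])], [], 0),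
  (1, 0, [], 0, [], [], 174),
  (0, 6, [4, 10, 8, 6, 4, 10, 10, 8, 11], 22, [(174, [], [5, 3, 0, 4, 2]), (143, [], [2, 4, 2, 2, 3, 1, 3, 4, 2, 3])], [], 0),
  (1, 0, [], 0, [], [], 176),
  (0, 6, [4, 8, 11, 8, 6, 4, 6, 8, 11, 8, 6, 4, 13], 22, [(176, [], [0, 4, 2, 4, 3, 0, 4, 2]), (107, [], [0, 3, 4, 5, 3, 4, 2, 2, 3, 5])], [], 0),
  (1, 0, [], 0, [], [], 178),
  (0, 6, [0, 4, 10, 8, 10, 8, 6, 13], 9, [(82, [], [2, 3, 0, 3, 4, 2]), (151, [], [0, 2, 4, 3, 0, 1, 3, 4, 2, 3]), (152, [], [0, 1, 2, 3, 5, 3, 4, 2, 3, 5])], [], 0),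
  (1, 0, [], 0, [], [], 180),
  (0, 6, [2, 6, 11, 8, 6, 4, 2, 6, 4, 2, 6, 11, 13], 14, [(126, [], [0, 4, 2, 2, 5]), (86, [21, 24, 21, 22, 23, 23], [0, 1, 3, 1, 3, 4, 3]), (136, [39, 39, 39, 39], [0, 3, 5, 3, 4, 2, 2, 3, 1])], [], 0),
  (1, 0, [], 0, [], [], 182),
  (0, 6, [8, 10, 8, 6, 4, 2, 6, 11, 8, 6, 4, 2, 6, 4, 13, 13, 11, 1, 1, 3, 1, 10, 3, 13, 1], 14, [(75, [], [1, 4, 3, 1, 3, 5]), (18, [14, 16, 17, 18, 19, 17, 15], [2, 5, 3, 0, 4, 2, 3, 1, 5, 3]), (95, [], [1, 5, 0, 3, 4, 2, 3])], [], 0),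
  (1, 0, [], 0, [], [], 184),
  (0, 6, [2, 0, 6, 11, 8, 6, 4, 2, 6, 11, 12], 16, [(176, [], [0, 4, 2, 3, 4]), (144, [], [0, 1, 3, 4, 3, 1, 3, 4, 2]), (151, [33, 33], [1, 4, 3, 4, 5, 0, 3, 1, 3, 5])], [], 0),
  (1, 0, [], 0, [], [], 186),
  (0, 6, [2, 0, 10, 8, 6, 4, 2, 10, 8, 6, 12], 33, [(126, [], [0, 3, 1, 3, 5, 3, 4, 2, 3, 4, 3, 1]), (102, [20, 22, 23, 23, 20, 23], [2, 4, 2, 3, 4, 2, 4, 5, 0, 3, 4]), (107, [42, 43, 43, 42, 43, 42], [3, 0, 4, 2, 3, 4, 3, 1, 5, 3])], [], 0),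
  (1, 0, [], 0, [], [], 188),
  (0, 6, [0, 6, 4, 2, 6, 4, 10, 10, 8, 6, 4, 2, 6], 15, [(82, [], [3, 1, 5, 0]), (145, [34, 33], [4, 5, 3, 1, 3, 4, 5]), (107, [42, 43, 42, 43, 42], [1, 4, 2, 3, 1, 5, 0, 3, 4, 3])], [], 0),
  (1, 0, [], 0, [], [], 190),
  (0, 6, [4, 8, 10, 8, 6, 4, 2, 6, 11, 8, 6, 4, 11, 11], 15, [(126, [37, 38], [4, 3, 4, 5, 0, 3, 1, 3]), (102, [23, 24, 23, 21, 24], [0, 2, 3, 1, 4, 3, 4, 5, 3, 1, 4, 3]), (123, [43, 43, 43, 42, 43, 43, 43, 43], [4, 3, 1, 3, 1])], [], 0),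
  (1, 0, [], 0, [], [], 192),
  (0, 6, [6, 4, 11, 11, 8, 6, 4, 2, 6, 4, 8, 10, 8, 6, 4, 12, 5, 5, 1, 7, 12, 11, 12, 7, 3, 12, 10], 15, [(126, [], [4, 2, 3, 4, 3, 4, 5]), (102, [23, 23, 20, 23, 23, 24], [2, 2, 3, 5, 3, 1, 3, 1]), (123, [43, 43, 43, 42, 43, 43, 43, 43], [4, 3, 5, 0, 3, 4, 2, 2, 3, 5])], [], 0),
  (1, 0, [], 0, [], [], 194),
  (0, 7, [11, 8, 6, 11, 12], 8, [(87, [], [1, 2, 4]), (127, [20, 24, 24, 21, 21, 22], [0, 3, 1, 4, 5, 3, 1, 3, 4, 2, 5]), (180, [], [1, 2, 2, 5, 0, 3, 1, 4, 2, 3, 5])], [], 0),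
  (1, 0, [], 0, [], [], 196),
  (0, 7, [2, 4, 10, 8, 6, 4, 10, 12], 14, [(87, [41, 39, 41, 41, 39], [2, 3, 1, 4, 5, 3, 1, 3, 4, 2, 5]), (102, [24, 24, 23, 24, 24, 22], [1, 4, 2, 3, 4, 2, 2, 3, 1, 5, 3]), (152, [43, 42], [2, 2, 3, 0, 1, 4, 5, 3, 1, 4, 2])], [], 0),
  (1, 0, [], 0, [], [], 198),
  (0, 7, [4, 8, 6, 11, 8, 6, 4, 11], 14, [(87, [40, 39, 41, 39, 41], [0, 3, 4, 2, 3, 1, 3, 4, 2, 4, 5]), (102, [21, 20, 24, 21, 24, 20, 20], [0, 3, 4, 2, 3, 4, 3, 1, 4, 2, 5]), (177, [42, 43, 43, 42, 43, 42], [3, 1, 4, 2, 5, 3, 4, 3, 5])], [], 0),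
  (1, 0, [], 0, [], [], 200),
  (0, 8, [4, 8, 6, 11, 8, 12], 33, [(118, [], [0, 3, 4, 2, 2, 3, 4, 2, 3, 1]), (168, [33, 33], [4, 2, 2, 5, 3, 1, 4, 3, 4]), (122, [34, 44], [3, 1, 4, 5, 3, 1, 3, 4, 5])], [], 0),
  (1, 0, [], 0, [], [], 202),
  (0, 8, [0, 2, 0, 8, 6, 4, 2, 11, 11], 22, [(146, [], [2, 2, 5, 0]), (181, [44], [0, 1, 2, 4, 2, 2, 3, 1, 4, 2, 5])], [], 0),
  (1, 0, [], 0, [], [], 204),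
  (0, 8, [4, 8, 10, 8, 6, 4, 11, 12], 9, [(106, [], [0, 4, 2, 4, 3]), (167, [43, 43, 43, 42, 43, 43, 43, 43], [5, 0, 3, 1, 4, 2, 4, 3, 4, 2, 5]), (137, [], [1, 3, 4, 3, 1, 3, 4, 2, 3, 4, 2, 2])], [], 0),
  (1, 0, [], 0, [], [], 206),
  (0, 8, [0, 2, 0, 4, 2, 0, 8, 6, 4, 10, 12], 16, [(107, [], [2, 3, 4, 3, 5, 3, 1, 4, 2]), (104, [43, 43, 42, 43, 42], [1, 5, 3, 1, 4, 2, 3, 1, 4, 3]), (125, [39, 39, 39, 40, 41, 41], [1, 3, 1, 4, 3, 4, 2, 5, 3])], [], 0),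
  (1, 0, [], 0, [], [], 208),
  (0, 8, [2, 0, 4, 2, 6, 4, 12, 10, 8], 8, [(103, [43, 43, 42, 43, 42], [1, 2, 4, 2, 2, 5, 3, 4, 2, 3]), (102, [20, 21, 23, 24, 22, 20, 24], [2, 2, 4, 2, 3, 0, 5, 3, 4, 2, 2]), (152, [42, 43, 42], [1, 3, 1, 3, 5, 3, 4, 2, 3, 4])], [], 0),
  (1, 0, [], 0, [], [], 210),
  (3, 4, [2, 0, 4, 2, 13, 10, 8, 6, 4, 2, 6, 8, 11, 11, 8, 11, 7, 13, 7, 7, 3, 9, 5, 7, 9, 5, 11, 3, 11, 12, 3], 37, [(163, [30, 35, 36, 36], [4, 3, 4, 2, 4])], [(165, [], [])], 0),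
  (3, 3, [6, 11], 9, [(76, [], []), (205, [], [0, 2, 3, 4, 2, 4, 3, 4, 5]), (157, [43, 43, 43, 42, 43], [5, 3, 4, 2, 2, 3, 1, 3, 1, 5])], [(72, [], [1, 2])], 0),
  (0, 3, [10, 8, 6], 22, [(61, [26, 26, 32, 25, 32], [1, 3, 4, 2, 5, 0, 3, 1, 3, 4, 2, 5]), (163, [30], [2, 5, 3, 1, 4, 3, 1, 5, 3])], [], 0),
  (1, 0, [], 0, [], [], 212),
  (0, 3, [8, 10, 8, 6], 33, [(76, [25, 25], [2, 4, 2, 5, 3, 1, 4, 3]), (174, [37, 38], [1, 2, 4, 5, 3, 0, 4, 2, 3, 1]), (180, [], [0, 4, 3, 1, 3, 4, 2, 2, 3])], [], 0),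
  (1, 0, [], 0, [], [], 214),
  (0, 3, [11, 8, 6, 11], 9, [(19, [], [1, 2, 4, 2, 2]), (40, [15, 16, 18, 16], [0, 4, 2, 4, 3, 0]), (153, [33, 33, 44], [3, 5, 3, 4, 3, 4, 2, 5, 3, 4])], [], 0),
  (1, 0, [], 0, [], [], 216),
  (0, 3, [2, 10, 8, 6, 10], 9, [(95, [25, 32, 32], [0, 1, 2, 2, 3, 5, 3, 4]), (198, [39, 40, 39], [1, 3, 1, 5, 3, 4, 2, 4, 3, 5]), (153, [], [0, 2, 2, 3, 1, 4, 5, 3, 4, 3, 1])], [], 0),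
  (1, 0, [], 0, [], [], 218),
  (0, 3, [8, 11, 8, 6, 10], 8, [(43, [25], [3, 5, 0, 3, 4, 2, 3, 4]), (172, [45, 33, 44, 45], [2, 4, 2, 5, 3, 4, 3, 1, 5]), (109, [28, 30], [5, 3, 1, 3, 1, 4, 2, 4, 5])], [], 0),
  (1, 0, [], 0, [], [], 220),
  (0, 3, [0, 10, 8, 6, 4, 2, 6, 11], 15, [(95, [25, 32, 32], [0, 1, 2, 2, 3, 5, 3, 4]), (198, [39, 41, 39, 41, 41], [1, 4, 3, 0, 1, 4, 2, 4, 3, 4]), (160, [34], [1, 4, 3, 4, 3, 1, 3, 5])], [], 0),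
  (1, 0, [], 0, [], [], 222),
  (0, 3, [0, 11, 8, 6, 4, 2, 6, 10], 17, [(218, [25, 26], [2, 2, 3, 5, 0]), (217, [43, 42, 43, 43, 42], [1, 3, 5, 0, 3, 1, 3]), (216, [25, 25, 26, 26, 32, 25, 32], [2, 2, 3, 0, 1, 4, 3, 4, 2, 5])], [], 0),
  (1, 0, [], 0, [], [], 224),
  (0, 3, [4, 10, 8, 6, 11, 8, 6, 4, 2, 6], 8, [(95, [25, 26, 25, 46, 46, 26], [0, 1, 4, 2, 3, 0, 4, 2, 3, 1]), (200, [39, 39, 39, 39], [4, 3, 1, 3, 4]), (129, [], [2, 5, 3, 4, 3, 1, 5])], [], 0),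
  (1, 0, [], 0, [], [], 226),
  (0, 4, [2, 6, 10], 8, [(47, [], [0, 1, 3, 1, 5, 3, 4, 2, 4]), (102, [21, 20, 20], [1, 2, 2]), (123, [43, 43, 43, 42, 43, 43, 43, 43], [3, 4, 2, 4, 3, 1, 3, 1, 4, 2])], [], 0),
  (1, 0, [], 0, [], [], 228),
  (0, 4, [6, 12, 10], 8, [(48, [], [0, 4, 5]), (173, [27, 28, 30], [0, 2, 3, 4, 3, 1, 4, 2, 3]), (119, [45, 34, 33], [0, 2, 4, 2, 2, 3, 4, 3, 1])], [], 0),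
  (1, 0, [], 0, [], [], 230),
  (0, 4, [6, 4, 2, 6], 14, [(65, [36, 36], [1, 2, 2, 4, 3, 4, 3, 5, 3, 4, 3]), (18, [16, 19, 14, 17, 18], [2, 3, 4, 2, 2, 3, 1]), (216, [25, 26, 25, 26], [0, 1, 2, 2, 4, 3, 4, 2, 2, 5])], [], 0),
  (1, 0, [], 0, [], [], 232),
  (0, 4, [6, 4, 2, 6, 12, 10], 14, [(47, [30, 36, 36], [4, 2, 2, 5, 3, 4, 2, 3, 4, 3]), (86, [22, 24, 21, 21, 23, 24], [2, 5, 0, 3, 4, 2, 3, 1, 3]), (138, [39, 40, 41, 39, 41, 41], [5, 3, 4, 2, 3, 1, 3, 4, 2, 3])], [], 0),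
  (1, 0, [], 0, [], [], 234),
  (0, 4, [2, 0, 6, 4, 2, 8, 6], 14, [(155, [27, 28, 36, 35, 36], [4, 2, 2, 5, 3, 1, 3, 4, 2, 5]), (233, [42, 43, 43, 42, 43, 43, 43, 43], [0, 1, 3, 5]), (155, [35, 36, 28, 36], [2, 3, 4, 5, 3, 4, 2, 2, 3, 1, 3])], [], 0),
  (1, 0, [], 0, [], [], 236),
  (0, 4, [2, 0, 6, 4, 2, 12, 11, 8, 6], 15, [(163, [30, 36, 36, 35], [0, 1, 3, 4, 2, 2, 3, 1, 3, 4, 2]), (166, [], [0, 2, 4, 3, 1, 3, 4, 2, 3, 4, 2]), (179, [42, 43, 43, 42, 43, 43, 42], [3, 4, 3, 1, 4, 5, 3, 4, 3])], [], 0),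
  (1, 0, [], 0, [], [], 238),
  (0, 5, [2, 6], 17, [(166, [45, 33, 44, 45], [2, 4, 3, 4, 2, 4, 5, 0, 3, 1]), (219, [43, 42], [1, 3, 1, 5, 0, 3]), (222, [25, 25, 26, 32, 26], [1, 3, 0, 3])], [], 0),
  (1, 0, [], 0, [], [], 240),
  (0, 5, [6, 10], 33, [(44, [], [0, 1, 2, 2, 3, 4, 3, 1, 4, 2, 3]), (141, [33, 33], [4, 2, 2, 3, 4, 2, 5, 3, 4, 3, 1, 5]), (203, [43, 43, 43, 42, 43, 43, 43, 43], [3, 4, 2, 4, 3])], [], 0),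
  (1, 0, [], 0, [], [], 242),
  (0, 5, [0, 2, 6], 9, [(229, [33, 45, 44], [2, 3, 5, 0, 3, 4, 2, 2]), (234, [27, 28, 30, 36], [0, 2, 5, 3, 1, 3, 5]), (139, [], [1, 2, 2, 3, 1, 4, 3, 4, 2, 5])], [], 0),
  (1, 0, [], 0, [], [], 244),
  (0, 5, [0, 2, 10], 22, [(229, [33, 45, 44], [2, 3, 5, 0, 3, 4, 2, 2]), (109, [27, 29, 30], [1, 2, 4, 3, 1, 4, 2, 5, 3, 4])], [], 0),
  (1, 0, [], 0, [], [], 246),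
  (0, 5, [4, 2, 6], 15, [(244, [], []), (138, [], [0, 1, 2, 2, 4, 3, 1, 4, 2, 3, 5]), (176, [], [4, 2, 2, 5, 0, 3, 1])], [], 0),
  (1, 0, [], 0, [], [], 248),
  (0, 5, [0, 2, 10, 10], 22, [(246, [], []), (117, [], [0, 2, 4, 2, 2, 3, 1, 3, 1, 4, 2])], [], 0),
  (1, 0, [], 0, [], [], 250),
  (0, 5, [8, 11, 8, 6], 9, [(45, [], [0, 2, 4, 3, 4, 3, 5, 3, 1, 4]), (169, [44], [0, 1, 2, 2, 3, 4, 2, 3, 4, 5]), (158, [], [4, 2, 4, 5, 3, 1, 4, 3, 1, 5])], [], 0),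
  (1, 0, [], 0, [], [], 252),
  (0, 5, [8, 10, 8, 6], 22, [(215, [34, 44], [3, 4, 3, 5, 0, 3, 1, 4, 3, 5]), (226, [46, 25, 26, 25], [2, 5, 3, 1, 4, 2, 3, 1, 5])], [], 0),
  (1, 0, [], 0, [], [], 254),
  (0, 5, [12, 10, 8, 6], 22, [(172, [44, 45, 45], [0, 1, 3, 1, 3, 4, 3, 4, 2, 4]), (228, [28], [1, 5, 3, 1, 3, 4, 5, 3])], [], 0),
  (1, 0, [], 0, [], [], 256),
  (0, 5, [8, 6, 13, 11], 22, [(181, [34, 44], [1, 5, 3, 4, 3, 1, 4, 5, 3]), (131, [], [2, 3, 5, 3, 4, 3, 1, 5, 3])], [], 0),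
  (1, 0, [], 0, [], [], 258),
  (0, 5, [0, 6, 4, 2, 6], 8, [(240, [], [5]), (223, [], []), (218, [], [5])], [], 0),
  (1, 0, [], 0, [], [], 260),
  (0, 5, [2, 11, 11, 8, 6], 8, [(145, [45, 45, 33], [2, 3, 1, 4, 3, 4, 2, 5, 3, 1]), (107, [43, 42, 43, 42], [3, 1, 3, 4, 2, 3, 1, 4, 2, 5]), (187, [42, 43], [1, 4, 2, 4, 5, 3, 0, 4, 2, 2, 3, 5])], [], 0),
  (1, 0, [], 0, [], [], 262),
  (0, 5, [2, 12, 11, 8, 6], 9, [(153, [33, 45, 45], [2, 3, 4, 3, 5, 3, 4, 2, 4]), (187, [], [1, 4, 3, 1, 4, 5, 3, 1, 3, 5]), (176, [], [0, 1, 2, 4, 3, 5, 3, 1, 4, 3])], [], 0),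
  (1, 0, [], 0, [], [], 264),
  (0, 5, [2, 11, 8, 6, 11], 33, [(153, [33, 45, 45], [5, 3, 1, 3, 4, 3, 4, 2, 4, 3, 4]), (107, [42, 43, 42, 43, 42], [2, 2, 3, 5, 0, 3, 4, 2, 4, 3]), (265, [42, 43, 43, 42, 43, 42], [4, 2, 3, 0, 1])], [], 0),
  (1, 0, [], 0, [], [], 266),
  (0, 5, [8, 12, 10, 8, 6], 8, [(78, [], [2, 4, 2, 2]), (201, [], [1, 4, 2, 2, 3, 4, 3]), (134, [39, 39, 39, 39, 39], [3, 4, 2, 5, 3, 4, 2, 4, 3, 1, 5])], [], 0),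
  (1, 0, [], 0, [], [], 268),
  (0, 5, [11, 11, 8, 6, 10], 22, [(197, [34, 44], [1, 3, 0, 4, 2, 2, 3, 4, 2, 3, 4, 2]), (200, [39, 39, 39, 39], [3, 4, 2, 3, 1, 4, 2, 3, 1, 4, 3])], [], 0),
  (1, 0, [], 0, [], [], 270),
  (0, 5, [10, 8, 6, 13, 10], 9, [(45, [], [0, 2, 4, 3, 4, 2, 2, 3, 5, 3, 4]), (162, [34], [4, 3, 5, 0, 3, 1, 3, 4, 5]), (155, [27, 28, 29], [0, 3, 1, 3, 1, 4, 2, 3, 1, 4])], [], 0),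
  (1, 0, [], 0, [], [], 272),
  (0, 5, [11, 8, 6, 12, 11], 15, [(137, [34], [1, 2, 3, 0, 4, 2, 3, 4, 2, 3, 4]), (87, [], [2, 2, 5, 3, 1, 4, 2, 3, 4, 5, 3]), (102, [22, 23, 23, 21, 24], [4, 3, 0, 1, 4, 3, 5])], [], 0),
  (1, 0, [], 0, [], [], 274),
  (0, 5, [0, 4, 2, 6, 12, 10], 8, [(153, [33, 45, 45], [2, 3, 4, 5, 3, 1, 4, 2, 4]), (219, [42], [3, 1, 4, 5, 3, 1, 3, 4, 5]), (218, [26, 25, 25], [1, 2, 2, 3, 5, 3, 4, 2, 4, 3, 5])], [], 0),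
  (1, 0, [], 0, [], [], 276),
  (0, 5, [2, 10, 8, 10, 8, 6], 9, [(169, [33, 45, 45], [0, 1, 2, 4, 2, 2, 3, 4]), (209, [33, 45, 34], [3, 4, 2, 4, 5, 0, 3, 1, 4, 3, 5]), (189, [42], [5, 3, 1, 4, 3, 4, 2, 5, 3])], [], 0),
  (1, 0, [], 0, [], [], 278),
  (0, 5, [2, 13, 11, 8, 6, 10], 9, [(153, [33, 45, 45], [2, 3, 4, 2, 2, 3, 5, 3]), (103, [42, 43, 42, 43, 42], [1, 2, 2, 4, 2, 5, 3, 0, 1, 4, 3]), (86, [20, 24, 24, 21, 21, 22], [1, 4, 2, 5, 0, 3, 4, 2, 2, 3, 1])], [], 0),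
  (1, 0, [], 0, [], [], 280),
  (0, 5, [2, 13, 10, 8, 6, 10], 17, [(166, [45, 33, 44, 45], [3, 4, 2, 3, 1, 3, 4, 5, 0, 3]), (241, [43, 43, 42, 43, 43, 42], [0, 1, 2]), (122, [33, 45, 34], [2, 3, 4, 2, 5, 3, 4, 2, 3, 1, 3])], [], 0),
  (1, 0, [], 0, [], [], 282),
  (0, 5, [0, 2, 11, 8, 6, 13, 11], 9, [(246, [], [1, 4, 2, 2]), (223, [43, 43, 43], [3, 4, 5, 3, 1, 4, 3, 1]), (216, [25], [1, 5, 3, 4, 2, 3, 4, 3, 1, 4, 5])], [], 0),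
  (1, 0, [], 0, [], [], 284),
  (0, 5, [0, 6, 4, 2, 10, 8, 6, 10], 16, [(240, [], [1, 4]), (103, [43, 43, 42, 43, 43, 43, 43], [1, 4, 3, 0, 4, 2, 2, 5, 3]), (86, [22, 20, 20, 24, 20, 20], [0, 3, 4, 5, 3, 1, 4, 2, 3, 1, 5, 3])], [], 0),
  (1, 0, [], 0, [], [], 286),
  (0, 5, [0, 4, 2, 13, 11, 8, 6, 10], 14, [(280, [], []), (196, [], [1, 2, 2, 3, 4, 5, 3, 1, 3, 1, 4, 5]), (153, [], [0, 2, 3, 1, 5, 3, 4, 2, 4, 3, 1])], [], 0),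
  (1, 0, [], 0, [], [], 288),
  (0, 5, [0, 4, 2, 11, 8, 6, 12, 11], 9, [(153, [33, 45, 45], [2, 3, 4, 2, 5, 3, 1]), (289, [42], [2, 4, 3, 4, 2, 2]), (153, [33, 45, 45], [2, 2, 3, 5, 0, 3, 1, 4, 2, 3, 4])], [], 0),
  (1, 0, [], 0, [], [], 290),
  (0, 5, [0, 11, 11, 8, 6, 4, 2, 6, 11], 22, [(170, [], [2, 2, 5, 3, 1, 4, 2]), (237, [43, 43, 43, 42], [2, 2, 3, 0, 5, 3, 1, 3, 4, 2, 3, 4])], [], 0)]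

def stepC2 : List (Nat × Nat × List Nat × Nat × List (Nat × List Nat × List Nat) × List (Nat × List Nat × List Nat) × Nat) := [(1, 0, [], 0, [], [], 292),
  (0, 5, [0, 11, 8, 6, 4, 2, 6, 12, 10], 14, [(153, [33, 45, 45], [2, 3, 4, 2, 3, 5, 3, 1]), (150, [42, 43, 42, 43, 42], [0, 1, 3, 4, 2, 3, 4, 2, 3, 4, 3]), (137, [], [0, 2, 5, 3, 1, 4, 2, 3])], [], 0),
  (1, 0, [], 0, [], [], 294),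
  (0, 5, [0, 6, 4, 2, 8, 11, 8, 6, 11], 17, [(240, [], [2, 4, 2, 2, 5]), (219, [43, 43, 43, 43, 42, 43, 43, 43], [2, 3, 5, 3, 1, 3, 4, 3, 1]), (224, [26, 46, 32], [1, 3, 1, 4, 2, 3, 5, 0, 3, 1, 4])], [], 0),
  (1, 0, [], 0, [], [], 296),
  (0, 5, [0, 6, 4, 2, 11, 8, 6, 12, 11], 15, [(262, [34], [0, 2, 3, 0, 4]), (126, [], [0, 2, 2, 3, 4, 2, 4, 3, 4, 5, 3, 4]), (102, [21, 20, 23, 20, 22, 20, 20], [2, 3, 1, 4, 3, 5, 3, 4, 3])], [], 0),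
  (1, 0, [], 0, [], [], 298),
  (0, 5, [2, 4, 6, 4, 2, 13, 10, 8, 6, 10], 15, [(151, [34], [2, 4, 2, 2, 3, 1, 3, 1]), (157, [43, 43, 43, 42, 43], [1, 2, 4, 2, 2, 3, 5, 3, 1]), (224, [25, 32, 25, 46], [2, 3, 1, 4, 2, 5, 0, 3, 4, 2, 4])], [], 0),
  (1, 0, [], 0, [], [], 300),
  (0, 5, [2, 4, 6, 4, 2, 13, 11, 8, 6, 10], 14, [(153, [44], [0, 3, 4, 3, 1, 3, 1, 4, 2]), (210, [42, 43, 43, 42, 43, 42], [0, 4, 2, 3, 4, 2, 4, 3, 1, 4, 3, 4]), (280, [33, 33, 45], [4, 3, 4, 3, 5])], [], 0),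
  (1, 0, [], 0, [], [], 302),
  (0, 6, [6], 16, [(75, [], [1, 5]), (64, [17, 14], [5]), (234, [29, 30, 31], [2, 5])], [], 0),
  (1, 0, [], 0, [], [], 304),
  (0, 6, [8, 6], 8, [(75, [], [1]), (74, [18], [0, 1, 3, 0, 1]), (304, [], [3, 0, 5, 3, 1, 3, 5])], [], 0),
  (1, 0, [], 0, [], [], 306),
  (0, 6, [8, 6, 11], 22, [(128, [], [2]), (227, [], [3, 4, 2, 3, 4, 2])], [], 0),
  (1, 0, [], 0, [], [], 308),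
  (0, 6, [6, 11, 11], 9, [(82, [], []), (145, [33, 33], [2, 2, 4, 3, 4, 2]), (177, [], [0, 3, 5, 3, 4, 3, 4, 2, 5, 3, 4])], [], 0),
  (1, 0, [], 0, [], [], 310),
  (0, 6, [6, 12, 11], 8, [(84, [], []), (242, [45, 34], [0, 2, 2, 4, 3, 4, 2, 3, 1, 5, 3]), (179, [43, 43, 43, 42, 43, 43, 43, 43], [3, 0, 4, 2, 3, 4, 2, 2, 3, 1])], [], 0),
  (1, 0, [], 0, [], [], 312),
  (0, 6, [8, 11, 8, 6], 9, [(77, [], [1, 4]), (214, [], [0, 3, 0]), (158, [34, 44], [0, 2, 4, 2, 3, 0, 4, 3, 1])], [], 0),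
  (1, 0, [], 0, [], [], 314),
  (0, 6, [12, 11, 8, 6], 8, [(79, [], [1]), (256, [], [0, 3, 0, 1]), (242, [45, 33, 45, 34], [1, 2, 2, 3, 5, 0, 3, 4, 2, 3, 4])], [], 0),
  (1, 0, [], 0, [], [], 316),
  (0, 6, [8, 10, 8, 6], 9, [(80, [], [2, 4, 2, 2]), (178, [], [0, 4, 3, 4, 3]), (159, [], [1, 2, 3, 0, 4, 2, 3, 4, 2, 3, 1])], [], 0),
  (1, 0, [], 0, [], [], 318),
  (0, 6, [10, 10, 8, 6], 8, [(82, [], [1]), (145, [33, 33], [2, 2, 4, 3, 1, 4, 2]), (243, [], [1, 3, 4, 2, 4, 3, 1, 3, 1])], [], 0),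
  (1, 0, [], 0, [], [], 320),
  (0, 6, [12, 10, 8, 6], 8, [(84, [], [1]), (197, [34, 44], [2, 2, 3, 5, 3, 1, 4, 3, 4, 2, 5]), (96, [39, 39, 39, 39, 39], [0, 1, 2, 2, 3, 1, 4, 3, 1])], [], 0),
  (1, 0, [], 0, [], [], 322),
  (0, 6, [8, 6, 13, 10], 8, [(81, [], [4]), (318, [], [0, 3, 0, 1]), (151, [], [4, 2, 2, 3, 0, 4])], [], 0),
  (1, 0, [], 0, [], [], 324),
  (0, 6, [8, 10, 8, 6, 10], 8, [(75, [], [1, 4]), (40, [15, 18, 16, 18], [0, 2, 2, 4, 3, 0, 1]), (153, [33, 33, 44], [1, 4, 2, 3, 1, 3, 4, 2, 2])], [], 0),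
  (1, 0, [], 0, [], [], 326),
  (0, 6, [8, 12, 11, 8, 6], 9, [(79, [], [1, 4]), (268, [], [0, 3, 0]), (306, [], [0, 1, 3, 0, 4, 2, 3, 4, 3, 1])], [], 0),
  (1, 0, [], 0, [], [], 328),
  (0, 6, [8, 11, 8, 6, 10], 9, [(81, [], [4, 2, 4]), (129, [], [3, 4, 5, 3, 1, 4, 2, 3, 5]), (326, [], [0, 3, 1, 5, 3, 1, 4, 2, 3, 4, 5])], [], 0),
  (1, 0, [], 0, [], [], 330),
  (0, 6, [10, 10, 8, 6, 10], 22, [(320, [], []), (256, [], [2, 4, 3, 0, 5, 3, 4, 3, 1, 5])], [], 0),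
  (1, 0, [], 0, [], [], 332),
  (0, 6, [13, 10, 8, 6, 10], 22, [(320, [], [2, 2]), (137, [], [0, 1, 4, 2, 2, 3, 1, 4, 3, 1])], [], 0),
  (1, 0, [], 0, [], [], 334),
  (0, 6, [11, 11, 8, 6, 11], 8, [(77, [], [1, 2, 4, 2, 2]), (226, [25, 32, 46, 46, 25, 32], [1, 2, 3, 0, 4, 2, 3, 4, 2, 2, 3, 4]), (143, [], [2, 3, 1, 4, 5, 3, 4, 2, 3, 4, 5])], [], 0),
  (1, 0, [], 0, [], [], 336),
  (0, 6, [12, 11, 8, 6, 11], 22, [(255, [], [0, 4, 2, 4, 5, 3, 1, 3, 4, 2, 5]), (197, [34, 44], [3, 5, 0, 3, 1, 3, 4, 2, 2, 5])], [], 0),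
  (1, 0, [], 0, [], [], 338),
  (0, 6, [12, 10, 8, 6, 11], 8, [(80, [], [4, 2, 4]), (330, [], [1, 2]), (231, [], [1, 3, 0, 4, 2, 5, 3, 1, 3, 4, 5])], [], 0),
  (1, 0, [], 0, [], [], 340),
  (0, 6, [11, 8, 6, 12, 11], 8, [(79, [], [1, 2, 4, 2, 2]), (168, [], [0, 2, 2, 4, 5]), (272, [34, 44], [0, 1, 2, 4, 2, 2, 3, 4, 2, 3, 1, 4])], [], 0),
  (1, 0, [], 0, [], [], 342),
  (0, 6, [8, 10, 8, 10, 8, 6], 8, [(82, [], [2, 2, 4, 2]), (119, [33], [1, 2, 5, 0, 3, 4, 2, 3, 5]), (275, [43, 42, 43, 42], [1, 3, 0, 4, 2, 5, 3, 1, 3, 4, 5])], [], 0),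
  (1, 0, [], 0, [], [], 344),
  (0, 6, [0, 8, 6, 4, 2, 6, 10], 22, [(307, [37], [1, 2, 3, 5, 0, 3, 4]), (128, [], [3, 0, 4, 5, 3, 1])], [], 0),
  (1, 0, [], 0, [], [], 346),
  (0, 6, [2, 0, 6, 4, 2, 10, 8, 6], 15, [(205, [], [0, 2, 3, 4, 2, 4, 3, 1, 4, 5]), (243, [43, 43, 42, 43, 43, 43], [1, 2, 2, 4, 5, 3, 4, 2]), (181, [45, 44], [2, 3, 0, 1, 3, 4, 2, 5, 3, 1, 3, 5])], [], 0),
  (1, 0, [], 0, [], [], 348),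
  (0, 6, [0, 8, 6, 4, 2, 6, 13, 10], 22, [(307, [37], [1, 2, 3, 5, 0, 3, 4, 2, 2]), (308, [], [3, 0, 4, 2, 2, 5, 3, 4, 2, 4])], [], 0),
  (1, 0, [], 0, [], [], 350),
  (0, 6, [0, 8, 6, 4, 2, 6, 12, 10], 22, [(307, [37], [1, 2, 3, 5, 0, 3, 4, 2]), (271, [], [1, 4, 3, 5, 0, 3, 4, 2, 4])], [], 0),
  (1, 0, [], 0, [], [], 352),
  (0, 6, [4, 2, 0, 6, 4, 2, 10, 8, 6], 15, [(205, [], [0, 2, 3, 4, 2, 4, 3, 4, 5, 3, 1]), (243, [43, 43, 42, 43, 43, 43], [2, 2, 3, 1, 3, 1, 4, 5, 3, 4, 2]), (272, [45, 34], [1, 4, 2, 3, 4, 3, 4, 2, 4, 3, 1])], [], 0),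
  (1, 0, [], 0, [], [], 354),
  (0, 6, [2, 0, 6, 4, 2, 12, 10, 8, 6], 15, [(316, [], [1]), (243, [], [3, 0, 4, 2, 2, 3, 4, 2, 3, 1, 5]), (270, [], [1, 2, 2, 3, 4, 2, 3, 1, 3, 4])], [], 0),
  (1, 0, [], 0, [], [], 356),
  (0, 6, [2, 0, 6, 4, 2, 11, 8, 6, 10], 15, [(176, [], [0, 4, 2, 2, 3, 4, 2, 4]), (243, [], [3, 4, 2, 2, 3, 1, 3, 4, 2, 4]), (181, [45, 44], [0, 1, 2, 3, 1, 3, 4, 2, 3, 1])], [], 0),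
  (1, 0, [], 0, [], [], 358),
  (0, 6, [2, 4, 6, 11, 8, 6, 4, 2, 6], 14, [(308, [37, 38], [0, 5, 3, 4, 3, 1, 5]), (95, [46, 25, 46], [0, 1, 4, 2, 5, 3, 4, 2, 2, 3, 1]), (185, [39, 39, 39, 39], [0, 1, 4, 3, 4, 3, 5, 3, 4, 3])], [], 0),
  (1, 0, [], 0, [], [], 360),
  (0, 6, [2, 4, 6, 4, 2, 10, 8, 6, 10], 14, [(330, [37, 38], [0, 1, 2, 2, 3, 1, 3, 4, 2, 3, 4]), (223, [43, 43, 43, 42, 43], [1, 4, 2, 2, 3, 4, 5, 3, 4, 3]), (216, [25], [0, 1, 2, 2, 4, 3, 1, 3, 5, 3, 4])], [], 0),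
  (1, 0, [], 0, [], [], 362),
  (0, 6, [4, 2, 0, 6, 10, 8, 6, 4, 2, 6], 16, [(205, [], [0, 2, 3, 4, 2, 4, 3, 4, 5, 3]), (157, [43, 43, 43, 42, 43], [0, 3, 5, 3, 4, 2, 2, 3, 1, 3]), (61, [25, 26], [5, 3, 4, 2, 3, 1, 3, 1])], [], 0),
  (1, 0, [], 0, [], [], 364),
  (0, 6, [2, 0, 6, 11, 11, 8, 6, 4, 2, 6], 15, [(310, [], [1]), (314, [], [3, 0, 1, 3, 4, 2, 3, 4, 2, 3]), (203, [42, 43, 43, 43, 42, 43, 43, 42], [2, 4, 5, 3, 0, 4, 2, 4, 3, 1])], [], 0),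
  (1, 0, [], 0, [], [], 366),
  (0, 6, [2, 0, 6, 12, 11, 8, 6, 4, 2, 6], 9, [(322, [], [1, 5]), (224, [25, 25, 32, 46, 46], [1, 2, 3, 1, 4, 3, 4, 2, 2, 3, 5, 3]), (283, [42, 43, 43, 43, 42, 43], [2, 2, 4, 2, 5, 3, 4, 3, 4, 2, 4])], [], 0),
  (1, 0, [], 0, [], [], 368),
  (0, 6, [2, 0, 6, 11, 8, 6, 4, 2, 6, 10], 8, [(126, [], [4, 5]), (102, [20, 24, 21, 23, 20, 23, 21], [0, 2, 4, 2, 2, 3, 4, 3, 5]), (241, [42, 43, 43, 42, 43, 43, 43, 43], [1, 2, 3, 5, 0, 3, 1, 4, 3, 4, 5])], [], 0),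
  (1, 0, [], 0, [], [], 370),
  (0, 6, [4, 2, 0, 6, 4, 2, 12, 10, 8, 6], 15, [(316, [], [3, 1]), (243, [], [3, 4, 2, 2, 3, 1, 4, 2, 3, 1, 5]), (151, [], [4, 2, 5, 3, 1, 3, 1, 5])], [], 0),
  (1, 0, [], 0, [], [], 372),
  (0, 6, [4, 2, 0, 6, 4, 2, 11, 11, 8, 6], 15, [(320, [], [3, 1]), (242, [], [0, 2, 2, 3, 4]), (107, [43, 43, 42, 43, 43, 43], [1, 4, 3, 4, 2, 3, 4, 3, 1, 4])], [], 0),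
  (1, 0, [], 0, [], [], 374),
  (0, 6, [4, 2, 0, 6, 4, 2, 12, 11, 8, 6], 8, [(312, [], [3, 1, 5]), (352, [38, 37], [1, 4, 2, 3, 1, 3, 4, 3, 5, 3]), (147, [34], [0, 1, 2, 3, 4, 2, 4, 5, 3, 1, 3, 5])], [], 0),
  (1, 0, [], 0, [], [], 376),
  (0, 6, [2, 0, 6, 4, 2, 11, 8, 11, 8, 6], 15, [(314, [], [2, 2, 4, 2]), (243, [43, 43, 43, 42, 43, 43, 43, 43], [2, 3, 5, 3, 1, 3, 4, 2, 2]), (270, [], [0, 2, 2, 3, 0, 4, 2, 4, 3])], [], 0),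
  (1, 0, [], 0, [], [], 378),
  (0, 6, [2, 0, 6, 4, 2, 8, 13, 11, 8, 6], 14, [(342, [], [4, 2]), (325, [43, 43, 43, 42, 43, 43, 43, 43], [1, 4, 3, 5, 0, 3, 1, 4, 3, 5]), (310, [], [2, 4, 3, 1, 3, 4, 2, 4, 5, 3, 1, 3])], [], 0),
  (1, 0, [], 0, [], [], 380),
  (0, 6, [2, 0, 6, 4, 2, 8, 12, 11, 8, 6], 14, [(336, [], [4, 2]), (343, [43, 43, 43, 42, 43, 43, 43, 43], [1, 2, 2, 3, 0, 4, 2, 3, 4, 2, 2, 3]), (310, [], [2, 2, 4, 2, 5, 0, 3, 4, 2, 2, 3])], [], 0),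
  (1, 0, [], 0, [], [], 382),
  (0, 6, [4, 2, 0, 6, 4, 2, 10, 8, 6, 10], 22, [(354, [], []), (108, [], [2, 3, 0, 4, 5, 3, 1, 3, 4, 2, 5])], [], 0),
  (1, 0, [], 0, [], [], 384),
  (0, 6, [4, 2, 0, 6, 4, 2, 11, 8, 6, 10], 15, [(176, [], [0, 2, 2, 4, 2]), (243, [], [0, 1, 2, 3, 1, 3, 4, 2, 2, 3, 4]), (257, [45, 33], [2, 5, 3, 4, 2, 2, 3, 1, 5])], [], 0),
  (1, 0, [], 0, [], [], 386),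
  (0, 6, [2, 0, 6, 4, 2, 13, 10, 8, 6, 10], 8, [(304, [], [2, 2, 4, 5]), (132, [38], [5, 3, 1, 4, 3, 4, 5, 3, 1, 4]), (133, [28, 29, 31], [1, 4, 2, 2, 5, 3, 0, 4, 2, 3, 4, 5])], [], 0),
  (1, 0, [], 0, [], [], 388),
  (0, 6, [2, 0, 6, 4, 2, 11, 11, 8, 6, 10], 14, [(332, [], [1, 2, 4, 2, 2]), (353, [45, 33, 45, 34], [5, 3, 1, 3, 4, 3, 1, 5]), (312, [37, 38], [1, 2, 4, 2, 2, 3, 1, 3, 5, 3])], [], 0),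
  (1, 0, [], 0, [], [], 390),
  (0, 6, [2, 0, 6, 4, 2, 13, 11, 8, 6, 10], 15, [(334, [], [1, 2, 4, 2, 2]), (96, [39, 39, 39, 39, 39], [2, 2, 3, 4, 3]), (309, [25, 32, 46, 46], [0, 2, 5, 3, 1, 3, 4, 5])], [], 0),
  (1, 0, [], 0, [], [], 392),
  (0, 6, [2, 0, 6, 4, 2, 8, 11, 8, 6, 10], 14, [(255, [], [0, 4, 2, 4, 5, 3, 1, 3, 5]), (353, [45, 33, 45, 34], [4, 2, 3, 4, 5, 3, 4, 2, 3]), (312, [37, 38], [0, 4, 2, 3, 1, 4, 3, 5, 3, 4])], [], 0),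
  (1, 0, [], 0, [], [], 394),
  (0, 6, [4, 2, 0, 6, 4, 2, 11, 8, 6, 11], 8, [(304, [], [2, 2, 3, 4, 2, 4, 5]), (340, [38], [1, 3, 4, 5, 3, 1, 4, 2, 3, 5]), (341, [27, 28, 29, 31], [0, 2, 3, 5, 3, 1, 3, 1, 4, 2, 5, 3])], [], 0),
  (1, 0, [], 0, [], [], 396),
  (0, 6, [2, 0, 6, 4, 2, 12, 10, 8, 6, 11], 15, [(338, [], [4]), (96, [39, 39, 39, 39], [3, 4, 2, 3]), (309, [25, 32, 46, 46], [4, 2, 2, 5, 3, 1, 3, 1, 4, 5])], [], 0),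
  (1, 0, [], 0, [], [], 398),
  (0, 6, [2, 0, 6, 4, 2, 12, 11, 8, 6, 11], 9, [(304, [], [4, 2, 4, 5]), (132, [38], [0, 2, 3, 4, 5, 3, 1, 3, 4, 5]), (54, [], [2, 3, 5, 3, 4, 3, 1, 4, 2, 4])], [], 0),
  (1, 0, [], 0, [], [], 400),
  (0, 6, [2, 0, 6, 4, 2, 10, 8, 6, 13, 11], 8, [(312, [], [4, 2, 4, 5]), (395, [], [2, 4, 2, 3, 4, 2, 3, 4, 3]), (383, [], [1, 3, 5, 3, 1, 4, 3, 5])], [], 0),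
  (1, 0, [], 0, [], [], 402),
  (0, 6, [2, 0, 6, 4, 2, 11, 8, 6, 13, 11], 14, [(135, [], [0, 1, 2, 3, 4, 3, 4, 2, 4, 3, 1, 4, 3]), (200, [41, 39, 40, 41], [1, 3, 0, 1, 4, 2, 3, 4, 3]), (312, [], [2, 4, 2, 3, 0, 4, 2, 3, 5])], [], 0),
  (1, 0, [], 0, [], [], 404),
  (0, 6, [2, 0, 6, 4, 2, 11, 8, 6, 12, 11], 8, [(312, [], [1, 2, 4, 2, 2, 5]), (391, [], [3, 0, 1]), (357, [], [2, 3, 1, 5, 3, 4, 2, 2, 3, 5])], [], 0),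
  (1, 0, [], 0, [], [], 406),
  (0, 6, [2, 0, 6, 4, 2, 8, 10, 8, 6, 11], 22, [(392, [], [2]), (378, [], [0, 2, 2, 4, 2, 3, 4, 2, 4, 3, 1])], [], 0),
  (1, 0, [], 0, [], [], 408),
  (0, 6, [0, 2, 4, 6, 11, 8, 6, 4, 2, 6], 16, [(318, [37, 38], [5, 3, 4, 3, 1, 5, 3, 1]), (158, [], [2, 2, 4, 2, 3, 4, 3, 1]), (177, [42, 43, 42, 43, 42], [4, 3, 0, 4, 5, 3, 1, 4, 3])], [], 0),
  (1, 0, [], 0, [], [], 410),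
  (0, 6, [2, 4, 6, 11, 11, 8, 6, 4, 2, 6], 17, [(227, [37, 38], [1, 2, 2, 5]), (61, [25, 25, 32, 26, 32, 25, 32], [1, 2, 5, 0, 3, 4, 2, 4, 3, 4, 2]), (385, [27, 36, 28, 35], [1, 2, 3, 0, 4, 2, 5])], [], 0),
  (1, 0, [], 0, [], [], 412),
  (0, 6, [2, 4, 6, 11, 8, 6, 4, 2, 6, 11], 8, [(326, [37, 38], [1, 4, 2, 4, 5, 3, 4, 2, 2, 3, 4]), (301, [43, 43, 42], [0, 3, 1, 3, 4, 5, 3, 1, 3]), (300, [34, 45, 45], [3, 4, 2, 3, 4, 2, 3, 4, 3])], [], 0),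
  (1, 0, [], 0, [], [], 414),
  (0, 6, [2, 4, 6, 10, 8, 6, 4, 2, 6, 10], 14, [(324, [37, 38], [1, 3, 1, 3, 4, 2, 3, 4, 3]), (233, [42, 43, 43, 42, 43, 43, 43, 43], [2, 4, 2, 2, 3, 0, 4, 5, 3, 4]), (155, [35, 36, 28, 36], [4, 2, 3, 4, 2, 5, 0, 3, 1, 4, 2])], [], 0),
  (1, 0, [], 0, [], [], 416),
  (0, 6, [8, 10, 8, 6, 4, 2, 10, 8, 6, 10], 22, [(361, [], [0, 5, 3, 1, 4, 3, 1, 5]), (414, [], [0, 5, 3, 1, 3, 4, 5])], [], 0),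
  (1, 0, [], 0, [], [], 418),
  (0, 6, [2, 4, 6, 4, 2, 12, 11, 8, 6, 10], 8, [(308, [37, 38], [0, 5, 3, 4, 2, 3, 4]), (218, [25, 25, 46, 46], [1, 4, 2, 2, 3, 4, 2, 3, 1, 4, 5, 3]), (261, [], [1, 2, 4, 3, 4, 2, 2])], [], 0),
  (1, 0, [], 0, [], [], 420),
  (0, 6, [2, 4, 6, 4, 2, 13, 10, 8, 6, 11], 17, [(201, [37, 38], [0, 2, 5, 3, 4, 2, 2, 3]), (245, [39, 40, 41, 41, 39], [4, 2, 3, 4, 2, 3, 4, 5, 3]), (193, [45, 34, 33, 45], [3, 1, 3, 1, 5, 3, 1])], [], 0),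
  (1, 0, [], 0, [], [], 422),
  (0, 6, [4, 2, 0, 6, 12, 11, 8, 6, 4, 2, 6], 15, [(312, [], [3, 1]), (178, [], [2, 2, 4, 3, 5, 3, 4, 2, 4, 3, 5]), (179, [43, 43, 42, 43, 42], [2, 4, 2, 2, 3, 0, 1, 5, 3, 4, 3])], [], 0),
  (1, 0, [], 0, [], [], 424),
  (0, 6, [2, 0, 10, 8, 6, 11, 8, 6, 4, 2, 6], 9, [(180, [], [2, 3, 1, 5, 0]), (302, [44, 44], [1, 4, 3, 1, 4, 2, 4, 3, 4, 2]), (281, [], [1, 2, 5, 3, 0, 1, 4, 3, 1])], [], 0),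
  (1, 0, [], 0, [], [], 426),
  (0, 6, [4, 2, 0, 6, 10, 8, 6, 4, 2, 6, 11], 15, [(304, [], [3, 4]), (384, [38], [0, 1, 2, 2, 3, 1, 3, 5, 3, 1, 3, 5]), (365, [28, 36, 28], [2, 2, 3, 4, 2, 3, 4, 2, 3, 5])], [], 0),
  (1, 0, [], 0, [], [], 428),
  (0, 6, [4, 2, 0, 6, 11, 8, 6, 4, 2, 6, 11], 14, [(310, [], [3, 4]), (320, [38], [0, 3, 4, 2, 3, 4, 2, 3, 1, 4]), (153, [33, 33, 44], [1, 2, 3, 1, 3, 5, 3, 1, 3, 4, 2])], [], 0),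
  (1, 0, [], 0, [], [], 430),
  (0, 6, [2, 0, 6, 8, 11, 8, 6, 4, 2, 6, 11], 14, [(310, [], [1, 2, 4, 2, 2]), (410, [38, 37], [1, 2, 2, 5, 3, 0, 4, 3, 1, 5]), (188, [], [1, 2, 4, 2, 3, 1, 5, 3, 4, 2, 4])], [], 0),
  (1, 0, [], 0, [], [], 432),
  (0, 6, [4, 2, 0, 6, 10, 8, 6, 4, 2, 6, 10], 22, [(364, [], []), (232, [31, 36, 36], [2, 4, 3, 0, 5, 3, 1, 3, 4, 2])], [], 0),
  (1, 0, [], 0, [], [], 434),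
  (0, 6, [2, 0, 6, 11, 8, 6, 4, 2, 6, 12, 10], 9, [(178, [], [0, 4, 3, 4, 2, 2, 3, 4, 5]), (241, [43, 43, 42, 43], [2, 5, 3, 0, 4, 2, 2, 3, 1, 5, 3]), (240, [34], [3, 0, 5, 3, 1, 4, 3, 1, 5])], [], 0),
  (1, 0, [], 0, [], [], 436),
  (0, 6, [2, 0, 6, 10, 8, 6, 4, 2, 11, 8, 6], 14, [(175, [], [1, 2, 4, 3, 1, 3, 4, 2, 2, 5]), (129, [38], [3, 0, 4, 2, 3, 5, 3, 1, 3, 5]), (326, [], [2, 2, 4, 2, 3, 4, 2, 4, 3, 1, 4, 5])], [], 0),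
  (1, 0, [], 0, [], [], 438),
  (0, 6, [4, 2, 0, 6, 4, 2, 8, 10, 8, 6, 10], 16, [(304, [], [3, 4]), (384, [38], [1, 2, 2, 3, 5, 3, 1, 3, 1, 5]), (385, [29, 30], [0, 4, 2, 3, 1, 3, 4, 2, 3, 4, 2, 2])], [], 0),
  (1, 0, [], 0, [], [], 440),
  (0, 6, [4, 2, 0, 6, 4, 2, 11, 8, 11, 8, 6], 14, [(314, [], [2, 2, 3, 4, 2]), (117, [], [3, 0, 1, 3, 4, 2, 2, 3, 5, 3]), (100, [], [2, 2, 5, 3, 4, 3, 4, 2])], [], 0),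
  (1, 0, [], 0, [], [], 442),
  (0, 6, [4, 2, 0, 6, 4, 2, 8, 13, 11, 8, 6], 14, [(342, [], [3, 4, 2]), (221, [], [2, 3, 4, 2, 4, 3, 1, 4, 2, 3, 1]), (97, [26, 32], [4, 3, 1, 3, 1, 5, 3, 4, 3, 5])], [], 0),
  (1, 0, [], 0, [], [], 444),
  (0, 6, [4, 2, 0, 6, 4, 2, 8, 12, 11, 8, 6], 14, [(336, [], [3, 4, 2]), (273, [43, 43, 42, 43, 43, 43], [4, 2, 2, 5, 3, 1, 4, 3, 1, 5]), (242, [45, 33, 45, 34], [0, 2, 2, 3, 0, 4, 2, 3, 4, 2, 2, 3])], [], 0),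
  (1, 0, [], 0, [], [], 446),
  (0, 6, [4, 2, 0, 6, 4, 2, 8, 11, 8, 6, 11], 9, [(304, [], [2, 3, 4, 2, 2, 5]), (340, [38], [1, 3, 4, 5, 3, 1, 4, 2, 3, 1, 5]), (24, [], [4, 2, 5, 3, 0, 4, 2, 3, 5])], [], 0),
  (1, 0, [], 0, [], [], 448),
  (0, 6, [4, 2, 0, 6, 4, 2, 8, 12, 10, 8, 6], 14, [(143, [], [0, 3, 4, 2, 5, 3, 4, 2, 2, 3, 4, 5]), (273, [43, 43, 43, 42, 43, 43, 43, 43], [4, 5, 0, 3, 1, 4, 2, 4, 3, 1, 5]), (242, [45, 33, 45, 34], [0, 2, 2, 3, 4, 2, 3, 1, 4, 5, 3])], [], 0),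
  (1, 0, [], 0, [], [], 450),
  (0, 6, [4, 2, 0, 6, 4, 2, 10, 10, 8, 6, 10], 15, [(259, [], [4, 5, 3, 1, 4, 3, 4, 2, 5, 3, 4]), (242, [45, 34], [0, 1, 2, 5, 3, 4, 2, 3, 4, 3]), (247, [], [1, 2, 2, 3, 1, 4, 5, 3, 1, 4, 2])], [], 0)]

def stepC3 : List (Nat × Nat × List Nat × Nat × List (Nat × List Nat × List Nat) × List (Nat × List Nat × List Nat) × Nat) := [(1, 0, [], 0, [], [], 452),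
  (0, 6, [4, 2, 0, 6, 4, 2, 13, 10, 8, 6, 10], 9, [(304, [], [2, 2, 3, 4, 5]), (126, [38], [1, 2, 2, 3, 4, 3, 1, 4, 2, 3, 4]), (22, [23, 21, 20, 21, 24, 20], [4, 2, 4, 5, 3, 4, 2, 2, 3, 1])], [], 0),
  (1, 0, [], 0, [], [], 454),
  (0, 6, [4, 2, 0, 6, 4, 2, 11, 11, 8, 6, 10], 14, [(332, [], [2, 2, 3, 4, 2, 4]), (246, [45, 34, 33], [2, 3, 5, 3, 4, 3, 4]), (243, [], [3, 4, 3, 1, 5, 0, 3, 1])], [], 0),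
  (1, 0, [], 0, [], [], 456),
  (0, 6, [4, 2, 0, 6, 4, 2, 13, 11, 8, 6, 10], 15, [(334, [], [2, 2, 3, 4, 2, 4]), (96, [39, 39, 39, 39, 39], [0, 2, 5, 3, 1, 4, 2, 3, 4, 5]), (43, [32, 32, 25], [0, 3, 4, 2, 3, 4, 2, 2, 3, 5, 3, 4])], [], 0),
  (1, 0, [], 0, [], [], 458),
  (0, 6, [4, 2, 0, 6, 4, 2, 12, 11, 8, 6, 10], 22, [(376, [], []), (325, [], [3, 1, 4, 2, 5, 0, 3, 4, 2, 3, 5])], [], 0),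
  (1, 0, [], 0, [], [], 460),
  (0, 6, [4, 2, 0, 6, 4, 2, 10, 8, 6, 12, 10], 15, [(180, [], [1, 4, 2, 2, 5, 0, 5]), (242, [45, 34, 45], [0, 2, 2, 3, 1, 5, 3, 1, 4, 3]), (253, [], [1, 3, 1, 4, 2, 3, 4, 3, 1, 3])], [], 0),
  (1, 0, [], 0, [], [], 462),
  (0, 6, [2, 0, 10, 8, 6, 4, 2, 10, 8, 6, 10], 14, [(336, [], [1, 2, 4, 2, 2]), (299, [42, 43, 43, 42], [1, 2, 2, 4, 5, 0, 3]), (211, [45, 34, 33], [4, 2, 2, 3, 5, 3, 4, 2, 3, 1, 5])], [], 0),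
  (1, 0, [], 0, [], [], 464),
  (0, 6, [2, 0, 10, 8, 6, 4, 2, 11, 8, 6, 10], 14, [(269, [], [2, 2, 4, 5, 3, 1, 3, 1, 4, 5]), (302, [33, 33], [3, 4, 3, 1, 3, 1, 4]), (281, [], [2, 4, 2, 2])], [], 0),
  (1, 0, [], 0, [], [], 466),
  (0, 6, [4, 2, 0, 6, 4, 2, 8, 11, 8, 6, 10], 9, [(310, [], [2, 2, 3, 4, 2, 4, 5]), (444, [], [1, 4, 2, 3, 4, 2, 3, 4, 2]), (96, [], [0, 1, 4, 2, 2, 3, 4, 2, 3])], [], 0),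
  (1, 0, [], 0, [], [], 468),
  (0, 6, [4, 2, 0, 6, 4, 2, 13, 10, 8, 6, 11], 14, [(326, [], [2, 2, 3, 4]), (157, [43, 43, 42], [3, 4, 2, 5, 0]), (72, [46, 32, 32], [2, 2, 5, 3, 0, 4, 2, 3, 5])], [], 0),
  (1, 0, [], 0, [], [], 470),
  (0, 6, [4, 2, 0, 6, 4, 2, 12, 10, 8, 6, 11], 15, [(338, [], [3, 4]), (96, [39, 39, 39, 39], [0, 1, 2, 4, 2, 3, 4, 2, 2]), (43, [25, 25], [1, 2, 3, 1, 5, 3, 1, 3])], [], 0),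
  (1, 0, [], 0, [], [], 472),
  (0, 6, [4, 2, 0, 6, 4, 2, 12, 11, 8, 6, 11], 8, [(304, [], [3, 4, 2, 4, 5]), (126, [38], [1, 4, 2, 3, 0, 5, 3, 4, 3, 5]), (127, [23, 20, 23, 20, 21, 23], [3, 4, 2, 4, 3, 1, 4, 2, 4, 3, 1, 3])], [], 0),
  (1, 0, [], 0, [], [], 474),
  (0, 6, [4, 2, 0, 6, 4, 2, 10, 8, 6, 13, 11], 9, [(312, [], [3, 4, 2, 4, 5]), (446, [], [1, 5, 3, 4, 3, 4, 5, 3, 1, 4]), (243, [], [3, 1, 4, 2, 5, 3, 1, 3, 5])], [], 0),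
  (1, 0, [], 0, [], [], 476),
  (0, 6, [4, 2, 0, 6, 4, 2, 11, 8, 6, 13, 11], 14, [(135, [], [1, 2, 3, 0, 5, 3, 4, 2, 3, 1, 5]), (116, [39, 40, 41, 39, 40], [0, 3, 1, 3, 1, 4, 2, 4, 3, 5, 3]), (243, [43, 43, 43, 42, 43, 43, 43, 43], [0, 2, 4, 2, 3, 4, 2, 4, 3])], [], 0),
  (1, 0, [], 0, [], [], 478),
  (0, 6, [4, 2, 0, 6, 4, 2, 11, 8, 6, 12, 11], 8, [(312, [], [2, 2, 3, 4, 2, 4, 5]), (458, [], [2, 2, 4, 3, 4, 2, 3, 1, 3]), (274, [45, 34, 33, 45], [0, 1, 4, 2, 5, 3, 1, 4, 3, 5])], [], 0),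
  (1, 0, [], 0, [], [], 480),
  (0, 6, [4, 2, 0, 6, 4, 2, 8, 10, 8, 6, 11], 22, [(458, [], [2]), (258, [45, 34, 33, 45], [2, 3, 0, 4, 2, 3, 1, 3, 4, 3])], [], 0),
  (1, 0, [], 0, [], [], 482),
  (0, 6, [4, 2, 0, 6, 4, 2, 6, 8, 10, 8, 6], 8, [(346, [38, 37], [1, 2, 4, 3, 0, 4, 2, 2, 5]), (320, [], [4, 2, 4, 5, 3, 4, 3, 5]), (122, [], [1, 4, 3, 0, 5, 3, 4, 2, 3, 5])], [], 0),
  (1, 0, [], 0, [], [], 484),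
  (0, 6, [2, 4, 6, 8, 11, 8, 6, 4, 2, 6, 10], 15, [(306, [37, 38], [0, 2, 5, 3, 1, 3, 4, 2, 2, 5]), (472, [38], [1, 3, 4, 2, 5, 3, 1, 4, 3, 1, 5]), (278, [33, 33, 45, 45], [1, 2, 2, 4, 2, 3, 1, 4, 5, 3])], [], 0),
  (1, 0, [], 0, [], [], 486),
  (0, 6, [2, 4, 6, 8, 13, 10, 8, 6, 4, 2, 6], 14, [(324, [37, 38], [0, 2, 5, 3, 1, 4, 3, 4, 2, 2, 5]), (104, [43, 42, 43, 42], [3, 4, 3, 1, 5, 3, 4, 2, 2, 3]), (185, [39, 41, 39], [1, 3, 4, 3, 1, 5, 3, 4, 2, 2, 3])], [], 0),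
  (1, 0, [], 0, [], [], 488),
  (0, 6, [0, 2, 4, 6, 10, 8, 6, 4, 2, 6, 11], 15, [(306, [37, 38], [0, 3, 5, 3, 1, 3, 4, 5]), (470, [38], [1, 2, 3, 4, 2, 3, 4, 2]), (61, [26, 26, 46, 32], [3, 1, 3, 5, 0, 3, 4, 2, 2, 3])], [], 0),
  (1, 0, [], 0, [], [], 490),
  (0, 6, [0, 2, 4, 6, 11, 8, 6, 4, 2, 6, 11], 8, [(326, [37, 38], [2, 2, 4, 2, 3, 4, 5, 0, 3, 1, 4, 3]), (225, [43, 42, 43, 43], [2, 4, 3, 1, 3, 4, 3, 5]), (222, [25, 26, 25, 32, 26, 32], [1, 3, 4, 2, 4, 3, 5, 3])], [], 0),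
  (1, 0, [], 0, [], [], 492),
  (0, 6, [2, 4, 6, 13, 10, 8, 6, 4, 2, 6, 11], 9, [(135, [37, 38], [1, 2, 4, 3, 1, 5, 3, 1, 4, 2, 3]), (185, [41], [2, 2, 4, 2, 3, 4, 2, 4, 3, 1, 4]), (370, [37, 38, 37], [2, 3, 1, 5, 3, 1, 4, 3, 4, 2, 5, 3])], [], 0),
  (1, 0, [], 0, [], [], 494),
  (0, 6, [4, 8, 10, 8, 6, 4, 2, 10, 8, 6, 11], 22, [(192, [], [0, 2, 2, 4, 2]), (427, [33, 45], [2, 3, 4, 2, 2, 3, 1, 3, 5])], [], 0),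
  (1, 0, [], 0, [], [], 496),
  (0, 6, [0, 2, 4, 6, 4, 2, 12, 11, 8, 6, 10], 8, [(308, [37, 38], [0, 3, 5, 3, 4, 2, 3, 4]), (218, [26, 25, 25, 46, 26], [2, 2, 3, 1, 5, 3, 1, 4, 3, 4, 2, 3]), (285, [43, 42, 43, 43], [0, 3, 4, 2, 2, 3, 1, 4, 2, 5])], [], 0),
  (1, 0, [], 0, [], [], 498),
  (0, 6, [6, 4, 2, 0, 8, 6, 11, 8, 6, 4, 2, 6], 15, [(308, [], [4, 3, 1]), (220, [25, 25, 32, 25, 46, 26], [4, 3, 1, 3, 5, 3, 1, 4, 3, 5]), (419, [43, 43, 43, 43], [0, 1, 2, 2, 3, 1, 5])], [], 0),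
  (1, 0, [], 0, [], [], 500),
  (0, 6, [6, 4, 2, 0, 6, 8, 11, 8, 6, 4, 2, 6], 9, [(314, [], [2, 2, 4, 3, 4, 2, 5]), (203, [43, 43, 43, 42, 43, 43, 42], [4, 3, 4, 2, 4, 3, 4, 5, 0]), (437, [42, 43, 43, 43, 42, 43, 43, 42], [1, 3, 5, 3, 4, 2, 3, 4, 2, 2])], [], 0),
  (1, 0, [], 0, [], [], 502),
  (0, 6, [4, 2, 0, 6, 13, 11, 8, 6, 4, 2, 6, 11], 14, [(312, [], [2, 3, 4]), (322, [37, 38], [0, 2, 3, 4, 2, 3, 4, 2, 3, 1, 4]), (216, [25, 32, 25], [2, 3, 0, 4, 2, 3, 4, 3, 1, 5])], [], 0),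
  (1, 0, [], 0, [], [], 504),
  (0, 6, [4, 2, 0, 6, 10, 8, 6, 4, 2, 6, 12, 11], 8, [(180, [], [1, 4, 2, 2, 5, 0]), (260, [33, 34], [0, 1, 3, 1, 5, 3, 1, 4]), (277, [42, 43, 42, 43, 43], [2, 3, 4, 2, 2, 5, 0, 3])], [], 0),
  (1, 0, [], 0, [], [], 506),
  (0, 6, [4, 2, 0, 6, 11, 8, 6, 4, 2, 6, 12, 10], 9, [(178, [], [0, 4, 2, 3, 1, 4, 2, 5]), (167, [42, 43, 42, 43, 43, 43, 42, 43], [0, 1, 3, 5, 3, 4, 2, 4, 3]), (282, [45, 34, 33], [0, 1, 2, 3, 5, 3, 4, 3, 1, 5, 3])], [], 0),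
  (1, 0, [], 0, [], [], 508),
  (0, 6, [2, 0, 11, 8, 6, 10, 8, 6, 4, 2, 6, 10], 15, [(131, [], [4, 2, 5, 3, 1, 3, 1, 4, 2, 5]), (178, [], [1, 2, 4, 2, 5, 3, 0, 4, 3, 5]), (208, [42, 43, 43, 42, 43, 42], [1, 3, 1, 4, 2])], [], 0),
  (1, 0, [], 0, [], [], 510),
  (0, 6, [2, 0, 6, 10, 8, 6, 4, 2, 12, 10, 8, 6], 15, [(330, [], [1, 4, 2]), (106, [], [0, 2, 3, 4, 3, 1, 4, 2]), (465, [42], [0, 2, 4, 3, 0, 1, 4, 2, 4, 3])], [], 0),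
  (1, 0, [], 0, [], [], 512),
  (0, 6, [2, 0, 6, 12, 10, 8, 6, 4, 2, 11, 8, 6], 15, [(344, [], [4, 2]), (42, [], [2, 2, 3, 0, 1, 5, 3, 4, 3, 5]), (220, [25, 25], [4, 3, 1, 3, 1, 4, 5, 3, 1, 3, 5])], [], 0),
  (1, 0, [], 0, [], [], 514),
  (0, 6, [2, 0, 6, 11, 8, 6, 4, 2, 13, 11, 8, 6], 22, [(464, [], [2, 2]), (189, [43, 43, 42, 43], [1, 2, 2, 4, 5, 3, 1, 4, 2, 3, 5])], [], 0),
  (1, 0, [], 0, [], [], 516),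
  (0, 6, [2, 0, 6, 11, 8, 6, 4, 2, 12, 11, 8, 6], 8, [(178, [], [3, 0, 4, 2, 3, 4, 2, 5]), (241, [43, 43, 42, 43], [4, 2, 2, 3, 5, 3, 4, 2, 3, 4, 5]), (166, [45, 33, 44, 45], [2, 3, 5, 0, 3, 4, 2, 3, 1, 4])], [], 0),
  (1, 0, [], 0, [], [], 518),
  (0, 6, [4, 2, 0, 6, 4, 2, 10, 8, 13, 11, 8, 6], 22, [(452, [], [2, 2]), (345, [45, 34, 33, 45], [2, 3, 1, 3, 4, 2, 4, 3, 4, 2, 3])], [], 0),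
  (1, 0, [], 0, [], [], 520),
  (0, 6, [4, 2, 0, 6, 4, 2, 10, 8, 12, 11, 8, 6], 14, [(330, [], [3, 4, 2]), (104, [43, 43, 43, 42, 43, 43, 43, 43], [0, 1, 4, 3, 4, 5, 3, 1, 4, 3, 1, 5]), (96, [], [1, 3, 1, 3, 5, 3, 1, 4, 3, 1])], [], 0),
  (1, 0, [], 0, [], [], 522),
  (0, 6, [4, 2, 0, 6, 4, 2, 12, 10, 8, 10, 8, 6], 14, [(344, [], [3, 1, 4, 2]), (252, [45, 33, 45, 34], [0, 4, 2, 3, 1, 3, 4]), (243, [], [0, 3, 5, 3, 4, 2, 2, 3])], [], 0),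
  (1, 0, [], 0, [], [], 524),
  (0, 6, [4, 2, 0, 6, 4, 2, 10, 8, 13, 10, 8, 6], 8, [(312, [], [3, 1, 4, 2, 4, 5]), (446, [], [1, 5, 3, 4, 3, 4, 5, 3, 4]), (203, [43, 43, 43, 42, 43, 43, 43, 43], [2, 2, 5, 3, 0, 1, 3, 4, 5])], [], 0),
  (1, 0, [], 0, [], [], 526),
  (0, 6, [4, 2, 0, 6, 4, 2, 8, 10, 8, 10, 8, 6], 22, [(526, [], [2]), (331, [], [1, 2, 3, 0, 4, 3, 1])], [], 0),
  (1, 0, [], 0, [], [], 528),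
  (0, 6, [2, 0, 13, 10, 8, 6, 4, 2, 10, 8, 6, 10], 15, [(347, [], [1, 3, 4, 2, 5, 0, 3]), (484, [37, 38], [0, 1, 4, 2, 3, 4, 2, 3, 4]), (277, [43, 42, 43, 42], [0, 1, 5, 3, 4, 3, 1, 3, 5])], [], 0),
  (1, 0, [], 0, [], [], 530),
  (0, 6, [2, 0, 12, 10, 8, 6, 4, 2, 10, 8, 6, 10], 9, [(322, [], [4, 5]), (220, [46, 32, 26], [2, 2, 3, 4, 2, 5, 3, 4, 3, 1, 4, 3]), (519, [43, 42, 43, 43, 43, 43, 42, 43, 43], [1, 2, 2, 5, 0, 3, 1, 4, 3, 4])], [], 0),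
  (1, 0, [], 0, [], [], 532),
  (0, 6, [2, 0, 10, 8, 6, 4, 2, 10, 8, 6, 13, 10], 8, [(126, [], [2, 2, 4, 5]), (127, [20, 22, 24, 22, 24, 23], [4, 2, 4, 3, 4, 2, 2, 5, 3, 1]), (263, [37], [4, 2, 2, 5, 3, 0, 1, 4, 3, 5])], [], 0),
  (1, 0, [], 0, [], [], 534),
  (0, 6, [2, 0, 10, 8, 6, 4, 2, 10, 8, 6, 12, 10], 9, [(175, [], [1, 2, 4, 2, 3, 1, 3, 4, 2, 2]), (464, [], [4, 2, 4, 3, 4, 2, 2, 3, 4, 2]), (210, [], [0, 3, 4, 2, 4, 3, 4, 2, 4, 3])], [], 0),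
  (1, 0, [], 0, [], [], 536),
  (0, 6, [2, 0, 10, 8, 6, 4, 2, 13, 10, 8, 6, 11], 14, [(332, [], [2, 2, 4]), (302, [34], [1, 2, 2, 3, 5, 0, 3, 4, 3, 1, 5, 3]), (281, [], [1, 4, 5, 3, 0, 1, 4, 2, 3, 4, 5])], [], 0),
  (1, 0, [], 0, [], [], 538),
  (0, 6, [0, 6, 4, 6, 10, 8, 6, 4, 2, 11, 8, 6], 9, [(182, [], [2, 5, 3, 1, 4]), (280, [45], [4, 3, 4, 5, 3]), (295, [41, 41], [1, 2, 2, 4, 2, 3, 5, 3, 1, 3, 1])], [], 0),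
  (1, 0, [], 0, [], [], 540),
  (0, 6, [2, 10, 8, 6, 4, 6, 10, 8, 6, 4, 2, 6], 14, [(263, [], [0, 3, 1, 3, 4, 2, 2, 5, 3, 1, 3, 5]), (292, [33, 44], [0, 1, 4, 3, 1, 4, 2, 4, 5, 3, 1]), (455, [29, 30], [4, 2, 3, 0, 4, 2, 4, 5, 3])], [], 0),
  (1, 0, [], 0, [], [], 542),
  (0, 6, [4, 2, 6, 4, 6, 10, 8, 6, 4, 2, 6, 10], 15, [(350, [38, 37], [1, 2, 4, 2, 2, 3, 0, 4, 2, 4, 5]), (212, [25, 25, 32, 25, 46, 26], [1, 2, 3, 0, 3, 4, 2]), (292, [33, 33], [1, 3, 0, 5, 3])], [], 0),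
  (1, 0, [], 0, [], [], 544),
  (0, 6, [0, 2, 4, 6, 8, 10, 8, 6, 4, 2, 6, 10], 15, [(324, [37, 38], [1, 3, 1, 4, 2, 3, 4, 3, 1, 4]), (104, [], [2, 4, 2, 5, 3, 4, 3, 5]), (185, [39, 41, 39], [0, 3, 1, 3, 4, 2, 4, 3, 4, 2])], [], 0),
  (1, 0, [], 0, [], [], 546),
  (0, 6, [4, 2, 6, 4, 11, 8, 6, 4, 2, 10, 8, 6], 14, [(442, [], [1]), (281, [41, 41, 39, 41, 41], [2, 2, 3, 1, 4, 2, 3, 4, 3]), (467, [], [2, 4, 2, 3, 0, 4, 2, 4, 3, 5])], [], 0),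
  (1, 0, [], 0, [], [], 548),
  (0, 6, [2, 4, 11, 8, 6, 4, 2, 11, 11, 8, 6, 10], 15, [(338, [37, 38], [4, 2, 2, 5, 3, 4, 3, 1, 5]), (251, [39], [3, 4, 2, 4, 3, 4, 2, 3, 4, 2, 5]), (369, [45, 33, 44, 45], [1, 2, 4, 3, 4, 5, 3, 4, 3, 1])], [], 0),
  (1, 0, [], 0, [], [], 550),
  (0, 6, [4, 2, 0, 6, 10, 8, 6, 4, 2, 12, 10, 8, 6], 9, [(180, [], [4, 2, 2, 5, 0]), (260, [33, 34], [0, 1, 3, 1, 5, 3, 4]), (210, [42, 43, 43, 42, 43], [3, 4, 2, 4, 3, 4, 5, 3, 1, 3, 4])], [], 0),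
  (1, 0, [], 0, [], [], 552),
  (0, 6, [0, 4, 2, 6, 4, 6, 10, 10, 8, 6, 4, 2, 6], 9, [(374, [], [3, 1, 5]), (171, [42, 43, 42, 43, 43, 43], [0, 3, 4, 2, 3, 1, 3, 1, 5]), (467, [44], [0, 1, 2, 2, 4, 2, 3, 1, 4, 3, 5])], [], 0),
  (1, 0, [], 0, [], [], 554),
  (0, 6, [0, 2, 10, 8, 6, 4, 6, 10, 8, 6, 4, 2, 6], 33, [(508, [37], [4, 2, 3, 0, 4, 2, 5, 3]), (299, [43], [4, 5, 3, 1, 4, 3, 4, 2, 2, 5]), (537, [33, 45, 45], [1, 2, 4, 2, 2, 3, 0, 1, 5, 3, 1])], [], 0),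
  (1, 0, [], 0, [], [], 556),
  (0, 6, [4, 2, 6, 4, 8, 6, 12, 11, 8, 6, 4, 2, 6], 9, [(450, [], [1, 5]), (273, [43, 42, 43, 43, 42], [0, 3, 4, 3, 1, 5, 3, 4, 2, 2, 3]), (371, [33, 34, 44], [0, 3, 1, 3, 4, 3, 5, 3, 4, 2])], [], 0),
  (1, 0, [], 0, [], [], 558),
  (0, 6, [4, 2, 6, 4, 6, 8, 10, 8, 6, 4, 2, 6, 11], 15, [(307, [38], [1, 2, 3, 5, 3, 1, 4, 3, 1, 4, 5]), (330, [], [0, 1, 4, 2, 4, 3, 4, 2, 3, 1, 4]), (431, [42, 43, 42, 43, 43, 43, 42, 43, 42], [0, 2, 5, 3, 1, 3, 4, 3])], [], 0),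
  (1, 0, [], 0, [], [], 560),
  (0, 6, [4, 2, 6, 4, 6, 10, 8, 10, 8, 6, 4, 2, 6], 14, [(350, [38, 37], [1, 2, 4, 2, 3, 0, 4, 2, 2, 5]), (222, [25, 32, 25, 46], [0, 4, 3, 1, 3, 4, 3, 1, 5]), (247, [43, 43, 43], [2, 3, 0, 1, 3, 4, 5, 3, 1, 3])], [], 0),
  (1, 0, [], 0, [], [], 562),
  (0, 6, [0, 4, 2, 6, 4, 6, 11, 8, 6, 4, 2, 6, 11], 16, [(384, [], [2, 3, 4, 2, 2]), (173, [27, 28, 30], [3, 5, 0, 3, 1, 3, 4, 2, 4, 5]), (537, [33, 45, 45], [0, 4, 2, 2, 3, 1, 4, 3, 5, 3, 1, 3])], [], 0),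
  (1, 0, [], 0, [], [], 564),
  (0, 6, [0, 2, 6, 4, 6, 11, 11, 8, 6, 4, 2, 6, 11], 17, [(399, [], [2, 3, 1, 4, 2, 3, 1, 4, 3, 5]), (364, [38, 37], [1, 2, 4, 3, 0, 1, 4, 2, 4, 5]), (545, [36, 35, 36], [0, 5, 3, 1, 4, 3, 4])], [], 0),
  (1, 0, [], 0, [], [], 566),
  (0, 6, [4, 2, 6, 4, 6, 11, 11, 8, 6, 4, 2, 6, 11], 33, [(484, [], [2, 2, 3, 4, 2, 4, 3, 4, 5, 3, 4]), (417, [43, 43, 42, 43, 43, 43], [0, 1, 2, 2, 3, 1, 5, 3, 1, 3, 5]), (344, [37, 38], [1, 4, 3, 4, 2, 5, 0, 3, 1, 4])], [], 0),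
  (1, 0, [], 0, [], [], 568),
  (0, 6, [4, 2, 6, 4, 6, 13, 11, 8, 6, 4, 2, 6, 11], 9, [(454, [], [1, 2, 4, 2, 2, 5]), (293, [29, 30], [0, 1, 2, 2, 3, 1, 5, 3, 4, 2]), (282, [34, 33, 44], [5, 3, 0, 1, 3, 4, 2, 3, 1, 4])], [], 0),
  (1, 0, [], 0, [], [], 570),
  (0, 6, [0, 4, 2, 6, 4, 6, 11, 8, 6, 4, 2, 6, 10], 14, [(307, [38], [0, 3, 1, 3, 4, 2, 3, 4, 3]), (494, [37, 38, 37], [4, 2, 4, 3, 4, 2, 2, 3, 4]), (371, [], [1, 5, 3, 0, 1, 3, 4, 2])], [], 0),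
  (1, 0, [], 0, [], [], 572),
  (0, 6, [4, 2, 6, 4, 10, 10, 8, 6, 4, 2, 10, 8, 6], 15, [(478, [], [1, 2]), (45, [], [1, 2, 2, 4, 3, 4, 2, 3, 1, 4, 5, 3]), (321, [33, 33], [4, 3, 4, 2, 5, 3, 1, 3, 4, 5])], [], 0),
  (1, 0, [], 0, [], [], 574),
  (0, 6, [4, 2, 6, 4, 10, 8, 6, 4, 2, 12, 10, 8, 6], 9, [(462, [], [1, 5]), (288, [33, 34, 44], [1, 4, 2, 3, 4, 2, 3, 1, 4, 2, 5]), (217, [42, 43, 43, 43, 43, 42, 43, 43, 43], [1, 2, 4, 2, 3, 5, 3, 4, 2, 3, 4])], [], 0),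
  (1, 0, [], 0, [], [], 576),
  (0, 6, [4, 2, 6, 4, 6, 11, 8, 6, 4, 2, 11, 8, 6], 15, [(460, [], [2, 4, 2]), (180, [], [1, 2, 3, 1, 4, 2, 3, 1]), (147, [44], [2, 4, 2, 2, 3, 0, 5, 3, 4, 2])], [], 0),
  (1, 0, [], 0, [], [], 578),
  (0, 6, [6, 8, 6, 4, 11, 8, 6, 4, 2, 10, 8, 6, 11], 22, [(549, [37], [5, 3, 1]), (558, [37], [0, 1, 2, 2, 3, 1, 5, 3, 4])], [], 0),
  (1, 0, [], 0, [], [], 580),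
  (0, 6, [2, 8, 6, 4, 10, 8, 6, 13, 10, 8, 6, 4, 2, 6], 8, [(420, [38, 37], [4, 3, 1, 4, 2, 4, 3, 4, 5]), (160, [33], [1, 3, 4, 2, 2, 3, 1, 5]), (301, [42, 43, 43, 43, 42, 43, 43, 43], [3, 1, 4, 2, 5, 3, 4, 2, 2, 3, 1])], [], 0),
  (1, 0, [], 0, [], [], 582),
  (0, 6, [4, 2, 6, 4, 8, 10, 8, 6, 11, 8, 6, 4, 2, 6], 14, [(482, [], [1]), (483, [38], [1, 5, 3, 4, 3, 5]), (528, [], [3, 1, 4, 3, 4, 5, 3, 1, 4, 3, 1])], [], 0),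
  (1, 0, [], 0, [], [], 584),
  (0, 7, [11, 8, 6], 22, [(196, [], [2, 2]), (353, [34, 44], [2, 4, 3, 0, 5, 3, 1, 4, 3])], [], 0),
  (1, 0, [], 0, [], [], 586),
  (0, 7, [8, 11, 8, 6], 8, [(105, [], [1, 4]), (202, [], [2, 2, 5, 0, 5]), (375, [43, 43, 43, 42, 43, 43, 43, 43], [1, 2, 3, 1, 4, 3, 4, 2, 2, 3, 4, 3])], [], 0),
  (1, 0, [], 0, [], [], 588),
  (0, 7, [0, 2, 11, 8, 6], 33, [(134, [39, 40, 39, 40], [2, 2, 4, 3, 4, 2, 2, 5, 0, 3]), (263, [37], [3, 4, 3, 5, 3, 4, 2, 3, 5]), (537, [34, 33, 45, 45], [1, 4, 3, 0, 5, 3, 1, 3, 5])], [], 0),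
  (1, 0, [], 0, [], [], 590),
  (0, 7, [0, 2, 10, 8, 10, 8, 6], 14, [(335, [41, 39, 40, 41, 41], [0, 4, 2, 4]), (512, [37], [1, 2, 2, 3, 1, 4, 3, 4, 2]), (139, [37], [0, 2, 3, 4, 2, 3, 1, 3])], [], 0),
  (1, 0, [], 0, [], [], 592),
  (0, 7, [11, 8, 6, 4, 2, 6, 11], 14, [(105, [39, 40, 39, 40], [0, 3, 5, 3, 4, 3, 4, 2, 4]), (108, [43, 43, 43, 43, 42, 43, 43, 43], [2, 4, 2, 2, 5, 3, 1, 3, 5]), (228, [27, 28, 29, 30], [4, 2, 3, 4, 5, 3, 1, 3, 1])], [], 0),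
  (1, 0, [], 0, [], [], 594),
  (0, 7, [10, 8, 6, 4, 2, 6, 11], 14, [(87, [41, 39, 40, 41, 41], [0, 2, 2, 3, 5, 3, 1, 3, 1, 4]), (127, [20, 22, 24, 21, 21, 22], [3, 5, 0, 3, 4, 2, 2, 3, 4, 2, 5]), (483, [], [0, 1, 4, 5])], [], 0),
  (1, 0, [], 0, [], [], 596),
  (0, 7, [0, 10, 8, 6, 4, 2, 6, 11], 9, [(198, [], [0, 2, 2, 3, 5]), (541, [33, 44], [0, 1, 4, 2, 4, 3, 1, 5, 3, 1]), (552, [], [2, 5, 3, 1, 4])], [], 0),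
  (1, 0, [], 0, [], [], 598),
  (0, 7, [0, 11, 8, 6, 4, 2, 6, 10], 15, [(94, [39, 40], [2, 3, 5, 3, 4, 2, 4]), (218, [26, 26, 32, 26], [0, 1, 3, 1, 3, 5, 3, 1, 4, 3, 5]), (299, [43, 43, 42, 43, 43, 42], [4, 3, 0, 4, 2, 4, 3])], [], 0),
  (1, 0, [], 0, [], [], 600),
  (0, 7, [6, 10, 8, 6, 4, 2, 6, 11], 14, [(87, [39, 41, 41, 39, 40, 41], [2, 3, 4, 5]), (127, [20, 21, 20, 23, 21, 22, 24], [1, 3, 1, 4, 2, 4, 5, 3, 1, 4, 3, 5]), (328, [], [0, 4, 3, 1, 5, 3, 1, 4, 2, 3])], [], 0),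
  (1, 0, [], 0, [], [], 602),
  (0, 7, [6, 11, 8, 6, 4, 2, 6, 10], 14, [(87, [39, 41, 41, 39, 40, 41], [3, 4, 2, 4, 5]), (127, [20, 23, 20, 23, 22, 23], [1, 3, 4, 2, 4, 3, 5, 3, 1, 3, 5]), (483, [], [1, 4, 2, 5, 3, 1, 4, 2, 3])], [], 0),
  (1, 0, [], 0, [], [], 604),
  (0, 7, [2, 0, 10, 8, 6, 4, 2, 6, 11], 14, [(87, [], [4]), (127, [22, 20, 24, 23], [1, 2, 3, 1, 4, 3, 4, 2, 3, 5]), (263, [37], [0, 3, 1, 3, 4, 3, 5])], [], 0),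
  (1, 0, [], 0, [], [], 606),
  (0, 7, [0, 10, 10, 8, 6, 4, 2, 6, 11], 22, [(598, [39, 39], [2]), (421, [45, 33, 44], [1, 2, 4, 3, 1, 5, 0, 3, 1, 4, 3])], [], 0),
  (1, 0, [], 0, [], [], 608),
  (0, 7, [8, 6, 10, 8, 6, 4, 2, 6, 11], 9, [(185, [41, 41, 39, 41, 41], [0, 2, 4, 3, 4, 2, 3, 5, 3, 4, 3]), (489, [], [0, 2, 2, 3, 4, 3, 4, 2]), (342, [37, 38], [1, 2, 4, 5])], [], 0),
  (1, 0, [], 0, [], [], 610),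
  (0, 7, [6, 10, 10, 8, 6, 4, 2, 6, 11], 22, [(602, [39, 39], [2]), (413, [38], [2, 4, 3, 1, 3, 1, 4, 5, 3])], [], 0)]

def stepC4 : List (Nat × Nat × List Nat × Nat × List (Nat × List Nat × List Nat) × List (Nat × List Nat × List Nat) × Nat) := [(1, 0, [], 0, [], [], 612),
  (0, 7, [6, 8, 11, 8, 6, 4, 2, 6, 11], 14, [(105, [39, 41, 41, 39, 40, 41], [3, 4, 2, 4, 5]), (123, [43, 42, 43, 43, 43, 42, 43], [0, 3, 4, 2, 3, 1, 3, 1, 4, 3, 1]), (254, [], [4, 2, 2, 3, 5, 3, 4, 3])], [], 0),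
  (1, 0, [], 0, [], [], 614),
  (0, 7, [4, 6, 11, 8, 6, 4, 2, 6, 10], 15, [(87, [41, 39, 41], [1, 2, 3, 4, 2, 2, 5]), (102, [24, 20, 21, 24, 22, 23], [0, 1, 2, 4, 2, 3, 4, 5]), (373, [43, 43, 43, 42, 43, 43, 43, 43], [3, 1, 4, 2, 3, 4, 3, 1])], [], 0),
  (1, 0, [], 0, [], [], 616),
  (0, 7, [8, 6, 11, 8, 6, 4, 2, 6, 10], 14, [(94, [41, 39, 40], [0, 4, 2, 3, 1, 3, 5, 3, 1, 3, 4]), (72, [32, 26, 25, 46], [2, 3, 1, 3, 4, 2, 2, 3, 1, 5]), (351, [26, 46, 46, 32], [0, 3, 5, 3, 4, 3, 1, 4, 2, 5])], [], 0),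
  (1, 0, [], 0, [], [], 618),
  (0, 7, [6, 10, 8, 6, 4, 2, 10, 8, 6], 16, [(281, [40, 41, 41, 39, 41], [2, 4, 3, 5, 3, 1, 4, 3, 4, 2, 5]), (153, [33, 45, 45], [2, 3, 0, 1, 3, 5, 3]), (249, [42, 43, 43, 43, 42, 43, 43, 43, 43], [3, 1, 5, 3, 4, 2, 3, 4, 2, 2])], [], 0),
  (1, 0, [], 0, [], [], 620),
  (0, 7, [6, 10, 8, 6, 4, 2, 11, 8, 6], 14, [(592, [39, 39, 40, 39, 40], [2, 2, 3, 1, 4, 3, 4, 2, 4, 3, 4]), (100, [40, 39, 41], [0, 3, 1, 4, 2, 3, 1, 3, 4, 5]), (136, [], [0, 5, 3, 4, 2, 3, 4, 3, 5, 3])], [], 0),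
  (1, 0, [], 0, [], [], 622),
  (0, 7, [6, 11, 8, 6, 4, 2, 11, 8, 6], 15, [(281, [41, 41, 39, 41, 39], [0, 3, 1, 4, 5, 3, 1, 3, 4, 2, 5]), (211, [34, 33, 45, 45], [1, 2, 3, 1, 4, 2, 3, 1, 4, 2, 3, 4]), (299, [42, 43, 43, 43, 43, 42, 43], [3, 4, 2, 4, 5, 3, 1, 3])], [], 0),
  (1, 0, [], 0, [], [], 624),
  (0, 7, [2, 0, 6, 8, 11, 8, 6, 4, 2, 6], 16, [(443, [39, 39, 40, 41, 39, 40], [2, 2, 4, 3, 4, 2, 4, 3, 1, 4]), (386, [], [4, 2, 3, 1, 4, 2, 3, 1, 4, 2]), (535, [33, 34], [1, 2, 2, 4, 5, 3, 4, 2, 3, 4, 5])], [], 0),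
  (1, 0, [], 0, [], [], 626),
  (0, 7, [2, 0, 10, 8, 10, 8, 6, 4, 2, 6], 15, [(134, [39, 39, 39, 39, 39], [1, 3, 0, 1, 4, 2, 3, 4, 3, 1]), (79, [], [1, 4, 5, 3, 4, 2, 3, 1, 4, 5]), (229, [33], [3, 1, 4, 2, 4, 3, 4, 2, 3, 4, 3])], [], 0),
  (1, 0, [], 0, [], [], 628),
  (0, 7, [2, 0, 6, 10, 8, 10, 8, 6, 4, 2, 6], 14, [(96, [39, 39, 39, 39, 39], [2, 3, 4, 2, 3, 4, 2, 2, 3, 4, 3]), (222, [25, 32], [1, 2, 3, 4, 5, 0, 3, 4, 2]), (247, [43, 43, 43], [1, 2, 5, 0, 3, 1, 4, 3, 4, 2])], [], 0),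
  (1, 0, [], 0, [], [], 630),
  (0, 7, [0, 4, 6, 10, 8, 10, 8, 6, 4, 2, 6], 9, [(339, [39, 40, 39, 40], [1, 4, 2, 2, 5, 0, 3, 4, 3, 1]), (514, [], [1, 2, 3, 1, 4, 3, 4, 3]), (217, [43, 43, 42, 43, 43, 43], [1, 2, 4, 2, 5, 3, 4, 2, 3, 1])], [], 0),
  (1, 0, [], 0, [], [], 632),
  (0, 7, [0, 4, 6, 10, 10, 8, 6, 4, 2, 6, 11], 9, [(335, [39, 39, 41, 39, 40, 41, 41], [0, 1, 2, 4, 2, 5]), (504, [37], [5, 3, 0, 4, 2, 3, 4, 5, 3, 4]), (217, [], [1, 2, 2, 4, 2, 3, 0, 5, 3, 1, 4])], [], 0),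
  (1, 0, [], 0, [], [], 634),
  (0, 8, [2, 11], 22, [(249, [42, 43, 42, 43, 42], [2, 4, 3, 1, 3, 5, 3, 1, 3]), (369, [45, 34, 33, 45], [4, 3, 0, 1, 3, 5, 3, 1, 4])], [], 0),
  (1, 0, [], 0, [], [], 636),
  (0, 8, [6, 11], 8, [(104, [], []), (96, [], [1]), (220, [25, 32, 26, 25, 25], [2, 3, 5, 3, 4, 2, 2, 3, 4, 5])], [], 0),
  (1, 0, [], 0, [], [], 638),
  (0, 8, [10, 8, 6], 9, [(104, [], [1]), (96, [], []), (309, [46, 46], [2, 4, 2, 3, 5, 3, 4, 2, 4, 3, 5])], [], 0),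
  (1, 0, [], 0, [], [], 640),
  (0, 8, [12, 10, 8, 6], 8, [(142, [], [1]), (271, [], [4, 2, 3, 4, 3, 1, 4, 3]), (242, [], [0, 2, 4, 3, 1, 4, 3, 4, 2, 4])], [], 0),
  (1, 0, [], 0, [], [], 642),
  (0, 8, [10, 8, 6, 10], 8, [(103, [], [4]), (102, [20, 20, 20, 21], [0, 1, 4, 2, 3, 0, 1]), (373, [43, 43, 43, 42, 43, 43, 43, 43], [2, 4, 3, 1, 3, 4, 2, 3, 4, 3])], [], 0),
  (1, 0, [], 0, [], [], 644),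
  (0, 8, [2, 10, 10, 8, 6], 33, [(249, [42, 43, 42, 43, 42], [3, 1, 3, 5, 3, 1, 4, 2, 3, 1, 3]), (621, [45, 33], [3, 5, 3, 1, 4, 3, 1, 4]), (600, [40, 41, 39, 41, 41], [0, 1, 2, 3, 0, 4, 2, 4, 3])], [], 0),
  (1, 0, [], 0, [], [], 646),
  (0, 8, [6, 8, 11, 8, 6], 8, [(638, [], [1, 4]), (375, [43, 43, 43, 42, 43, 43, 43, 43], [3, 4, 3, 1, 4, 5, 3, 4, 2, 3, 5]), (350, [38, 37], [0, 2, 4, 2, 2, 3, 1, 3, 4, 3, 5])], [], 0),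
  (1, 0, [], 0, [], [], 648),
  (0, 8, [8, 10, 8, 6, 10], 8, [(103, [], [1, 4]), (127, [23, 24, 22, 24, 23, 20, 23], [3, 0, 4, 2, 2, 3, 4, 2, 3, 4]), (483, [], [0, 1, 2, 3, 1, 4, 2, 3, 1, 4, 2, 3])], [], 0),
  (1, 0, [], 0, [], [], 650),
  (0, 8, [2, 0, 4, 2, 6, 11], 14, [(638, [], []), (275, [43, 43, 43, 43, 42, 43, 42], [0, 3, 5, 3, 1, 4, 2, 4, 3, 4]), (535, [45, 34, 45], [0, 2, 3, 1, 3, 4, 5, 3, 1, 3, 5])], [], 0),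
  (1, 0, [], 0, [], [], 652),
  (0, 8, [0, 2, 11, 11, 8, 6], 22, [(289, [43, 43, 43, 43, 42, 43, 43, 43], [3, 4, 2, 5, 3, 4, 2, 4]), (183, [34, 33, 45], [0, 1, 2, 4, 3, 1, 3, 4, 2, 5])], [], 0),
  (1, 0, [], 0, [], [], 654),
  (0, 8, [4, 6, 4, 2, 8, 6], 22, [(465, [42, 43, 42, 43, 43, 43, 43, 42, 43, 43], [0, 1, 2, 2, 3, 4, 2, 3, 1, 3, 5]), (188, [], [0, 3, 4, 2, 2, 5, 3, 4, 3])], [], 0),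
  (1, 0, [], 0, [], [], 656),
  (0, 8, [12, 10, 8, 10, 8, 6], 8, [(104, [], [1, 4, 2, 4]), (445, [39, 39, 39, 39], [2, 4, 2, 2, 5, 3, 1, 3, 1, 4, 2, 5]), (587, [38, 37], [1, 3, 0, 4, 2, 5, 3, 1, 3, 4, 5])], [], 0),
  (1, 0, [], 0, [], [], 658),
  (0, 8, [2, 0, 4, 2, 8, 6, 11], 8, [(104, [], [1, 2, 4, 2, 2, 5]), (134, [40], [2, 2, 5, 3, 0, 4, 2, 4, 3, 1]), (516, [], [0, 5, 3, 4, 2, 3, 1, 5, 3, 1])], [], 0),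
  (1, 0, [], 0, [], [], 660),
  (0, 8, [2, 0, 4, 2, 6, 11, 11], 8, [(106, [], [5]), (144, [42, 43, 42], [1, 3, 0, 4, 3, 5, 3, 4, 2, 2]), (537, [44], [3, 4, 2, 2, 3, 1, 4, 2])], [], 0),
  (1, 0, [], 0, [], [], 662),
  (0, 8, [2, 0, 4, 2, 6, 12, 11], 14, [(638, [43, 43, 42, 43, 43, 43], [1, 2, 2, 4, 3, 4, 2, 5, 3, 1, 3]), (241, [42, 43, 43, 43, 42, 43, 42], [0, 4, 2, 3, 1, 5]), (240, [34, 33], [2, 4, 2, 3, 5, 3, 1, 3, 1, 5])], [], 0),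
  (1, 0, [], 0, [], [], 664),
  (0, 8, [0, 6, 8, 6, 4, 2, 6], 22, [(283, [43, 43, 42, 43], [2, 2, 5, 0, 3, 1, 3, 4, 2, 3, 5]), (539, [34], [0, 1, 3, 4, 2, 3, 1, 3, 4, 5, 3])], [], 0),
  (1, 0, [], 0, [], [], 666),
  (0, 8, [0, 4, 2, 11, 8, 6, 10], 8, [(249, [42, 43, 42, 43, 42], [2, 3, 5, 3, 1, 3, 1, 5, 3]), (244, [34], [0, 2, 2, 3, 5, 3, 1, 3, 5]), (138, [], [2, 2, 3, 1, 4, 2, 3, 4, 2, 4, 5])], [], 0),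
  (1, 0, [], 0, [], [], 668),
  (0, 8, [6, 4, 2, 10, 10, 8, 6], 22, [(161, [43, 42, 43, 43, 43], [2, 4, 3, 5, 3, 4, 2, 4, 3]), (583, [45, 33, 44, 45], [0, 2, 3, 1, 4, 3, 4, 3, 5])], [], 0),
  (1, 0, [], 0, [], [], 670),
  (0, 8, [4, 2, 0, 8, 6, 4, 2, 6], 15, [(103, [], [0, 1]), (102, [20, 20, 20, 21, 20, 21], [1, 5, 0, 5]), (519, [42, 43, 42, 43, 43, 43, 42, 43, 42], [1, 3, 4, 3, 1, 4, 2, 4, 3, 1])], [], 0),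
  (1, 0, [], 0, [], [], 672),
  (0, 8, [2, 0, 4, 2, 8, 6, 12, 11], 8, [(142, [], [1, 2, 4, 2, 2, 5]), (279, [], [0, 5, 3, 4, 2, 3, 1, 4, 5]), (467, [], [0, 2, 2, 3, 4, 2, 4, 3, 1, 4, 3, 1])], [], 0),
  (1, 0, [], 0, [], [], 674),
  (0, 3, [2, 6, 4, 6, 8, 11, 8], 25, [(95, [25, 32, 32], [0, 1, 3, 4, 2, 2, 5]), (659, [39, 39, 39, 39, 39], [1, 2, 2, 3, 5, 3, 1, 4, 2, 3, 4]), (149, [43, 43, 43, 42, 43, 43, 43, 43], [1, 2, 2, 3, 4, 5, 3, 1, 4, 3, 1]), (144, [], [3, 4, 2, 5, 3, 1, 3, 4, 2, 4]), (166, [33], [0, 3, 1, 3, 5, 3, 4, 2, 3]), (144, [43, 43, 42, 43, 43, 43], [2, 3, 5, 3, 4, 2, 4, 3, 1, 4, 2]), (169, [44], [4, 2, 4, 3, 0, 1, 4, 5, 3, 1])], [], 0),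
  (1, 0, [], 0, [], [], 676),
  (0, 4, [2, 6, 4, 2, 12], 17, [(232, [], [2, 3]), (363, [42], [0, 4, 2, 2, 5, 3, 4, 2, 3, 4, 5]), (304, [37, 38], [1, 3, 4, 5, 3, 1, 3, 4, 5])], [], 0),
  (1, 0, [], 0, [], [], 678),
  (0, 4, [2, 6, 4, 11, 13], 8, [(68, [], [2, 2, 3]), (385, [29, 36, 29], [0, 3, 4, 2, 5, 3, 1, 3, 4, 2, 4, 5]), (440, [], [2, 3, 1, 3, 5, 3, 1, 4, 3, 5])], [], 0),
  (1, 0, [], 0, [], [], 680),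
  (0, 4, [2, 6, 4, 2, 6, 8, 6, 4, 6, 4, 11, 12], 22, [(365, [27, 30, 36], [2, 4, 2, 5, 3, 4, 3, 1, 4, 3]), (506, [], [2, 2, 5, 3, 1, 3, 4, 2, 3])], [], 0),
  (1, 0, [], 0, [], [], 682),
  (0, 4, [6, 4, 2, 6, 8, 6], 8, [(232, [], [1]), (285, [], [3, 4, 2, 2, 5, 3, 4, 2, 3, 4, 5]), (246, [], [0, 1, 2, 4, 2, 3, 4, 3, 1])], [], 0),
  (1, 0, [], 0, [], [], 684),
  (0, 4, [2, 6, 4, 2, 11, 11, 8, 6, 10, 8, 11, 12], 22, [(491, [36, 27, 35], [0, 1, 2, 3, 5, 3, 4, 2, 2]), (532, [37, 38], [0, 2, 2, 3, 4, 5, 3, 1, 4])], [], 0),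
  (1, 0, [], 0, [], [], 686),
  (0, 4, [0, 2, 0, 6, 4, 2, 11, 8, 6, 4, 10, 8, 11], 33, [(293, [27, 28, 35, 27], [1, 2, 4, 3, 4, 2, 2, 3, 5, 3]), (268, [45], [1, 3, 4, 3, 1, 3, 4, 5, 3]), (364, [37], [2, 4, 3, 4, 5, 0, 3, 1, 3, 5])], [], 0),
  (1, 0, [], 0, [], [], 688),
  (0, 4, [6, 4, 2, 0, 10, 8, 6, 13, 11], 33, [(90, [28, 36, 29, 36], [1, 2, 2, 5, 3]), (600, [39, 40, 39, 41], [2, 4, 3, 1, 3, 5, 3, 4, 2]), (262, [34, 33, 44], [0, 3, 4, 2, 5, 3, 1, 3])], [], 0),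
  (1, 0, [], 0, [], [], 690),
  (0, 4, [0, 2, 0, 6, 4, 6, 8, 6, 4, 2, 6, 10, 8, 6, 10, 10, 3, 1, 3, 1, 11, 13, 9, 9, 5, 1, 7, 3, 1, 5, 12, 3], 14, [(65, [36, 36], [1, 2, 2, 3, 5, 3, 1, 4, 3, 4, 3]), (74, [15, 18, 17, 18, 19, 17, 18], [4, 2, 3, 0, 5, 3]), (304, [38], [0, 2, 4, 3, 1, 3, 4, 2, 5, 3, 1, 3])], [], 0),
  (1, 0, [], 0, [], [], 692),
  (0, 5, [2, 0, 6, 4, 2, 11, 8, 12], 8, [(252, [45, 33, 45, 34], [0, 3, 1, 4, 2, 3, 4, 2, 2]), (243, [], [0, 1, 3, 1, 3, 4, 3, 4]), (45, [], [2, 3, 0, 1, 4, 3, 1, 5, 3, 1, 4])], [], 0),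
  (1, 0, [], 0, [], [], 694),
  (0, 5, [2, 11, 13, 11, 8, 6, 4, 6], 26, [(169, [33, 45, 45], [0, 1, 2, 4, 2, 3, 1, 3]), (145, [33, 33], [0, 1, 3, 4, 2, 2, 3, 4, 2, 5]), (152, [], [2, 3, 4, 2, 4, 3, 1, 4, 2, 5]), (145, [44, 44], [1, 2, 4, 2, 2, 3, 4, 2, 3, 4, 5]), (149, [43, 43, 43, 42, 43, 43, 43, 43], [1, 5, 0, 3, 4, 2, 3]), (648, [], [1, 2, 4, 5, 0, 3, 4, 2, 2, 3, 4, 2]), (95, [25, 26, 25, 46, 46, 26], [4, 2, 4, 3, 1, 3, 1, 4, 2, 5])], [], 0),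
  (1, 0, [], 0, [], [], 696),
  (0, 5, [2, 0, 6, 8, 6, 4, 2, 11, 12], 22, [(459, [33, 44, 45], [1, 2, 2, 5, 3, 0, 1, 4, 3, 1]), (456, [], [4, 5, 3, 0, 1, 3])], [], 0),
  (1, 0, [], 0, [], [], 698),
  (0, 5, [4, 2, 6, 4, 6, 12, 11, 8], 26, [(257, [33, 45, 44], [3, 5, 3, 1, 4, 2, 3, 1, 4]), (137, [], [3, 4, 2, 3, 5, 3, 4, 2, 4, 3, 4]), (335, [], [0, 4, 3, 4, 3, 5, 3, 1, 3]), (641, [], [0, 2, 4, 2, 3, 5]), (355, [43, 43, 43, 42, 43, 43, 43, 43], [0, 2, 2, 3, 1, 5, 3, 4, 3, 4, 2]), (384, [], [3, 4, 2, 2, 5, 3, 4, 2, 3]), (678, [28, 31, 36], [2, 2, 3, 0, 4, 2, 4, 3, 1])], [], 0),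
  (1, 0, [], 0, [], [], 700),
  (0, 5, [2, 11, 8, 6, 10, 8, 11, 13], 8, [(371, [34], [2, 4, 5, 0, 3, 4, 2, 2, 3, 1, 5]), (663, [], [1, 3, 4, 3, 4, 2, 2]), (187, [43], [0, 2, 2, 4, 2, 3, 5, 3, 1, 3, 1, 5])], [], 0),
  (1, 0, [], 0, [], [], 702),
  (0, 5, [0, 10, 8, 6, 4, 2, 13], 22, [(280, [34], [3, 5, 0]), (592, [39, 41, 41, 39, 41], [1, 3, 1, 4, 3, 5, 3, 1, 4, 2, 3])], [], 0),
  (1, 0, [], 0, [], [], 704),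
  (0, 5, [0, 6, 4, 2, 6, 4, 6, 10, 8, 12, 11], 22, [(240, [], [5, 3, 4, 2]), (656, [43, 43, 43, 43, 42, 43, 42], [1, 2, 2, 4, 2, 3, 4, 3, 1, 3])], [], 0),
  (1, 0, [], 0, [], [], 706),
  (0, 5, [2, 4, 6, 4, 10, 12, 10], 9, [(169, [33, 45, 45], [0, 1, 2, 4, 2, 2, 3, 0, 4, 2, 4, 3]), (704, [33, 44, 45], [3, 1, 3, 5, 0]), (185, [39, 40, 39, 40, 41], [0, 1, 3, 4, 2, 4, 3, 1])], [], 0),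
  (1, 0, [], 0, [], [], 708),
  (0, 5, [0, 12, 10, 8, 6, 4, 2, 0, 10, 8, 11], 22, [(209, [44, 44], [4, 2, 2, 3, 0, 5, 3, 4, 3]), (660, [], [2, 3, 4, 2, 3, 5, 3, 1, 3, 4])], [], 0),
  (1, 0, [], 0, [], [], 710),
  (0, 5, [2, 10, 8, 6, 4, 10], 8, [(166, [45, 33, 44, 45], [3, 5, 3, 4, 2, 2, 3, 4]), (465, [42, 43, 43, 42, 43, 43], [1, 5, 3, 4, 2, 3, 4, 5, 3]), (709, [37, 38, 37], [0, 2, 5, 3, 1, 4, 2, 3, 4, 2, 5])], [], 0),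
  (1, 0, [], 0, [], [], 712),
  (0, 5, [2, 10, 8, 6, 4, 11, 8, 12], 9, [(278, [], [1, 2, 3]), (188, [], [2, 4, 3, 1, 5, 3, 1, 4, 3, 5]), (431, [42, 43], [2, 4, 2, 2, 5, 3, 1, 3, 4, 5])], [], 0),
  (1, 0, [], 0, [], [], 714),
  (0, 5, [8, 11, 8, 6, 10, 12], 8, [(85, [], [1, 2, 2, 4]), (681, [], [1, 2, 4, 5, 0, 3, 4, 3, 5]), (385, [28, 30], [2, 2, 3, 5, 3, 1, 3, 4, 5, 3])], [], 0),
  (1, 0, [], 0, [], [], 716),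
  (0, 5, [0, 2, 4, 2, 6, 11, 8, 11, 8], 22, [(276, [], [2, 3, 4, 2, 4]), (415, [42, 43, 42, 43, 42], [4, 2, 5, 3, 1, 4, 3, 1, 3])], [], 0),
  (1, 0, [], 0, [], [], 718),
  (0, 5, [2, 4, 2, 6, 11, 8, 6, 4, 11], 16, [(248, [], [2, 2, 3, 4, 2, 4, 3, 1, 5]), (161, [43, 43, 43, 42, 43, 42], [0, 1, 3, 5, 3, 1, 3, 1, 4, 3]), (507, [33, 44, 44], [0, 3, 4, 2, 2, 3, 4, 3, 1, 4])], [], 0),
  (1, 0, [], 0, [], [], 720),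
  (0, 5, [2, 4, 2, 0, 11, 8, 6, 10, 8, 6, 4, 2, 11], 22, [(282, [34], [4, 2, 5, 0]), (660, [43], [1, 2, 3, 4, 2, 2, 3, 4, 5])], [], 0),
  (1, 0, [], 0, [], [], 722),
  (0, 5, [2, 10, 8, 6, 13, 10, 8], 8, [(722, [34], [0, 1, 4, 2, 2, 5]), (466, [], [0, 3, 5, 3, 1, 3, 4, 2, 5, 3]), (702, [34], [3, 4, 2, 4, 3, 1, 4, 2, 4, 3, 1, 3])], [], 0),
  (1, 0, [], 0, [], [], 724),
  (0, 5, [8, 12, 11, 8, 6, 4, 2, 11], 8, [(199, [33, 34, 44], [2, 2, 3, 0, 5, 3, 4, 2]), (245, [39, 39, 39, 41, 41], [1, 2, 2, 5]), (160, [], [2, 3, 5, 3])], [], 0),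
  (1, 0, [], 0, [], [], 726),
  (0, 5, [11, 13, 11, 8, 6, 4, 2, 6, 4, 8], 8, [(254, [45, 33, 45], [0, 1, 3, 1, 5, 3, 4, 2, 4, 3]), (615, [], [0, 2, 2, 4, 2, 3, 0, 4, 2, 4, 3]), (596, [39, 39, 41], [2, 2, 3, 4, 3, 5, 3, 1, 3])], [], 0),
  (1, 0, [], 0, [], [], 728),
  (0, 5, [11, 8, 6, 4, 2, 6, 10, 12], 14, [(229, [33, 45, 44], [2, 3, 5, 0, 3, 1]), (155, [27, 29, 36, 29], [0, 4, 3, 1, 4, 2, 3, 4, 2, 2, 5]), (417, [42], [1, 4, 3, 5, 3, 4, 3, 4])], [], 0),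
  (1, 0, [], 0, [], [], 730),
  (0, 5, [0, 4, 2, 6, 4, 2, 8, 6, 10], 8, [(569, [45, 33, 45, 34], [1, 5, 3, 0, 4, 3, 1, 3]), (582, [38], [4, 3, 4, 2, 5, 0, 3, 1, 3, 4]), (599, [33, 44, 34], [0, 3, 4, 2, 3, 1, 3, 4, 2, 2, 3])], [], 0),
  (1, 0, [], 0, [], [], 732),
  (0, 5, [0, 2, 4, 2, 11, 8, 11, 8, 6, 4, 11, 8], 33, [(288, [], [1, 3, 5, 3, 1, 4, 3, 4, 2, 4, 5]), (415, [42, 43, 42, 43, 42], [4, 2, 2, 3, 1, 3, 5, 3, 4]), (573, [], [2, 2, 3, 5, 3, 4, 3, 1, 3, 5])], [], 0),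
  (1, 0, [], 0, [], [], 734),
  (0, 5, [6, 4, 10, 8, 6, 4, 2, 6, 4, 8, 6, 4, 2, 6, 12], 15, [(242, [], [0, 1, 2, 3, 1, 5]), (202, [43, 43, 42, 43, 43, 43], [0, 2, 2, 3, 4, 2, 4, 3, 1, 3, 4]), (672, [43, 43, 43, 43, 42, 43, 43], [2, 2, 3, 1, 5, 0, 3, 4, 2, 3, 4])], [], 0),
  (1, 0, [], 0, [], [], 736),
  (0, 5, [2, 4, 6, 11, 8, 6, 4, 2, 6, 4, 2, 6, 12], 14, [(631, [], [2, 4, 2, 3, 4, 2, 4, 5]), (251, [40, 41, 39, 40, 41, 41], [3, 0, 1, 3, 4, 3, 1]), (427, [34, 44, 45, 45], [1, 4, 3, 1, 4, 2, 3, 4, 5, 3])], [], 0),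
  (1, 0, [], 0, [], [], 738),
  (0, 5, [2, 6, 8, 6, 4, 2, 11, 8, 6, 13], 8, [(569, [33, 44, 45, 45], [1, 3, 4, 2, 2, 3, 1, 3, 1]), (551, [38], [1, 5, 0, 3, 4, 2, 3, 1, 4, 5]), (532, [37, 38, 37], [3, 4, 2, 5, 3, 4, 3, 1, 5, 3])], [], 0),
  (1, 0, [], 0, [], [], 740),
  (0, 5, [0, 6, 4, 12, 11, 8, 6, 4, 2, 0, 10, 12], 8, [(162, [45, 34, 45], [4, 3, 5, 3, 1, 3, 4, 2, 3, 1]), (234, [35, 27, 36, 35], [1, 3, 4, 2, 5, 0, 3, 4, 2, 4, 3]), (414, [38], [4, 2, 4, 3, 1, 5, 3, 1, 3])], [], 0),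
  (1, 0, [], 0, [], [], 742),
  (0, 5, [6, 4, 2, 8, 13, 10, 8, 6, 10], 17, [(244, [], [1, 2, 2, 4, 5]), (600, [39, 40, 39, 41, 41], [0, 2, 2, 3, 1, 4, 2, 5, 3]), (457, [33, 44, 34], [0, 1, 2, 4, 2, 2, 3, 1, 5, 3, 4])], [], 0),
  (1, 0, [], 0, [], [], 744),
  (0, 5, [0, 2, 4, 2, 10, 8, 10, 8, 6, 4, 2, 6], 14, [(44, [], [0, 2, 4, 2, 2, 5, 0]), (266, [33, 44, 45], [1, 3, 1, 3, 4, 5, 3, 1, 3, 4, 5]), (722, [], [0, 2, 2, 3, 1, 3, 4, 2, 3, 5, 3, 1])], [], 0),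
  (1, 0, [], 0, [], [], 746),
  (0, 5, [6, 4, 10, 10, 8, 6, 4, 2, 0, 10, 10], 17, [(260, [45, 33, 45], [3, 5, 3, 1, 3, 1, 5, 3, 4, 2, 2]), (515, [42, 43, 43, 43, 42, 43, 42], [4, 2, 4, 3, 0, 1, 5, 3, 4, 2]), (474, [37, 38], [3, 4, 2, 3, 4, 3, 5, 3, 1, 4])], [], 0),
  (1, 0, [], 0, [], [], 748),
  (0, 5, [0, 6, 4, 2, 6, 11, 8, 6, 4, 10, 8, 10, 8], 22, [(286, [], [0, 1, 2, 2, 4, 2]), (602, [40, 39, 40, 39, 40, 41], [0, 1, 2, 3, 5, 3, 4, 2, 3, 1, 4])], [], 0),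
  (1, 0, [], 0, [], [], 750),
  (0, 5, [11, 8, 6, 4, 11, 8, 6, 4, 2, 6, 4, 10, 8, 11], 8, [(621, [44, 45, 45], [0, 3, 1, 4, 5, 3, 1, 3, 4, 2, 2, 5]), (602, [], [0, 1, 4, 2, 3, 4, 2, 3, 4, 2, 2]), (329, [], [0, 1, 4, 2, 3, 5, 3, 4])], [], 0),
  (1, 0, [], 0, [], [], 752),
  (0, 5, [8, 6, 4, 6, 4, 11, 8, 6, 4, 2, 6, 4, 6, 10, 12], 22, [(507, [34], [1, 4, 5, 3, 4, 2, 2, 3, 4, 2, 3]), (428, [], [1, 3, 1, 4, 3, 5, 0, 3, 4, 2])], [], 0),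
  (1, 0, [], 0, [], [], 754),
  (0, 5, [10, 8, 6, 13, 11, 8, 6, 4, 2, 6, 4, 10, 8, 6, 5, 10, 12, 7, 5, 13, 1, 9], 14, [(242, [33, 44, 34], [2, 2, 4, 3, 1, 3, 5, 3, 1]), (437, [43, 43, 43, 43], [0, 1, 2, 2, 5, 3, 4, 2, 4, 3, 5]), (518, [], [0, 1, 4, 3, 1, 3, 4, 3, 5])], [], 0),
  (1, 0, [], 0, [], [], 756),
  (0, 6, [6, 4, 8, 11, 8, 13, 10], 8, [(338, [], [4, 2, 3]), (96, [39, 39, 39, 39], [3, 4, 5, 3, 1, 3, 1, 5, 3]), (523, [25, 32, 25, 32], [1, 3, 4, 5, 3, 1, 3, 1, 5, 3, 4])], [], 0),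
  (1, 0, [], 0, [], [], 758),
  (0, 6, [2, 0, 6, 4, 2, 0, 11, 8], 22, [(310, [], [0, 4, 5]), (312, [], [2, 3, 0, 1, 4, 3, 1, 5, 3, 1, 3])], [], 0),
  (1, 0, [], 0, [], [], 760),
  (0, 6, [0, 2, 4, 10, 13], 22, [(645, [38], [1, 3, 4, 2, 2, 5, 0, 3, 4, 2, 4]), (640, [], [2, 2, 3, 1, 5, 0, 3, 4, 2])], [], 0),
  (1, 0, [], 0, [], [], 762),
  (0, 6, [2, 0, 6, 4, 2, 8, 10, 10], 22, [(758, [], [0, 1, 2, 4, 5]), (312, [], [2, 3, 4, 3, 1, 5, 3, 4, 2])], [], 0),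
  (1, 0, [], 0, [], [], 764),
  (0, 6, [0, 2, 11, 8, 6, 4, 6, 8, 11], 22, [(717, [38], [1, 2, 4, 2, 3, 4, 3, 1, 5]), (463, [44, 45, 45], [1, 3, 1, 5, 3, 1, 4, 3, 4, 2, 2])], [], 0),
  (1, 0, [], 0, [], [], 766),
  (0, 6, [6, 4, 2, 6, 12], 14, [(679, [], [0, 1, 2, 2, 3]), (155, [29, 31, 36, 36], [2, 4, 2, 3, 1, 5, 3, 4, 3]), (493, [43, 43, 43, 43, 42, 43, 43], [3, 4, 2, 5, 3, 1, 3, 4, 2, 4])], [], 0),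
  (1, 0, [], 0, [], [], 768),
  (0, 6, [8, 11, 8, 6, 4, 2, 0, 6, 10, 8, 6, 4, 2, 10, 13, 7, 3, 3, 7, 7, 7, 9, 12, 3, 3, 11], 22, [(269, [], [1, 2, 3, 5, 0, 3, 1, 4, 2, 3, 4]), (479, [], [1, 2, 2, 4, 5, 3, 0, 4, 3, 1])], [], 0),
  (1, 0, [], 0, [], [], 770),
  (0, 6, [0, 10, 8, 6, 4, 2, 6, 4, 6, 10, 8], 14, [(235, [37, 38, 37], [3, 1, 5, 3, 1]), (238, [27, 28, 30], [3, 1, 3, 1, 5, 3, 1, 3, 5]), (663, [], [4, 3, 0, 4, 2, 4, 5, 3, 1])], [], 0)]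

end CfsgLib.Coset.Th
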