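import Cfsg.Agent.Coset.Th.Derive
import Cfsg.Agent.Coset.Th.StepData0

/-! Kernel checks of the derivation, part 0. -/

set_option autoImplicit false
set_option maxRecDepth 100000
set_option Elab.async false

namespace CfsgLib.Coset.Th

theorem chunk0 : checkAll stepC0 0 20 136 44 = true := by decide +kernel

theorem chunk1 : checkAll stepC1 136 44 293 47 = true := by decide +kernel

theorem chunk2 : checkAll stepC2 293 47 453 47 = true := by decide +kernel

theorem chunk3 : checkAll stepC3 453 47 613 47 = true := by decide +kernel

theorem chunk4 : checkAll stepC4 613 47 773 47 = true := by decide +kernel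

end CfsgLib.Coset.Th
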