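import Cfsg.Agent.Coset.Th.Step
import Cfsg.Agent.Coset.Th.CountCode
import Cfsg.Agent.Coset.Th.CountTh
import Mathlib.Data.Fintype.Card

/-!
The edge data of the presented Thompson group, from the derivation and the forests.
-/

set_option autoImplicit false
set_option maxRecDepth 100000
set_option Elab.async false

namespace CfsgLib.Coset.Th

/-- The number of points of a colour at a node. -/
noncomputable def cnt (n m : Nat) : Nat := countLab (lab n) m

theorem cnt_1_0 : countLab (lab 1) 0 = 1 := by decide +kernel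

theorem cnt_2_1 : countLab (lab 2) 1 = 180 := by decide +kernel

theorem cnt_1_2 : countLab (lab 1) 2 = 480 := by decide +kernel

theorem cnt_3_1 : countLab (lab 3) 1 = 27 := by decide +kernel

theorem cnt_1_3 : countLab (lab 1) 3 = 2048 := by decide +kernel

theorem cnt_4_1 : countLab (lab 4) 1 = 18 := by decide +kernel

theorem cnt_1_4 : countLab (lab 1) 4 = 2304 := by decide +kernel

theorem cnt_5_1 : countLab (lab 5) 1 = 9 := by decide +kernel

theorem cnt_1_5 : countLab (lab 1) 5 = 6144 := by decide +kernel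

theorem cnt_6_1 : countLab (lab 6) 1 = 1 := by decide +kernel

theorem cnt_1_6 : countLab (lab 1) 6 = 6144 := by decide +kernel

theorem cnt_7_2 : countLab (lab 7) 2 = 21 := by decide +kernel

theorem cnt_2_7 : countLab (lab 2) 7 = 2304 := by decide +kernel

theorem cnt_8_2 : countLab (lab 8) 2 = 39 := by decide +kernel

theorem cnt_2_8 : countLab (lab 2) 8 = 6912 := by decide +kernel

theorem cnt_9_3 : countLab (lab 9) 3 = 72 := by decide +kernel

theorem cnt_3_9 : countLab (lab 3) 9 = 486 := by decide +kernel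

theorem cnt_10_4 : countLab (lab 10) 4 = 588 := by decide +kernel

theorem cnt_4_10 : countLab (lab 4) 10 = 48 := by decide +kernel

theorem cnt_tree : ∀ n < 11, 1 ≤ n → ∃ m < n, cnt0 cnt n m ≠ 0 ∧
    sz m * cnt0 cnt m n = sz n * cnt0 cnt n m := by
  intro n hn h1
  interval_cases n
  · exact ⟨0, by norm_num, by simp [cnt0, cnt, sz, cnt_1_0]⟩
  · exact ⟨1, by norm_num, by simp [cnt0, cnt, sz, cnt_2_1, cnt_1_2]⟩
  · exact ⟨1, by norm_num, by simp [cnt0, cnt, sz, cnt_3_1, cnt_1_3]⟩
  · exact ⟨1, by norm_num, by simp [cnt0, cnt, sz, cnt_4_1, cnt_1_4]⟩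
  · exact ⟨1, by norm_num, by simp [cnt0, cnt, sz, cnt_5_1, cnt_1_5]⟩
  · exact ⟨1, by norm_num, by simp [cnt0, cnt, sz, cnt_6_1, cnt_1_6]⟩
  · exact ⟨2, by norm_num, by simp [cnt0, cnt, sz, cnt_7_2, cnt_2_7]⟩
  · exact ⟨2, by norm_num, by simp [cnt0, cnt, sz, cnt_8_2, cnt_2_8]⟩
  · exact ⟨3, by norm_num, by simp [cnt0, cnt, sz, cnt_9_3, cnt_3_9]⟩
  · exact ⟨4, by norm_num, by simp [cnt0, cnt, sz, cnt_10_4, cnt_4_10]⟩

/-- The edge data. -/
theorem edgeData {Γ : Type*} [Group Γ] {L : List Γ} (hF : Frame L)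
    (hsep : ∀ m < 11, ∀ n < 11, ∀ h ∈ hF.H, ∀ k ∈ hF.H,
      ev L (nodeW.getD m []) = h * ev L (nodeW.getD n []) * k → m = n) :
    hF.EdgeData τ lab cnt where
  trans i := transitive_τ i
  lab_lt _ h1 h p := lab_lt h1 h p
  step _ h1 h a := hF.step h1 h a
  card_lab n _ _ m _ := by
    rw [cnt, countLab_eq, Nat.card_eq_fintype_card, Fintype.card_subtype]
  tree := cnt_tree
  sep := hsep

theorem edgeTh : frame_LG.EdgeData τ lab cnt := edgeData frame_LG sep_LG

end CfsgLib.Coset.Th
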