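import Cfsg.Agent.Coset.Th.Conj
import Cfsg.Agent.Coset.Th.NodeWords

/-!
Sixteen elements of a group satisfying the relators of the Thompson presentation.
-/

set_option autoImplicit false
set_option maxRecDepth 100000
set_option Elab.async false

namespace CfsgLib.Coset.Th

/-- Concatenation of listed words. -/
def flatW (ws : List (List Nat)) (ids : List Nat) : List Nat :=
  (ids.map fun i => ws.getD i []).flatten

/-- The hypotheses: generators with inverses, the relators of the subgroup, and all printed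
relators. -/
structure Frame {Γ : Type*} [Group Γ] (L : List Γ) : Prop where
  len : L.length = 16
  pair : ∀ l, l < 16 → fl L l * fl L (Nat.xor l 1) = 1
  relA : ∀ w ∈ relsA, ev L w = 1
  relW : ∀ w ∈ relW, ev L w = 1
  gen : Subgroup.closure {x | x ∈ L} = ⊤

variable {Γ : Type*} [Group Γ] {L : List Γ}

theorem Frame.fl_xor (hF : Frame L) (l : Nat) : fl L (Nat.xor l 1) = (fl L l)⁻¹ :=
  fl_xor16 hF.len hF.pair l

theorem Frame.ev_invW (hF : Frame L) (w : List Nat) : ev L (invW w) = (ev L w)⁻¹ :=
  ev_invW16 hF.len hF.pair w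

theorem Frame.conj_k (hF : Frame L) {i : Nat} (hi : i < 6) :
    ev L (kgW.getD i []) * fl L 14 = fl L 14 * ev L (kmW.getD i []) :=
  conj_kg hF.len hF.pair (fun w hw => (List.mem_append.mp hw).elim (hF.relW w) (hF.relA w)) hi

/-- The first fourteen generators. -/
def la (L : List Γ) : List Γ := L.take 14

theorem Frame.len_la (hF : Frame L) : (la L).length = 14 := by simp [la, hF.len]

theorem fl_la (L : List Γ) {l : Nat} (hl : l < 14) : fl (la L) l = fl L l := by
  simp [fl, la, List.getD_eq_getElem?_getD, List.getElem?_take, hl]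

theorem ev_la (L : List Γ) : ∀ w : List Nat, (∀ l ∈ w, l < 14) → ev (la L) w = ev L w := by
  intro w
  induction w with
  | nil => simp
  | cons x w ih =>
    intro hw
    rw [ev_cons, ev_cons, fl_la L (hw x (by simp)), ih fun y hy => hw y (by simp [hy])]

theorem relsA_lt : ∀ w ∈ relsA, ∀ l ∈ w, l < 14 := by decide +kernel

/-- The map from the model of the subgroup. -/
noncomputable def Frame.Ψ (hF : Frame L) : A →* Γ :=
  numHom (L := la L) hF.len_la fun w hw => by
    rw [ev_la L w (relsA_lt w hw)]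
    exact hF.relA w hw

theorem Frame.Ψ_ev (hF : Frame L) (w : List Nat) (hw : ∀ l ∈ w, l < 14) :
    hF.Ψ (ev LA w) = ev L w := by
  rw [Frame.Ψ, numHom_ev, ev_la L w hw]

/-- The subgroup generated by all letters but `u`. -/
noncomputable def Frame.H (hF : Frame L) : Subgroup Γ := hF.Ψ.range

theorem Frame.mem_H (hF : Frame L) {w : List Nat} (hw : ∀ l ∈ w, l < 14) : ev L w ∈ hF.H :=
  ⟨_, hF.Ψ_ev w hw⟩

theorem Frame.uu (hF : Frame L) : fl L 14 * fl L 14 = ev L [0, 4] := by
  have key : ([14, 14] ++ invW [0, 4]) ∈ Th.relW := by decide +kernel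
  have h := hF.relW _ key
  rw [ev_append, hF.ev_invW, mul_inv_eq_one] at h
  rw [← h]; simp

theorem Frame.u_inv (hF : Frame L) : fl L 15 = fl L 14 * ev L [5, 1] := by
  have h1 : fl L 15 = (fl L 14)⁻¹ := hF.fl_xor 14
  have h2 : ev L [5, 1] = (ev L [0, 4])⁻¹ := hF.ev_invW [0, 4]
  rw [h1, h2, ← hF.uu, mul_inv_rev, mul_inv_cancel_left]

theorem Frame.conj_ks (hF : Frame L) : ∀ ids : List Nat, (∀ i ∈ ids, i < 6) →
    ev L (flatW kgW ids) * fl L 14 = fl L 14 * ev L (flatW kmW ids) := by
  intro ids
  induction ids with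
  | nil => simp [flatW]
  | cons i ids ih =>
    intro h
    have e : ∀ ws, flatW ws (i :: ids) = ws.getD i [] ++ flatW ws ids := fun ws => by simp [flatW]
    rw [e, e, ev_append, ev_append, mul_assoc, ih fun j hj => h j (by simp [hj]), ← mul_assoc,
      hF.conj_k (h i (by simp)), mul_assoc]

end CfsgLib.Coset.Th
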