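import Mathlib.Data.List.Basic

/-! The certificate for the derived relator of the point stabiliser. -/

set_option autoImplicit false

namespace CfsgLib.Coset.Th

/-- Edge words of the coset graph with words in the point stabiliser of the same image. -/
def killVars : List (List Nat × List Nat) := [([2, 4, 6, 0, 7, 5, 1, 3], []),
  ([2, 0, 4, 6, 0, 7, 5, 3], []),
  ([2, 2], []),
  ([2, 0, 4, 6, 2, 7, 3, 5, 1, 3], []),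
  ([2, 0, 4, 2, 6, 2, 7, 5, 1, 3], []),
  ([2, 4, 4, 3], []),
  ([2, 4, 6, 6, 5, 3], []),
  ([2, 0, 4, 2, 6, 8, 8, 7, 3, 5, 1, 3], []),
  ([2, 0, 4, 2, 6, 0, 7, 3, 5, 1, 3], [4]),
  ([2, 4, 6, 2, 7, 5, 3], [4]),
  ([2, 0, 4, 2, 6, 8, 0, 9, 7, 3, 5, 1, 3], [4]),
  ([2, 4, 2, 5, 3], [4]),
  ([4], [4]),
  ([2, 0, 4, 2, 6, 8, 7, 9, 7, 3, 5, 1, 3], [9]),
  ([2, 0, 4, 2, 6, 8, 5, 9, 5, 7, 3, 5, 1, 3], []),
  ([2, 0, 4, 2, 6, 4, 8, 7, 9, 5, 7, 3, 5, 1, 3], [5, 7, 11, 9, 11, 5, 7, 5, 7, 9, 7, 11, 9, 5, 7, 5, 11, 11, 9, 7, 9, 11, 9, 13, 11, 11, 13, 13]),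
  ([2, 0, 4, 2, 6, 4, 8, 5, 9, 7, 3, 5, 1, 3], [])]

/-- Relator loops: the edges, the conjugating word, the relator and a tail. -/
def killEqs : List (List Nat × List Nat × Nat × List Nat) := [([0, 1], [2, 4, 6], 14, []),
  ([2], [], 15, []),
  ([3, 4], [2, 0, 4, 6], 15, []),
  ([5], [2], 16, []),
  ([6], [2, 4], 17, []),
  ([7], [2, 0, 4, 2, 6], 18, []),
  ([0, 3, 8, 4, 1, 9], [2, 4, 6], 19, []),
  ([8, 10, 7], [2, 0, 4, 2, 6], 20, []),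
  ([11, 5, 2, 12], [], 21, []),
  ([11, 9, 6], [2, 4], 22, []),
  ([10, 13, 14, 15, 16, 13, 14, 15, 16], [2, 0, 4, 2, 6, 8], 24, []),
  ([12], [], 0, [5])]

/-- The derived relator. -/
def relK : List Nat := [4, 4, 4, 4, 4, 4, 4, 4, 4, 9, 5, 7, 11, 9, 11, 5, 7, 5, 7, 9, 7, 11, 9, 5, 7, 5, 11, 11, 9, 7, 9, 11, 9, 13, 11, 11, 13, 13, 9, 5, 7, 11, 9, 11, 5, 7, 5, 7, 9, 7, 11, 9, 5, 7, 5, 11, 11, 9, 7, 9, 11, 9, 13, 11, 11, 13, 13]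

end CfsgLib.Coset.Th
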