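import Cfsg.Agent.Coset.Th.Upper
import Cfsg.Agent.Coset.Th.KillData
import Mathlib.Data.List.Sort

/-!
A derived relator of the point stabiliser: twelve relator loops in which every edge of the coset
graph occurs an even number of times.
-/

set_option autoImplicit false
set_option maxRecDepth 100000
set_option Elab.async false

namespace CfsgLib.Coset.Th

open CfsgLib.Coset.Ly (iv ff ff_eq)

/-- The inverse word. -/
def invW (w : List Nat) : List Nat := w.reverse.map fun l => Nat.xor l 1

/-- Put a letter in front, cancelling. -/
def consR : Nat → List Nat → List Nat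
  | l, [] => [l]
  | l, m :: t => if l < 14 ∧ m = Nat.xor l 1 then t else l :: m :: t

/-- Free reduction. -/
def redW : List Nat → List Nat
  | [] => []
  | l :: t => consR l (redW t)

theorem ev_redW : ∀ w : List Nat, ev LA (redW w) = ev LA w
  | [] => rfl
  | l :: t => by
    rw [redW, ev_cons, ← ev_redW t]
    generalize redW t = u
    rcases u with _ | ⟨m, s⟩
    · simp [consR]
    · rw [consR]
      split
      · next h =>
        rw [ev_cons, h.2, ← mul_assoc, (pairsA l h.1).2, one_mul]
      · simp

theorem ev_invW : ∀ w : List Nat, (∀ l ∈ w, l < 14) → ev LA (invW w) = (ev LA w)⁻¹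
  | [], _ => by simp [invW]
  | l :: w, h => by
    have hl := h l (by simp)
    have e : invW (l :: w) = invW w ++ [Nat.xor l 1] := by simp [invW]
    rw [e, ev_append, ev_invW w fun x hx => h x (by simp [hx]), ev_cons, ev_cons, mul_inv_rev,
      ev_nil, mul_one, inv_eq_of_mul_eq_one_right (pairsA l hl).2]

/-- The word along an edge. -/
def xW (j : Nat) : List Nat := (killVars.getD j ([], [])).1
/-- The word in the point stabiliser with the same image. -/
def yW (j : Nat) : List Nat := (killVars.getD j ([], [])).2

/-- Two words act in the same way at every point. -/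
noncomputable def sameAll (v w : List Nat) : Bool :=
  allBelow 10 819 fun i => Nat.beq (ff (tget TP.Tb) i v) (ff (tget TP.Tb) i w)

theorem ρ_eq_of_sameAll {v w : List Nat} (hv : ∀ l ∈ v, l < 14) (hw : ∀ l ∈ w, l < 14)
    (h : sameAll v w = true) : ρ (ev LA v) = ρ (ev LA w) := by
  have hinv : (ρ (ev LA v))⁻¹ = (ρ (ev LA w))⁻¹ := by
    refine Equiv.ext fun i => Fin.ext ?_
    have e := Nat.eq_of_beq_eq_true (of_allBelow h i i.2)
    rw [ff_eq, ff_eq, ← matches_ρ.follow_eq v i (len_LA.symm ▸ hv),
      ← matches_ρ.follow_eq w i (len_LA.symm ▸ hw)] at e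
    exact e
  exact inv_injective hinv

/-- The discrepancy of an edge. -/
noncomputable def kk (j : Nat) : A := ev LA (xW j) * (ev LA (yW j))⁻¹

theorem vars_ok : ∀ j < 17, (∀ l ∈ xW j, l < 14) ∧ (∀ l ∈ yW j, l < 14) ∧
    sameAll (xW j) (yW j) = true := by
  decide +kernel

theorem kk_mem (j : Nat) : kk j ∈ ρ.ker := by
  rcases lt_or_ge j 17 with hj | hj
  · obtain ⟨h1, h2, h3⟩ := vars_ok j hj
    rw [MonoidHom.mem_ker, kk, map_mul, map_inv, ρ_eq_of_sameAll h1 h2 h3, mul_inv_cancel]
  · have : killVars.getD j ([], []) = ([], []) :=
      List.getD_eq_default _ _ (le_trans (by decide +kernel) hj)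
    rw [MonoidHom.mem_ker, kk, xW, yW, this]
    simp

theorem kk_sq (j : Nat) : kk j * kk j = 1 := (ker_central (kk_mem j)).1

theorem kk_comm (j : Nat) (g : A) : g * kk j = kk j * g := (ker_central (kk_mem j)).2 g

/-- The product of the discrepancies along a list of edges. -/
noncomputable def kprod (I : List Nat) : A := (I.map kk).prod

theorem kprod_comm : ∀ (I : List Nat) (g : A), g * kprod I = kprod I * g
  | [], g => by simp [kprod]
  | j :: I, g => by
    have h := kprod_comm I g
    simp only [kprod, List.map_cons, List.prod_cons] at h ⊢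
    rw [← mul_assoc, kk_comm, mul_assoc, h, mul_assoc]

theorem ev_xs : ∀ I : List Nat,
    ev LA (I.map xW).flatten = kprod I * ev LA (I.map yW).flatten
  | [] => by simp [kprod]
  | j :: I => by
    rw [List.map_cons, List.map_cons, List.flatten_cons, List.flatten_cons, ev_append, ev_append,
      ev_xs I]
    have hx : ev LA (xW j) = kk j * ev LA (yW j) := by simp [kk]
    have hc : kprod (j :: I) = kk j * kprod I := by simp [kprod]
    rw [hx, hc]
    calc kk j * ev LA (yW j) * (kprod I * ev LA (I.map yW).flatten)
        = kk j * (ev LA (yW j) * kprod I) * ev LA (I.map yW).flatten := by group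
      _ = kk j * kprod I * (ev LA (yW j) * ev LA (I.map yW).flatten) := by
        rw [kprod_comm I (ev LA (yW j))]; group

/-- The stabiliser word of a loop. -/
def loopW (e : List Nat × List Nat × Nat × List Nat) : List Nat :=
  (e.1.map yW).flatten ++ e.2.2.2

/-- The check of a loop. -/
def loopOK (e : List Nat × List Nat × Nat × List Nat) : Bool :=
  decide (redW ((e.1.map xW).flatten ++ e.2.2.2) =
      redW (e.2.1 ++ relsA.getD e.2.2.1 [] ++ invW e.2.1)) &&
    decide (∀ l ∈ e.2.1, l < 14)

theorem ev_loopW {e : List Nat × List Nat × Nat × List Nat} (h : loopOK e = true) :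
    kprod e.1 * ev LA (loopW e) = 1 := by
  simp only [loopOK, Bool.and_eq_true, decide_eq_true_eq] at h
  have e1 := congrArg (ev LA) h.1
  rw [ev_redW, ev_redW, ev_append, ev_append, ev_append, ev_invW _ h.2, ev_xs] at e1
  have hr : ev LA (relsA.getD e.2.2.1 []) = 1 := by
    rcases lt_or_ge e.2.2.1 relsA.length with hl | hl
    · rw [List.getD_eq_getElem _ _ hl]; exact ev_relsA _ (List.getElem_mem hl)
    · rw [List.getD_eq_default _ _ hl, ev_nil]
  rw [hr, mul_one, mul_inv_cancel] at e1
  rw [loopW, ev_append, ← mul_assoc]
  exact e1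

theorem ev_loops : ∀ E : List (List Nat × List Nat × Nat × List Nat),
    (∀ e ∈ E, loopOK e = true) →
      kprod (E.map fun e => e.1).flatten * ev LA (E.map loopW).flatten = 1
  | [], _ => by simp [kprod]
  | e :: E, h => by
    have h1 := ev_loopW (h e (by simp))
    have h2 := ev_loops E fun x hx => h x (by simp [hx])
    rw [List.map_cons, List.map_cons, List.flatten_cons, List.flatten_cons, ev_append]
    have hk : kprod (e.1 ++ (E.map fun e => e.1).flatten) =
        kprod e.1 * kprod (E.map fun e => e.1).flatten := by simp [kprod]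
    rw [hk]
    calc kprod e.1 * kprod (E.map fun e => e.1).flatten *
          (ev LA (loopW e) * ev LA (E.map loopW).flatten)
        = kprod e.1 * (kprod (E.map fun e => e.1).flatten * ev LA (loopW e)) *
            ev LA (E.map loopW).flatten := by group
      _ = kprod e.1 * ev LA (loopW e) *
            (kprod (E.map fun e => e.1).flatten * ev LA (E.map loopW).flatten) := by
        rw [← kprod_comm (E.map fun e => e.1).flatten (ev LA (loopW e))]; group
      _ = 1 := by rw [h1, h2, mul_one]

/-- A list consisting of equal neighbours. -/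
def paired : List Nat → Bool
  | [] => true
  | [_] => false
  | a :: b :: t => (a == b) && paired t

theorem kprod_paired : ∀ I : List Nat, paired I = true → kprod I = 1
  | [], _ => by simp [kprod]
  | [_], h => by simp [paired] at h
  | a :: b :: t, h => by
    simp only [paired, Bool.and_eq_true, beq_iff_eq] at h
    have ht := kprod_paired t h.2
    simp only [kprod, List.map_cons, List.prod_cons] at ht ⊢
    rw [ht, mul_one, ← h.1, kk_sq]

theorem kprod_perm {I J : List Nat} (h : I.Perm J) : kprod I = kprod J := by
  refine (h.map kk).prod_eq' ?_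
  refine List.pairwise_of_forall_mem_list fun a ha b _ => ?_
  obtain ⟨j, -, rfl⟩ := List.mem_map.mp ha
  exact (kk_comm j b).symm

theorem ev_relK : ev LA relK = 1 := by
  have h := ev_loops killEqs (by decide +kernel)
  have hp : kprod (killEqs.map fun e => e.1).flatten = 1 := by
    rw [kprod_perm (List.perm_insertionSort (· ≤ ·) _).symm]
    exact kprod_paired _ (by decide +kernel)
  rw [hp, one_mul, ← ev_redW, show redW (killEqs.map loopW).flatten = relK by decide +kernel] at h
  exact h

end CfsgLib.Coset.Th
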