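import Cfsg.Agent.Coset.Th.MatMask
import Cfsg.Agent.Coset.Th.MatData

/-!
Each letter of the matrix model is inverse to its partner; checked on half of the unit vectors at a time.
-/

set_option autoImplicit false
set_option maxRecDepth 100000
set_option Elab.async false

namespace CfsgLib.Coset.Th

theorem pair0_blk0 : fixB K124 matL 248 124 [0, 1] 0 = true := by decide +kernel

theorem pair0_blk1 : fixB K124 matL 248 124 [0, 1] 1 = true := by decide +kernel

theorem pair2_blk0 : fixB K124 matL 248 124 [2, 3] 0 = true := by decide +kernel

theorem pair2_blk1 : fixB K124 matL 248 124 [2, 3] 1 = true := by decide +kernel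

theorem pair4_blk0 : fixB K124 matL 248 124 [4, 5] 0 = true := by decide +kernel

theorem pair4_blk1 : fixB K124 matL 248 124 [4, 5] 1 = true := by decide +kernel

theorem pair6_blk0 : fixB K124 matL 248 124 [6, 7] 0 = true := by decide +kernel

theorem pair6_blk1 : fixB K124 matL 248 124 [6, 7] 1 = true := by decide +kernel

theorem pair8_blk0 : fixB K124 matL 248 124 [8, 9] 0 = true := by decide +kernel

theorem pair8_blk1 : fixB K124 matL 248 124 [8, 9] 1 = true := by decide +kernel

theorem pair10_blk0 : fixB K124 matL 248 124 [10, 11] 0 = true := by decide +kernel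

theorem pair10_blk1 : fixB K124 matL 248 124 [10, 11] 1 = true := by decide +kernel

theorem pair12_blk0 : fixB K124 matL 248 124 [12, 13] 0 = true := by decide +kernel

theorem pair12_blk1 : fixB K124 matL 248 124 [12, 13] 1 = true := by decide +kernel

theorem pair14_blk0 : fixB K124 matL 248 124 [14, 15] 0 = true := by decide +kernel

theorem pair14_blk1 : fixB K124 matL 248 124 [14, 15] 1 = true := by decide +kernel

end CfsgLib.Coset.Th
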