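import Cfsg.Agent.Coset.Th.MatMask
import Cfsg.Agent.Coset.Th.MatData
import Cfsg.Agent.Coset.Th.Words

/-!
Relators fix each unit vector of the matrix model; checked on half of them at a time.
-/

set_option autoImplicit false
set_option maxRecDepth 100000
set_option Elab.async false

namespace CfsgLib.Coset.Th

theorem rel13_blk0 : fixB K124 matL 248 124 (relW.getD 13 []) 0 = true := by decide +kernel

theorem rel13_blk1 : fixB K124 matL 248 124 (relW.getD 13 []) 1 = true := by decide +kernel

end CfsgLib.Coset.Th
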