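import Cfsg.Agent.Coset.Th.MatMask
import Cfsg.Agent.Coset.Th.MatData
import Cfsg.Agent.Coset.Th.Words

/-!
Relators fix each unit vector of the matrix model; checked on half of them at a time.
-/

set_option autoImplicit false
set_option maxRecDepth 100000
set_option Elab.async false

namespace CfsgLib.Coset.Th

theorem rel0_blk0 : fixB K124 matL 248 124 (relW.getD 0 []) 0 = true := by decide +kernel

theorem rel0_blk1 : fixB K124 matL 248 124 (relW.getD 0 []) 1 = true := by decide +kernel

theorem rel1_blk0 : fixB K124 matL 248 124 (relW.getD 1 []) 0 = true := by decide +kernel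

theorem rel1_blk1 : fixB K124 matL 248 124 (relW.getD 1 []) 1 = true := by decide +kernel

theorem rel2_blk0 : fixB K124 matL 248 124 (relW.getD 2 []) 0 = true := by decide +kernel

theorem rel2_blk1 : fixB K124 matL 248 124 (relW.getD 2 []) 1 = true := by decide +kernel

theorem rel3_blk0 : fixB K124 matL 248 124 (relW.getD 3 []) 0 = true := by decide +kernel

theorem rel3_blk1 : fixB K124 matL 248 124 (relW.getD 3 []) 1 = true := by decide +kernel

theorem rel4_blk0 : fixB K124 matL 248 124 (relW.getD 4 []) 0 = true := by decide +kernel

theorem rel4_blk1 : fixB K124 matL 248 124 (relW.getD 4 []) 1 = true := by decide +kernel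

theorem rel5_blk0 : fixB K124 matL 248 124 (relW.getD 5 []) 0 = true := by decide +kernel

theorem rel5_blk1 : fixB K124 matL 248 124 (relW.getD 5 []) 1 = true := by decide +kernel

theorem rel6_blk0 : fixB K124 matL 248 124 (relW.getD 6 []) 0 = true := by decide +kernel

theorem rel6_blk1 : fixB K124 matL 248 124 (relW.getD 6 []) 1 = true := by decide +kernel

theorem rel7_blk0 : fixB K124 matL 248 124 (relW.getD 7 []) 0 = true := by decide +kernel

theorem rel7_blk1 : fixB K124 matL 248 124 (relW.getD 7 []) 1 = true := by decide +kernel

theorem rel8_blk0 : fixB K124 matL 248 124 (relW.getD 8 []) 0 = true := by decide +kernel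

theorem rel8_blk1 : fixB K124 matL 248 124 (relW.getD 8 []) 1 = true := by decide +kernel

theorem rel9_blk0 : fixB K124 matL 248 124 (relW.getD 9 []) 0 = true := by decide +kernel

theorem rel9_blk1 : fixB K124 matL 248 124 (relW.getD 9 []) 1 = true := by decide +kernel

theorem rel10_blk0 : fixB K124 matL 248 124 (relW.getD 10 []) 0 = true := by decide +kernel

theorem rel10_blk1 : fixB K124 matL 248 124 (relW.getD 10 []) 1 = true := by decide +kernel

theorem rel11_blk0 : fixB K124 matL 248 124 (relW.getD 11 []) 0 = true := by decide +kernel

theorem rel11_blk1 : fixB K124 matL 248 124 (relW.getD 11 []) 1 = true := by decide +kernel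

theorem rel12_blk0 : fixB K124 matL 248 124 (relW.getD 12 []) 0 = true := by decide +kernel

theorem rel12_blk1 : fixB K124 matL 248 124 (relW.getD 12 []) 1 = true := by decide +kernel

theorem rel14_blk0 : fixB K124 matL 248 124 (relW.getD 14 []) 0 = true := by decide +kernel

theorem rel14_blk1 : fixB K124 matL 248 124 (relW.getD 14 []) 1 = true := by decide +kernel

theorem rel15_blk0 : fixB K124 matL 248 124 (relW.getD 15 []) 0 = true := by decide +kernel

theorem rel15_blk1 : fixB K124 matL 248 124 (relW.getD 15 []) 1 = true := by decide +kernel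

theorem rel16_blk0 : fixB K124 matL 248 124 (relW.getD 16 []) 0 = true := by decide +kernel

theorem rel16_blk1 : fixB K124 matL 248 124 (relW.getD 16 []) 1 = true := by decide +kernel

theorem rel17_blk0 : fixB K124 matL 248 124 (relW.getD 17 []) 0 = true := by decide +kernel

theorem rel17_blk1 : fixB K124 matL 248 124 (relW.getD 17 []) 1 = true := by decide +kernel

theorem rel18_blk0 : fixB K124 matL 248 124 (relW.getD 18 []) 0 = true := by decide +kernel

theorem rel18_blk1 : fixB K124 matL 248 124 (relW.getD 18 []) 1 = true := by decide +kernel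

theorem rel19_blk0 : fixB K124 matL 248 124 (relW.getD 19 []) 0 = true := by decide +kernel

theorem rel19_blk1 : fixB K124 matL 248 124 (relW.getD 19 []) 1 = true := by decide +kernel

theorem rel20_blk0 : fixB K124 matL 248 124 (relW.getD 20 []) 0 = true := by decide +kernel

theorem rel20_blk1 : fixB K124 matL 248 124 (relW.getD 20 []) 1 = true := by decide +kernel

theorem rel21_blk0 : fixB K124 matL 248 124 (relW.getD 21 []) 0 = true := by decide +kernel

theorem rel21_blk1 : fixB K124 matL 248 124 (relW.getD 21 []) 1 = true := by decide +kernel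

theorem rel22_blk0 : fixB K124 matL 248 124 (relW.getD 22 []) 0 = true := by decide +kernel

theorem rel22_blk1 : fixB K124 matL 248 124 (relW.getD 22 []) 1 = true := by decide +kernel

theorem rel23_blk0 : fixB K124 matL 248 124 (relW.getD 23 []) 0 = true := by decide +kernel

theorem rel23_blk1 : fixB K124 matL 248 124 (relW.getD 23 []) 1 = true := by decide +kernel

theorem rel24_blk0 : fixB K124 matL 248 124 (relW.getD 24 []) 0 = true := by decide +kernel

theorem rel24_blk1 : fixB K124 matL 248 124 (relW.getD 24 []) 1 = true := by decide +kernel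

theorem rel25_blk0 : fixB K124 matL 248 124 (relW.getD 25 []) 0 = true := by decide +kernel

theorem rel25_blk1 : fixB K124 matL 248 124 (relW.getD 25 []) 1 = true := by decide +kernel

theorem rel26_blk0 : fixB K124 matL 248 124 (relW.getD 26 []) 0 = true := by decide +kernel

theorem rel26_blk1 : fixB K124 matL 248 124 (relW.getD 26 []) 1 = true := by decide +kernel

theorem rel27_blk0 : fixB K124 matL 248 124 (relW.getD 27 []) 0 = true := by decide +kernel

theorem rel27_blk1 : fixB K124 matL 248 124 (relW.getD 27 []) 1 = true := by decide +kernel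

theorem rel28_blk0 : fixB K124 matL 248 124 (relW.getD 28 []) 0 = true := by decide +kernel

theorem rel28_blk1 : fixB K124 matL 248 124 (relW.getD 28 []) 1 = true := by decide +kernel

theorem rel29_blk0 : fixB K124 matL 248 124 (relW.getD 29 []) 0 = true := by decide +kernel

theorem rel29_blk1 : fixB K124 matL 248 124 (relW.getD 29 []) 1 = true := by decide +kernel

theorem rel30_blk0 : fixB K124 matL 248 124 (relW.getD 30 []) 0 = true := by decide +kernel

theorem rel30_blk1 : fixB K124 matL 248 124 (relW.getD 30 []) 1 = true := by decide +kernel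

theorem rel31_blk0 : fixB K124 matL 248 124 (relW.getD 31 []) 0 = true := by decide +kernel

theorem rel31_blk1 : fixB K124 matL 248 124 (relW.getD 31 []) 1 = true := by decide +kernel

theorem rel32_blk0 : fixB K124 matL 248 124 (relW.getD 32 []) 0 = true := by decide +kernel

theorem rel32_blk1 : fixB K124 matL 248 124 (relW.getD 32 []) 1 = true := by decide +kernel

theorem rel34_blk0 : fixB K124 matL 248 124 (relW.getD 34 []) 0 = true := by decide +kernel

theorem rel34_blk1 : fixB K124 matL 248 124 (relW.getD 34 []) 1 = true := by decide +kernel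

theorem rel35_blk0 : fixB K124 matL 248 124 (relW.getD 35 []) 0 = true := by decide +kernel

theorem rel35_blk1 : fixB K124 matL 248 124 (relW.getD 35 []) 1 = true := by decide +kernel

theorem rel36_blk0 : fixB K124 matL 248 124 (relW.getD 36 []) 0 = true := by decide +kernel

theorem rel36_blk1 : fixB K124 matL 248 124 (relW.getD 36 []) 1 = true := by decide +kernel

end CfsgLib.Coset.Th
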