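import Cfsg.Agent.Coset.Th.MatOK
import Cfsg.Agent.Coset.Th.MatPairs
import Cfsg.Agent.Coset.Th.MatRels0
import Cfsg.Agent.Coset.Th.MatRels1
import Cfsg.Agent.Coset.Th.MatRels2
import Cfsg.Agent.Coset.Th.MatRels3
import Cfsg.Agent.Coset.Th.Group0

/-!
The representation of the presented Thompson group by matrices of degree 248 modulo 3; its first
fourteen letters preserve the first 52 and the last 196 coordinates.
-/

set_option autoImplicit false
set_option maxRecDepth 100000
set_option maxHeartbeats 1000000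

namespace CfsgLib.Coset.Th

theorem relW_matWord : ∀ w ∈ relW, matWord 248 matL w = 1 := by
  intro w hw
  obtain ⟨i, hi, rfl⟩ := List.getElem_of_mem hw
  have hlt : ∀ l ∈ relW[i], l < matL.length := fun l hl =>
    ((by decide +kernel : ∀ v ∈ relW, ∀ l ∈ v, l < 16) _ (List.getElem_mem hi) l hl).trans_eq
      len_matL.symm
  have hi' : i < 39 := hi
  refine matWord_eq_one (B := 2) (by norm_num) (by norm_num) K1_eq K124_eq matL_ok hlt rfl
    fun b hb => ?_
  rw [← List.getD_eq_getElem relW [] hi]
  interval_cases i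
  · interval_cases b
    exacts [rel0_blk0, rel0_blk1]
  · interval_cases b
    exacts [rel1_blk0, rel1_blk1]
  · interval_cases b
    exacts [rel2_blk0, rel2_blk1]
  · interval_cases b
    exacts [rel3_blk0, rel3_blk1]
  · interval_cases b
    exacts [rel4_blk0, rel4_blk1]
  · interval_cases b
    exacts [rel5_blk0, rel5_blk1]
  · interval_cases b
    exacts [rel6_blk0, rel6_blk1]
  · interval_cases b
    exacts [rel7_blk0, rel7_blk1]
  · interval_cases b
    exacts [rel8_blk0, rel8_blk1]
  · interval_cases b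
    exacts [rel9_blk0, rel9_blk1]
  · interval_cases b
    exacts [rel10_blk0, rel10_blk1]
  · interval_cases b
    exacts [rel11_blk0, rel11_blk1]
  · interval_cases b
    exacts [rel12_blk0, rel12_blk1]
  · interval_cases b
    exacts [rel13_blk0, rel13_blk1]
  · interval_cases b
    exacts [rel14_blk0, rel14_blk1]
  · interval_cases b
    exacts [rel15_blk0, rel15_blk1]
  · interval_cases b
    exacts [rel16_blk0, rel16_blk1]
  · interval_cases b
    exacts [rel17_blk0, rel17_blk1]
  · interval_cases b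
    exacts [rel18_blk0, rel18_blk1]
  · interval_cases b
    exacts [rel19_blk0, rel19_blk1]
  · interval_cases b
    exacts [rel20_blk0, rel20_blk1]
  · interval_cases b
    exacts [rel21_blk0, rel21_blk1]
  · interval_cases b
    exacts [rel22_blk0, rel22_blk1]
  · interval_cases b
    exacts [rel23_blk0, rel23_blk1]
  · interval_cases b
    exacts [rel24_blk0, rel24_blk1]
  · interval_cases b
    exacts [rel25_blk0, rel25_blk1]
  · interval_cases b
    exacts [rel26_blk0, rel26_blk1]
  · interval_cases b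
    exacts [rel27_blk0, rel27_blk1]
  · interval_cases b
    exacts [rel28_blk0, rel28_blk1]
  · interval_cases b
    exacts [rel29_blk0, rel29_blk1]
  · interval_cases b
    exacts [rel30_blk0, rel30_blk1]
  · interval_cases b
    exacts [rel31_blk0, rel31_blk1]
  · interval_cases b
    exacts [rel32_blk0, rel32_blk1]
  · interval_cases b
    exacts [rel33_blk0, rel33_blk1]
  · interval_cases b
    exacts [rel34_blk0, rel34_blk1]
  · interval_cases b
    exacts [rel35_blk0, rel35_blk1]
  · interval_cases b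
    exacts [rel36_blk0, rel36_blk1]
  · interval_cases b
    exacts [rel37_blk0, rel37_blk1]
  · interval_cases b
    exacts [rel38_blk0, rel38_blk1]

theorem pairs_even : ∀ k < 8, matWord 248 matL [2 * k, 2 * k + 1] = 1 := by
  intro k hk
  refine matWord_eq_one (B := 2) (by norm_num) (by norm_num) K1_eq K124_eq matL_ok ?_ rfl
    fun b hb => ?_
  · intro l hl
    rw [len_matL]
    simp only [List.mem_cons, List.not_mem_nil, or_false] at hl
    omega
  interval_cases k
  · interval_cases b
    exacts [pair0_blk0, pair0_blk1]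
  · interval_cases b
    exacts [pair2_blk0, pair2_blk1]
  · interval_cases b
    exacts [pair4_blk0, pair4_blk1]
  · interval_cases b
    exacts [pair6_blk0, pair6_blk1]
  · interval_cases b
    exacts [pair8_blk0, pair8_blk1]
  · interval_cases b
    exacts [pair10_blk0, pair10_blk1]
  · interval_cases b
    exacts [pair12_blk0, pair12_blk1]
  · interval_cases b
    exacts [pair14_blk0, pair14_blk1]

theorem xor_one : ∀ k < 8, Nat.xor (2 * k) 1 = 2 * k + 1 ∧ Nat.xor (2 * k + 1) 1 = 2 * k := by
  decide +kernel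

attribute [local irreducible] matL matOf

theorem mat_pair (l : Fin 16) :
    matOf 248 (matL.getD l []) * matOf 248 (matL.getD (Nat.xor l 1) []) = 1 := by
  obtain ⟨k, hk, h | h⟩ : ∃ k < 8, (l : ℕ) = 2 * k ∨ (l : ℕ) = 2 * k + 1 :=
    ⟨(l : ℕ) / 2, by have := l.2; omega, by omega⟩
  all_goals
    have hp := pairs_even k hk
    simp only [matWord, List.map_cons, List.map_nil, List.prod_cons, List.prod_nil, mul_one] at hp
  · rw [h, (xor_one k hk).1]
    exact hp
  · rw [h, (xor_one k hk).2]
    exact (mul_eq_one_comm (a := matOf 248 (matL.getD (2 * k) []))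
      (b := matOf 248 (matL.getD (2 * k + 1) []))).mp hp

/-- The matrix of a letter, as a unit. -/
def gR (l : Fin 16) : GL (Fin 248) (ZMod 3) where
  val := matOf 248 (matL.getD l [])
  inv := matOf 248 (matL.getD (Nat.xor l 1) [])
  val_inv := mat_pair l
  inv_val := mul_eq_one_comm.mp (mat_pair l)

/-- The letters in the matrix group. -/
def LR : List (GL (Fin 248) (ZMod 3)) := List.ofFn gR

theorem len_LR : LR.length = 16 := List.length_ofFn

theorem val_fl_LR {l : Nat} (hl : l < 16) :
    ((fl LR l : GL (Fin 248) (ZMod 3)) : Matrix (Fin 248) (Fin 248) (ZMod 3)) =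
      matOf 248 (matL.getD l []) := by
  rw [fl, List.getD_eq_getElem _ _ (by rw [len_LR]; exact hl)]
  unfold LR
  rw [List.getElem_ofFn]
  rfl

attribute [local irreducible] LR gR

theorem val_ev_LR : ∀ w : List Nat, (∀ l ∈ w, l < 16) →
    ((ev LR w : GL (Fin 248) (ZMod 3)) : Matrix (Fin 248) (Fin 248) (ZMod 3)) =
      matWord 248 matL w := by
  intro w
  induction w with
  | nil => intro _; simp [matWord]
  | cons l w ih =>
    intro hw
    rw [ev_cons, Units.val_mul, val_fl_LR (hw l (by simp)), ih fun x hx => hw x (by simp [hx])]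
    simp [matWord]

theorem relW_LR : ∀ w ∈ relW, ev LR w = 1 := by
  intro w hw
  refine Units.ext ?_
  rw [val_ev_LR w ((by decide +kernel : ∀ v ∈ relW, ∀ l ∈ v, l < 16) w hw), relW_matWord w hw]
  rfl

theorem pair_LR {l : Nat} (hl : l < 16) : fl LR l * fl LR (Nat.xor l 1) = 1 := by
  refine Units.ext ?_
  rw [Units.val_mul, val_fl_LR hl,
    val_fl_LR ((by decide +kernel : ∀ m < 16, Nat.xor m 1 < 16) l hl)]
  exact mat_pair ⟨l, hl⟩

open Cfsg.Spor.Th (Gen)

/-- The image of a printed generator. -/
def genR (x : Gen) : GL (Fin 248) (ZMod 3) := fl LR (2 * genIdx x)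

theorem genR_inv (x : Gen) : (genR x)⁻¹ = fl LR (2 * genIdx x + 1) := by
  have h : genIdx x < 8 := by cases x <;> decide
  have := pair_LR (l := 2 * genIdx x) (by omega)
  rw [(xor_one _ h).1] at this
  exact inv_eq_of_mul_eq_one_right this

theorem lift_eq_ev_gen {X : Type*} [Group X] (f : Gen → X) (M : List X)
    (h1 : ∀ x, fl M (2 * genIdx x) = f x) (h2 : ∀ x, fl M (2 * genIdx x + 1) = (f x)⁻¹)
    (r : FreeGroup Gen) : FreeGroup.lift f r = ev M (tw r) := by
  set g := FreeGroup.lift f with hg
  have key : ∀ v : List (Gen × Bool), g (FreeGroup.mk v) = ev M (v.flatMap sw) := by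
    intro v
    induction v with
    | nil => rw [← FreeGroup.one_eq_mk, map_one]; rfl
    | cons p v ih =>
      have e : FreeGroup.mk (p :: v) = FreeGroup.mk [p] * FreeGroup.mk v := rfl
      rw [e, map_mul, ih, List.flatMap_cons, ev_append]
      congr 1
      obtain ⟨x, b⟩ := p
      have hx : g (FreeGroup.of x) = f x := FreeGroup.lift_apply_of
      cases b
      · rw [show FreeGroup.mk [(x, false)] = (FreeGroup.of x)⁻¹ from rfl, map_inv, hx,
          show sw (x, false) = [2 * genIdx x + 1] from rfl, ev_cons, ev_nil, mul_one, h2]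
      · rw [show sw (x, true) = [2 * genIdx x] from rfl, ev_cons, ev_nil, mul_one, h1]
        exact hx
  conv_lhs => rw [← FreeGroup.mk_toWord (x := r)]
  exact key r.toWord

theorem lift_eq_ev (r : FreeGroup Gen) : FreeGroup.lift genR r = ev LR (tw r) :=
  lift_eq_ev_gen genR LR (fun x => by rw [genR]) (fun x => (genR_inv x).symm) r

theorem lift_rels : ∀ r ∈ Cfsg.Spor.coxRelators Cfsg.Spor.Th.edges ∪ {r | r ∈ Cfsg.Spor.Th.extra},
    FreeGroup.lift genR r = 1 := by
  rintro r (⟨x, hx, y, -, -⟩ | hr)
  · simp [Cfsg.Spor.Th.edges, Cfsg.Spor.coxNodes] at hx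
  · rw [lift_eq_ev]
    refine relW_LR _ ?_
    rw [← relW_eq]
    exact List.mem_map_of_mem hr

/-- The representation of the presented group. -/
def repTh : Cfsg.Spor.Th →* GL (Fin 248) (ZMod 3) :=
  PresentedGroup.toGroup (f := genR) lift_rels

theorem repTh_of (y : Gen) : repTh (mkTh (FreeGroup.of y)) = genR y :=
  PresentedGroup.toGroup.of lift_rels

attribute [local irreducible] repTh

theorem repTh_fl : ∀ l < 16, repTh (fl LG l) = fl LR l := by
  have he : ∀ k < 8, repTh (fl LG (2 * k)) = fl LR (2 * k) ∧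
      repTh (fl LG (2 * k + 1)) = fl LR (2 * k + 1) := by
    intro k hk
    have h1 : fl LG (2 * k) = mkTh (FreeGroup.of (baseG.getD k .a)) ∧
        fl LG (2 * k + 1) = (mkTh (FreeGroup.of (baseG.getD k .a)))⁻¹ ∧
        genIdx (baseG.getD k .a) = k := by
      interval_cases k <;> exact ⟨rfl, rfl, rfl⟩
    obtain ⟨a, b, c⟩ := h1
    rw [a, b, map_inv, repTh_of, genR_inv, genR, c]
    exact ⟨rfl, rfl⟩
  intro l hl
  obtain ⟨k, hk, rfl | rfl⟩ : ∃ k < 8, l = 2 * k ∨ l = 2 * k + 1 :=
    ⟨l / 2, by omega, by omega⟩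
  exacts [(he k hk).1, (he k hk).2]

theorem repTh_ev (w : List Nat) (hw : ∀ l ∈ w, l < 16) : repTh (ev LG w) = ev LR w := by
  induction w with
  | nil => simp
  | cons l w ih =>
    rw [ev_cons, ev_cons, map_mul, repTh_fl l (hw l (by simp)), ih fun x hx => hw x (by simp [hx])]

/-- The matrix of a letter of the presented group. -/
theorem val_repTh_fl {l : Nat} (hl : l < 16) :
    ((repTh (fl LG l) : GL (Fin 248) (ZMod 3)) : Matrix (Fin 248) (Fin 248) (ZMod 3)) =
      matOf 248 (matL.getD l []) := by
  rw [repTh_fl l hl, val_fl_LR hl]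

/-- The code of the image of a vector under a word. -/
theorem vrun_rep (w : List Nat) (hw : ∀ l ∈ w, l < 16) (v : Fin 248 → ZMod 3) :
    vrun K1 matL (code v) w =
      code (Matrix.vecMul v ((repTh (ev LG w)) : Matrix (Fin 248) (Fin 248) (ZMod 3))) := by
  have hok := matL_ok
  rw [K1_eq] at hok ⊢
  rw [vrun_code (by norm_num) (by norm_num) hok w (fun l hl => (hw l hl).trans_eq len_matL.symm),
    repTh_ev w hw, val_ev_LR w hw]

/-- A row below 52 has no coordinate from 52 on and conversely. -/
noncomputable def blockOK (rows : List Nat) : Bool :=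
  allBlock 8 0 fun i => cond (Nat.ble 248 i) true
    (cond (Nat.ble 52 i) (Nat.beq (Nat.land (rows.getD i 0) (Nat.pred (Nat.pow 2 520))) 0)
      (Nat.beq (Nat.shiftRight (rows.getD i 0) 520) 0))

theorem blocks_ok : ∀ l < 14, blockOK (matL.getD l []) = true := by decide +kernel

theorem blockOK_entry {rows : List Nat} (h : blockOK rows = true) (i j : Fin 248)
    (hij : ((i : ℕ) < 52 ∧ 52 ≤ (j : ℕ)) ∨ (52 ≤ (i : ℕ) ∧ (j : ℕ) < 52)) :
    matOf 248 rows i j = 0 := by
  have h0 := allBlock_iff 8 0 _ h i (by omega) (by have := i.2; omega)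
  rw [show Nat.ble 248 i = false from Bool.eq_false_iff.mpr fun h => by
    have := Nat.ble_eq.mp h; have := i.2; omega, cond_false] at h0
  unfold matOf
  show ((lane (rows.getD i 0) j : ℕ) : ZMod 3) = 0
  suffices lane (rows.getD i 0) j = 0 by rw [this]; rfl
  generalize rows.getD i 0 = r at h0 ⊢
  rcases hij with ⟨hi, hj⟩ | ⟨hi, hj⟩
  · rw [show Nat.ble 52 i = false from Bool.eq_false_iff.mpr fun h => by
      have := Nat.ble_eq.mp h; omega, cond_false] at h0
    have h1 : r >>> 520 = 0 := Nat.eq_of_beq_eq_true h0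
    rw [Nat.shiftRight_eq_div_pow, Nat.div_eq_zero_iff] at h1
    have hlt : r < 2 ^ (10 * (j : ℕ)) :=
      (h1.resolve_left (by positivity)).trans_le (Nat.pow_le_pow_right (by norm_num) (by omega))
    rw [lane, Nat.div_eq_of_lt hlt, Nat.zero_mod]
  · rw [show Nat.ble 52 i = true from Nat.ble_eq.mpr hi, cond_true] at h0
    have h1 : r &&& (2 ^ 520 - 1) = 0 := Nat.eq_of_beq_eq_true h0
    rw [Nat.and_two_pow_sub_one_eq_mod] at h1
    obtain ⟨c, rfl⟩ := Nat.dvd_of_mod_eq_zero h1
    rw [lane, show 520 = 10 * (j : ℕ) + 10 + (510 - 10 * (j : ℕ)) by omega, pow_add, pow_add,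
      mul_assoc, mul_assoc, Nat.mul_div_cancel_left _ (by positivity), Nat.mul_mod_right]

/-- The letters below fourteen preserve the two coordinate blocks. -/
theorem block {l : Nat} (hl : l < 14) (i j : Fin 248)
    (hij : ((i : ℕ) < 52 ∧ 52 ≤ (j : ℕ)) ∨ (52 ≤ (i : ℕ) ∧ (j : ℕ) < 52)) :
    ((repTh (fl LG l) : GL (Fin 248) (ZMod 3)) : Matrix (Fin 248) (Fin 248) (ZMod 3)) i j = 0 := by
  rw [val_repTh_fl (by omega)]
  exact blockOK_entry (blocks_ok l hl) i j hij

/-- The projection on the first 52 coordinates. -/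
def proj52 : Matrix (Fin 248) (Fin 248) (ZMod 3) :=
  Matrix.diagonal fun i => if (i : ℕ) < 52 then 1 else 0

/-- The letters below fourteen commute with the projection on the first 52 coordinates. -/
theorem commute_proj52 {l : Nat} (hl : l < 14) :
    Commute ((repTh (fl LG l) : GL (Fin 248) (ZMod 3)) : Matrix (Fin 248) (Fin 248) (ZMod 3))
      proj52 := by
  refine Matrix.ext fun i j => ?_
  rw [proj52, Matrix.mul_diagonal, Matrix.diagonal_mul]
  by_cases hi : (i : ℕ) < 52 <;> by_cases hj : (j : ℕ) < 52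
  · simp [hi, hj]
  · rw [block hl i j (Or.inl ⟨hi, by omega⟩)]; simp
  · rw [block hl i j (Or.inr ⟨by omega, hj⟩)]; simp
  · simp [hi, hj]

end CfsgLib.Coset.Th
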