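import Cfsg.Agent.Coset.Th.Edge
import Cfsg.Agent.Coset.Th.Rep
import Cfsg.Prelude.Def_Exceptional
import Cfsg.Prelude.Def_Sporadic

/-!
The Thompson group as a group of matrices of degree 248 modulo 3.
-/

set_option autoImplicit false
set_option maxRecDepth 100000
set_option Elab.async false

namespace CfsgLib.Coset.Th

open Cfsg.Spor (Th)

/-- The first unit vector. -/
def e0 : Fin 248 → ZMod 3 := fun i => if (i : ℕ) = 0 then 1 else 0

theorem vrun_ne : ∃ l < 16, vrun K1 matL (code e0) [l] ≠ code e0 := by decide +kernel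

theorem repTh_ker : repTh.ker = ⊥ := by
  haveI := simple_Th edgeTh
  refine ((MonoidHom.normal_ker repTh).eq_bot_or_eq_top).resolve_right fun h => ?_
  obtain ⟨l, hl, hne⟩ := vrun_ne
  apply hne
  rw [vrun_rep [l] (by simpa using hl) e0,
    MonoidHom.mem_ker.mp (h ▸ Subgroup.mem_top (ev LG [l]))]
  simp

theorem repTh_injective : Function.Injective repTh :=
  (MonoidHom.ker_eq_bot_iff _).mp repTh_ker

theorem realization_of {G X B : Type*} [Group G] [Group X] [Group B] [IsSimpleGroup G] {N M : ℕ}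
    (r : G →* X) (hr : Function.Injective r) (hG : Nat.card G = 90745943887872000)
    (K : Subgroup G) (hK : K.index = N) (ψ : B →* G) (hψ : Function.Injective ψ)
    (hψK : ψ.range ≤ K) (C : Subgroup B) [IsSimpleGroup C] (hC : Nat.card C = M)
    (hM : ∃ q : ℕ, IsPrimePow q ∧ M = q ^ 12 * (q ^ 8 + q ^ 4 + 1) * (q ^ 6 - 1) * (q ^ 2 - 1)) :
    ∃ H : Subgroup X, Cfsg.IsTh H ∧
      ∃ K : Subgroup H, K.index = N ∧ ∃ L : Subgroup H, L ≤ K ∧ Cfsg.Is3D4 L := by
  let e : G ≃* r.range := MonoidHom.ofInjective hr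
  haveI : Nontrivial r.range := e.toEquiv.symm.nontrivial
  let f : B →* r.range := e.toMonoidHom.comp ψ
  have hf : Function.Injective f := e.injective.comp hψ
  let g := Subgroup.equivMapOfInjective C f hf
  haveI : Nontrivial (C.map f) := g.toEquiv.symm.nontrivial
  refine ⟨r.range, ⟨IsSimpleGroup.isSimpleGroup_of_surjective e.toMonoidHom e.surjective,
      (Nat.card_congr e.toEquiv).symm.trans hG⟩, K.map e.toMonoidHom,
    (Subgroup.index_map_equiv K e).trans hK, C.map f, ?_,
    IsSimpleGroup.isSimpleGroup_of_surjective g.toMonoidHom g.surjective, ?_⟩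
  · rw [← Subgroup.map_map]
    refine Subgroup.map_mono ?_
    rintro _ ⟨a, -, rfl⟩
    exact hψK ⟨a, rfl⟩
  · obtain ⟨q, hq, hq'⟩ := hM
    exact ⟨q, hq, ((Nat.card_congr g.toEquiv).symm.trans hC).trans hq'⟩

/-- A simple subgroup of order 90745943887872000 with a subgroup of the stated index over a
triality-twisted `D4`. -/
theorem matrix_realization : ∃ H : Subgroup (GL (Fin 248) (ZMod 3)), Cfsg.IsTh H ∧
    ∃ K : Subgroup H, K.index = 143127000 ∧ ∃ L : Subgroup H, L ≤ K ∧ Cfsg.Is3D4 L := by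
  haveI := simple_Th edgeTh
  haveI := simple_A'
  exact realization_of repTh repTh_injective (card_Th edgeTh) frame_LG.H edgeTh.index_H frame_LG.Ψ
    edgeTh.Ψ_injective le_rfl (commutator A) card_A'
    ⟨2, Nat.prime_two.isPrimePow, by norm_num⟩

end CfsgLib.Coset.Th
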