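import Cfsg.Agent.Coset.Th.MatKernel
import Mathlib.Data.ZMod.Basic
import Mathlib.LinearAlgebra.Matrix.GeneralLinearGroup.Defs
import Mathlib.Data.Matrix.Mul

/-!
The packed products agree with the products of vectors and matrices modulo 3.
-/

set_option autoImplicit false
set_option maxRecDepth 100000

namespace CfsgLib.Coset.Th

open scoped Matrix

section Enc

variable {w : ℕ}

theorem encW_add : ∀ (n : ℕ) (f g : Fin n → ℕ),
    encW w n f + encW w n g = encW w n fun j => f j + g j := by
  intro n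
  induction n with
  | zero => intro f g; rfl
  | succ n ih =>
    intro f g
    simp only [encW]
    rw [show (fun j => f j + g j) ∘ Fin.succ = fun j => (f ∘ Fin.succ) j + (g ∘ Fin.succ) j from rfl,
      ← ih]
    ring

theorem encW_mul : ∀ (n : ℕ) (c : ℕ) (f : Fin n → ℕ),
    c * encW w n f = encW w n fun j => c * f j := by
  intro n
  induction n with
  | zero => intro c f; rfl
  | succ n ih =>
    intro c f
    simp only [encW]
    rw [show (fun j => c * f j) ∘ Fin.succ = fun j => c * (f ∘ Fin.succ) j from rfl, ← ih]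
    ring

theorem encW_zero : ∀ n : ℕ, encW w n (fun _ => 0) = 0 := by
  intro n
  induction n with
  | zero => rfl
  | succ n ih =>
    simp only [encW]
    rw [show (fun _ : Fin (n + 1) => 0) ∘ Fin.succ = fun _ => 0 from rfl, ih]
    simp

theorem encW_lt : ∀ (n : ℕ) (f : Fin n → ℕ), (∀ j, f j < 2 ^ w) → encW w n f < 2 ^ (w * n) := by
  intro n
  induction n with
  | zero => intro f _; simp [encW]
  | succ n ih =>
    intro f hf
    have h1 := ih (f ∘ Fin.succ) fun j => hf _
    have h0 := hf 0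
    simp only [encW]
    calc f 0 + 2 ^ w * encW w n (f ∘ Fin.succ) < 2 ^ w * (encW w n (f ∘ Fin.succ) + 1) := by
          rw [mul_add, mul_one]; omega
      _ ≤ 2 ^ w * 2 ^ (w * n) := Nat.mul_le_mul_left _ h1
      _ = 2 ^ (w * (n + 1)) := by rw [← pow_add]; congr 1; ring

theorem encW_lt_top : ∀ (n : ℕ) (f : Fin n → ℕ) (s : ℕ), 0 < n → s ≤ w →
    (∀ j, f j < 2 ^ (w - s)) → encW w n f < 2 ^ (w * n - s) := by
  intro n
  induction n with
  | zero => intro f s h; omega
  | succ n ih =>
    intro f s _ hs hf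
    simp only [encW]
    rcases Nat.eq_zero_or_pos n with rfl | hn
    · simpa [encW] using hf 0
    · have h1 := ih (f ∘ Fin.succ) s hn hs fun j => hf _
      have h0 : f 0 < 2 ^ w := (hf 0).trans_le (Nat.pow_le_pow_right (by norm_num) (Nat.sub_le _ _))
      have hle : w ≤ w * n := Nat.le_mul_of_pos_right _ hn
      calc f 0 + 2 ^ w * encW w n (f ∘ Fin.succ) < 2 ^ w * (encW w n (f ∘ Fin.succ) + 1) := by
            rw [mul_add, mul_one]; omega
        _ ≤ 2 ^ w * 2 ^ (w * n - s) := Nat.mul_le_mul_left _ h1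
        _ = 2 ^ (w * (n + 1) - s) := by
            rw [← pow_add]; congr 1; rw [Nat.mul_succ]; omega

theorem land_split (a b : ℕ) :
    a &&& b = ((a % 2 ^ w) &&& (b % 2 ^ w)) + 2 ^ w * ((a / 2 ^ w) &&& (b / 2 ^ w)) := by
  rw [← Nat.and_mod_two_pow, ← Nat.and_div_two_pow]
  exact (Nat.mod_add_div _ _).symm

theorem land_low {a g k : ℕ} (hg : g < 2 ^ k) : a &&& g = (a % 2 ^ k) &&& g := by
  have h1 : a &&& g ≤ g := Nat.and_le_right
  have h2 := Nat.and_mod_two_pow (a := a) (b := g) (n := k)
  rw [Nat.mod_eq_of_lt (lt_of_le_of_lt h1 hg), Nat.mod_eq_of_lt hg] at h2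
  exact h2

/-- Shifting and masking act coordinatewise. -/
theorem shift_mask : ∀ (n s : ℕ), s ≤ w → ∀ (f g : Fin n → ℕ), (∀ j, f j < 2 ^ w) →
    (∀ j, g j < 2 ^ (w - s)) →
    (encW w n f >>> s) &&& encW w n g = encW w n fun j => (f j >>> s) &&& g j := by
  intro n
  induction n with
  | zero => intros; simp [encW]
  | succ n ih =>
    intro s hs f g hf hg
    have hR := ih s hs (f ∘ Fin.succ) (g ∘ Fin.succ) (fun j => hf _) fun j => hg _
    simp only [encW]
    rw [show (fun j => (f j >>> s) &&& g j) ∘ Fin.succ =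
      fun j => ((f ∘ Fin.succ) j >>> s) &&& (g ∘ Fin.succ) j from rfl, ← hR]
    generalize encW w n (f ∘ Fin.succ) = R
    generalize encW w n (g ∘ Fin.succ) = M
    have hx := hf 0
    have hy := hg 0
    generalize f 0 = x at hx ⊢
    generalize g 0 = y at hy ⊢
    obtain ⟨d, rfl⟩ : ∃ d, w = d + s := ⟨w - s, by omega⟩
    rw [Nat.add_sub_cancel] at hy
    have hds : (2 : ℕ) ^ (d + s) = 2 ^ s * 2 ^ d := by rw [pow_add]; ring
    have hxs : x / 2 ^ s < 2 ^ d := Nat.div_lt_of_lt_mul (by rwa [← hds])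
    have ha : (x + 2 ^ (d + s) * R) >>> s = x / 2 ^ s + 2 ^ d * R := by
      rw [Nat.shiftRight_eq_div_pow, hds, mul_assoc,
        Nat.add_mul_div_left _ _ (by positivity : 0 < 2 ^ s)]
    have hy' : y < 2 ^ (d + s) := hy.trans_le (Nat.pow_le_pow_right (by norm_num) (by omega))
    have hb1 : (y + 2 ^ (d + s) * M) % 2 ^ (d + s) = y := by
      rw [Nat.add_mul_mod_self_left, Nat.mod_eq_of_lt hy']
    have hb2 : (y + 2 ^ (d + s) * M) / 2 ^ (d + s) = M := by
      rw [Nat.add_mul_div_left _ _ (by positivity : 0 < 2 ^ (d + s)), Nat.div_eq_of_lt hy', zero_add]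
    rw [land_split (w := d + s), ha, hb1, hb2]
    have hm : (x / 2 ^ s + 2 ^ d * R) % 2 ^ d = x / 2 ^ s := by
      rw [Nat.add_mul_mod_self_left, Nat.mod_eq_of_lt hxs]
    have hq : (x / 2 ^ s + 2 ^ d * R) / 2 ^ (d + s) = R >>> s := by
      rw [hds, Nat.mul_comm (2 ^ s), ← Nat.div_div_eq_div_mul,
        Nat.add_mul_div_left _ _ (by positivity : 0 < 2 ^ d), Nat.div_eq_of_lt hxs, zero_add,
        Nat.shiftRight_eq_div_pow]
    rw [hq, land_low hy, Nat.mod_mod_of_dvd _ (pow_dvd_pow 2 (Nat.le_add_right d s)), hm]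
    simp only [Nat.shiftRight_eq_div_pow]

theorem encW_div : ∀ (n : ℕ) (f : Fin n → ℕ), (∀ j, f j < 2 ^ w) → ∀ j : Fin n,
    encW w n f / 2 ^ (w * (j : ℕ)) % 2 ^ w = f j := by
  intro n
  induction n with
  | zero => intro f _ j; exact j.elim0
  | succ n ih =>
    intro f hf j
    induction j using Fin.cases with
    | zero =>
      show (f 0 + 2 ^ w * encW w n (f ∘ Fin.succ)) / 2 ^ (w * 0) % 2 ^ w = f 0
      rw [mul_zero, pow_zero, Nat.div_one, Nat.add_mul_mod_self_left, Nat.mod_eq_of_lt (hf 0)]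
    | succ j =>
      show (f 0 + 2 ^ w * encW w n (f ∘ Fin.succ)) / 2 ^ (w * (j.val + 1)) % 2 ^ w = f j.succ
      rw [Nat.mul_succ, pow_add, Nat.mul_comm (2 ^ (w * j.val)), ← Nat.div_div_eq_div_mul,
        Nat.add_mul_div_left _ _ (by positivity : 0 < 2 ^ w), Nat.div_eq_of_lt (hf 0), zero_add]
      exact ih _ (fun i => hf _) j

theorem encW_of_lt : ∀ (n r : ℕ), r < 2 ^ (w * n) →
    ∃ f : Fin n → ℕ, (∀ j, f j < 2 ^ w) ∧ r = encW w n f := by
  intro n
  induction n with
  | zero =>
    intro r h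
    rw [mul_zero, pow_zero] at h
    exact ⟨Fin.elim0, fun j => j.elim0, by simp [encW]; omega⟩
  | succ n ih =>
    intro r h
    rw [Nat.mul_succ, pow_add, Nat.mul_comm] at h
    obtain ⟨f, hf, e⟩ := ih (r / 2 ^ w) (Nat.div_lt_of_lt_mul h)
    refine ⟨Fin.cons (r % 2 ^ w) f, Fin.cases (by simpa using Nat.mod_lt _ (by positivity))
      (fun j => by simpa using hf j), ?_⟩
    simp only [encW, Fin.cons_zero]
    rw [show (Fin.cons (r % 2 ^ w) f : Fin (n + 1) → ℕ) ∘ Fin.succ = f by funext j; simp, ← e]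
    exact (Nat.mod_add_div _ _).symm

theorem encW_single : ∀ (n : ℕ) (i : Fin n),
    encW w n (fun j => if j = i then 1 else 0) = 2 ^ (w * (i : ℕ)) := by
  intro n
  induction n with
  | zero => intro i; exact i.elim0
  | succ n ih =>
    intro i
    induction i using Fin.cases with
    | zero =>
      simp only [encW, if_pos]
      rw [show (fun j : Fin (n + 1) => if j = 0 then 1 else 0) ∘ Fin.succ = fun _ => 0 by
        funext j; simp [Fin.succ_ne_zero], encW_zero]
      simp
    | succ i =>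
      simp only [encW, if_neg (Fin.succ_ne_zero i).symm, zero_add]
      rw [show (fun j : Fin (n + 1) => if j = i.succ then 1 else 0) ∘ Fin.succ =
        fun j => if j = i then 1 else 0 by funext j; simp [Fin.succ_inj], ih, ← pow_add,
        Fin.val_succ]
      congr 1; ring

end Enc

theorem force_eq (x : ℕ) (k : ℕ → ℕ) : force x k = k x := by cases x <;> rfl

theorem magic : ∀ x < 1024, (x &&& 15) + ((x >>> 4) &&& 63) < 1024 ∧
    (((x &&& 15) + ((x >>> 4) &&& 63)) &&& 15) +
      ((((x &&& 15) + ((x >>> 4) &&& 63)) >>> 4) &&& 7) < 32 := by decide +kernel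

theorem magic32 : ∀ z < 32, 11 * z < 1024 ∧ 3 * (((11 * z) >>> 5) &&& 15) ≤ z ∧
    z - 3 * (((11 * z) >>> 5) &&& 15) = z % 3 := by decide +kernel

theorem magic_mod : ∀ x < 1024, ((((x &&& 15) + ((x >>> 4) &&& 63)) &&& 15) +
      ((((x &&& 15) + ((x >>> 4) &&& 63)) >>> 4) &&& 7)) % 3 = x % 3 := by decide +kernel

variable {n m : ℕ}

/-- The packing of a batch of rows. -/
def lanes (n m : ℕ) (x : Fin m → Fin n → ℕ) : ℕ := encW (10 * n) m fun i => encW 10 n (x i)

theorem lanes_add (x y : Fin m → Fin n → ℕ) :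
    lanes n m x + lanes n m y = lanes n m fun i j => x i j + y i j := by
  rw [lanes, lanes, encW_add, lanes]
  simp only [encW_add]

theorem lanes_mul (c : ℕ) (x : Fin m → Fin n → ℕ) :
    c * lanes n m x = lanes n m fun i j => c * x i j := by
  rw [lanes, encW_mul, lanes]
  simp only [encW_mul]

theorem lanes_shift_mask (hn : 0 < n) {s c : ℕ} (hs : s ≤ 10) (hc : c < 2 ^ (10 - s))
    (x : Fin m → Fin n → ℕ) (hx : ∀ i j, x i j < 1024) :
    (lanes n m x >>> s) &&& lanes n m (fun _ _ => c) =
      lanes n m fun i j => (x i j >>> s) &&& c := by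
  have hx' : ∀ i j, x i j < 2 ^ 10 := fun i j => (hx i j).trans_eq (by norm_num)
  rw [lanes, lanes, shift_mask m s (hs.trans (Nat.le_mul_of_pos_right _ hn)) _ _
    (fun i => encW_lt n _ (hx' i)) (fun _ => encW_lt_top n _ s hn hs fun _ => hc), lanes]
  congr 1
  funext i
  exact shift_mask n s hs _ _ (hx' i) fun _ => hc

theorem masks_eq : (masks n m).m15 = lanes n m (fun _ _ => 15) ∧
    (masks n m).m63 = lanes n m (fun _ _ => 63) ∧ (masks n m).m7 = lanes n m (fun _ _ => 7) :=
  ⟨rfl, rfl, rfl⟩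

theorem vred_eq (hn : 0 < n) (x : Fin m → Fin n → ℕ) (hx : ∀ i j, x i j < 1024) :
    vred (masks n m) (lanes n m x) = lanes n m fun i j => x i j % 3 := by
  obtain ⟨e15, e63, e7⟩ := masks_eq (n := n) (m := m)
  set y : Fin m → Fin n → ℕ := fun i j => (x i j &&& 15) + ((x i j >>> 4) &&& 63) with hy
  set z : Fin m → Fin n → ℕ := fun i j => (y i j &&& 15) + ((y i j >>> 4) &&& 7) with hz
  have h1 : ∀ i j, y i j < 1024 := fun i j => (magic _ (hx i j)).1
  have h2 : ∀ i j, z i j < 32 := fun i j => (magic _ (hx i j)).2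
  have s1 : (lanes n m x &&& (masks n m).m15) + ((lanes n m x >>> 4) &&& (masks n m).m63) =
      lanes n m y := by
    have a := lanes_shift_mask hn (s := 0) (c := 15) (by norm_num) (by norm_num) x hx
    simp only [Nat.shiftRight_zero] at a
    rw [e15, e63, a, lanes_shift_mask hn (by norm_num) (by norm_num) x hx, lanes_add]
  have s2 : (lanes n m y &&& (masks n m).m15) + ((lanes n m y >>> 4) &&& (masks n m).m7) =
      lanes n m z := by
    have a := lanes_shift_mask hn (s := 0) (c := 15) (by norm_num) (by norm_num) y h1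
    simp only [Nat.shiftRight_zero] at a
    rw [e15, e7, a, lanes_shift_mask hn (by norm_num) (by norm_num) y h1, lanes_add]
  simp only [vred, force_eq]
  show (let y' := (lanes n m x &&& (masks n m).m15) + ((lanes n m x >>> 4) &&& (masks n m).m63)
    let z' := (y' &&& (masks n m).m15) + ((y' >>> 4) &&& (masks n m).m7)
    z' - 3 * (((11 * z') >>> 5) &&& (masks n m).m15)) = _
  simp only []
  rw [s1, s2, e15, lanes_mul, lanes_shift_mask hn (by norm_num) (by norm_num) _
    (fun i j => (magic32 _ (h2 i j)).1), lanes_mul]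
  refine Nat.sub_eq_of_eq_add ?_
  rw [lanes_add]
  congr 1
  funext i j
  have q := magic32 _ (h2 i j)
  have r := magic_mod _ (hx i j)
  simp only [hz, hy] at q ⊢
  omega

/-- The code of a vector. -/
def code (v : Fin n → ZMod 3) : ℕ := encW 10 n fun j => (v j).val

/-- The code of several vectors side by side. -/
def bcode (V : Fin m → Fin n → ZMod 3) : ℕ := lanes n m fun i j => (V i j).val

theorem val_lt_lane (a : ZMod 3) : a.val < 2 ^ 10 := (ZMod.val_lt a).trans (by norm_num)

theorem code_eq_bcode (v : Fin n → ZMod 3) : code v = bcode (m := 1) (fun _ => v) := by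
  simp [code, bcode, lanes, encW]

theorem code_lt (v : Fin n → ZMod 3) : code v < 2 ^ (10 * n) :=
  encW_lt n _ fun j => val_lt_lane _

theorem code_injective : Function.Injective (code : (Fin n → ZMod 3) → ℕ) := by
  intro v w h
  funext j
  apply ZMod.val_injective
  have := congrArg (fun r => r / 2 ^ (10 * (j : ℕ)) % 2 ^ 10) h
  simpa only [code, encW_div n _ (fun i => val_lt_lane _)] using this

theorem bcode_injective : Function.Injective (bcode : (Fin m → Fin n → ZMod 3) → ℕ) := by
  intro V U h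
  funext i
  apply code_injective
  have := congrArg (fun r => r / 2 ^ (10 * n * (i : ℕ)) % 2 ^ (10 * n)) h
  simpa only [bcode, lanes, code,
    encW_div m _ (fun k => encW_lt n _ fun j => val_lt_lane _)] using this

theorem code_single (i : Fin n) :
    code (Pi.single i (1 : ZMod 3)) = 2 ^ (10 * (i : ℕ)) := by
  rw [code, ← encW_single n i]
  congr 1
  funext j
  rcases eq_or_ne j i with rfl | h
  · rw [Pi.single_eq_same, if_pos rfl]; rfl
  · rw [Pi.single_eq_of_ne h, if_neg h, ZMod.val_zero]

theorem col_eq (V : Fin m → Fin n → ZMod 3) (k : Fin n) :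
    (bcode V >>> (10 * (k : ℕ))) &&& (masks n m).col =
      encW (10 * n) m fun i => (V i k).val := by
  have hk := k.2
  have h3 : (3 : ℕ) < 2 ^ (10 * n - 10 * (k : ℕ)) := by
    calc (3 : ℕ) < 2 ^ 2 := by norm_num
      _ ≤ _ := Nat.pow_le_pow_right (by norm_num) (by omega)
  show (encW (10 * n) m _ >>> _) &&& encW (10 * n) m (fun _ => 3) = _
  rw [shift_mask m _ (by omega) _ _ (fun i => encW_lt n _ fun j =>
    val_lt_lane _) (fun _ => h3)]
  congr 1
  funext i
  have h := encW_div n (fun j => (V i j).val) (fun j => val_lt_lane _) k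
  rw [land_low (k := 2) (by norm_num : (3 : ℕ) < 2 ^ 2), Nat.shiftRight_eq_div_pow]
  have e : encW 10 n (fun j => (V i j).val) / 2 ^ (10 * (k : ℕ)) % 2 ^ 2 = (V i k).val := by
    rw [← Nat.mod_mod_of_dvd _ (pow_dvd_pow 2 (by norm_num : 2 ≤ 10)), h]
    exact Nat.mod_eq_of_lt ((ZMod.val_lt _).trans (by norm_num))
  rw [e]
  exact (Nat.and_two_pow_sub_one_eq_mod _ 2).trans
    (Nat.mod_eq_of_lt ((ZMod.val_lt _).trans (by norm_num)))

theorem vacc_eq (V : Fin m → Fin n → ZMod 3) (g : ℕ → Fin n → ℕ) :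
    ∀ (rows : List ℕ) (k : ℕ), k + rows.length = n →
    (∀ i < rows.length, rows.getD i 0 = encW 10 n (g (k + i))) → ∀ acc : Fin m → Fin n → ℕ,
    vacc (masks n m).col rows (bcode V >>> (10 * k)) (lanes n m acc) =
      lanes n m fun i j => acc i j +
        ∑ l : Fin n, if k ≤ (l : ℕ) then (V i l).val * g l j else 0 := by
  intro rows
  induction rows with
  | nil =>
    intro k hk _ acc
    show lanes n m acc = _
    congr 1
    funext i j
    simp only [List.length_nil, add_zero] at hk
    rw [Finset.sum_eq_zero fun l _ => if_neg (by have := l.2; omega), add_zero]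
  | cons r rest ih =>
    intro k hk hg acc
    simp only [List.length_cons] at hk hg
    have hkn : k < n := by omega
    have hr : r = encW 10 n (g k) := hg 0 (by omega)
    have step : Nat.add (lanes n m acc)
        (Nat.mul (Nat.land (bcode V >>> (10 * k)) (masks n m).col) r) =
        lanes n m fun i j => acc i j + (V i ⟨k, hkn⟩).val * g k j := by
      show lanes n m acc + ((bcode V >>> (10 * k)) &&& (masks n m).col) * r = _
      rw [col_eq V ⟨k, hkn⟩, hr, mul_comm, encW_mul]
      rw [show (fun i => encW 10 n (g k) * (V i ⟨k, hkn⟩).val) =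
        fun i => encW 10 n fun j => (V i ⟨k, hkn⟩).val * g k j by
          funext i; rw [mul_comm, encW_mul]]
      exact lanes_add _ _
    show Nat.rec (motive := fun _ => ℕ) (vacc (masks n m).col rest 0 _)
      (fun q _ => vacc (masks n m).col rest (Nat.add q 1) _)
      (Nat.shiftRight (bcode V >>> (10 * k)) 10) = _
    have hs : Nat.shiftRight (bcode V >>> (10 * k)) 10 = bcode V >>> (10 * (k + 1)) := by
      show (bcode V >>> (10 * k)) >>> 10 = _
      rw [← Nat.shiftRight_add]; congr 1
    rw [step, hs]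
    have e : ∀ (x a : ℕ), Nat.rec (motive := fun _ => ℕ) (vacc (masks n m).col rest 0 a)
        (fun q _ => vacc (masks n m).col rest (Nat.add q 1) a) x =
          vacc (masks n m).col rest x a := by intro x a; cases x <;> rfl
    rw [e, ih (k + 1) (by omega) (fun i hi => by
      have := hg (i + 1) (by omega)
      rw [List.getD_cons_succ] at this
      rwa [show k + 1 + i = k + (i + 1) by omega])]
    congr 1
    funext i j
    rw [add_assoc]
    congr 1
    rw [← Finset.sum_erase_add _ _ (Finset.mem_univ (⟨k, hkn⟩ : Fin n)),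
      ← Finset.sum_erase_add _ _ (Finset.mem_univ (⟨k, hkn⟩ : Fin n))]
    rw [if_neg (by show ¬ k + 1 ≤ k; omega), add_zero, if_pos (le_refl k), add_comm]
    congr 1
    refine Finset.sum_congr rfl fun l hl => ?_
    have : (l : ℕ) ≠ k := fun h => (Finset.mem_erase.mp hl).1 (Fin.ext h)
    by_cases h : k ≤ (l : ℕ)
    · rw [if_pos h, if_pos (show k + 1 ≤ (l : ℕ) by omega)]
    · rw [if_neg h, if_neg (show ¬ k + 1 ≤ (l : ℕ) by omega)]

/-- The coordinates of a packed number. -/
def lane (r j : ℕ) : ℕ := r / 2 ^ (10 * j) % 2 ^ 10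

/-- The matrix of packed rows. -/
def matOf (n : ℕ) (rows : List ℕ) : Matrix (Fin n) (Fin n) (ZMod 3) :=
  fun i j => (lane (rows.getD i 0) j : ZMod 3)

theorem row_code (hn : 0 < n) {rows : List ℕ} (h : matOK (masks n 1) n rows = true) (i : Fin n) :
    rows.getD i 0 = code (matOf n rows i) := by
  unfold matOK at h
  rw [cond_false_eq_true] at h
  have hi : (i : ℕ) < rows.length := by rw [Nat.eq_of_beq_eq_true h.1]; exact i.2
  have hr : rowOK (masks n 1) n (rows.getD i 0) = true := by
    rw [List.getD_eq_getElem _ _ hi]; exact allList_iff.mp h.2 _ (List.getElem_mem hi)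
  unfold rowOK at hr
  rw [cond_false_eq_true] at hr
  generalize hrd : rows.getD i 0 = r at hr
  have hlt : r < 2 ^ (10 * n) := by
    have h0 : r >>> (10 * n) = 0 := Nat.eq_of_beq_eq_true hr.1
    rw [Nat.shiftRight_eq_div_pow, Nat.div_eq_zero_iff] at h0
    exact h0.resolve_left (by positivity)
  obtain ⟨f, hf, rfl⟩ := encW_of_lt n r hlt
  have h1 := Nat.eq_of_beq_eq_true hr.2
  have he : encW 10 n f = lanes n 1 fun _ => f := by simp [lanes, encW]
  have hf' : ∀ j, f j < 1024 := fun j => (hf j).trans_eq (by norm_num)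
  rw [he, vred_eq hn _ fun _ j => hf' j, ← he,
    show lanes n 1 (fun (_ : Fin 1) j => f j % 3) = encW 10 n fun j => f j % 3 by
      simp [lanes, encW]] at h1
  have hf3 : ∀ j, f j % 3 = f j := fun j => by
    have := congrArg (fun r => r / 2 ^ (10 * (j : ℕ)) % 2 ^ 10) h1
    simpa only [encW_div n f hf, encW_div n (fun j => f j % 3)
      (fun j => lt_of_le_of_lt (Nat.mod_le _ _) (hf j))] using this
  rw [code]
  congr 1
  funext j
  show f j = ((lane (rows.getD i 0) j : ℕ) : ZMod 3).val
  rw [hrd, lane, encW_div n f hf, ZMod.val_natCast, hf3]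

theorem vmul_bcode (hn : 0 < n) (hn' : n ≤ 255) {rows : List ℕ}
    (h : matOK (masks n 1) n rows = true) (V : Fin m → Fin n → ZMod 3) :
    vmul (masks n m) rows (bcode V) = bcode fun i => Matrix.vecMul (V i) (matOf n rows) := by
  have hl : rows.length = n := by
    have h' := h
    unfold matOK at h'
    rw [cond_false_eq_true] at h'
    exact Nat.eq_of_beq_eq_true h'.1
  let g : ℕ → Fin n → ℕ := fun i j => if hi : i < n then (matOf n rows ⟨i, hi⟩ j).val else 0
  have hg : ∀ i < rows.length, rows.getD i 0 = encW 10 n (g (0 + i)) := by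
    intro i hi
    rw [hl] at hi
    rw [row_code hn h ⟨i, hi⟩, code]
    simp [g, hi]
  have h0 := vacc_eq V g rows 0 (by omega) hg fun _ _ => 0
  have z : lanes n m (fun _ _ => 0) = 0 := by simp only [lanes, encW_zero]
  rw [z, Nat.mul_zero, Nat.shiftRight_zero] at h0
  unfold vmul
  rw [h0, vred_eq hn, bcode]
  · congr 1
    funext i j
    rw [← ZMod.val_natCast]
    congr 1
    simp only [Nat.cast_add, Nat.cast_zero, zero_add, Nat.cast_sum, Nat.zero_le, if_true,
      Nat.cast_mul, ZMod.natCast_zmod_val, Matrix.vecMul, dotProduct]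
    refine Finset.sum_congr rfl fun l _ => ?_
    simp [g]
  · intro i j
    simp only [Nat.zero_le, if_true, zero_add]
    have : ∀ l : Fin n, (V i l).val * g l j ≤ 4 := fun l => by
      have h1 := ZMod.val_lt (V i l)
      have h2 : g l j ≤ 2 := by
        simp only [g, dif_pos l.2]
        exact Nat.le_of_lt_succ (ZMod.val_lt _)
      calc (V i l).val * g l j ≤ 2 * 2 := Nat.mul_le_mul (by omega) h2
        _ = 4 := rfl
    have := Finset.sum_le_sum (s := Finset.univ) fun l (_ : l ∈ Finset.univ) => this l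
    simp only [Finset.sum_const, Finset.card_univ, Fintype.card_fin, smul_eq_mul] at this
    omega

/-- The matrix of a word. -/
def matWord (n : ℕ) (ms : List (List ℕ)) (w : List ℕ) : Matrix (Fin n) (Fin n) (ZMod 3) :=
  (w.map fun l => matOf n (ms.getD l [])).prod

theorem vrun_bcode (hn : 0 < n) (hn' : n ≤ 255) {ms : List (List ℕ)}
    (h : allList (matOK (masks n 1) n) ms = true) :
    ∀ (w : List ℕ), (∀ l ∈ w, l < ms.length) → ∀ V : Fin m → Fin n → ZMod 3,
      vrun (masks n m) ms (bcode V) w =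
        bcode fun i => Matrix.vecMul (V i) (matWord n ms w) := by
  intro w
  induction w with
  | nil => intro _ V; simp [vrun, matWord]
  | cons l w ih =>
    intro hw V
    have hl := hw l (by simp)
    have hok : matOK (masks n 1) n (ms.getD l []) = true := by
      rw [List.getD_eq_getElem _ _ hl]; exact allList_iff.mp h _ (List.getElem_mem hl)
    show Nat.rec (motive := fun _ => ℕ) (vrun _ ms 0 w) (fun q _ => vrun _ ms (Nat.add q 1) w)
      (vmul (masks n m) (ms.getD l []) (bcode V)) = _
    have e : ∀ x : ℕ, Nat.rec (motive := fun _ => ℕ) (vrun (masks n m) ms 0 w)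
        (fun q _ => vrun (masks n m) ms (Nat.add q 1) w) x = vrun (masks n m) ms x w := by
      intro x; cases x <;> rfl
    rw [e, vmul_bcode hn hn' hok, ih fun x hx => hw x (by simp [hx])]
    simp [matWord, Matrix.vecMul_vecMul]

theorem vrun_code (hn : 0 < n) (hn' : n ≤ 255) {ms : List (List ℕ)}
    (h : allList (matOK (masks n 1) n) ms = true) (w : List ℕ) (hw : ∀ l ∈ w, l < ms.length)
    (v : Fin n → ZMod 3) :
    vrun (masks n 1) ms (code v) w = code (Matrix.vecMul v (matWord n ms w)) := by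
  rw [code_eq_bcode, vrun_bcode hn hn' h w hw, code_eq_bcode]

theorem unitB_eq {b : ℕ} (hb : ∀ t < m, m * b + t < n) :
    unitB n m b = bcode fun t : Fin m => Pi.single ⟨m * b + t, hb t t.2⟩ (1 : ZMod 3) := by
  rw [unitB, bcode, lanes]
  congr 1
  funext t
  exact (code_single (⟨m * b + t, hb t t.2⟩ : Fin n)).symm

theorem matWord_eq_one (hn : 0 < n) (hn' : n ≤ 255) {ms : List (List ℕ)} {K1 K : Masks}
    (hK1 : K1 = masks n 1) (hK : K = masks n m) (h : allList (matOK K1 n) ms = true)
    {w : List ℕ} (hw : ∀ l ∈ w, l < ms.length) {B : ℕ} (hB : m * B = n)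
    (hc : ∀ b < B, fixB K ms n m w b = true) : matWord n ms w = 1 := by
  subst hK1 hK
  refine Matrix.ext fun i j => ?_
  have hm : 0 < m := Nat.pos_of_ne_zero fun e => by subst e; simp at hB; omega
  have hb : (i : ℕ) / m < B := by
    rw [Nat.div_lt_iff_lt_mul hm, mul_comm, hB]; exact i.2
  have hlt : ∀ t < m, m * ((i : ℕ) / m) + t < n := by
    intro t ht
    calc m * ((i : ℕ) / m) + t < m * ((i : ℕ) / m + 1) := by rw [mul_add, mul_one]; omega
      _ ≤ m * B := Nat.mul_le_mul_left _ hb
      _ = n := hB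
  have h0 := Nat.eq_of_beq_eq_true (hc _ hb)
  rw [unitB_eq hlt, vrun_bcode hn hn' h w hw] at h0
  have h2 := congrFun (congrFun (bcode_injective h0) ⟨(i : ℕ) % m, Nat.mod_lt _ hm⟩) j
  have hi : (⟨m * ((i : ℕ) / m) + (i : ℕ) % m, hlt _ (Nat.mod_lt _ hm)⟩ : Fin n) = i :=
    Fin.ext (Nat.div_add_mod _ _)
  simp only [hi, Matrix.single_one_vecMul] at h2
  show matWord n ms w i j = _
  refine h2.trans ?_
  by_cases hij : i = j
  · subst hij; simp
  · rw [Pi.single_eq_of_ne (Ne.symm hij), Matrix.one_apply_ne hij]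

end CfsgLib.Coset.Th
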