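import Cfsg.Agent.Coset.Table

/-!
Vectors modulo 3 packed into natural numbers, ten bits a coordinate, several vectors side by side,
and their products with matrices given by packed rows.
-/

set_option autoImplicit false
set_option maxRecDepth 100000

namespace CfsgLib.Coset.Th

/-- The masks for a number of vectors side by side: the low digit of each vector, and three
constants repeated in every coordinate. -/
structure Masks where
  /-- the low two bits of each vector -/
  col : Nat
  /-- fifteen in each coordinate -/
  m15 : Nat
  /-- sixty-three in each coordinate -/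
  m63 : Nat
  /-- seven in each coordinate -/
  m7 : Nat

/-- The sum of the rows weighted by the coordinates. -/
noncomputable def vacc (cm : Nat) (rows : List Nat) (v acc : Nat) : Nat :=
  List.rec (motive := fun _ => Nat → Nat → Nat) (fun _ acc => acc)
    (fun r _ ih v acc =>
      Nat.rec (ih 0 (Nat.add acc (Nat.mul (Nat.land v cm) r)))
        (fun m _ => ih (Nat.add m 1) (Nat.add acc (Nat.mul (Nat.land v cm) r)))
        (Nat.shiftRight v 10)) rows v acc

/-- Evaluate a number before passing it on. -/
noncomputable def force (x : Nat) (k : Nat → Nat) : Nat :=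
  Nat.rec (k 0) (fun m _ => k (Nat.add m 1)) x

/-- Reduce every coordinate modulo 3. -/
noncomputable def vred (K : Masks) (x : Nat) : Nat :=
  force x fun x =>
  force (Nat.add (Nat.land x K.m15) (Nat.land (Nat.shiftRight x 4) K.m63)) fun y =>
  force (Nat.add (Nat.land y K.m15) (Nat.land (Nat.shiftRight y 4) K.m7)) fun z =>
  Nat.sub z (Nat.mul 3 (Nat.land (Nat.shiftRight (Nat.mul 11 z) 5) K.m15))

/-- Product of some vectors and a matrix. -/
noncomputable def vmul (K : Masks) (rows : List Nat) (v : Nat) : Nat :=
  vred K (vacc K.col rows v 0)

/-- Product of some vectors and a word. -/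
noncomputable def vrun (K : Masks) (ms : List (List Nat)) (v : Nat) (w : List Nat) : Nat :=
  List.rec (motive := fun _ => Nat → Nat) (fun v => v)
    (fun l _ ih v => Nat.rec (ih 0) (fun m _ => ih (Nat.add m 1)) (vmul K (ms.getD l []) v)) w v

/-- A row has `n` coordinates below 3; `K` holds the masks of a single vector. -/
noncomputable def rowOK (K : Masks) (n r : Nat) : Bool :=
  cond (Nat.beq (Nat.shiftRight r (Nat.mul 10 n)) 0) (Nat.beq (vred K r) r) false

/-- All rows are valid. -/
noncomputable def matOK (K : Masks) (n : Nat) (rows : List Nat) : Bool :=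
  cond (Nat.beq rows.length n) (allList (rowOK K n) rows) false

/-- Packing of `n` numbers, `w` bits each. -/
def encW (w : Nat) : (n : Nat) → (Fin n → Nat) → Nat
  | 0, _ => 0
  | n + 1, f => f 0 + 2 ^ w * encW w n (f ∘ Fin.succ)

/-- The masks for `m` vectors of length `n`. -/
def masks (n m : Nat) : Masks where
  col := encW (10 * n) m fun _ => 3
  m15 := encW (10 * n) m fun _ => encW 10 n fun _ => 15
  m63 := encW (10 * n) m fun _ => encW 10 n fun _ => 63
  m7 := encW (10 * n) m fun _ => encW 10 n fun _ => 7

/-- The code of `m` consecutive unit vectors from the one numbered `m * b` on. -/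
def unitB (n m b : Nat) : Nat := encW (10 * n) m fun t => Nat.pow 2 (10 * (m * b + t.val))

/-- A word fixes a block of consecutive unit vectors. -/
noncomputable def fixB (K : Masks) (ms : List (List Nat)) (n m : Nat) (w : List Nat) (b : Nat) :
    Bool :=
  Nat.beq (vrun K ms (unitB n m b) w) (unitB n m b)

end CfsgLib.Coset.Th
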