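import Cfsg.Agent.Coset.Th.MatCode
import Cfsg.Agent.Coset.Th.MatMask
import Cfsg.Agent.Coset.Th.MatData

/-!
The packed matrices have valid rows and the masks are the masks.
-/

set_option autoImplicit false
set_option maxRecDepth 100000
set_option Elab.async false

namespace CfsgLib.Coset.Th

theorem masks_ext {K L : Masks} (a : K.col = L.col) (b : K.m15 = L.m15) (c : K.m63 = L.m63)
    (d : K.m7 = L.m7) : K = L := by
  cases K; cases L; simp_all

theorem K1_eq : K1 = masks 248 1 :=
  masks_ext (by decide +kernel) (by decide +kernel) (by decide +kernel) (by decide +kernel)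

theorem K124_eq : K124 = masks 248 124 :=
  masks_ext (by decide +kernel) (by decide +kernel) (by decide +kernel) (by decide +kernel)

theorem ok0 : matOK K1 248 mat0 = true := by decide +kernel

theorem ok1 : matOK K1 248 mat1 = true := by decide +kernel

theorem ok2 : matOK K1 248 mat2 = true := by decide +kernel

theorem ok3 : matOK K1 248 mat3 = true := by decide +kernel

theorem ok4 : matOK K1 248 mat4 = true := by decide +kernel

theorem ok5 : matOK K1 248 mat5 = true := by decide +kernel

theorem ok6 : matOK K1 248 mat6 = true := by decide +kernel

theorem ok7 : matOK K1 248 mat7 = true := by decide +kernel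

theorem ok8 : matOK K1 248 mat8 = true := by decide +kernel

theorem ok9 : matOK K1 248 mat9 = true := by decide +kernel

theorem ok10 : matOK K1 248 mat10 = true := by decide +kernel

theorem ok11 : matOK K1 248 mat11 = true := by decide +kernel

theorem ok12 : matOK K1 248 mat12 = true := by decide +kernel

theorem ok13 : matOK K1 248 mat13 = true := by decide +kernel

theorem ok14 : matOK K1 248 mat14 = true := by decide +kernel

theorem ok15 : matOK K1 248 mat15 = true := by decide +kernel

theorem matL_ok : allList (matOK K1 248) matL = true := by
  refine allList_iff.mpr fun m hm => ?_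
  simp only [matL, List.mem_cons, List.not_mem_nil, or_false] at hm
  rcases hm with rfl | rfl | rfl | rfl | rfl | rfl | rfl | rfl | rfl | rfl | rfl | rfl | rfl | rfl | rfl | rfl
  exacts [ok0, ok1, ok2, ok3, ok4, ok5, ok6, ok7, ok8, ok9, ok10, ok11, ok12, ok13, ok14, ok15]

theorem len_matL : matL.length = 16 := by decide +kernel

end CfsgLib.Coset.Th
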