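import Cfsg.Agent.Coset.Th.MultLift

/-!
The choice of lifts: in odd characteristic the involution lifts are unique, for the prime two the
signs are fixed one after another.
-/

set_option autoImplicit false
set_option maxRecDepth 100000
set_option Elab.async false

namespace CfsgLib.Coset.Th.MLift

local notation "Th'" => Cfsg.Spor.Th

/-- Seven elements satisfy the relators of the subgroup. -/
structure Rels {E : Type} [Group E] (a b c d e s t : E) : Prop where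
  aa : a * a = 1
  bb : b * b = 1
  cc : c * c = 1
  dd : d * d = 1
  ee : e * e = 1
  ab : (a * b) ^ 3 = 1
  ae : (a * e) ^ 2 = 1
  bc : (b * c) ^ 3 = 1
  bd : (b * d) ^ 2 = 1
  be : (b * e) ^ 2 = 1
  adc : a * (d⁻¹ * c⁻¹) ^ 4 = 1
  ce : (c * e) ^ 2 = 1
  de : (d * e) ^ 3 = 1
  bcde : (b * c * d * e) ^ 8 = 1
  ss : s ^ 7 = 1
  sa : s⁻¹ * a⁻¹ * s * a = 1
  sb : s⁻¹ * b⁻¹ * s * b = 1
  sc : s⁻¹ * c⁻¹ * s * c = 1
  sd : s * d * (s * d) = 1
  es : e⁻¹ * s⁻¹ * e * s⁻¹ * s⁻¹ * e⁻¹ * s * s * s = 1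
  tt : t ^ 3 = 1
  ta : t⁻¹ * a⁻¹ * t * a = 1
  tb : t⁻¹ * b⁻¹ * t * b = 1
  tc : t⁻¹ * c⁻¹ * t * c = 1
  td : t⁻¹ * d⁻¹ * t * d = 1
  te : t⁻¹ * e⁻¹ * t * e = 1
  ts : t⁻¹ * s * t * s⁻¹ * s⁻¹ = 1

section Gen

variable {G : Type*} [Group G]

theorem conj_pow' (g x : G) (n : ℕ) : (g⁻¹ * x * g) ^ n = g⁻¹ * x ^ n * g := by
  induction n with
  | zero => simp
  | succ n ih =>
    rw [pow_succ, ih, pow_succ]
    simp [mul_assoc]

theorem sq_commute {x y : G} (hx : x * x = 1) (hy : y * y = 1) (h : (x * y) ^ 2 = 1) :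
    x * y = y * x := by
  rw [pow_two] at h
  have := eq_inv_of_mul_eq_one_left h
  rw [this, mul_inv_rev, inv_eq_self hx, inv_eq_self hy]

/-- A cyclic rotation of `b c d e` is a product of two commuting pairs. -/
theorem rot {b c d e : G} (hb : b * b = 1) (hc : c * c = 1) (hd : d * d = 1) (he : e * e = 1)
    (hbd : (b * d) ^ 2 = 1) (hbe : (b * e) ^ 2 = 1) (hce : (c * e) ^ 2 = 1) :
    (b * c)⁻¹ * (b * c * d * e) * (b * c) = b * d * (c * e) := by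
  have h1 := sq_commute hb hd hbd
  have h2 := sq_commute hb he hbe
  have h3 := sq_commute hc he hce
  calc (b * c)⁻¹ * (b * c * d * e) * (b * c) = d * (e * b) * c := by group
    _ = d * b * (e * c) := by rw [← h2]; group
    _ = b * d * (c * e) := by rw [h1, h3]

theorem es_word {e s : G} (he : e * e = 1)
    (hf : e * (s⁻¹ * e * s) = s⁻¹ * (s⁻¹ * (s⁻¹ * e * s) * s) * s) :
    e⁻¹ * s⁻¹ * e * s⁻¹ * s⁻¹ * e⁻¹ * s * s * s = 1 := by
  rw [inv_eq_self he]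
  calc e * s⁻¹ * e * s⁻¹ * s⁻¹ * e * s * s * s
      = e * (s⁻¹ * e * s) * (s⁻¹ * (s⁻¹ * (s⁻¹ * e * s) * s) * s) := by group
    _ = s⁻¹ * s⁻¹ * s⁻¹ * (e * e) * s * s * s := by rw [hf]; group
    _ = 1 := by rw [he]; group

theorem es_eq {e s : G} (he : e * e = 1)
    (h : e⁻¹ * s⁻¹ * e * s⁻¹ * s⁻¹ * e⁻¹ * s * s * s = 1) :
    e * (s⁻¹ * e * s) = s⁻¹ * (s⁻¹ * (s⁻¹ * e * s) * s) * s := by
  rw [inv_eq_self he] at h
  have h1 : e * (s⁻¹ * e * s) * (s⁻¹ * (s⁻¹ * (s⁻¹ * e * s) * s) * s) = 1 := by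
    rw [← h]; group
  rw [eq_inv_of_mul_eq_one_left h1]
  refine inv_eq_self ?_
  calc s⁻¹ * (s⁻¹ * (s⁻¹ * e * s) * s) * s * (s⁻¹ * (s⁻¹ * (s⁻¹ * e * s) * s) * s)
      = s⁻¹ * s⁻¹ * s⁻¹ * (e * e) * s * s * s := by group
    _ = 1 := by rw [he]; group

end Gen

variable {E : Type} [Group E] {σ : E →* Th'} {p : ℕ}

theorem Ext.commN (hE : Ext σ p) {n : ℕ} (hn : p.Coprime n) {x y : E} (hy : y ^ n = 1)
    {X Y : Th'} (hx : σ x = X) (hY : σ y = Y) (h : Y⁻¹ * X⁻¹ * Y * X = 1) :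
    y⁻¹ * x⁻¹ * y * x = 1 := by
  refine word_comm (hE.uniq hn ?_ (by rw [conj_pow', hy]; group) hy)
  rw [map_mul, map_mul, map_inv, hx, hY]
  calc X⁻¹ * Y * X = Y * (Y⁻¹ * X⁻¹ * Y * X) := by group
    _ = Y := by rw [h, mul_one]

theorem Ext.comm2 (hE : Ext σ p) (hp : p.Coprime 2) {x y : E} (hxx : x * x = 1)
    {X Y : Th'} (hX2 : X * X = 1) (hx : σ x = X) (hY : σ y = Y)
    (h : Y⁻¹ * X⁻¹ * Y * X = 1) : y⁻¹ * x⁻¹ * y * x = 1 := by
  have e : y⁻¹ * x * y = x := hE.uniq hp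
    (by rw [map_mul, map_mul, map_inv, hx, hY]; exact comm_word hX2 h)
    (by rw [conj_pow', pow_two, hxx]; group) (by rw [pow_two, hxx])
  calc y⁻¹ * x⁻¹ * y * x = (y⁻¹ * x * y)⁻¹ * x := by group
    _ = 1 := by rw [e, inv_mul_cancel]

theorem Ext.odd_rels (hE : Ext σ p) (hp : p.Coprime 2) {t : E} (ht : σ t = gT 6)
    (htt : t ^ 3 = 1) :
    ∃ a b c d e s : E, (σ a = gT 0 ∧ σ b = gT 1 ∧ σ c = gT 2 ∧ σ d = gT 3 ∧ σ e = gT 4 ∧
      σ s = gT 5) ∧ Rels a b c d e s t := by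
  obtain ⟨a, ha, ha2⟩ := hE.root hp (g := gT 0) (by rw [pow_two, MLift.ta])
  obtain ⟨b, hb, hb2⟩ := hE.root hp (g := gT 1) (by rw [pow_two, MLift.tb])
  obtain ⟨c, hc, hc2⟩ := hE.root hp (g := gT 2) (by rw [pow_two, MLift.tc])
  obtain ⟨d, hd, hd2⟩ := hE.root hp (g := gT 3) (by rw [pow_two, MLift.td])
  obtain ⟨e, he, he2⟩ := hE.root hp (g := gT 4) (by rw [pow_two, MLift.te])
  obtain ⟨y, hy, hy2⟩ := hE.root hp (g := gT 5 * gT 3) (by rw [pow_two, MLift.tsd])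
  rw [pow_two] at ha2 hb2 hc2 hd2 he2 hy2
  have hs : σ (y * d) = gT 5 := by rw [map_mul, hy, hd, mul_assoc, MLift.td, mul_one]
  have hae : (a * e) ^ 2 = 1 := hE.two_inv hp ha2 he2 2 (by rw [ha, he, tae])
  have hbd : (b * d) ^ 2 = 1 := hE.two_inv hp hb2 hd2 2 (by rw [hb, hd, tbd])
  have hbe : (b * e) ^ 2 = 1 := hE.two_inv hp hb2 he2 2 (by rw [hb, he, tbe])
  have hce : (c * e) ^ 2 = 1 := hE.two_inv hp hc2 he2 2 (by rw [hc, he, tce])
  have hss : (y * d) ^ 7 = 1 := hE.two_inv hp hy2 hd2 7 (by rw [← map_mul, hs, ts])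
  set s := y * d with hsdef
  have hsd : s * d * (s * d) = 1 := by
    rw [hsdef, mul_assoc y d d, hd2, mul_one, hy2]
  have hdc : (d * c) ^ 4 = a := by
    have hT : (gT 3 * gT 2) ^ 4 = gT 0 := by
      have h := tadc
      rw [inv_eq_self MLift.td, inv_eq_self MLift.tc] at h
      rw [← inv_eq_self MLift.ta, eq_inv_of_mul_eq_one_right h]
    refine hE.uniq hp (by rw [map_pow, map_mul, hd, hc, hT, ha]) ?_ (by rw [pow_two, ha2])
    rw [← pow_mul]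
    exact hE.two_inv hp hd2 hc2 8 (by rw [hd, hc, show (8 : ℕ) = 4 * 2 from rfl, pow_mul, hT,
      pow_two, MLift.ta])
  have hbcde : (b * c * d * e) ^ 8 = 1 := by
    have hw : (b * d * (c * e)) ^ 8 = 1 := by
      refine hE.two_inv hp (by rw [← pow_two]; exact hbd) (by rw [← pow_two]; exact hce) 8 ?_
      rw [map_mul, map_mul, hb, hc, hd, he,
        ← rot MLift.tb MLift.tc MLift.td MLift.te tbd tbe tce, conj_pow', tbcde]
      group
    rw [← rot hb2 hc2 hd2 he2 hbd hbe hce, conj_pow'] at hw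
    calc (b * c * d * e) ^ 8
        = b * c * ((b * c)⁻¹ * (b * c * d * e) ^ 8 * (b * c)) * (b * c)⁻¹ := by group
      _ = 1 := by rw [hw]; group
  have hf : e * (s⁻¹ * e * s) = s⁻¹ * (s⁻¹ * (s⁻¹ * e * s) * s) * s := by
    have hT := es_eq MLift.te tes
    have h1 : (s⁻¹ * e * s) * (s⁻¹ * e * s) = 1 := by
      rw [show (s⁻¹ * e * s) * (s⁻¹ * e * s) = s⁻¹ * (e * e) * s by group, he2]
      group
    refine hE.uniq hp ?_ (hE.two_inv hp he2 h1 2 ?_) ?_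
    · simp only [map_mul, map_inv, he, hs]
      exact hT
    · simp only [map_mul, map_inv, he, hs]
      rw [hT, conj_pow', conj_pow', conj_pow', pow_two, MLift.te]
      group
    · rw [conj_pow', conj_pow', conj_pow', pow_two, he2]
      group
  have hts : t⁻¹ * s * t * s⁻¹ * s⁻¹ = 1 := by
    set X := t⁻¹ * s * t with hX
    have hξ : X * s⁻¹ * s⁻¹ ∈ σ.ker := by
      rw [MonoidHom.mem_ker]
      simp only [X, map_mul, map_inv, ht, hs]
      exact tts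
    have htd : t * d = d * t := by
      have := hE.comm2 hp hd2 MLift.td hd ht MLift.ttd
      calc t * d = d * t * (t⁻¹ * d⁻¹ * t * d) := by group
        _ = d * t := by rw [this, mul_one]
    have hdsd : d⁻¹ * s * d = s⁻¹ := by
      refine eq_inv_of_mul_eq_one_left ?_
      rw [inv_eq_self hd2]
      calc d * s * d * s = d * (s * d * (s * d)) * d⁻¹ := by group
        _ = 1 := by rw [hsd]; group
    have hdX : d⁻¹ * X * d = X⁻¹ := by
      calc d⁻¹ * X * d = (t * d)⁻¹ * s * (t * d) := by simp only [X]; group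
        _ = t⁻¹ * (d⁻¹ * s * d) * t := by rw [htd]; group
        _ = X⁻¹ := by rw [hdsd]; simp only [X]; group
    have h1 : X * s⁻¹ * s⁻¹ = X⁻¹ * s * s := by
      calc X * s⁻¹ * s⁻¹ = d⁻¹ * (X * s⁻¹ * s⁻¹) * d := by
            rw [mul_assoc d⁻¹, ← hE.cen _ hξ, inv_mul_cancel_left]
        _ = (d⁻¹ * X * d) * (d⁻¹ * s * d)⁻¹ * (d⁻¹ * s * d)⁻¹ := by group
        _ = X⁻¹ * s * s := by rw [hdX, hdsd]; group
    refine hE.one_of_coprime hp hξ ?_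
    rw [pow_two]
    nth_rw 2 [h1]
    calc X * s⁻¹ * s⁻¹ * (X⁻¹ * s * s) = X⁻¹ * (X * s⁻¹ * s⁻¹) * (s * s) := by
          rw [hE.cen _ hξ X⁻¹]; simp only [mul_assoc]
      _ = 1 := by group
  refine ⟨a, b, c, d, e, s, ⟨ha, hb, hc, hd, he, hs⟩,
    ⟨ha2, hb2, hc2, hd2, he2, hE.two_inv hp ha2 hb2 3 (by rw [ha, hb, tab]), hae,
      hE.two_inv hp hb2 hc2 3 (by rw [hb, hc, tbc]), hbd, hbe, ?_, hce,
      hE.two_inv hp hd2 he2 3 (by rw [hd, he, tde]), hbcde, hss,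
      hE.comm2 hp ha2 MLift.ta ha hs tsa, hE.comm2 hp hb2 MLift.tb hb hs tsb,
      hE.comm2 hp hc2 MLift.tc hc hs tsc, hsd, es_word he2 hf, htt,
      hE.comm2 hp ha2 MLift.ta ha ht tta, hE.comm2 hp hb2 MLift.tb hb ht ttb,
      hE.comm2 hp hc2 MLift.tc hc ht ttc, hE.comm2 hp hd2 MLift.td hd ht ttd,
      hE.comm2 hp he2 MLift.te he ht tte, hts⟩⟩
  rw [inv_eq_self hd2, inv_eq_self hc2, hdc, ha2]

theorem Ext.exists_e (hE : Ext σ p) (h2 : p = 2) {s : E} (hs : σ s = gT 5) :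
    ∃ e : E, σ e = gT 4 ∧ e * e = 1 ∧
      e * (s⁻¹ * e * s) = s⁻¹ * (s⁻¹ * (s⁻¹ * e * s) * s) * s := by
  obtain ⟨e0, he⟩ := hE.surj (gT 4)
  have hT := es_eq MLift.te tes
  let g : E ≃* E := MulAut.conj s⁻¹
  have hg : ∀ y, g y = s⁻¹ * y * s := fun y => by
    rw [MulAut.conj_apply, inv_inv]
  have hgK : ∀ z ∈ σ.ker, g z = z := fun z hz => by
    rw [hg, mul_assoc, ← hE.cen _ hz, inv_mul_cancel_left]
  have sq : ∀ z ∈ σ.ker, z * z = 1 := fun z hz => by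
    rw [← pow_two]; exact h2 ▸ hE.pow z hz
  set f1 := g e0 with h1
  set f2 := g f1 with h2'
  set f3 := g f2 with h3
  have s1 : σ f1 = (gT 5)⁻¹ * gT 4 * gT 5 := by simp only [h1, hg, map_mul, map_inv, he, hs]
  have s3 : σ f3 = gT 4 * ((gT 5)⁻¹ * gT 4 * gT 5) := by
    simp only [h3, h2', h1, hg, map_mul, map_inv, he, hs]
    exact hT.symm
  obtain ⟨ε, hε0⟩ : ∃ ε, e0 * e0 = ε := ⟨_, rfl⟩
  have hε : ε ∈ σ.ker := by rw [← hε0, MonoidHom.mem_ker, map_mul, he, MLift.te]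
  have e1 : f1 * f1 = ε := by rw [h1, ← map_mul, hε0, hgK _ hε]
  have e3 : f3 * f3 = ε := by rw [h3, h2', ← map_mul, ← map_mul, e1, hgK _ hε, hgK _ hε]
  obtain ⟨θ, hθ, hf3⟩ : ∃ θ ∈ σ.ker, f3 = e0 * f1 * θ := by
    refine ⟨(e0 * f1)⁻¹ * f3, ?_, (mul_inv_cancel_left _ _).symm⟩
    rw [MonoidHom.mem_ker, map_mul, map_inv, map_mul, he, s1, s3, inv_mul_cancel]
  have hsqT : (gT 4 * ((gT 5)⁻¹ * gT 4 * gT 5)) * (gT 4 * ((gT 5)⁻¹ * gT 4 * gT 5)) = 1 := by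
    rw [hT, ← pow_two, conj_pow', conj_pow', conj_pow', pow_two, MLift.te]
    group
  obtain ⟨δ, hδ, hδ0⟩ : ∃ δ ∈ σ.ker, f1 * e0 = e0 * f1 * δ := by
    refine ⟨(e0 * f1)⁻¹ * (f1 * e0), ?_, (mul_inv_cancel_left _ _).symm⟩
    rw [MonoidHom.mem_ker, map_mul, map_inv, map_mul, map_mul, he, s1]
    have h4 : ((gT 5)⁻¹ * gT 4 * gT 5) * ((gT 5)⁻¹ * gT 4 * gT 5) = 1 := by
      rw [← pow_two, conj_pow', pow_two, MLift.te]; group
    rw [← sq_commute MLift.te h4 (by rw [pow_two]; exact hsqT), inv_mul_cancel]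
  have hδε : δ = ε := by
    have h5 : e0 * f1 * (e0 * f1) = δ := by
      calc e0 * f1 * (e0 * f1) = e0 * (f1 * e0) * f1 := by simp only [mul_assoc]
        _ = e0 * (e0 * f1 * δ) * f1 := by rw [hδ0]
        _ = e0 * e0 * f1 * (δ * f1) := by simp only [mul_assoc]
        _ = e0 * e0 * (f1 * f1) * δ := by rw [← hE.cen _ hδ f1]; simp only [mul_assoc]
        _ = δ := by rw [hε0, e1, sq _ hε, one_mul]
    have h6 : f3 * f3 = e0 * f1 * (e0 * f1) := by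
      calc f3 * f3 = e0 * f1 * (θ * (e0 * f1)) * θ := by rw [hf3]; simp only [mul_assoc]
        _ = e0 * f1 * (e0 * f1) * (θ * θ) := by rw [← hE.cen _ hθ]; simp only [mul_assoc]
        _ = _ := by rw [sq _ hθ, mul_one]
    rw [← h5, ← h6, e3]
  have c10 : f1 * e0 = e0 * f1 * ε := hδε ▸ hδ0
  have c21 : f2 * f1 = f1 * f2 * ε := by
    have := congrArg g c10
    rwa [map_mul, map_mul, map_mul, hgK _ hε] at this
  have c32 : f3 * f2 = f2 * f3 * ε := by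
    have := congrArg g c21
    rwa [map_mul, map_mul, map_mul, hgK _ hε] at this
  have cz : ∀ x y : E, x * ε * y = x * y * ε := fun x y => by
    rw [mul_assoc, ← hE.cen _ hε y, ← mul_assoc]
  have cθ : ∀ x y : E, x * θ * y = x * y * θ := fun x y => by
    rw [mul_assoc, ← hE.cen _ hθ y, ← mul_assoc]
  have c13 : f1 * f3 = f3 * f1 * ε := by
    rw [hf3, ← mul_assoc, ← mul_assoc, c10, cz, cθ, cz]
  have c02 : e0 * f2 = f2 * e0 * ε := g.injective (by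
    rw [map_mul, map_mul, map_mul, hgK _ hε]; exact c13)
  have hε1 : ε = 1 := by
    have c12 : f1 * f2 = f2 * f1 * ε := by
      rw [c21, mul_assoc, sq _ hε, mul_one]
    have h7 : f3 * f2 = f2 * f3 := by
      rw [hf3, cθ, mul_assoc e0, c12, ← mul_assoc, ← mul_assoc, c02, cz, cz, cz, mul_assoc _ ε ε,
        sq _ hε, mul_one]
      simp only [mul_assoc]
    rw [h7] at c32
    exact (mul_eq_left.mp c32.symm)
  refine ⟨e0 * θ, by rw [map_mul, MonoidHom.mem_ker.mp hθ, mul_one, he], ?_, ?_⟩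
  · rw [← mul_assoc, cθ, mul_assoc, sq _ hθ, mul_one]
    rw [hε0]
    exact hε1
  · rw [← hg (e0 * θ), ← hg, ← hg, map_mul, hgK _ hθ, map_mul, hgK _ hθ, map_mul, hgK _ hθ]
    show e0 * θ * (f1 * θ) = f3 * θ
    rw [← mul_assoc, cθ, hf3]

theorem Ext.two_rels (hE : Ext σ p) (h2 : p = 2) {t : E} (ht : σ t = gT 6) (htt : t ^ 3 = 1) :
    ∃ a b c d e s : E, (σ a = gT 0 ∧ σ b = gT 1 ∧ σ c = gT 2 ∧ σ d = gT 3 ∧ σ e = gT 4 ∧
      σ s = gT 5) ∧ Rels a b c d e s t := by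
  have h7 : p.Coprime 7 := by rw [h2]; norm_num
  have h3 : p.Coprime 3 := by rw [h2]; norm_num
  obtain ⟨s, hs, hss⟩ := hE.root h7 (g := gT 5) MLift.ts
  obtain ⟨e, he, hee, hf⟩ := hE.exists_e h2 hs
  obtain ⟨qA, qB, qC, qD, qAE, qBD, qBE, qCE, qW⟩ := hE.sqOne_all h2 he hee
  obtain ⟨b0, hb0⟩ := hE.surj (gT 1)
  obtain ⟨c0, hc0⟩ := hE.surj (gT 2)
  obtain ⟨d0, hd0⟩ := hE.surj (gT 3)
  have fix : ∀ x y : E, (σ x * σ y) ^ 3 = 1 →
      ∃ z ∈ σ.ker, (x * (y * z)) ^ 3 = 1 ∧ (x * z * y) ^ 3 = 1 := by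
    intro x y h
    have hz : (x * y) ^ 3 ∈ σ.ker := by rw [MonoidHom.mem_ker, map_pow, map_mul, h]
    have key : (x * y * (x * y) ^ 3) ^ 3 = 1 := by
      rw [(show Commute (x * y) ((x * y) ^ 3) from hE.cen _ hz _).mul_pow]
      have hsq : ((x * y) ^ 3) ^ 2 = 1 := h2 ▸ hE.pow _ hz
      calc (x * y) ^ 3 * ((x * y) ^ 3) ^ 3 = ((x * y) ^ 3) ^ 2 * ((x * y) ^ 3) ^ 2 := by group
        _ = 1 := by rw [hsq, one_mul]
    refine ⟨(x * y) ^ 3, hz, by rw [← mul_assoc]; exact key, ?_⟩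
    rw [mul_assoc x, ← hE.cen _ hz y, ← mul_assoc]
    exact key
  obtain ⟨zd, hzd, -, hde⟩ := fix d0 e (by rw [hd0, he, tde])
  set d := d0 * zd with hdd
  have hd : σ d = gT 3 := by rw [map_mul, MonoidHom.mem_ker.mp hzd, mul_one, hd0]
  set a := ((d⁻¹ * c0⁻¹) ^ 4)⁻¹ with had
  have ha : σ a = gT 0 := by
    rw [map_inv, map_pow, map_mul, map_inv, map_inv, hd, hc0]
    exact (eq_inv_of_mul_eq_one_left tadc).symm
  obtain ⟨zb, hzb, hab, -⟩ := fix a b0 (by rw [ha, hb0, tab])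
  set b := b0 * zb with hbd'
  have hb : σ b = gT 1 := by rw [map_mul, MonoidHom.mem_ker.mp hzb, mul_one, hb0]
  obtain ⟨zc, hzc, hbc, -⟩ := fix b c0 (by rw [hb, hc0, tbc])
  set c := c0 * zc with hcd
  have hc : σ c = gT 2 := by rw [map_mul, MonoidHom.mem_ker.mp hzc, mul_one, hc0]
  refine ⟨a, b, c, d, e, s, ⟨ha, hb, hc, hd, he, hs⟩,
    ⟨qA a ha, qB b hb, qC c hc, qD d hd, hee, hab, ?_, hbc, ?_, ?_, ?_, ?_, hde, ?_, hss,
      hE.commN h7 hss ha hs tsa, hE.commN h7 hss hb hs tsb, hE.commN h7 hss hc hs tsc, ?_,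
      es_word hee hf, htt, hE.commN h3 htt ha ht tta, hE.commN h3 htt hb ht ttb,
      hE.commN h3 htt hc ht ttc, hE.commN h3 htt hd ht ttd, hE.commN h3 htt he ht tte, ?_⟩⟩
  · rw [pow_two]; exact qAE _ (by rw [map_mul, ha, he])
  · rw [pow_two]; exact qBD _ (by rw [map_mul, hb, hd])
  · rw [pow_two]; exact qBE _ (by rw [map_mul, hb, he])
  · have hz : (zc⁻¹) ^ 4 = 1 := by
      rw [show (4 : ℕ) = 2 * 2 from rfl, pow_mul, show (zc⁻¹) ^ 2 = 1 from h2 ▸ hE.pow _ (inv_mem hzc),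
        one_pow]
    have e4 : d⁻¹ * c⁻¹ = d⁻¹ * c0⁻¹ * zc⁻¹ := by
      rw [hcd, mul_inv_rev c0 zc, ← hE.cen _ (inv_mem hzc), mul_assoc]
    rw [e4, (show Commute (d⁻¹ * c0⁻¹) zc⁻¹ from hE.cen _ (inv_mem hzc) _).mul_pow, hz, mul_one,
      had, inv_mul_cancel]
  · rw [pow_two]; exact qCE _ (by rw [map_mul, hc, he])
  · rw [show (8 : ℕ) = 4 * 2 from rfl, pow_mul, pow_two]
    exact qW _ (by rw [map_pow, map_mul, map_mul, map_mul, hb, hc, hd, he])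
  · have hdsd : d⁻¹ * s * d = s⁻¹ := by
      refine hE.uniq h7 ?_ (by rw [conj_pow', hss]; group) (by rw [inv_pow, hss, inv_one])
      rw [map_mul, map_mul, map_inv, map_inv, hd, hs]
      refine eq_inv_of_mul_eq_one_left ?_
      rw [inv_eq_self MLift.td]
      calc gT 3 * gT 5 * gT 3 * gT 5 = gT 3 * (gT 5 * gT 3 * (gT 5 * gT 3)) * (gT 3)⁻¹ := by group
        _ = 1 := by rw [tsd]; group
    calc s * d * (s * d) = s * (d * d) * (d⁻¹ * s * d) := by group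
      _ = 1 := by rw [qD d hd, hdsd]; group
  · have hX : t⁻¹ * s * t = s * s := by
      refine hE.uniq h7 ?_ (by rw [conj_pow', hss]; group)
        (by rw [(Commute.refl s).mul_pow, hss, one_mul])
      rw [map_mul, map_mul, map_mul, map_inv, ht, hs]
      calc (gT 6)⁻¹ * gT 5 * gT 6
          = (gT 6)⁻¹ * gT 5 * gT 6 * (gT 5)⁻¹ * (gT 5)⁻¹ * (gT 5 * gT 5) := by group
        _ = gT 5 * gT 5 := by rw [tts, one_mul]
    rw [hX]; group

/-- A lift of `t` of order three, and one of `u`; for the prime three `u` inverts it. -/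
theorem Ext.exists_tu (hE : Ext σ p) :
    ∃ t u : E, σ t = gT 6 ∧ σ u = gT 7 ∧ t ^ 3 = 1 ∧ (p = 3 → u⁻¹ * t * u * t = 1) := by
  obtain ⟨u, hu⟩ := hE.surj (gT 7)
  by_cases h3 : p = 3
  · obtain ⟨t0, ht0⟩ := hE.surj (gT 6)
    obtain ⟨η, hη⟩ : ∃ η, u⁻¹ * t0 * u * t0 = η := ⟨_, rfl⟩
    have hz : η ∈ σ.ker := by
      rw [← hη, MonoidHom.mem_ker]; simp only [map_mul, map_inv, hu, ht0]; exact tut
    have hc := hE.cen _ hz
    have hη3 : η ^ 3 = 1 := h3 ▸ hE.pow _ hz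
    have key : u⁻¹ * (t0 * η) * u * (t0 * η) = 1 := by
      calc u⁻¹ * (t0 * η) * u * (t0 * η) = u⁻¹ * t0 * (η * u) * (t0 * η) := by
            simp only [mul_assoc]
        _ = u⁻¹ * t0 * u * (η * t0) * η := by rw [← hc u]; simp only [mul_assoc]
        _ = u⁻¹ * t0 * u * t0 * (η * η) := by rw [← hc t0]; simp only [mul_assoc]
        _ = 1 := by rw [hη, ← pow_two, ← pow_succ', hη3]
    refine ⟨t0 * η, u, by rw [map_mul, MonoidHom.mem_ker.mp hz, mul_one, ht0], hu, ?_, fun _ => key⟩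
    have ht3 : (t0 * η) ^ 3 ∈ σ.ker := by
      rw [MonoidHom.mem_ker, map_pow, map_mul, MonoidHom.mem_ker.mp hz, mul_one, ht0, MLift.tt]
    have h6 := conj_pow' u (t0 * η) 3
    rw [eq_inv_of_mul_eq_one_left key, inv_pow, mul_assoc, ← hE.cen _ ht3 u,
      inv_mul_cancel_left] at h6
    refine hE.one_of_coprime (n := 2) (by rw [h3]; norm_num) ht3 ?_
    rw [pow_two]
    exact mul_eq_one_iff_eq_inv.mpr h6.symm
  · have hn : p.Coprime 3 := (Nat.coprime_primes hE.prime Nat.prime_three).mpr h3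
    obtain ⟨t, ht, htt⟩ := hE.root hn (g := gT 6) MLift.tt
    exact ⟨t, u, ht, hu, htt, fun h => absurd h h3⟩

/-- Lifts satisfying all relators of the subgroup. -/
theorem Ext.exists_rels (hE : Ext σ p) :
    ∃ a b c d e s t u : E, (σ a = gT 0 ∧ σ b = gT 1 ∧ σ c = gT 2 ∧ σ d = gT 3 ∧ σ e = gT 4 ∧
      σ s = gT 5 ∧ σ t = gT 6 ∧ σ u = gT 7) ∧ Rels a b c d e s t ∧
      (p = 3 → u⁻¹ * t * u * t = 1) := by
  obtain ⟨t, u, ht, hu, htt, h3⟩ := hE.exists_tu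
  by_cases h2 : p = 2
  · obtain ⟨a, b, c, d, e, s, ⟨ha, hb, hc, hd, he, hs⟩, hR⟩ := hE.two_rels h2 ht htt
    exact ⟨a, b, c, d, e, s, t, u, ⟨ha, hb, hc, hd, he, hs, ht, hu⟩, hR, h3⟩
  · obtain ⟨a, b, c, d, e, s, ⟨ha, hb, hc, hd, he, hs⟩, hR⟩ :=
      hE.odd_rels ((Nat.coprime_primes hE.prime Nat.prime_two).mpr h2) ht htt
    exact ⟨a, b, c, d, e, s, t, u, ⟨ha, hb, hc, hd, he, hs, ht, hu⟩, hR, h3⟩

end CfsgLib.Coset.Th.MLift
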