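import Cfsg.Agent.Coset.Th.MultEq
import Cfsg.Agent.Coset.Th.MultChoice
import Cfsg.Agent.Coset.Th.CentStruct
import Cfsg.Agent.Multiplier.Reduce

/-!
The Schur multiplier of the presented Thompson group is trivial: in a central extension with
kernel of prime order the generators lift to elements satisfying every relator.
-/

set_option autoImplicit false
set_option maxRecDepth 100000
set_option Elab.async false

namespace CfsgLib.Coset.Th.MLift

open Cfsg.Spor.Th (Gen)
open CfsgLib.Coset.Th.Mult (CFrame)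

local notation "Th'" => Cfsg.Spor.Th

variable {E : Type} [Group E] {σ : E →* Th'} {p : ℕ}

/-- The sixteen letters of eight elements. -/
def mkL (a b c d e s t u : E) : List E :=
  [a, a⁻¹, b, b⁻¹, c, c⁻¹, d, d⁻¹, e, e⁻¹, s, s⁻¹, t, t⁻¹, u, u⁻¹]

theorem pair_mkL (a b c d e s t u : E) :
    ∀ l, l < 16 → fl (mkL a b c d e s t u) l * fl (mkL a b c d e s t u) (Nat.xor l 1) = 1 := by
  intro l hl
  interval_cases l
  all_goals first
    | exact mul_inv_cancel _
    | exact inv_mul_cancel _

theorem σ_ev {a b c d e s t u : E} (h : σ a = gT 0 ∧ σ b = gT 1 ∧ σ c = gT 2 ∧ σ d = gT 3 ∧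
    σ e = gT 4 ∧ σ s = gT 5 ∧ σ t = gT 6 ∧ σ u = gT 7) :
    ∀ w, σ (ev (mkL a b c d e s t u) w) = ev LG w := by
  obtain ⟨ha, hb, hc, hd, he, hs, ht, hu⟩ := h
  have hfl : ∀ l, σ (fl (mkL a b c d e s t u) l) = fl LG l := by
    intro l
    rcases lt_or_ge l 16 with hl | hl
    · interval_cases l <;> simp [fl, mkL, ha, hb, hc, hd, he, hs, ht, hu] <;>
        first
          | exact (gT_odd.1).symm | exact (gT_odd.2.1).symm | exact (gT_odd.2.2.1).symm
          | exact (gT_odd.2.2.2.1).symm | exact (gT_odd.2.2.2.2.1).symm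
          | exact (gT_odd.2.2.2.2.2.1).symm | exact (gT_odd.2.2.2.2.2.2.1).symm
          | exact (gT_odd.2.2.2.2.2.2.2).symm | rfl
    · rw [fl_of_le _ (show (mkL a b c d e s t u).length ≤ l from hl),
        fl_of_le _ (show LG.length ≤ l from hl), map_one]
  intro w
  induction w with
  | nil => simp
  | cons x w ih => rw [ev_cons, ev_cons, map_mul, hfl, ih]

theorem relA_of_rels {a b c d e s t : E} (h : Rels a b c d e s t) (u : E) :
    ∀ w ∈ relsA, ev (mkL a b c d e s t u) w = 1 := by
  obtain ⟨aa, bb, cc, dd, ee, ab, ae, bc, bd, be, adc, ce, de, bcde, ss, sa, sb, sc, sd, es, tt,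
    ta', tb', tc', td', te', ts'⟩ := h
  intro w hw
  simp only [relsA, List.mem_cons, List.not_mem_nil, or_false] at hw
  repeat' rcases hw with rfl | hw
  all_goals
    simp only [ev_cons, ev_nil, mul_one, mkL, fl, List.getD_eq_getElem?_getD,
      List.getElem?_cons_succ, List.getElem?_cons_zero, Option.getD_some, pow_succ, pow_zero,
      one_mul, mul_assoc, mul_inv_cancel, inv_mul_cancel] at *
  all_goals assumption

theorem ev_mul_central (a b c d e s t u ζ : E) (hζ : ∀ g : E, g * ζ = ζ * g) :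
    ∀ w, (∀ l ∈ w, l < 16) → ev (mkL a b c d e s t (u * ζ)) w =
      ev (mkL a b c d e s t u) w * ζ ^ ((w.count 14 : ℤ) - w.count 15) := by
  intro w
  induction w with
  | nil => simp
  | cons x w ih =>
    intro hw
    have hk : ∀ (k : ℤ) (g : E), g * ζ ^ k = ζ ^ k * g := fun k g =>
      ((show Commute g ζ from hζ g).zpow_right k).eq
    rw [ev_cons, ev_cons, ih fun l hl => hw l (by simp [hl])]
    by_cases h14 : x = 14
    · subst h14
      rw [List.count_cons_self, List.count_cons_of_ne (by decide : (14 : ℕ) ≠ 15), Nat.cast_succ,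
        show ((w.count 14 : ℤ) + 1 - w.count 15) = 1 + ((w.count 14 : ℤ) - w.count 15) by ring,
        zpow_add, zpow_one, show fl (mkL a b c d e s t (u * ζ)) 14 = u * ζ from rfl,
        show fl (mkL a b c d e s t u) 14 = u from rfl]
      simp only [← mul_assoc]
      rw [mul_assoc u ζ, ← hζ, ← mul_assoc]
    · by_cases h15 : x = 15
      · subst h15
        rw [List.count_cons_self, List.count_cons_of_ne (by decide : (15 : ℕ) ≠ 14), Nat.cast_succ,
          show ((w.count 14 : ℤ) - ((w.count 15 : ℤ) + 1)) =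
            -1 + ((w.count 14 : ℤ) - w.count 15) by ring,
          zpow_add, show fl (mkL a b c d e s t (u * ζ)) 15 = (u * ζ)⁻¹ from rfl,
          show fl (mkL a b c d e s t u) 15 = u⁻¹ from rfl, mul_inv_rev, zpow_neg_one]
        have h1 := hk (-1)
        rw [zpow_neg_one] at h1
        rw [← h1 u⁻¹]
        simp only [← mul_assoc]
        rw [mul_assoc u⁻¹ ζ⁻¹, ← h1, ← mul_assoc]
      · rw [List.count_cons_of_ne h14, List.count_cons_of_ne h15,
          show fl (mkL a b c d e s t (u * ζ)) x = fl (mkL a b c d e s t u) x from ?_, mul_assoc]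
        have := hw x (by simp)
        interval_cases x <;> first | rfl | omega

theorem relW_cases : ∀ w ∈ Th.relW, w ∈ relsA ∨
    ∃ r < 39, 27 ≤ r ∧ Th.relW.getD r [] = w := by
  decide +kernel

theorem relW_norm :
    Th.relW.getD 27 [] = [14, 14, 5, 1] ∧
      Th.relW.getD 36 [] = [0, 4, 11, 15, 11, 15, 11, 15] ∧
      Th.relW.getD 34 [] = [15, 12, 14, 12] := by
  decide +kernel

/-- Letters satisfying every relator. -/
theorem Ext.exists_letters (hE : Ext σ p) (hinj : Function.Injective frame_LG.Ψ) :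
    ∃ L : List E, L.length = 16 ∧ (∀ l, l < 16 → fl L l * fl L (Nat.xor l 1) = 1) ∧
      (∀ w ∈ Th.relW, ev L w = 1) ∧ ∀ w, σ (ev L w) = ev LG w := by
  obtain ⟨a, b, c, d, e, s, t, u0, hσ, hR, h3⟩ := hE.exists_rels
  let L0 := mkL a b c d e s t u0
  have hlt : ∀ w ∈ Th.relW, ∀ l ∈ w, l < 16 := by decide +kernel
  have hker : ∀ (u : E), σ u = gT 7 → ∀ r, r < 39 →
      ev (mkL a b c d e s t u) (Th.relW.getD r []) ∈ σ.ker := by
    intro u hu r hr
    obtain ⟨ha, hb, hc, hd, he, hs, ht, -⟩ := hσ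
    rw [MonoidHom.mem_ker, σ_ev ⟨ha, hb, hc, hd, he, hs, ht, hu⟩]
    refine relW_LG _ ?_
    rw [List.getD_eq_getElem _ _ (by
      have : Th.relW.length = 39 := by decide +kernel
      omega)]
    exact List.getElem_mem _
  have hu0 : σ u0 = gT 7 := hσ.2.2.2.2.2.2.2
  let ζ := ev L0 (Th.relW.getD 27 []) * ev L0 (Th.relW.getD 36 [])
  have hζ : ζ ∈ σ.ker := mul_mem (hker u0 hu0 27 (by norm_num)) (hker u0 hu0 36 (by norm_num))
  let u := u0 * ζ
  have hu : σ u = gT 7 := by rw [map_mul, hu0, MonoidHom.mem_ker.mp hζ, mul_one]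
  have hσ' : ∀ w, σ (ev (mkL a b c d e s t u) w) = ev LG w :=
    σ_ev ⟨hσ.1, hσ.2.1, hσ.2.2.1, hσ.2.2.2.1, hσ.2.2.2.2.1, hσ.2.2.2.2.2.1, hσ.2.2.2.2.2.2.1, hu⟩
  let L := mkL a b c d e s t u
  have hrA : ∀ w ∈ relsA, ev L w = 1 := relA_of_rels hR u
  let cst : Nat → E := fun i => if i < 12 then ev L (Th.relW.getD (27 + i) []) else 1
  have hF : CFrame L σ.ker cst :=
    { len := rfl
      pair := pair_mkL _ _ _ _ _ _ _ _
      relA := hrA
      cen := fun x hx g => hE.cen x hx g
      mem := fun i => by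
        by_cases hi : i < 12
        · simp only [cst, if_pos hi]; exact hker u hu _ (by omega)
        · simp only [cst, if_neg hi]; exact one_mem _
      relC := fun r h1 h2 => by
        simp only [cst, if_pos (show r - 27 < 12 by omega), show 27 + (r - 27) = r by omega]
      meet := by
        intro x hx hxk
        let Φ : A →* E := numHom (L := la L) (by simp [la, L, mkL]) fun w hw => by
          rw [ev_la L w (relsA_lt w hw)]
          exact hrA w hw
        have hΦ : ∀ w, (∀ l ∈ w, l < 14) → Φ (ev LA w) = ev L w := fun w hw => by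
          rw [show Φ (ev LA w) = ev (la L) w from numHom_ev _ _ w, ev_la L w hw]
        have hm : x ∈ Φ.range := by
          refine (Subgroup.closure_le _).mpr ?_ hx
          intro y hy
          obtain ⟨l, hl, rfl⟩ := List.getElem_of_mem hy
          have hl14 : l < 14 := by simpa [la, L, mkL] using hl
          refine ⟨ev LA [l], ?_⟩
          rw [hΦ [l] (by simpa using hl14), ev_cons, ev_nil, mul_one, ← fl_la L hl14, fl,
            List.getD_eq_getElem _ _ hl]
        obtain ⟨α, rfl⟩ := hm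
        obtain ⟨w, hw, rfl⟩ := exists_word_A α
        rw [MonoidHom.mem_ker, hΦ w hw, hσ', ← frame_LG.Ψ_ev w hw,
          ← map_one frame_LG.Ψ] at hxk
        rw [hinj hxk, map_one] }
  obtain ⟨e27, e36, e34⟩ := relW_norm
  have hshift : ∀ r, (∀ l ∈ Th.relW.getD r [], l < 16) → ev L (Th.relW.getD r []) =
      ev L0 (Th.relW.getD r []) *
        ζ ^ (((Th.relW.getD r []).count 14 : ℤ) - (Th.relW.getD r []).count 15) :=
    fun r hr => ev_mul_central a b c d e s t u0 ζ (hE.cen _ hζ) _ hr
  have hn : cst 0 * cst 9 = 1 := by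
    simp only [cst, show (0 : ℕ) < 12 by norm_num, show (9 : ℕ) < 12 by norm_num, if_true,
      show 27 + 0 = 27 from rfl, show 27 + 9 = 36 from rfl]
    rw [hshift 27 (by rw [e27]; decide), hshift 36 (by rw [e36]; decide),
      mul_assoc, ← mul_assoc (ζ ^ _), ← ((show Commute (ev L0 (Th.relW.getD 36 [])) ζ from
        hE.cen _ hζ _).zpow_right _).eq, mul_assoc, ← mul_assoc, ← zpow_add]
    have h : (((Th.relW.getD 27 []).count 14 : ℤ) - (Th.relW.getD 27 []).count 15) +
        (((Th.relW.getD 36 []).count 14 : ℤ) - (Th.relW.getD 36 []).count 15) = -1 := by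
      rw [e27, e36]; rfl
    rw [h, zpow_neg_one]
    exact mul_inv_cancel ζ
  have h7 : cst 7 = 1 := by
    by_cases hp3 : p = 3
    · simp only [cst, show (7 : ℕ) < 12 by norm_num, if_true, show 27 + 7 = 34 from rfl]
      rw [hshift 34 (by rw [e34]; decide), e34]
      have := h3 hp3
      simp only [L0, ev_cons, ev_nil, mul_one, mkL, fl, List.getD_eq_getElem?_getD,
        List.getElem?_cons_succ, List.getElem?_cons_zero, Option.getD_some]
      simpa [mul_assoc] using this
    · refine hE.one_of_coprime ((Nat.coprime_primes hE.prime Nat.prime_three).mpr hp3)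
        (hF.mem 7) (hF.c_seven_cube hn)
  refine ⟨L, rfl, hF.pair, fun w hw => ?_, hσ'⟩
  rcases relW_cases w hw with h | ⟨r, hr, hr', rfl⟩
  · exact hrA w h
  · rw [hF.relC r hr' hr]
    exact hF.c_eq_one hn h7 _ (by omega)

/-- A central extension with kernel of prime order has a complement. -/
theorem Ext.exists_section (hE : Ext σ p) (hinj : Function.Injective frame_LG.Ψ) :
    ∃ φ : Th' →* E, ∀ g, σ (φ g) = g := by
  obtain ⟨L, hlen, hp, hrel, hσ⟩ := hE.exists_letters hinj
  let f : Gen → E := fun x => fl L (2 * genIdx x)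
  have hx : ∀ x, fl L (2 * genIdx x + 1) = (f x)⁻¹ := by
    intro x
    have h : Nat.xor (2 * genIdx x) 1 = 2 * genIdx x + 1 := by cases x <;> decide
    rw [← h, fl_xor16 hlen hp]
  have hl : ∀ r ∈ Cfsg.Spor.coxRelators Cfsg.Spor.Th.edges ∪ {r | r ∈ Cfsg.Spor.Th.extra},
      FreeGroup.lift f r = 1 := by
    rintro r (⟨x, hx', y, -, -⟩ | hr)
    · simp [Cfsg.Spor.Th.edges, Cfsg.Spor.coxNodes] at hx'
    · rw [lift_eq_ev_gen f L (fun _ => rfl) hx r]
      refine hrel _ ?_
      rw [← relW_eq]
      exact List.mem_map_of_mem hr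
  refine ⟨PresentedGroup.toGroup hl, fun g => ?_⟩
  have : σ.comp (PresentedGroup.toGroup hl) = MonoidHom.id _ := by
    refine PresentedGroup.ext fun x => ?_
    show σ (PresentedGroup.toGroup hl (PresentedGroup.of x)) = PresentedGroup.of x
    rw [PresentedGroup.toGroup.of]
    have h1 := hσ [2 * genIdx x]
    simp only [ev_cons, ev_nil, mul_one] at h1
    rw [h1, (fl_LG_gen x).1]
    rfl
  exact DFunLike.congr_fun this g

end CfsgLib.Coset.Th.MLift

namespace CfsgLib.Coset.Th.Mult

open CfsgLib.Coset.Th.MLift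

/-- The multiplier of the Thompson group is trivial. -/
theorem multiplier_Th {τ lab cnt} (D : frame_LG.EdgeData τ lab cnt) :
    Cfsg.HasCyclicSchurMultiplier Cfsg.Spor.Th 1 := by
  haveI : Finite Cfsg.Spor.Th := finite_Th D
  refine CfsgLib.Multiplier.hasTrivial_of_noStem _ fun p hp => ?_
  intro E _ _ σ hσ hcard
  have hE : Ext σ p :=
    { surj := hσ.1
      cen := fun z hz g => Subgroup.mem_center_iff.mp (hσ.2.1 hz) g
      prime := hp
      pow := fun z hz => by
        have := pow_card_eq_one' (x := (⟨z, hz⟩ : σ.ker))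
        rw [hcard] at this
        exact congrArg Subtype.val this }
  obtain ⟨φ, hφ⟩ := hE.exists_section D.Ψ_injective
  have hb : σ.ker = ⊥ := by
    refine CfsgLib.Multiplier.ker_eq_bot_of_complement σ hσ φ.range ?_ ?_
    · rw [eq_bot_iff]
      rintro _ ⟨⟨g, rfl⟩, hg⟩
      have : σ (φ g) = 1 := hg
      rw [hφ] at this
      simp [this]
    · rw [eq_top_iff]
      intro x _
      have h1 : (φ (σ x))⁻¹ * x ∈ σ.ker := by simp [MonoidHom.mem_ker, hφ]
      simpa using mul_mem (Subgroup.mem_sup_left (T := σ.ker) (⟨σ x, rfl⟩ : φ (σ x) ∈ φ.range))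
        (Subgroup.mem_sup_right (S := φ.range) h1)
  rw [hb, Subgroup.card_bot] at hcard
  exact hp.one_lt.ne hcard

end CfsgLib.Coset.Th.Mult
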