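import Cfsg.Agent.Coset.Th.MultDerive

/-! The constants of all facts and stabilising elements agree with the listed ones. -/

set_option autoImplicit false
set_option maxRecDepth 100000
set_option Elab.async false

namespace CfsgLib.Coset.Th.Mult

theorem cchunk0 : checkC stepC0 0 20 = true := by decide +kernel

theorem cchunk1 : checkC stepC1 136 44 = true := by decide +kernel

theorem cchunk2 : checkC stepC2 293 47 = true := by decide +kernel

theorem cchunk3 : checkC stepC3 453 47 = true := by decide +kernel

theorem cchunk4 : checkC stepC4 613 47 = true := by decide +kernel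

theorem cchunk5 : checkC stepC5 773 47 = true := by decide +kernel

theorem cchunk6 : checkC stepC6 933 47 = true := by decide +kernel

theorem cchunk7 : checkC stepC7 1093 47 = true := by decide +kernel

theorem cchunk8 : checkC stepC8 1253 47 = true := by decide +kernel

theorem cchunk9 : checkC stepC9 1413 47 = true := by decide +kernel

theorem cchunk10 : checkC stepC10 1573 47 = true := by decide +kernel

theorem cchunk11 : checkC stepC11 1733 47 = true := by decide +kernel

theorem cchunk12 : checkC stepC12 1893 47 = true := by decide +kernel

theorem cchunk13 : checkC stepC13 2053 47 = true := by decide +kernel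

theorem cchunk14 : checkC stepC14 2213 47 = true := by decide +kernel

theorem cchunk15 : checkC stepC15 2373 47 = true := by decide +kernel

theorem cchunk16 : checkC stepC16 2533 47 = true := by decide +kernel

theorem cchunk17 : checkC stepC17 2693 47 = true := by decide +kernel

theorem cchunk18 : checkC stepC18 2853 47 = true := by decide +kernel

theorem cchunk19 : checkC stepC19 3013 47 = true := by decide +kernel

theorem cchunk20 : checkC stepC20 3173 47 = true := by decide +kernel

theorem cchunk21 : checkC stepC21 3333 47 = true := by decide +kernel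

theorem cchunk22 : checkC stepC22 3493 47 = true := by decide +kernel

theorem cchunk23 : checkC stepC23 3653 47 = true := by decide +kernel

theorem cchunk24 : checkC stepC24 3811 49 = true := by decide +kernel

theorem cchunk25 : checkC stepC25 3970 50 = true := by decide +kernel

theorem cchunk26 : checkC stepC26 4130 50 = true := by decide +kernel

theorem cchunk27 : checkC stepC27 4288 52 = true := by decide +kernel

/-- All facts and stabilising elements hold with their constants. -/
theorem CFrame.known {Γ : Type*} [Group Γ] {L : List Γ} {Z : Subgroup Γ} {c : Nat → Γ}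
    (hF : CFrame L Z c) : hF.Known numFacts 52 := by
  have h0 := hF.known_initial
  have h1 := hF.known_of_check _ _ _ _ _ chunk0 cchunk0 h0
  have h2 := hF.known_of_check _ _ _ _ _ chunk1 cchunk1 h1
  have h3 := hF.known_of_check _ _ _ _ _ chunk2 cchunk2 h2
  have h4 := hF.known_of_check _ _ _ _ _ chunk3 cchunk3 h3
  have h5 := hF.known_of_check _ _ _ _ _ chunk4 cchunk4 h4
  have h6 := hF.known_of_check _ _ _ _ _ chunk5 cchunk5 h5
  have h7 := hF.known_of_check _ _ _ _ _ chunk6 cchunk6 h6
  have h8 := hF.known_of_check _ _ _ _ _ chunk7 cchunk7 h7
  have h9 := hF.known_of_check _ _ _ _ _ chunk8 cchunk8 h8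
  have h10 := hF.known_of_check _ _ _ _ _ chunk9 cchunk9 h9
  have h11 := hF.known_of_check _ _ _ _ _ chunk10 cchunk10 h10
  have h12 := hF.known_of_check _ _ _ _ _ chunk11 cchunk11 h11
  have h13 := hF.known_of_check _ _ _ _ _ chunk12 cchunk12 h12
  have h14 := hF.known_of_check _ _ _ _ _ chunk13 cchunk13 h13
  have h15 := hF.known_of_check _ _ _ _ _ chunk14 cchunk14 h14
  have h16 := hF.known_of_check _ _ _ _ _ chunk15 cchunk15 h15
  have h17 := hF.known_of_check _ _ _ _ _ chunk16 cchunk16 h16
  have h18 := hF.known_of_check _ _ _ _ _ chunk17 cchunk17 h17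
  have h19 := hF.known_of_check _ _ _ _ _ chunk18 cchunk18 h18
  have h20 := hF.known_of_check _ _ _ _ _ chunk19 cchunk19 h19
  have h21 := hF.known_of_check _ _ _ _ _ chunk20 cchunk20 h20
  have h22 := hF.known_of_check _ _ _ _ _ chunk21 cchunk21 h21
  have h23 := hF.known_of_check _ _ _ _ _ chunk22 cchunk22 h22
  have h24 := hF.known_of_check _ _ _ _ _ chunk23 cchunk23 h23
  have h25 := hF.known_of_check _ _ _ _ _ chunk24 cchunk24 h24
  have h26 := hF.known_of_check _ _ _ _ _ chunk25 cchunk25 h25
  have h27 := hF.known_of_check _ _ _ _ _ chunk26 cchunk26 h26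
  have h28 := hF.known_of_check _ _ _ _ _ chunk27 cchunk27 h27
  exact h28

end CfsgLib.Coset.Th.Mult
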