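import Cfsg.Agent.Coset.Th.Group
import Cfsg.Agent.Coset.Th.Derive

/-!
Lifts of the seven generators of the subgroup to a central extension with kernel of prime order:
they can be chosen to satisfy all relators of the subgroup exactly.
-/

set_option autoImplicit false
set_option maxRecDepth 100000
set_option Elab.async false

namespace CfsgLib.Coset.Th.MLift

local notation "Th'" => Cfsg.Spor.Th

/-- The seven generators in the presented group. -/
noncomputable def gT (k : Nat) : Th' := fl LG (2 * k)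

theorem gT_inv {k : Nat} (hk : k < 8) : fl LG (2 * k + 1) = (gT k)⁻¹ := by
  have h : Nat.xor (2 * k) 1 = 2 * k + 1 :=
    (by decide +kernel : ∀ k < 8, Nat.xor (2 * k) 1 = 2 * k + 1) k hk
  rw [← h, frame_LG.fl_xor, gT]

theorem rel (w : List Nat) (h : w ∈ Th.relW) : ev LG w = 1 := relW_LG w h

theorem gT_odd : fl LG 1 = (gT 0)⁻¹ ∧ fl LG 3 = (gT 1)⁻¹ ∧ fl LG 5 = (gT 2)⁻¹ ∧
    fl LG 7 = (gT 3)⁻¹ ∧ fl LG 9 = (gT 4)⁻¹ ∧ fl LG 11 = (gT 5)⁻¹ ∧ fl LG 13 = (gT 6)⁻¹ ∧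
    fl LG 15 = (gT 7)⁻¹ :=
  ⟨gT_inv (k := 0) (by omega), gT_inv (k := 1) (by omega), gT_inv (k := 2) (by omega),
    gT_inv (k := 3) (by omega), gT_inv (k := 4) (by omega), gT_inv (k := 5) (by omega),
    gT_inv (k := 6) (by omega), gT_inv (k := 7) (by omega)⟩

theorem gT_even : fl LG 0 = gT 0 ∧ fl LG 2 = gT 1 ∧ fl LG 4 = gT 2 ∧ fl LG 6 = gT 3 ∧
    fl LG 8 = gT 4 ∧ fl LG 10 = gT 5 ∧ fl LG 12 = gT 6 ∧ fl LG 14 = gT 7 :=
  ⟨rfl, rfl, rfl, rfl, rfl, rfl, rfl, rfl⟩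

theorem ta : gT 0 * gT 0 = 1 := by have := rel [0, 0] (by decide); simpa only [ev_cons, ev_nil, mul_one, gT_odd, gT_even, pow_succ, pow_zero, one_mul, mul_assoc] using this
theorem tb : gT 1 * gT 1 = 1 := by have := rel [2, 2] (by decide); simpa only [ev_cons, ev_nil, mul_one, gT_odd, gT_even, pow_succ, pow_zero, one_mul, mul_assoc] using this
theorem tc : gT 2 * gT 2 = 1 := by have := rel [4, 4] (by decide); simpa only [ev_cons, ev_nil, mul_one, gT_odd, gT_even, pow_succ, pow_zero, one_mul, mul_assoc] using this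
theorem td : gT 3 * gT 3 = 1 := by have := rel [6, 6] (by decide); simpa only [ev_cons, ev_nil, mul_one, gT_odd, gT_even, pow_succ, pow_zero, one_mul, mul_assoc] using this
theorem te : gT 4 * gT 4 = 1 := by have := rel [8, 8] (by decide); simpa only [ev_cons, ev_nil, mul_one, gT_odd, gT_even, pow_succ, pow_zero, one_mul, mul_assoc] using this

theorem tab : (gT 0 * gT 1) ^ 3 = 1 := by
  have := rel [0, 2, 0, 2, 0, 2] (by decide); simpa only [ev_cons, ev_nil, mul_one, gT_odd, gT_even, pow_succ, pow_zero, one_mul, mul_assoc] using this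
theorem tae : (gT 0 * gT 4) ^ 2 = 1 := by have := rel [0, 8, 0, 8] (by decide); simpa only [ev_cons, ev_nil, mul_one, gT_odd, gT_even, pow_succ, pow_zero, one_mul, mul_assoc] using this
theorem tbc : (gT 1 * gT 2) ^ 3 = 1 := by
  have := rel [2, 4, 2, 4, 2, 4] (by decide); simpa only [ev_cons, ev_nil, mul_one, gT_odd, gT_even, pow_succ, pow_zero, one_mul, mul_assoc] using this
theorem tbd : (gT 1 * gT 3) ^ 2 = 1 := by have := rel [2, 6, 2, 6] (by decide); simpa only [ev_cons, ev_nil, mul_one, gT_odd, gT_even, pow_succ, pow_zero, one_mul, mul_assoc] using this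
theorem tbe : (gT 1 * gT 4) ^ 2 = 1 := by have := rel [2, 8, 2, 8] (by decide); simpa only [ev_cons, ev_nil, mul_one, gT_odd, gT_even, pow_succ, pow_zero, one_mul, mul_assoc] using this
theorem tadc : gT 0 * ((gT 3)⁻¹ * (gT 2)⁻¹) ^ 4 = 1 := by
  have := rel [0, 7, 5, 7, 5, 7, 5, 7, 5] (by decide); simpa only [ev_cons, ev_nil, mul_one, gT_odd, gT_even, pow_succ, pow_zero, one_mul, mul_assoc] using this
theorem tce : (gT 2 * gT 4) ^ 2 = 1 := by have := rel [4, 8, 4, 8] (by decide); simpa only [ev_cons, ev_nil, mul_one, gT_odd, gT_even, pow_succ, pow_zero, one_mul, mul_assoc] using this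
theorem tde : (gT 3 * gT 4) ^ 3 = 1 := by
  have := rel [6, 8, 6, 8, 6, 8] (by decide); simpa only [ev_cons, ev_nil, mul_one, gT_odd, gT_even, pow_succ, pow_zero, one_mul, mul_assoc] using this
theorem tbcde : (gT 1 * gT 2 * gT 3 * gT 4) ^ 8 = 1 := by
  have := rel [2, 4, 6, 8, 2, 4, 6, 8, 2, 4, 6, 8, 2, 4, 6, 8, 2, 4, 6, 8, 2, 4, 6, 8, 2, 4, 6, 8,
    2, 4, 6, 8] (by decide)
  simpa only [ev_cons, ev_nil, mul_one, gT_odd, gT_even, pow_succ, pow_zero, one_mul, mul_assoc] using this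
theorem ts : gT 5 ^ 7 = 1 := by have := rel [10, 10, 10, 10, 10, 10, 10] (by decide); simpa only [ev_cons, ev_nil, mul_one, gT_odd, gT_even, pow_succ, pow_zero, one_mul, mul_assoc] using this
theorem tsa : (gT 5)⁻¹ * (gT 0)⁻¹ * gT 5 * gT 0 = 1 := by
  have := rel [11, 1, 10, 0] (by decide); simpa only [ev_cons, ev_nil, mul_one, gT_odd, gT_even, pow_succ, pow_zero, one_mul, mul_assoc] using this
theorem tsb : (gT 5)⁻¹ * (gT 1)⁻¹ * gT 5 * gT 1 = 1 := by
  have := rel [11, 3, 10, 2] (by decide); simpa only [ev_cons, ev_nil, mul_one, gT_odd, gT_even, pow_succ, pow_zero, one_mul, mul_assoc] using this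
theorem tsc : (gT 5)⁻¹ * (gT 2)⁻¹ * gT 5 * gT 2 = 1 := by
  have := rel [11, 5, 10, 4] (by decide); simpa only [ev_cons, ev_nil, mul_one, gT_odd, gT_even, pow_succ, pow_zero, one_mul, mul_assoc] using this
theorem tsd : gT 5 * gT 3 * (gT 5 * gT 3) = 1 := by
  have := rel [10, 6, 10, 6] (by decide); simpa only [ev_cons, ev_nil, mul_one, gT_odd, gT_even, pow_succ, pow_zero, one_mul, mul_assoc] using this
theorem tes : (gT 4)⁻¹ * (gT 5)⁻¹ * gT 4 * (gT 5)⁻¹ * (gT 5)⁻¹ * (gT 4)⁻¹ * gT 5 * gT 5 * gT 5 =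
    1 := by
  have := rel [9, 11, 8, 11, 11, 9, 10, 10, 10] (by decide); simpa only [ev_cons, ev_nil, mul_one, gT_odd, gT_even, pow_succ, pow_zero, one_mul, mul_assoc] using this
theorem tt : gT 6 ^ 3 = 1 := by have := rel [12, 12, 12] (by decide); simpa only [ev_cons, ev_nil, mul_one, gT_odd, gT_even, pow_succ, pow_zero, one_mul, mul_assoc] using this
theorem tta : (gT 6)⁻¹ * (gT 0)⁻¹ * gT 6 * gT 0 = 1 := by
  have := rel [13, 1, 12, 0] (by decide); simpa only [ev_cons, ev_nil, mul_one, gT_odd, gT_even, pow_succ, pow_zero, one_mul, mul_assoc] using this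
theorem ttb : (gT 6)⁻¹ * (gT 1)⁻¹ * gT 6 * gT 1 = 1 := by
  have := rel [13, 3, 12, 2] (by decide); simpa only [ev_cons, ev_nil, mul_one, gT_odd, gT_even, pow_succ, pow_zero, one_mul, mul_assoc] using this
theorem ttc : (gT 6)⁻¹ * (gT 2)⁻¹ * gT 6 * gT 2 = 1 := by
  have := rel [13, 5, 12, 4] (by decide); simpa only [ev_cons, ev_nil, mul_one, gT_odd, gT_even, pow_succ, pow_zero, one_mul, mul_assoc] using this
theorem ttd : (gT 6)⁻¹ * (gT 3)⁻¹ * gT 6 * gT 3 = 1 := by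
  have := rel [13, 7, 12, 6] (by decide); simpa only [ev_cons, ev_nil, mul_one, gT_odd, gT_even, pow_succ, pow_zero, one_mul, mul_assoc] using this
theorem tte : (gT 6)⁻¹ * (gT 4)⁻¹ * gT 6 * gT 4 = 1 := by
  have := rel [13, 9, 12, 8] (by decide); simpa only [ev_cons, ev_nil, mul_one, gT_odd, gT_even, pow_succ, pow_zero, one_mul, mul_assoc] using this
theorem tts : (gT 6)⁻¹ * gT 5 * gT 6 * (gT 5)⁻¹ * (gT 5)⁻¹ = 1 := by
  have := rel [13, 10, 12, 11, 11] (by decide); simpa only [ev_cons, ev_nil, mul_one, gT_odd, gT_even, pow_succ, pow_zero, one_mul, mul_assoc] using this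
theorem tut : (gT 7)⁻¹ * gT 6 * gT 7 * gT 6 = 1 := by
  have := rel [15, 12, 14, 12] (by decide); simpa only [ev_cons, ev_nil, mul_one, gT_odd, gT_even, pow_succ, pow_zero, one_mul, mul_assoc] using this

section Gen

variable {G : Type*} [Group G]

theorem inv_eq_self {x : G} (h : x * x = 1) : x⁻¹ = x := inv_eq_of_mul_eq_one_right h

theorem comm_word {t x : G} (hx : x * x = 1) (h : t⁻¹ * x⁻¹ * t * x = 1) :
    t⁻¹ * x * t = x := by
  rw [inv_eq_self hx] at h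
  exact (eq_inv_of_mul_eq_one_left h).trans (inv_eq_self hx)

theorem word_comm {t x : G} (h : x⁻¹ * t * x = t) : t⁻¹ * x⁻¹ * t * x = 1 := by
  calc t⁻¹ * x⁻¹ * t * x = t⁻¹ * (x⁻¹ * t * x) := by group
    _ = 1 := by rw [h]; group

/-- In a product of two involutions, the second inverts. -/
theorem dihedral {x y : G} (hx : x * x = 1) (hy : y * y = 1) (n : ℕ) :
    x⁻¹ * (x * y) ^ n * x = ((x * y) ^ n)⁻¹ := by
  induction n with
  | zero => simp
  | succ n ih =>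
    calc x⁻¹ * (x * y) ^ (n + 1) * x = x⁻¹ * (x * y) ^ n * x * (y * x) := by
          rw [pow_succ]
          simp only [mul_assoc]
      _ = ((x * y) ^ n)⁻¹ * (x * y)⁻¹ := by rw [ih, mul_inv_rev x, inv_eq_self hx, inv_eq_self hy]
      _ = ((x * y) ^ (n + 1))⁻¹ := by rw [← mul_inv_rev, ← pow_succ']

end Gen

section Ext

variable {E : Type} [Group E] {σ : E →* Th'}

/-- The kernel is central of prime order `p`. -/
structure Ext (σ : E →* Th') (p : ℕ) : Prop where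
  surj : Function.Surjective σ
  cen : ∀ z ∈ σ.ker, ∀ g : E, g * z = z * g
  prime : p.Prime
  pow : ∀ z ∈ σ.ker, z ^ p = 1

variable {p : ℕ}

theorem Ext.one_of_coprime (hE : Ext σ p) {n : ℕ} (hn : p.Coprime n) {z : E} (hz : z ∈ σ.ker)
    (h : z ^ n = 1) : z = 1 := by
  simpa [hn.gcd_eq_one] using pow_gcd_eq_one.mpr ⟨hE.pow z hz, h⟩

/-- The lift with a given coprime order is unique. -/
theorem Ext.uniq (hE : Ext σ p) {n : ℕ} (hn : p.Coprime n) {v w : E} (hσ : σ v = σ w)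
    (hv : v ^ n = 1) (hw : w ^ n = 1) : v = w := by
  have hz : v⁻¹ * w ∈ σ.ker := by simp [MonoidHom.mem_ker, hσ]
  have h := hE.one_of_coprime hn hz (by
    have hc : Commute v (v⁻¹ * w) := hE.cen _ hz v
    have h1 := hc.mul_pow n
    rw [mul_inv_cancel_left, hw, hv, one_mul] at h1
    exact h1.symm)
  exact (inv_mul_eq_one.mp h)

theorem Ext.root (hE : Ext σ p) {n : ℕ} (hn : p.Coprime n) {g : Th'} (hg : g ^ n = 1) :
    ∃ y : E, σ y = g ∧ y ^ n = 1 := by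
  obtain ⟨x, rfl⟩ := hE.surj g
  have hz : x ^ n ∈ σ.ker := by rw [MonoidHom.mem_ker, map_pow, hg]
  obtain ⟨k, hk⟩ : ∃ k : ℤ, ((x ^ n) ^ k) ^ n = x ^ n := by
    refine ⟨Nat.gcdB p n, ?_⟩
    have hb := Nat.gcd_eq_gcd_ab p n
    rw [hn.gcd_eq_one] at hb
    calc ((x ^ n) ^ Nat.gcdB p n) ^ n = (x ^ n) ^ ((Nat.gcdB p n) * (n : ℤ)) := by
          rw [zpow_mul, zpow_natCast]
      _ = ((x ^ n) ^ (p : ℤ)) ^ Nat.gcdA p n * (x ^ n) ^ ((Nat.gcdB p n) * (n : ℤ)) := by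
          rw [zpow_natCast, hE.pow _ hz, one_zpow, one_mul]
      _ = (x ^ n) ^ ((p : ℤ) * Nat.gcdA p n + (n : ℤ) * Nat.gcdB p n) := by
          rw [← zpow_mul, ← zpow_add, mul_comm (Nat.gcdB p n)]
      _ = x ^ n := by rw [← hb]; simp
  have hk1 : (x ^ n) ^ k ∈ σ.ker := zpow_mem hz k
  refine ⟨x * ((x ^ n) ^ k)⁻¹, by simp [map_inv, MonoidHom.mem_ker.mp hk1], ?_⟩
  have hc : Commute x (((x ^ n) ^ k)⁻¹) := hE.cen _ (inv_mem hk1) x
  rw [hc.mul_pow, inv_pow, hk, mul_inv_cancel]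

/-- A power of a product of two involutions lying over one is one. -/
theorem Ext.two_inv (hE : Ext σ p) (hp : p.Coprime 2) {x y : E} (hx : x * x = 1) (hy : y * y = 1)
    (n : ℕ) (h : (σ x * σ y) ^ n = 1) : (x * y) ^ n = 1 := by
  have hz : (x * y) ^ n ∈ σ.ker := by rw [MonoidHom.mem_ker, map_pow, map_mul, h]
  have h1 := dihedral hx hy n
  rw [mul_assoc, ← hE.cen _ hz x, inv_mul_cancel_left] at h1
  refine hE.one_of_coprime hp hz ?_
  rw [pow_two]
  exact mul_eq_one_iff_eq_inv.mpr h1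

/-- Every lift squares to one. -/
def SqOne (σ : E →* Th') (g : Th') : Prop := ∀ y : E, σ y = g → y * y = 1

theorem Ext.sqOne_conj (hE : Ext σ p) {g h x : Th'} (hg : SqOne σ g) (e : x = h⁻¹ * g * h) :
    SqOne σ x := by
  intro y hy
  obtain ⟨k, rfl⟩ := hE.surj h
  have h1 := hg (k * y * k⁻¹) (by rw [map_mul, map_mul, map_inv, hy, e]; group)
  calc y * y = k⁻¹ * (k * y * k⁻¹ * (k * y * k⁻¹)) * k := by group
    _ = 1 := by rw [h1]; group

theorem Ext.sqOne_word (hE : Ext σ p) (g : List Nat) {v w : List Nat}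
    (h : eqA w (invW g ++ v ++ g) = true) (hv : SqOne σ (ev LG v)) : SqOne σ (ev LG w) := by
  refine hE.sqOne_conj hv (h := ev LG g) ?_
  rw [frame_LG.ev_eqA h, ev_append, ev_append, frame_LG.ev_invW]

theorem Ext.sqOne_back (hE : Ext σ p) (g : List Nat) {v w : List Nat}
    (h : eqA w (invW g ++ v ++ g) = true) (hw : SqOne σ (ev LG w)) : SqOne σ (ev LG v) := by
  refine hE.sqOne_conj hw (h := (ev LG g)⁻¹) ?_
  rw [frame_LG.ev_eqA h, ev_append, ev_append, frame_LG.ev_invW]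
  group

theorem conj_words :
    eqA [8] (invW [8, 6] ++ [6] ++ [8, 6]) = true ∧
    eqA [0, 8] (invW [4, 6, 4, 8, 6] ++ [6] ++ [4, 6, 4, 8, 6]) = true ∧
    eqA [2, 6] (invW [4, 6, 4, 2, 0] ++ [6] ++ [4, 6, 4, 2, 0]) = true ∧
    eqA [2, 8] (invW [4, 6, 4, 2, 0, 8, 6] ++ [6] ++ [4, 6, 4, 2, 0, 8, 6]) = true ∧
    eqA [4, 8] (invW [4, 6, 4, 2, 0, 8, 6, 4, 2] ++ [6] ++ [4, 6, 4, 2, 0, 8, 6, 4, 2]) = true ∧
    eqA (kmW.getD 3 [])
      (invW [4, 2, 0, 6, 8, 6, 4, 2, 6, 4, 8] ++ [6] ++ [4, 2, 0, 6, 8, 6, 4, 2, 6, 4, 8]) = true ∧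
    eqA (kgW.getD 3 []) (invW [6] ++ [4] ++ [6]) = true ∧
    eqA [0] (invW [2, 0, 4, 2] ++ [4] ++ [2, 0, 4, 2]) = true ∧
    eqA [2] (invW [2, 4] ++ [4] ++ [2, 4]) = true ∧
    eqA [2, 4, 6, 8, 2, 4, 6, 8, 2, 4, 6, 8, 2, 4, 6, 8]
      (invW [2, 0, 6, 4, 2, 8, 6, 4, 2, 0] ++ [4] ++ [2, 0, 6, 4, 2, 8, 6, 4, 2, 0]) = true := by
  decide +kernel

/-- All involutions needed square to one once one lift of `e` does. -/
theorem Ext.sqOne_all (hE : Ext σ p) (h2 : p = 2) {e : E} (he : σ e = gT 4) (hee : e * e = 1) :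
    SqOne σ (gT 0) ∧ SqOne σ (gT 1) ∧ SqOne σ (gT 2) ∧ SqOne σ (gT 3) ∧ SqOne σ (gT 0 * gT 4) ∧
      SqOne σ (gT 1 * gT 3) ∧ SqOne σ (gT 1 * gT 4) ∧ SqOne σ (gT 2 * gT 4) ∧
      SqOne σ ((gT 1 * gT 2 * gT 3 * gT 4) ^ 4) := by
  have one : ∀ k, ev LG [2 * k] = gT k := fun k => by simp [ev_cons, gT]
  have pE : SqOne σ (ev LG [8]) := by
    intro y hy
    have hz : e⁻¹ * y ∈ σ.ker := by
      rw [MonoidHom.mem_ker, map_mul, map_inv, he, hy, one 4, inv_mul_cancel]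
    have hz2 : (e⁻¹ * y) ^ 2 = 1 := h2 ▸ hE.pow _ hz
    have hc : Commute e (e⁻¹ * y) := hE.cen _ hz e
    have := hc.mul_pow 2
    rw [mul_inv_cancel_left, hz2, mul_one, pow_two, pow_two, hee] at this
    exact this
  obtain ⟨w1, w2, w3, w4, w5, w6, w7, w8, w9, w10⟩ := conj_words
  have pD := hE.sqOne_back _ w1 pE
  have pK : SqOne σ (ev LG (kgW.getD 3 [])) := by
    refine hE.sqOne_conj (hE.sqOne_word _ w6 pD) (h := (fl LG 14)⁻¹) ?_
    rw [inv_inv, eq_mul_inv_iff_mul_eq]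
    exact frame_LG.conj_k (i := 3) (by omega)
  have pC := hE.sqOne_back _ w7 pK
  refine ⟨one 0 ▸ hE.sqOne_word _ w8 pC, one 1 ▸ hE.sqOne_word _ w9 pC, one 2 ▸ pC, one 3 ▸ pD,
    ?_, ?_, ?_, ?_, ?_⟩
  · simpa [ev_cons, gT_even] using hE.sqOne_word _ w2 pD
  · simpa [ev_cons, gT_even] using hE.sqOne_word _ w3 pD
  · simpa [ev_cons, gT_even] using hE.sqOne_word _ w4 pD
  · simpa [ev_cons, gT_even] using hE.sqOne_word _ w5 pD
  · have e4 : (gT 1 * gT 2 * gT 3 * gT 4) ^ 4 =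
        ev LG [2, 4, 6, 8, 2, 4, 6, 8, 2, 4, 6, 8, 2, 4, 6, 8] := by
      simp only [ev_cons, ev_nil, mul_one, gT_even, pow_succ, pow_zero, one_mul, mul_assoc]
    rw [e4]
    exact hE.sqOne_word _ w10 pC

end Ext

end CfsgLib.Coset.Th.MLift
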