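import Cfsg.Agent.Coset.Th.OutMask

/-!
A linear map of the 256 vectors commuting with the element of order seven, after which the four
letters still permute the classes of the nine subspaces, is a power of that element.
-/

set_option autoImplicit false
set_option maxRecDepth 100000
set_option Elab.async false

namespace CfsgLib.Coset.Th.Out

section Kernel

/-- The element of order seven in coordinates. -/
noncomputable def actS (v : Nat) : Nat := selX v (actL.getD 2 (0, [], [])).2.1

/-- Its powers. -/
noncomputable def iterS (j v : Nat) : Nat := Nat.rec v (fun _ ih => actS ih) j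

/-- The cyclic basis from its first and last members. -/
noncomputable def cycL (w1 w2 : Nat) : List Nat :=
  [w1, iterS 1 w1, iterS 2 w1, iterS 3 w1, iterS 4 w1, iterS 5 w1, iterS 6 w1, w2]

/-- A candidate. -/
noncomputable def candG (c v : Nat) : Nat :=
  selX (coT v) (cycL (Nat.shiftRight c 2) (Nat.land c 3))

/-- The fields of a certificate. -/
noncomputable def candF (c k : Nat) : Nat :=
  Nat.land (Nat.shiftRight (candT c) (Nat.add 4 (Nat.mul 8 k))) 255

/-- The letter of a certificate. -/
noncomputable def candA (c : Nat) : Nat × List Nat × List Nat :=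
  actL.getD (Nat.land (Nat.shiftRight (candT c) 2) 3) (0, [], [])

/-- A certificate of kind zero. -/
noncomputable def candWit (c : Nat) : Bool :=
  cond (Nat.beq (candG c (candF c 2)) (actM (candA c) (candG c (candF c 0))))
    (cond (Nat.beq (candG c (candF c 3)) (actM (candA c) (candG c (candF c 1))))
      (cond (Nat.beq (clT (candF c 0)) (clT (candF c 1)))
        (!(Nat.beq (clT (candF c 2)) (clT (candF c 3)))) false) false) false

/-- A certificate of kind one. -/
noncomputable def candKer (c : Nat) : Bool :=
  cond (Nat.beq (Nat.shiftRight (candT c) 2) 0) false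
    (cond (Nat.ble (Nat.add (Nat.shiftRight (candT c) 2) 1) 256)
      (Nat.beq (candG c (Nat.shiftRight (candT c) 2)) 0) false)

/-- A certificate of kind two. -/
noncomputable def candPow (c : Nat) : Bool :=
  cond (Nat.ble (Nat.add (Nat.shiftRight (candT c) 2) 1) 7)
    (allBelow 8 256 fun v => Nat.beq (candG c v) (iterS (Nat.shiftRight (candT c) 2) v)) false

/-- Every candidate is settled. -/
noncomputable def candOK (c : Nat) : Bool :=
  cond (Nat.beq (Nat.land (candT c) 3) 0) (candWit c)
    (cond (Nat.beq (Nat.land (candT c) 3) 1) (candKer c) (candPow c))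

/-- The coordinates and the fixed vectors. -/
noncomputable def coOK (v : Nat) : Bool :=
  cond (Nat.beq (selX (coT v) bbL) v)
    (cond (Nat.beq (actS v) v) (Nat.ble (Nat.add v 1) 4) true) false

/-- The letters carry classes to classes. -/
noncomputable def clOK (a : Nat × List Nat × List Nat) : Bool :=
  allBelow 8 256 fun v => Nat.beq (clT (actM a v)) (a.2.2.getD (clT v) 0)

end Kernel

theorem candOK_all : allBelow 10 1024 candOK = true := by decide +kernel

theorem coOK_all : allBelow 8 256 coOK = true := by decide +kernel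

theorem clOK_all : allList clOK actL = true := by decide +kernel

theorem bbL_eq : bbL = cycL 4 1 ∧ actS 1 = 1 ∧ ∀ x ∈ bbL, x < 256 := by decide +kernel

/-- The letters permute the classes. -/
theorem clT_act {a : Nat × List Nat × List Nat} (ha : a ∈ actL) {v : Nat} (hv : v < 256) :
    clT (actM a v) = a.2.2.getD (clT v) 0 :=
  Nat.eq_of_beq_eq_true (of_allBelow (allList_iff.mp clOK_all a ha) v hv)

theorem candA_mem (c : Nat) : candA c ∈ actL := by
  have h : ∀ i < 4, actL.getD i (0, [], []) ∈ actL := by decide +kernel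
  refine h _ ?_
  rw [show Nat.land (Nat.shiftRight (candT c) 2) 3 = Nat.shiftRight (candT c) 2 % 4 from
    Nat.and_two_pow_sub_one_eq_mod _ 2]
  omega

theorem candF_lt (c k : Nat) : candF c k < 256 := by
  rw [candF, show ∀ x, Nat.land x 255 = x % 256 from fun x => Nat.and_two_pow_sub_one_eq_mod x 8]
  omega

/-- The rigidity. -/
theorem rigid {F : Nat → Nat} (h0 : F 0 = 0) (hlt : ∀ v, v < 256 → F v < 256)
    (hadd : ∀ x y, x < 256 → y < 256 → F (x ^^^ y) = F x ^^^ F y)
    (hinj : ∀ v, v < 256 → F v = 0 → v = 0)
    (hcomm : ∀ v, v < 256 → F (actS v) = actS (F v))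
    (hcl : ∀ a ∈ actL, ∃ σ : Nat → Nat, ∀ b t, b < 256 → t < 256 → F t = actM a (F b) →
      clT t = σ (clT b)) :
    ∃ j < 7, ∀ v, v < 256 → F v = iterS j v := by
  obtain ⟨hbb, h11, hbblt⟩ := bbL_eq
  have hco : ∀ v, v < 256 → selX (coT v) bbL = v ∧ (actS v = v → v < 4) := by
    intro v hv
    have h := of_allBelow coOK_all v hv
    rw [coOK, cond_false_eq_true] at h
    refine ⟨Nat.eq_of_beq_eq_true h.1, fun hf => ?_⟩
    have h2 := h.2
    rw [hf, Nat.beq_refl, cond_true] at h2
    exact Nat.ble_eq.mp h2
  have hw2 : F 1 < 4 := (hco _ (hlt 1 (by norm_num))).2 (by rw [← hcomm 1 (by norm_num), h11])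
  have hw1 : F 4 < 256 := hlt 4 (by norm_num)
  have hit : ∀ i, iterS i 4 < 256 → (∀ k, k < i → iterS k 4 < 256) →
      F (iterS i 4) = iterS i (F 4) := by
    intro i
    induction i with
    | zero => intro _ _; rfl
    | succ i ih =>
      intro _ hk
      show F (actS (iterS i 4)) = actS (iterS i (F 4))
      rw [hcomm _ (hk i (Nat.lt_succ_self i)),
        ih (hk i (Nat.lt_succ_self i)) fun k hk' => hk k (hk'.trans (Nat.lt_succ_self i))]
  have h7 : ∀ k < 7, iterS k 4 < 256 := by decide +kernel
  have hmap : bbL.map F = cycL (F 4) (F 1) := by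
    have e : ∀ i < 7, F (iterS i 4) = iterS i (F 4) := fun i hi =>
      hit i (h7 i hi) fun k hk => h7 k (hk.trans hi)
    rw [hbb]
    simp only [cycL, List.map_cons, List.map_nil]
    rw [e 1 (by norm_num), e 2 (by norm_num), e 3 (by norm_num), e 4 (by norm_num),
      e 5 (by norm_num), e 6 (by norm_num)]
  set c := 4 * F 4 + F 1
  have hc1 : Nat.shiftRight c 2 = F 4 := by
    show c >>> 2 = F 4
    rw [Nat.shiftRight_eq_div_pow]; omega
  have hc2 : Nat.land c 3 = F 1 := by
    rw [show Nat.land c 3 = c % 4 from Nat.and_two_pow_sub_one_eq_mod c 2]; omega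
  have hF : ∀ v, v < 256 → F v = candG c v := by
    intro v hv
    have h := (linear_selX h0 hadd bbL (coT v) hbblt).2
    rw [(hco v hv).1, hmap] at h
    rw [h, candG, hc1, hc2]
  have hok := of_allBelow candOK_all c (by omega)
  rw [candOK] at hok
  cases hk0 : Nat.beq (Nat.land (candT c) 3) 0
  · rw [hk0, cond_false] at hok
    cases hk1 : Nat.beq (Nat.land (candT c) 3) 1
    · rw [hk1, cond_false, candPow, cond_false_eq_true] at hok
      exact ⟨_, Nat.ble_eq.mp hok.1, fun v hv =>
        (hF v hv).trans (Nat.eq_of_beq_eq_true (of_allBelow hok.2 v hv))⟩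
    · exfalso
      rw [hk1, cond_true, candKer] at hok
      cases hz : Nat.beq (Nat.shiftRight (candT c) 2) 0
      · rw [hz, cond_false, cond_false_eq_true] at hok
        have hk := Nat.ble_eq.mp hok.1
        have := hinj _ hk ((hF _ hk).trans (Nat.eq_of_beq_eq_true hok.2))
        rw [this, Nat.beq_refl] at hz
        exact Bool.noConfusion hz
      · rw [hz, cond_true] at hok
        exact Bool.noConfusion hok
  · exfalso
    rw [hk0, cond_true, candWit, cond_false_eq_true, cond_false_eq_true, cond_false_eq_true] at hok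
    obtain ⟨e1, e2, e3, e4⟩ := hok
    obtain ⟨σ, hσ⟩ := hcl _ (candA_mem c)
    have l0 := candF_lt c 0
    have l1 := candF_lt c 1
    have l2 := candF_lt c 2
    have l3 := candF_lt c 3
    have s1 := hσ _ _ l0 l2 (by
      rw [hF _ l2, hF _ l0]; exact Nat.eq_of_beq_eq_true e1)
    have s2 := hσ _ _ l1 l3 (by
      rw [hF _ l3, hF _ l1]; exact Nat.eq_of_beq_eq_true e2)
    rw [Nat.eq_of_beq_eq_true e3] at s1
    rw [s1, s2, Nat.beq_refl] at e4
    exact Bool.noConfusion e4

end CfsgLib.Coset.Th.Out
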