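import Cfsg.Agent.Coset.Th.CentStruct
import Cfsg.Agent.Coset.Th.OutRigid

/-!
Facts about the centralizer of the involution in the presented Thompson group: generation, its
normal subgroups, and its action on the coordinates.
-/

set_option autoImplicit false
set_option maxRecDepth 100000
set_option Elab.async false
set_option linter.style.haveILetI false

namespace CfsgLib.Coset.Th.Out

open Cfsg.Spor (Th)
open CfsgLib.Coset.Th.Cent

/-- The centralizer of the involution. -/
noncomputable abbrev CT : Subgroup Th := Subgroup.centralizer {zT}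

theorem zT_mem_QT : zT ∈ QT := ⟨aA, aA_mem_QA, rfl⟩

theorem letter_CT : ∀ l, (l = 0 ∨ l = 4 ∨ l = 6 ∨ l = 8 ∨ l = 10 ∨ l = 11 ∨ l = 12 ∨ l = 14) →
    fl LG l ∈ CT := by
  intro l hl
  rw [Subgroup.mem_centralizer_singleton_iff, zT_eq, ev_cons, ev_nil, mul_one]
  have small : ∀ l < 14, eqA [l, 0] [0, l] = true → fl LG l * fl LG 0 = fl LG 0 * fl LG l := by
    intro l hl h
    have := congrArg ΨT (eqA_sound h)
    rw [ΨT_ev _ (by simp [hl]), ΨT_ev _ (by simp [hl])] at this
    simpa [ev_cons] using this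
  rcases hl with rfl | rfl | rfl | rfl | rfl | rfl | rfl | rfl
  iterate 7 exact small _ (by norm_num) (by decide +kernel)
  have h := relW_LG [15, 1, 14, 0] (by decide +kernel)
  simp only [ev_cons, ev_nil, mul_one] at h
  rw [show fl LG 15 = (fl LG 14)⁻¹ from fl_xor16 len_LG pair_LG 14,
    show fl LG 1 = (fl LG 0)⁻¹ from fl_xor16 len_LG pair_LG 0] at h
  calc fl LG 14 * fl LG 0 = fl LG 0 * fl LG 14 *
        ((fl LG 14)⁻¹ * ((fl LG 0)⁻¹ * (fl LG 14 * fl LG 0))) := by group
    _ = fl LG 0 * fl LG 14 := by rw [h, mul_one]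

variable {τ : A →* Equiv.Perm (Fin 17199)} {lab cnt : Nat → Nat → Nat}
  (D : frame_LG.EdgeData τ lab cnt)

/-- The seven elements modulo the normal subgroup. -/
structure CarmFacts : Prop where
  cube : ∀ i, xT i ^ 3 ∈ QT
  pair : ∀ i j : Fin 7, i ≠ j → (xT i * xT j) ^ 2 ∈ QT

theorem carmFacts (hinj : Function.Injective repTh) : CarmFacts := by
  have hfwd : ∀ (i : ℕ) (k : ℕ), 1 ≤ k → k ≤ 3 →
      ((sT ^ i)⁻¹ * x0T * sT ^ i * ((sT ^ (i + k))⁻¹ * x0T * sT ^ (i + k))) ^ 2 ∈ QT := by
    intro i k h1 h3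
    have := conj_sT_QT (carm_sq hinj k h1 h3) i
    convert this using 1
    simp only [pow_two, pow_add]
    group
  have hswap : ∀ a b : Th, (∀ q ∈ QT, a * q * a⁻¹ ∈ QT) → (b * a) ^ 2 ∈ QT →
      (a * b) ^ 2 ∈ QT := by
    intro a b ha h
    have := ha _ h
    convert this using 1
    simp only [pow_two]
    group
  have hmod : ∀ n : ℕ, sT ^ n = sT ^ (n % 7) := fun n => by
    conv_lhs => rw [← Nat.mod_add_div n 7, pow_add, pow_mul, sT_seven, one_pow, mul_one]
  refine ⟨fun i => ?_, fun i j hij => ?_⟩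
  · have := conj_sT_QT (carm_cube hinj) (i : ℕ)
    rw [xT]
    convert this using 1
    rw [pow_succ, pow_two, pow_succ, pow_two]
    group
  · have hne : (i : ℕ) ≠ j := fun e => hij (Fin.ext e)
    have hi := i.2
    have hj := j.2
    by_cases hk : ((j : ℕ) + 7 - i) % 7 ≤ 3
    · have := hfwd i (((j : ℕ) + 7 - i) % 7) (by omega) hk
      rwa [hmod ((i : ℕ) + ((j : ℕ) + 7 - i) % 7),
        show ((i : ℕ) + ((j : ℕ) + 7 - i) % 7) % 7 = j by omega] at this
    · refine hswap _ _ (xT_conj i) ?_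
      have := hfwd j (((i : ℕ) + 7 - j) % 7) (by omega) (by omega)
      rwa [hmod ((j : ℕ) + ((i : ℕ) + 7 - j) % 7),
        show ((j : ℕ) + ((i : ℕ) + 7 - j) % 7) % 7 = i by omega] at this

theorem xT_zero_notMem : xT 0 ∉ QT := by simpa [xT] using x0T_notMem

include D

theorem card_CT_le : Nat.card CT ≤ 92897280 := by
  haveI : Finite Th := finite_Th D
  refine card_centralizer_le (node_cover D) (gen_mem_stT (repTh_injective D)) fun n hn => ?_
  rw [← stabN_eq, D.index_stabN hn]
  rfl

theorem quotient_CT : ∃ (_ : (QT.subgroupOf CT).Normal),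
    Nonempty (CT ⧸ QT.subgroupOf CT ≃* alternatingGroup (Fin 9)) := by
  haveI : Finite Th := finite_Th D
  have hc := carmFacts (repTh_injective D)
  exact CentAbs.quotient_alt QT_le xT_mem_centralizer xT_conj hc.cube hc.pair xT_zero_notMem
    card_QT (card_CT_le D)

theorem card_CT : Nat.card CT = 92897280 := by
  obtain ⟨hn, ⟨e⟩⟩ := quotient_CT D
  have hA : Nat.card (alternatingGroup (Fin 9)) = 181440 := by
    have h4 := two_mul_nat_card_alternatingGroup (α := Fin 9)
    rw [Nat.card_perm, Nat.card_fin] at h4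
    have : Nat.factorial 9 = 362880 := rfl
    omega
  rw [← (QT.subgroupOf CT).card_mul_index, Subgroup.index_eq_card, Nat.card_congr e.toEquiv,
    Nat.card_congr (Subgroup.subgroupOfEquivOfLe QT_le).toEquiv, card_QT, hA]

/-- The centralizer is generated by the normal subgroup and the seven elements. -/
theorem CT_le_of (K : Subgroup Th) (hQ : QT ≤ K) (hx : ∀ i, xT i ∈ K) : CT ≤ K := by
  haveI : Finite Th := finite_Th D
  have hc := carmFacts (repTh_injective D)
  set K' := K ⊓ CT
  have hQ' : QT ≤ K' := le_inf hQ QT_le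
  let z : K' := ⟨zT, hQ' zT_mem_QT⟩
  have htop : Subgroup.centralizer ({z} : Set K') = ⊤ := by
    refine eq_top_iff.mpr fun g _ => ?_
    rw [Subgroup.mem_centralizer_singleton_iff]
    exact Subtype.ext (Subgroup.mem_centralizer_singleton_iff.mp g.2.2)
  have hle : Nat.card K' ≤ 92897280 := (Subgroup.card_le_of_le inf_le_right).trans (card_CT_le D)
  obtain ⟨hn, ⟨e⟩⟩ := CentAbs.quotient_alt (G := K') (z := z) (Q := QT.subgroupOf K')
    (x := fun i => ⟨xT i, hx i, xT_mem_centralizer i⟩) (htop ▸ le_top)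
    (fun i => htop ▸ Subgroup.mem_top _) (fun i q hq => xT_conj i q hq)
    (fun i => hc.cube i) (fun i j h => hc.pair i j h) xT_zero_notMem
    ((Nat.card_congr (Subgroup.subgroupOfEquivOfLe hQ').toEquiv).trans card_QT)
    (by rw [htop, Subgroup.card_top]; exact hle)
  have hA : Nat.card (alternatingGroup (Fin 9)) = 181440 := by
    have h4 := two_mul_nat_card_alternatingGroup (α := Fin 9)
    rw [Nat.card_perm, Nat.card_fin] at h4
    have : Nat.factorial 9 = 362880 := rfl
    omega
  have h1 : Nat.card (Subgroup.centralizer ({z} : Set K')) = 92897280 := by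
    set S := (QT.subgroupOf K').subgroupOf (Subgroup.centralizer ({z} : Set K'))
    rw [← S.card_mul_index, Subgroup.index_eq_card, Nat.card_congr e.toEquiv,
      Nat.card_congr (Subgroup.subgroupOfEquivOfLe (htop ▸ le_top)).toEquiv,
      Nat.card_congr (Subgroup.subgroupOfEquivOfLe hQ').toEquiv, card_QT, hA]
  rw [htop, Subgroup.card_top] at h1
  have he := Subgroup.eq_of_le_of_card_ge (inf_le_right : K' ≤ CT) (by rw [h1]; exact card_CT_le D)
  exact he ▸ inf_le_left

/-- A normal subgroup of the centralizer lies in the normal subgroup of order 512 or covers the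
quotient. -/
theorem normal_CT (N : Subgroup CT) [N.Normal] :
    N ≤ QT.subgroupOf CT ∨ N ⊔ QT.subgroupOf CT = ⊤ := by
  obtain ⟨hn, ⟨e⟩⟩ := quotient_CT D
  set R := QT.subgroupOf CT
  haveI := alternatingGroup.isSimpleGroup (α := Fin 9) (by simp)
  let f : CT →* alternatingGroup (Fin 9) := e.toMonoidHom.comp (QuotientGroup.mk' R)
  have hf : Function.Surjective f := e.surjective.comp (QuotientGroup.mk'_surjective R)
  have hk : f.ker = R := by
    ext g
    rw [MonoidHom.mem_ker]
    show e (QuotientGroup.mk' R g) = 1 ↔ _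
    rw [map_eq_one_iff e e.injective, QuotientGroup.mk'_apply, QuotientGroup.eq_one_iff]
  haveI : (N.map f).Normal := Subgroup.Normal.map inferInstance f hf
  rcases (inferInstance : IsSimpleGroup (alternatingGroup (Fin 9))).eq_bot_or_eq_top_of_normal
    (N.map f) inferInstance with h | h
  · exact Or.inl (hk ▸ (Subgroup.map_eq_bot_iff N).mp h)
  · right
    rw [← hk, ← Subgroup.comap_map_eq, h, Subgroup.comap_top]

theorem CT_normalizes {y : Th} (hy : y ∈ CT) {q : Th} (hq : q ∈ QT) : y⁻¹ * q * y ∈ QT := by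
  obtain ⟨hn, -⟩ := quotient_CT D
  have := hn.conj_mem ⟨q, QT_le hq⟩ hq ⟨y⁻¹, inv_mem hy⟩
  rw [Subgroup.mem_subgroupOf] at this
  simpa using this

/-- The centralizer permutes the classes. -/
theorem CT_classes {y : Th} (hy : y ∈ CT) :
    ∃ σ : Nat → Nat, ∀ q ∈ QT, clT (piQ (y⁻¹ * q * y)) = σ (clT (piQ q)) := by
  haveI : Finite Th := finite_Th D
  let S : Set Th := {y | y ∈ CT ∧
    ∃ σ : Nat → Nat, ∀ q ∈ QT, clT (piQ (y⁻¹ * q * y)) = σ (clT (piQ q))}
  have hone : (1 : Th) ∈ S := ⟨one_mem _, id, fun q _ => by simp⟩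
  have hmul : ∀ {a b : Th}, a ∈ S → b ∈ S → a * b ∈ S := by
    rintro a b ⟨ha, σ, hσ⟩ ⟨hb, ρ', hρ⟩
    refine ⟨mul_mem ha hb, ρ' ∘ σ, fun q hq => ?_⟩
    rw [show (a * b)⁻¹ * q * (a * b) = b⁻¹ * (a⁻¹ * q * a) * b by group,
      hρ _ (CT_normalizes D ha hq), hσ q hq]
    rfl
  have hpow : ∀ {a : Th}, a ∈ S → ∀ n : ℕ, a ^ n ∈ S := by
    intro a ha n
    induction n with
    | zero => simpa using hone
    | succ n ih => rw [pow_succ]; exact hmul ih ha
  let K : Subgroup Th :=
    { carrier := S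
      one_mem' := hone
      mul_mem' := hmul
      inv_mem' := fun {a} ha => by
        have h : a⁻¹ = a ^ (orderOf a - 1) := inv_eq_of_mul_eq_one_right (by
          rw [← pow_succ', Nat.sub_add_cancel (orderOf_pos a), pow_orderOf_eq_one])
        rw [h]
        exact hpow ha _ }
  have hQ : QT ≤ K := fun r hr => ⟨QT_le hr, id, fun q hq => by
    rw [piQ_mul (mul_mem (inv_mem hr) hq) hr, piQ_mul (inv_mem hr) hq]
    have h0 := piQ_mul (inv_mem hr) hr
    rw [inv_mul_cancel, piQ_one] at h0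
    rw [Nat.xor_assoc, Nat.xor_comm (piQ q), ← Nat.xor_assoc, ← h0, Nat.zero_xor]
    rfl⟩
  have hlet : ∀ l, (l = 6 ∨ l = 8 ∨ l = 11 ∨ l = 14) → fl LG l ∈ K := by
    intro l hl
    obtain ⟨a, ha, rfl⟩ : ∃ a ∈ actL, a.1 = l := by
      rcases hl with rfl | rfl | rfl | rfl <;> decide +kernel
    exact ⟨letter_CT _ (by rcases hl with h | h | h | h <;> simp [h]),
      fun c => a.2.2.getD c 0, fun q hq => by rw [piQ_conj ha hq, clT_act ha (piQ_lt q)]⟩
  refine (CT_le_of D K hQ (fun i => ?_) hy).2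
  have hs : sT ∈ K := hlet 11 (by simp)
  refine mul_mem (mul_mem (inv_mem (pow_mem hs _)) ?_) (pow_mem hs _)
  have hw : ∀ w : List Nat, (∀ l ∈ w, l = 6 ∨ l = 8 ∨ l = 11 ∨ l = 14) → ev LG w ∈ K := by
    intro w
    induction w with
    | nil => intro _; exact one_mem _
    | cons l w ih =>
      intro h
      rw [ev_cons]
      exact mul_mem (hlet l (h l (by simp))) (ih fun x hx => h x (by simp [hx]))
  exact hw x0W (by decide +kernel)

/-- An element of the centralizer acting trivially in coordinates lies in the subgroup. -/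
theorem mem_QT_of_trivial {y : Th} (hy : y ∈ CT)
    (h : ∀ q ∈ QT, piQ (y⁻¹ * q * y) = piQ q) : y ∈ QT := by
  have hz : ∀ p ∈ QT, ∀ q ∈ QT, piQ p = piQ q → ∀ g ∈ CT, piQ (g⁻¹ * p * g) = piQ (g⁻¹ * q * g) := by
    intro p hp q hq hpq g hg
    have hd : piQ (q⁻¹ * p) = 0 := by
      have h0 := piQ_mul (inv_mem hq) hq
      rw [inv_mul_cancel, piQ_one] at h0
      rw [piQ_mul (inv_mem hq) hp, hpq, ← h0]
    have hc := Subgroup.mem_centralizer_singleton_iff.mp hg
    have hgz : g⁻¹ * zT * g = zT := by rw [mul_assoc, ← hc, inv_mul_cancel_left]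
    rcases piQ_eq_zero (mul_mem (inv_mem hq) hp) hd with e | e
    · rw [inv_mul_eq_one.mp e]
    · rw [show g⁻¹ * p * g = (g⁻¹ * q * g) * (g⁻¹ * (q⁻¹ * p) * g) by group, e, hgz,
        piQ_mul (CT_normalizes D hg hq) zT_mem_QT, piQ_zT, Nat.xor_zero]
  let N : Subgroup CT :=
    { carrier := {y | ∀ q ∈ QT, piQ ((y : Th)⁻¹ * q * y) = piQ q}
      one_mem' := fun q _ => by simp
      mul_mem' := fun {a b} ha hb q hq => by
        rw [show ((a * b : CT) : Th)⁻¹ * q * (a * b : CT) =
          (b : Th)⁻¹ * ((a : Th)⁻¹ * q * a) * b by push_cast; group,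
          hb _ (CT_normalizes D a.2 hq), ha q hq]
      inv_mem' := fun {a} ha q hq => by
        have h1 : (a : Th) * q * (a : Th)⁻¹ ∈ QT := by
          simpa using CT_normalizes D (inv_mem a.2) hq
        have := ha _ h1
        rw [show (a : Th)⁻¹ * ((a : Th) * q * (a : Th)⁻¹) * a = q by group] at this
        push_cast
        rw [inv_inv]
        exact this.symm }
  haveI : N.Normal := ⟨fun a ha g q hq => by
    push_cast
    set p := (g : Th)⁻¹ * q * g
    have hp : p ∈ QT := CT_normalizes D g.2 hq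
    have := hz _ (CT_normalizes D a.2 hp) _ hp (ha p hp) _ (inv_mem g.2)
    rw [show q = (g : Th)⁻¹⁻¹ * p * (g : Th)⁻¹ by simp only [p]; group]
    convert this using 2
    simp only [p]; group⟩
  rcases normal_CT D N with hN | hN
  · exact hN (show (⟨y, hy⟩ : CT) ∈ N from h)
  · exfalso
    have hR : QT.subgroupOf CT ≤ N := fun r hr q hq => by
      replace hr : (r : Th) ∈ QT := hr
      rw [piQ_mul (mul_mem (inv_mem hr) hq) hr, piQ_mul (inv_mem hr) hq]
      have h0 := piQ_mul (inv_mem hr) hr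
      rw [inv_mul_cancel, piQ_one] at h0
      rw [Nat.xor_assoc, Nat.xor_comm (piQ q), ← Nat.xor_assoc, ← h0, Nat.zero_xor]
    rw [sup_eq_left.mpr hR] at hN
    have hx : (⟨x0T, by simpa [xT] using xT_mem_centralizer 0⟩ : CT) ∈ N :=
      hN ▸ Subgroup.mem_top _
    have hconj : ∀ (w : List (Nat × List Nat × List Nat)), (∀ a ∈ w, a ∈ actL) →
        ∀ q ∈ QT, (ev LG (w.map Prod.fst))⁻¹ * q * ev LG (w.map Prod.fst) ∈ QT ∧
          piQ ((ev LG (w.map Prod.fst))⁻¹ * q * ev LG (w.map Prod.fst)) =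
            w.foldl (fun v a => actM a v) (piQ q) := by
      intro w
      induction w with
      | nil => intro _ q hq; simpa using hq
      | cons a w ih =>
        intro hw q hq
        obtain ⟨h1, h2⟩ := ih (fun b hb => hw b (by simp [hb])) _ (conj_mem_QT (hw a (by simp)) hq)
        rw [piQ_conj (hw a (by simp)) hq] at h2
        rw [List.map_cons, ev_cons, List.foldl_cons]
        rw [show (fl LG a.1 * ev LG (w.map Prod.fst))⁻¹ * q * (fl LG a.1 * ev LG (w.map Prod.fst)) =
          (ev LG (w.map Prod.fst))⁻¹ * ((fl LG a.1)⁻¹ * q * fl LG a.1) * ev LG (w.map Prod.fst) by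
            group]
        exact ⟨h1, h2⟩
    obtain ⟨w, hw, hwe, v, hv, hmove⟩ :
        ∃ w ∈ [[0, 1, 0, 3, 0, 3].map fun i => actL.getD i (0, [], [])], (w.map Prod.fst = x0W) ∧
          ∃ v ∈ [1, 2, 4, 8], v < 256 ∧ w.foldl (fun u a => actM a u) v ≠ v := by
      decide +kernel
    have hmem : ∀ a ∈ w, a ∈ actL := by
      rw [List.mem_singleton.mp hw]; decide +kernel
    have := hx (rep8 v) (rep8_mem v)
    change piQ (x0T⁻¹ * rep8 v * x0T) = piQ (rep8 v) at this
    rw [x0T, ← hwe, (hconj w hmem _ (rep8_mem v)).2, piQ_rep8 hmove.1] at this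
    exact hmove.2 this

/-- The centralizer of the subgroup in the centralizer is its centre. -/
theorem centralizer_QT {y : Th} (hy : y ∈ CT) (h : ∀ q ∈ QT, y * q = q * y) : y = 1 ∨ y = zT := by
  have hyQ := mem_QT_of_trivial D hy fun q hq => by
    rw [mul_assoc, ← h q hq, inv_mul_cancel_left]
  obtain ⟨m, hm, rfl⟩ := exists_QT hyQ
  rcases Nat.lt_or_ge 1 m with h1 | h1
  · exfalso
    have hb := of_allBelow qNcOK_all m hm
    rw [qNcOK, show Nat.ble m 1 = false from Bool.eq_false_iff.mpr fun h => by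
      have := Nat.ble_eq.mp h; omega, cond_false, cond_false_eq_true] at hb
    obtain ⟨hj, hne⟩ := hb
    have hc : ev LA (qW m) * ev LA (qBas.getD (qNc m) []) =
        ev LA (qBas.getD (qNc m) []) * ev LA (qW m) :=
      ΨT_injective (by rw [map_mul, map_mul]; exact h _ ⟨_, qBas_mem _, rfl⟩)
    rw [← ev_append, ← ev_append] at hc
    have := sig_eq (fun l hl => (List.mem_append.mp hl).elim (qW_lt m l) (qBas_lt _ l))
      (fun l hl => (List.mem_append.mp hl).elim (qBas_lt _ l) (qW_lt m l)) hc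
    rw [this, Nat.beq_refl] at hne
    exact Bool.noConfusion hne
  · rcases qW_cen h1 with e | e <;> rw [e]
    · exact Or.inl (map_one _)
    · exact Or.inr rfl

end CfsgLib.Coset.Th.Out
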