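import Cfsg.Agent.Coset.Prim

/-! Certificate data for the normaliser of the centralizer on the 256 elements of the quotient of the
subgroup of order 512 by the centre. -/

set_option autoImplicit false
set_option maxRecDepth 100000
set_option linter.unusedVariables false

namespace CfsgLib.Coset.Th.Out

/-- The classes of the nine subspaces, zero and the rest. -/
noncomputable def clT (i : Nat) : Nat := (Bool.rec (motive := fun _ => Nat) (Bool.rec (motive := fun _ => Nat) (Bool.rec (motive := fun _ => Nat) (Bool.rec (motive := fun _ => Nat) (Bool.rec (motive := fun _ => Nat) (Bool.rec (motive := fun _ => Nat) (Bool.rec (motive := fun _ => Nat) (Bool.rec (motive := fun _ => Nat) (0) (1) (Nat.ble 1 i)) (Bool.rec (motive := fun _ => Nat) (2) (10) (Nat.ble 3 i)) (Nat.ble 2 i)) (Bool.rec (motive := fun _ => Nat) (Bool.rec (motive := fun _ => Nat) (3) (10) (Nat.ble 5 i)) (Bool.rec (motive := fun _ => Nat) (10) (10) (Nat.ble 7 i)) (Nat.ble 6 i)) (Nat.ble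 4 i)) (Bool.rec (motive := fun _ => Nat) (Bool.rec (motive := fun _ => Nat) (Bool.rec (motive := fun _ => Nat) (4) (10) (Nat.ble 9 i)) (Bool.rec (motive := fun _ => Nat) (10) (10) (Nat.ble 11 i)) (Nat.ble 10 i)) (Bool.rec (motive := fun _ => Nat) (Bool.rec (motive := fun _ => Nat) (10) (10) (Nat.ble 13 i)) (Bool.rec (motive := fun _ => Nat) (10) (5) (Nat.ble 15 i)) (Nat.ble 14 i)) (Nat.ble 12 i)) (Nat.ble 8 i)) (Bool.rec (motive := fun _ => Nat) (Bool.rec (motive := fun _ => Nat) (Bool.rec (motive := fun _ => Nat) (Bool.rec (motive := fun _ => Nat) (6) (10) (Nat.ble 17 i)) (Bool.rec (motive := fun _ => Nat) (10) (10) (Nat.ble 19 i)) (Nat.ble 18 i)) (Bool.rec (motive := fun _ => Nat) (Bool.rec (motive := fun _ => Nat) (10) (10) (Nat.ble 21 i)) (Bool.rec (motive := fun _ => Nat) (10) (7) (Nat.ble 23 i)) (Nat.ble 22 i)) (Nat.ble 20 i)) (Bool.rec (motive := fun _ => Nat) (Bool.rec (motive := fun _ => Nat) (Bool.rec (motive := fun _ => Nat) (10) (10)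 (Nat.ble 25 i)) (Bool.rec (motive := fun _ => Nat) (10) (3) (Nat.ble 27 i)) (Nat.ble 26 i)) (Bool.rec (motive := fun _ => Nat) (Bool.rec (motive := fun _ => Nat) (10) (8) (Nat.ble 29 i)) (Bool.rec (motive := fun _ => Nat) (9) (3) (Nat.ble 31 i)) (Nat.ble 30 i)) (Nat.ble 28 i)) (Nat.ble 24 i)) (Nat.ble 16 i)) (Bool.rec (motive := fun _ => Nat) (Bool.rec (motive := fun _ => Nat) (Bool.rec (motive := fun _ => Nat) (Bool.rec (motive := fun _ => Nat) (Bool.rec (motive := fun _ => Nat) (7) (10) (Nat.ble 33 i)) (Bool.rec (motive := fun _ => Nat) (10) (10) (Nat.ble 35 i)) (Nat.ble 34 i)) (Bool.rec (motive := fun _ => Nat) (Bool.rec (motive := fun _ => Nat) (10) (10) (Nat.ble 37 i)) (Bool.rec (motive := fun _ => Nat) (10) (9) (Nat.ble 39 i)) (Nat.ble 38 i)) (Nat.ble 36 i)) (Bool.rec (motive := fun _ => Nat) (Bool.rec (motive := fun _ => Nat) (Bool.rec (motive := fun _ => Nat) (10) (10) (Nat.ble 41 i)) (Bool.rec (motive := fun _ => Nat) (10) (8) (Nat.ble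 43 i)) (Nat.ble 42 i)) (Bool.rec (motive := fun _ => Nat) (Bool.rec (motive := fun _ => Nat) (10) (6) (Nat.ble 45 i)) (Bool.rec (motive := fun _ => Nat) (1) (1) (Nat.ble 47 i)) (Nat.ble 46 i)) (Nat.ble 44 i)) (Nat.ble 40 i)) (Bool.rec (motive := fun _ => Nat) (Bool.rec (motive := fun _ => Nat) (Bool.rec (motive := fun _ => Nat) (Bool.rec (motive := fun _ => Nat) (10) (10) (Nat.ble 49 i)) (Bool.rec (motive := fun _ => Nat) (10) (4) (Nat.ble 51 i)) (Nat.ble 50 i)) (Bool.rec (motive := fun _ => Nat) (Bool.rec (motive := fun _ => Nat) (10) (5) (Nat.ble 53 i)) (Bool.rec (motive := fun _ => Nat) (8) (7) (Nat.ble 55 i)) (Nat.ble 54 i)) (Nat.ble 52 i)) (Bool.rec (motive := fun _ => Nat) (Bool.rec (motive := fun _ => Nat) (Bool.rec (motive := fun _ => Nat) (10) (9) (Nat.ble 57 i)) (Bool.rec (motive := fun _ => Nat) (5) (4) (Nat.ble 59 i)) (Nat.ble 58 i)) (Bool.rec (motive := fun _ => Nat) (Bool.rec (motive := fun _ => Nat) (2) (6) (Nat.ble 61 i)) (Bool.rec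 (motive := fun _ => Nat) (2) (10) (Nat.ble 63 i)) (Nat.ble 62 i)) (Nat.ble 60 i)) (Nat.ble 56 i)) (Nat.ble 48 i)) (Nat.ble 32 i)) (Bool.rec (motive := fun _ => Nat) (Bool.rec (motive := fun _ => Nat) (Bool.rec (motive := fun _ => Nat) (Bool.rec (motive := fun _ => Nat) (Bool.rec (motive := fun _ => Nat) (Bool.rec (motive := fun _ => Nat) (8) (10) (Nat.ble 65 i)) (Bool.rec (motive := fun _ => Nat) (10) (10) (Nat.ble 67 i)) (Nat.ble 66 i)) (Bool.rec (motive := fun _ => Nat) (Bool.rec (motive := fun _ => Nat) (10) (10) (Nat.ble 69 i)) (Bool.rec (motive := fun _ => Nat) (10) (4) (Nat.ble 71 i)) (Nat.ble 70 i)) (Nat.ble 68 i)) (Bool.rec (motive := fun _ => Nat) (Bool.rec (motive := fun _ => Nat) (Bool.rec (motive := fun _ => Nat) (10) (10) (Nat.ble 73 i)) (Bool.rec (motive := fun _ => Nat) (10) (9) (Nat.ble 75 i)) (Nat.ble 74 i)) (Bool.rec (motive := fun _ => Nat) (Bool.rec (motive := fun _ => Nat) (10) (7) (Nat.ble 77 i)) (Bool.rec (motive := fun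 _ => Nat) (6) (4) (Nat.ble 79 i)) (Nat.ble 78 i)) (Nat.ble 76 i)) (Nat.ble 72 i)) (Bool.rec (motive := fun _ => Nat) (Bool.rec (motive := fun _ => Nat) (Bool.rec (motive := fun _ => Nat) (Bool.rec (motive := fun _ => Nat) (10) (10) (Nat.ble 81 i)) (Bool.rec (motive := fun _ => Nat) (10) (5) (Nat.ble 83 i)) (Nat.ble 82 i)) (Bool.rec (motive := fun _ => Nat) (Bool.rec (motive := fun _ => Nat) (10) (9) (Nat.ble 85 i)) (Bool.rec (motive := fun _ => Nat) (1) (1) (Nat.ble 87 i)) (Nat.ble 86 i)) (Nat.ble 84 i)) (Bool.rec (motive := fun _ => Nat) (Bool.rec (motive := fun _ => Nat) (Bool.rec (motive := fun _ => Nat) (10) (2) (Nat.ble 89 i)) (Bool.rec (motive := fun _ => Nat) (7) (2) (Nat.ble 91 i)) (Nat.ble 90 i)) (Bool.rec (motive := fun _ => Nat) (Bool.rec (motive := fun _ => Nat) (5) (8) (Nat.ble 93 i)) (Bool.rec (motive := fun _ => Nat) (6) (10) (Nat.ble 95 i)) (Nat.ble 94 i)) (Nat.ble 92 i)) (Nat.ble 88 i)) (Nat.ble 80 i)) (Bool.rec (motive := fun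 _ => Nat) (Bool.rec (motive := fun _ => Nat) (Bool.rec (motive := fun _ => Nat) (Bool.rec (motive := fun _ => Nat) (Bool.rec (motive := fun _ => Nat) (10) (10) (Nat.ble 97 i)) (Bool.rec (motive := fun _ => Nat) (10) (6) (Nat.ble 99 i)) (Nat.ble 98 i)) (Bool.rec (motive := fun _ => Nat) (Bool.rec (motive := fun _ => Nat) (10) (2) (Nat.ble 101 i)) (Bool.rec (motive := fun _ => Nat) (5) (2) (Nat.ble 103 i)) (Nat.ble 102 i)) (Nat.ble 100 i)) (Bool.rec (motive := fun _ => Nat) (Bool.rec (motive := fun _ => Nat) (Bool.rec (motive := fun _ => Nat) (10) (5) (Nat.ble 105 i)) (Bool.rec (motive := fun _ => Nat) (3) (8) (Nat.ble 107 i)) (Nat.ble 106 i)) (Bool.rec (motive := fun _ => Nat) (Bool.rec (motive := fun _ => Nat) (9) (7) (Nat.ble 109 i)) (Bool.rec (motive := fun _ => Nat) (3) (10) (Nat.ble 111 i)) (Nat.ble 110 i)) (Nat.ble 108 i)) (Nat.ble 104 i)) (Bool.rec (motive := fun _ => Nat) (Bool.rec (motive := fun _ => Nat) (Bool.rec (motive := fun _ =>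 Nat) (Bool.rec (motive := fun _ => Nat) (10) (3) (Nat.ble 113 i)) (Bool.rec (motive := fun _ => Nat) (9) (6) (Nat.ble 115 i)) (Nat.ble 114 i)) (Bool.rec (motive := fun _ => Nat) (Bool.rec (motive := fun _ => Nat) (4) (3) (Nat.ble 117 i)) (Bool.rec (motive := fun _ => Nat) (8) (10) (Nat.ble 119 i)) (Nat.ble 118 i)) (Nat.ble 116 i)) (Bool.rec (motive := fun _ => Nat) (Bool.rec (motive := fun _ => Nat) (Bool.rec (motive := fun _ => Nat) (1) (1) (Nat.ble 121 i)) (Bool.rec (motive := fun _ => Nat) (7) (10) (Nat.ble 123 i)) (Nat.ble 122 i)) (Bool.rec (motive := fun _ => Nat) (Bool.rec (motive := fun _ => Nat) (4) (10) (Nat.ble 125 i)) (Bool.rec (motive := fun _ => Nat) (10) (10) (Nat.ble 127 i)) (Nat.ble 126 i)) (Nat.ble 124 i)) (Nat.ble 120 i)) (Nat.ble 112 i)) (Nat.ble 96 i)) (Nat.ble 64 i)) (Bool.rec (motive := fun _ => Nat) (Bool.rec (motive := fun _ => Nat) (Bool.rec (motive := fun _ => Nat) (Bool.rec (motive := fun _ => Nat) (Bool.rec (motive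 := fun _ => Nat) (Bool.rec (motive := fun _ => Nat) (Bool.rec (motive := fun _ => Nat) (9) (10) (Nat.ble 129 i)) (Bool.rec (motive := fun _ => Nat) (10) (10) (Nat.ble 131 i)) (Nat.ble 130 i)) (Bool.rec (motive := fun _ => Nat) (Bool.rec (motive := fun _ => Nat) (10) (10) (Nat.ble 133 i)) (Bool.rec (motive := fun _ => Nat) (10) (6) (Nat.ble 135 i)) (Nat.ble 134 i)) (Nat.ble 132 i)) (Bool.rec (motive := fun _ => Nat) (Bool.rec (motive := fun _ => Nat) (Bool.rec (motive := fun _ => Nat) (10) (10) (Nat.ble 137 i)) (Bool.rec (motive := fun _ => Nat) (10) (7) (Nat.ble 139 i)) (Nat.ble 138 i)) (Bool.rec (motive := fun _ => Nat) (Bool.rec (motive := fun _ => Nat) (10) (2) (Nat.ble 141 i)) (Bool.rec (motive := fun _ => Nat) (8) (2) (Nat.ble 143 i)) (Nat.ble 142 i)) (Nat.ble 140 i)) (Nat.ble 136 i)) (Bool.rec (motive := fun _ => Nat) (Bool.rec (motive := fun _ => Nat) (Bool.rec (motive := fun _ => Nat) (Bool.rec (motive := fun _ => Nat) (10) (10) (Nat.ble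 145 i)) (Bool.rec (motive := fun _ => Nat) (10) (8) (Nat.ble 147 i)) (Nat.ble 146 i)) (Bool.rec (motive := fun _ => Nat) (Bool.rec (motive := fun _ => Nat) (10) (4) (Nat.ble 149 i)) (Bool.rec (motive := fun _ => Nat) (5) (6) (Nat.ble 151 i)) (Nat.ble 150 i)) (Nat.ble 148 i)) (Bool.rec (motive := fun _ => Nat) (Bool.rec (motive := fun _ => Nat) (Bool.rec (motive := fun _ => Nat) (10) (5) (Nat.ble 153 i)) (Bool.rec (motive := fun _ => Nat) (1) (1) (Nat.ble 155 i)) (Nat.ble 154 i)) (Bool.rec (motive := fun _ => Nat) (Bool.rec (motive := fun _ => Nat) (7) (4) (Nat.ble 157 i)) (Bool.rec (motive := fun _ => Nat) (9) (10) (Nat.ble 159 i)) (Nat.ble 158 i)) (Nat.ble 156 i)) (Nat.ble 152 i)) (Nat.ble 144 i)) (Bool.rec (motive := fun _ => Nat) (Bool.rec (motive := fun _ => Nat) (Bool.rec (motive := fun _ => Nat) (Bool.rec (motive := fun _ => Nat) (Bool.rec (motive := fun _ => Nat) (10) (10) (Nat.ble 161 i)) (Bool.rec (motive := fun _ => Nat) (10) (5) (Nat.ble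 163 i)) (Nat.ble 162 i)) (Bool.rec (motive := fun _ => Nat) (Bool.rec (motive := fun _ => Nat) (10) (8) (Nat.ble 165 i)) (Bool.rec (motive := fun _ => Nat) (4) (9) (Nat.ble 167 i)) (Nat.ble 166 i)) (Nat.ble 164 i)) (Bool.rec (motive := fun _ => Nat) (Bool.rec (motive := fun _ => Nat) (Bool.rec (motive := fun _ => Nat) (10) (3) (Nat.ble 169 i)) (Bool.rec (motive := fun _ => Nat) (6) (7) (Nat.ble 171 i)) (Nat.ble 170 i)) (Bool.rec (motive := fun _ => Nat) (Bool.rec (motive := fun _ => Nat) (5) (3) (Nat.ble 173 i)) (Bool.rec (motive := fun _ => Nat) (4) (10) (Nat.ble 175 i)) (Nat.ble 174 i)) (Nat.ble 172 i)) (Nat.ble 168 i)) (Bool.rec (motive := fun _ => Nat) (Bool.rec (motive := fun _ => Nat) (Bool.rec (motive := fun _ => Nat) (Bool.rec (motive := fun _ => Nat) (10) (2) (Nat.ble 177 i)) (Bool.rec (motive := fun _ => Nat) (3) (2) (Nat.ble 179 i)) (Nat.ble 178 i)) (Bool.rec (motive := fun _ => Nat) (Bool.rec (motive := fun _ => Nat) (1) (1) (Nat.ble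 181 i)) (Bool.rec (motive := fun _ => Nat) (3) (10) (Nat.ble 183 i)) (Nat.ble 182 i)) (Nat.ble 180 i)) (Bool.rec (motive := fun _ => Nat) (Bool.rec (motive := fun _ => Nat) (Bool.rec (motive := fun _ => Nat) (8) (9) (Nat.ble 185 i)) (Bool.rec (motive := fun _ => Nat) (6) (10) (Nat.ble 187 i)) (Nat.ble 186 i)) (Bool.rec (motive := fun _ => Nat) (Bool.rec (motive := fun _ => Nat) (7) (10) (Nat.ble 189 i)) (Bool.rec (motive := fun _ => Nat) (10) (10) (Nat.ble 191 i)) (Nat.ble 190 i)) (Nat.ble 188 i)) (Nat.ble 184 i)) (Nat.ble 176 i)) (Nat.ble 160 i)) (Bool.rec (motive := fun _ => Nat) (Bool.rec (motive := fun _ => Nat) (Bool.rec (motive := fun _ => Nat) (Bool.rec (motive := fun _ => Nat) (Bool.rec (motive := fun _ => Nat) (Bool.rec (motive := fun _ => Nat) (10) (10) (Nat.ble 193 i)) (Bool.rec (motive := fun _ => Nat) (10) (3) (Nat.ble 195 i)) (Nat.ble 194 i)) (Bool.rec (motive := fun _ => Nat) (Bool.rec (motive := fun _ => Nat) (10) (5) (Nat.ble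 197 i)) (Bool.rec (motive := fun _ => Nat) (7) (3) (Nat.ble 199 i)) (Nat.ble 198 i)) (Nat.ble 196 i)) (Bool.rec (motive := fun _ => Nat) (Bool.rec (motive := fun _ => Nat) (Bool.rec (motive := fun _ => Nat) (10) (6) (Nat.ble 201 i)) (Bool.rec (motive := fun _ => Nat) (5) (9) (Nat.ble 203 i)) (Nat.ble 202 i)) (Bool.rec (motive := fun _ => Nat) (Bool.rec (motive := fun _ => Nat) (1) (1) (Nat.ble 205 i)) (Bool.rec (motive := fun _ => Nat) (8) (10) (Nat.ble 207 i)) (Nat.ble 206 i)) (Nat.ble 204 i)) (Nat.ble 200 i)) (Bool.rec (motive := fun _ => Nat) (Bool.rec (motive := fun _ => Nat) (Bool.rec (motive := fun _ => Nat) (Bool.rec (motive := fun _ => Nat) (10) (7) (Nat.ble 209 i)) (Bool.rec (motive := fun _ => Nat) (4) (8) (Nat.ble 211 i)) (Nat.ble 210 i)) (Bool.rec (motive := fun _ => Nat) (Bool.rec (motive := fun _ => Nat) (2) (9) (Nat.ble 213 i)) (Bool.rec (motive := fun _ => Nat) (2) (10) (Nat.ble 215 i)) (Nat.ble 214 i)) (Nat.ble 212 i)) (Bool.rec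 (motive := fun _ => Nat) (Bool.rec (motive := fun _ => Nat) (Bool.rec (motive := fun _ => Nat) (3) (6) (Nat.ble 217 i)) (Bool.rec (motive := fun _ => Nat) (4) (10) (Nat.ble 219 i)) (Nat.ble 218 i)) (Bool.rec (motive := fun _ => Nat) (Bool.rec (motive := fun _ => Nat) (3) (10) (Nat.ble 221 i)) (Bool.rec (motive := fun _ => Nat) (10) (10) (Nat.ble 223 i)) (Nat.ble 222 i)) (Nat.ble 220 i)) (Nat.ble 216 i)) (Nat.ble 208 i)) (Bool.rec (motive := fun _ => Nat) (Bool.rec (motive := fun _ => Nat) (Bool.rec (motive := fun _ => Nat) (Bool.rec (motive := fun _ => Nat) (Bool.rec (motive := fun _ => Nat) (10) (4) (Nat.ble 225 i)) (Bool.rec (motive := fun _ => Nat) (1) (1) (Nat.ble 227 i)) (Nat.ble 226 i)) (Bool.rec (motive := fun _ => Nat) (Bool.rec (motive := fun _ => Nat) (6) (8) (Nat.ble 229 i)) (Bool.rec (motive := fun _ => Nat) (7) (10) (Nat.ble 231 i)) (Nat.ble 230 i)) (Nat.ble 228 i)) (Bool.rec (motive := fun _ => Nat) (Bool.rec (motive := fun _ =>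 Nat) (Bool.rec (motive := fun _ => Nat) (2) (4) (Nat.ble 233 i)) (Bool.rec (motive := fun _ => Nat) (2) (10) (Nat.ble 235 i)) (Nat.ble 234 i)) (Bool.rec (motive := fun _ => Nat) (Bool.rec (motive := fun _ => Nat) (9) (10) (Nat.ble 237 i)) (Bool.rec (motive := fun _ => Nat) (10) (10) (Nat.ble 239 i)) (Nat.ble 238 i)) (Nat.ble 236 i)) (Nat.ble 232 i)) (Bool.rec (motive := fun _ => Nat) (Bool.rec (motive := fun _ => Nat) (Bool.rec (motive := fun _ => Nat) (Bool.rec (motive := fun _ => Nat) (5) (7) (Nat.ble 241 i)) (Bool.rec (motive := fun _ => Nat) (9) (10) (Nat.ble 243 i)) (Nat.ble 242 i)) (Bool.rec (motive := fun _ => Nat) (Bool.rec (motive := fun _ => Nat) (6) (10) (Nat.ble 245 i)) (Bool.rec (motive := fun _ => Nat) (10) (10) (Nat.ble 247 i)) (Nat.ble 246 i)) (Nat.ble 244 i)) (Bool.rec (motive := fun _ => Nat) (Bool.rec (motive := fun _ => Nat) (Bool.rec (motive := fun _ => Nat) (8) (10) (Nat.ble 249 i)) (Bool.rec (motive := fun _ => Nat) (10)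 (10) (Nat.ble 251 i)) (Nat.ble 250 i)) (Bool.rec (motive := fun _ => Nat) (Bool.rec (motive := fun _ => Nat) (10) (10) (Nat.ble 253 i)) (Bool.rec (motive := fun _ => Nat) (10) (5) (Nat.ble 255 i)) (Nat.ble 254 i)) (Nat.ble 252 i)) (Nat.ble 248 i)) (Nat.ble 240 i)) (Nat.ble 224 i)) (Nat.ble 192 i)) (Nat.ble 128 i))

/-- Coordinates for the cyclic basis. -/
noncomputable def coT (i : Nat) : Nat := (Bool.rec (motive := fun _ => Nat) (Bool.rec (motive := fun _ => Nat) (Bool.rec (motive := fun _ => Nat) (Bool.rec (motive := fun _ => Nat) (Bool.rec (motive := fun _ => Nat) (Bool.rec (motive := fun _ => Nat) (Bool.rec (motive := fun _ => Nat) (Bool.rec (motive := fun _ => Nat) (0) (128) (Nat.ble 1 i)) (Bool.rec (motive := fun _ => Nat) (255) (127) (Nat.ble 3 i)) (Nat.ble 2 i)) (Bool.rec (motive := fun _ => Nat) (Bool.rec (motive := fun _ => Nat) (1) (129) (Nat.ble 5 i)) (Bool.rec (motive := fun _ => Nat) (254) (126) (Nat.ble 7 i)) (Nat.ble 6 i)) (Nat.ble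 4 i)) (Bool.rec (motive := fun _ => Nat) (Bool.rec (motive := fun _ => Nat) (Bool.rec (motive := fun _ => Nat) (64) (192) (Nat.ble 9 i)) (Bool.rec (motive := fun _ => Nat) (191) (63) (Nat.ble 11 i)) (Nat.ble 10 i)) (Bool.rec (motive := fun _ => Nat) (Bool.rec (motive := fun _ => Nat) (65) (193) (Nat.ble 13 i)) (Bool.rec (motive := fun _ => Nat) (190) (62) (Nat.ble 15 i)) (Nat.ble 14 i)) (Nat.ble 12 i)) (Nat.ble 8 i)) (Bool.rec (motive := fun _ => Nat) (Bool.rec (motive := fun _ => Nat) (Bool.rec (motive := fun _ => Nat) (Bool.rec (motive := fun _ => Nat) (2) (130) (Nat.ble 17 i)) (Bool.rec (motive := fun _ => Nat) (253) (125) (Nat.ble 19 i)) (Nat.ble 18 i)) (Bool.rec (motive := fun _ => Nat) (Bool.rec (motive := fun _ => Nat) (3) (131) (Nat.ble 21 i)) (Bool.rec (motive := fun _ => Nat) (252) (124) (Nat.ble 23 i)) (Nat.ble 22 i)) (Nat.ble 20 i)) (Bool.rec (motive := fun _ => Nat) (Bool.rec (motive := fun _ => Nat) (Bool.rec (motive := fun _ =>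 Nat) (66) (194) (Nat.ble 25 i)) (Bool.rec (motive := fun _ => Nat) (189) (61) (Nat.ble 27 i)) (Nat.ble 26 i)) (Bool.rec (motive := fun _ => Nat) (Bool.rec (motive := fun _ => Nat) (67) (195) (Nat.ble 29 i)) (Bool.rec (motive := fun _ => Nat) (188) (60) (Nat.ble 31 i)) (Nat.ble 30 i)) (Nat.ble 28 i)) (Nat.ble 24 i)) (Nat.ble 16 i)) (Bool.rec (motive := fun _ => Nat) (Bool.rec (motive := fun _ => Nat) (Bool.rec (motive := fun _ => Nat) (Bool.rec (motive := fun _ => Nat) (Bool.rec (motive := fun _ => Nat) (16) (144) (Nat.ble 33 i)) (Bool.rec (motive := fun _ => Nat) (239) (111) (Nat.ble 35 i)) (Nat.ble 34 i)) (Bool.rec (motive := fun _ => Nat) (Bool.rec (motive := fun _ => Nat) (17) (145) (Nat.ble 37 i)) (Bool.rec (motive := fun _ => Nat) (238) (110) (Nat.ble 39 i)) (Nat.ble 38 i)) (Nat.ble 36 i)) (Bool.rec (motive := fun _ => Nat) (Bool.rec (motive := fun _ => Nat) (Bool.rec (motive := fun _ => Nat) (80) (208) (Nat.ble 41 i)) (Bool.rec (motive :=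 fun _ => Nat) (175) (47) (Nat.ble 43 i)) (Nat.ble 42 i)) (Bool.rec (motive := fun _ => Nat) (Bool.rec (motive := fun _ => Nat) (81) (209) (Nat.ble 45 i)) (Bool.rec (motive := fun _ => Nat) (174) (46) (Nat.ble 47 i)) (Nat.ble 46 i)) (Nat.ble 44 i)) (Nat.ble 40 i)) (Bool.rec (motive := fun _ => Nat) (Bool.rec (motive := fun _ => Nat) (Bool.rec (motive := fun _ => Nat) (Bool.rec (motive := fun _ => Nat) (18) (146) (Nat.ble 49 i)) (Bool.rec (motive := fun _ => Nat) (237) (109) (Nat.ble 51 i)) (Nat.ble 50 i)) (Bool.rec (motive := fun _ => Nat) (Bool.rec (motive := fun _ => Nat) (19) (147) (Nat.ble 53 i)) (Bool.rec (motive := fun _ => Nat) (236) (108) (Nat.ble 55 i)) (Nat.ble 54 i)) (Nat.ble 52 i)) (Bool.rec (motive := fun _ => Nat) (Bool.rec (motive := fun _ => Nat) (Bool.rec (motive := fun _ => Nat) (82) (210) (Nat.ble 57 i)) (Bool.rec (motive := fun _ => Nat) (173) (45) (Nat.ble 59 i)) (Nat.ble 58 i)) (Bool.rec (motive := fun _ => Nat) (Bool.rec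 (motive := fun _ => Nat) (83) (211) (Nat.ble 61 i)) (Bool.rec (motive := fun _ => Nat) (172) (44) (Nat.ble 63 i)) (Nat.ble 62 i)) (Nat.ble 60 i)) (Nat.ble 56 i)) (Nat.ble 48 i)) (Nat.ble 32 i)) (Bool.rec (motive := fun _ => Nat) (Bool.rec (motive := fun _ => Nat) (Bool.rec (motive := fun _ => Nat) (Bool.rec (motive := fun _ => Nat) (Bool.rec (motive := fun _ => Nat) (Bool.rec (motive := fun _ => Nat) (32) (160) (Nat.ble 65 i)) (Bool.rec (motive := fun _ => Nat) (223) (95) (Nat.ble 67 i)) (Nat.ble 66 i)) (Bool.rec (motive := fun _ => Nat) (Bool.rec (motive := fun _ => Nat) (33) (161) (Nat.ble 69 i)) (Bool.rec (motive := fun _ => Nat) (222) (94) (Nat.ble 71 i)) (Nat.ble 70 i)) (Nat.ble 68 i)) (Bool.rec (motive := fun _ => Nat) (Bool.rec (motive := fun _ => Nat) (Bool.rec (motive := fun _ => Nat) (96) (224) (Nat.ble 73 i)) (Bool.rec (motive := fun _ => Nat) (159) (31) (Nat.ble 75 i)) (Nat.ble 74 i)) (Bool.rec (motive := fun _ => Nat) (Bool.rec (motive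 := fun _ => Nat) (97) (225) (Nat.ble 77 i)) (Bool.rec (motive := fun _ => Nat) (158) (30) (Nat.ble 79 i)) (Nat.ble 78 i)) (Nat.ble 76 i)) (Nat.ble 72 i)) (Bool.rec (motive := fun _ => Nat) (Bool.rec (motive := fun _ => Nat) (Bool.rec (motive := fun _ => Nat) (Bool.rec (motive := fun _ => Nat) (34) (162) (Nat.ble 81 i)) (Bool.rec (motive := fun _ => Nat) (221) (93) (Nat.ble 83 i)) (Nat.ble 82 i)) (Bool.rec (motive := fun _ => Nat) (Bool.rec (motive := fun _ => Nat) (35) (163) (Nat.ble 85 i)) (Bool.rec (motive := fun _ => Nat) (220) (92) (Nat.ble 87 i)) (Nat.ble 86 i)) (Nat.ble 84 i)) (Bool.rec (motive := fun _ => Nat) (Bool.rec (motive := fun _ => Nat) (Bool.rec (motive := fun _ => Nat) (98) (226) (Nat.ble 89 i)) (Bool.rec (motive := fun _ => Nat) (157) (29) (Nat.ble 91 i)) (Nat.ble 90 i)) (Bool.rec (motive := fun _ => Nat) (Bool.rec (motive := fun _ => Nat) (99) (227) (Nat.ble 93 i)) (Bool.rec (motive := fun _ => Nat) (156) (28) (Nat.ble 95 i))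 (Nat.ble 94 i)) (Nat.ble 92 i)) (Nat.ble 88 i)) (Nat.ble 80 i)) (Bool.rec (motive := fun _ => Nat) (Bool.rec (motive := fun _ => Nat) (Bool.rec (motive := fun _ => Nat) (Bool.rec (motive := fun _ => Nat) (Bool.rec (motive := fun _ => Nat) (48) (176) (Nat.ble 97 i)) (Bool.rec (motive := fun _ => Nat) (207) (79) (Nat.ble 99 i)) (Nat.ble 98 i)) (Bool.rec (motive := fun _ => Nat) (Bool.rec (motive := fun _ => Nat) (49) (177) (Nat.ble 101 i)) (Bool.rec (motive := fun _ => Nat) (206) (78) (Nat.ble 103 i)) (Nat.ble 102 i)) (Nat.ble 100 i)) (Bool.rec (motive := fun _ => Nat) (Bool.rec (motive := fun _ => Nat) (Bool.rec (motive := fun _ => Nat) (112) (240) (Nat.ble 105 i)) (Bool.rec (motive := fun _ => Nat) (143) (15) (Nat.ble 107 i)) (Nat.ble 106 i)) (Bool.rec (motive := fun _ => Nat) (Bool.rec (motive := fun _ => Nat) (113) (241) (Nat.ble 109 i)) (Bool.rec (motive := fun _ => Nat) (142) (14) (Nat.ble 111 i)) (Nat.ble 110 i)) (Nat.ble 108 i)) (Nat.ble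 104 i)) (Bool.rec (motive := fun _ => Nat) (Bool.rec (motive := fun _ => Nat) (Bool.rec (motive := fun _ => Nat) (Bool.rec (motive := fun _ => Nat) (50) (178) (Nat.ble 113 i)) (Bool.rec (motive := fun _ => Nat) (205) (77) (Nat.ble 115 i)) (Nat.ble 114 i)) (Bool.rec (motive := fun _ => Nat) (Bool.rec (motive := fun _ => Nat) (51) (179) (Nat.ble 117 i)) (Bool.rec (motive := fun _ => Nat) (204) (76) (Nat.ble 119 i)) (Nat.ble 118 i)) (Nat.ble 116 i)) (Bool.rec (motive := fun _ => Nat) (Bool.rec (motive := fun _ => Nat) (Bool.rec (motive := fun _ => Nat) (114) (242) (Nat.ble 121 i)) (Bool.rec (motive := fun _ => Nat) (141) (13) (Nat.ble 123 i)) (Nat.ble 122 i)) (Bool.rec (motive := fun _ => Nat) (Bool.rec (motive := fun _ => Nat) (115) (243) (Nat.ble 125 i)) (Bool.rec (motive := fun _ => Nat) (140) (12) (Nat.ble 127 i)) (Nat.ble 126 i)) (Nat.ble 124 i)) (Nat.ble 120 i)) (Nat.ble 112 i)) (Nat.ble 96 i)) (Nat.ble 64 i)) (Bool.rec (motive := fun _ =>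 Nat) (Bool.rec (motive := fun _ => Nat) (Bool.rec (motive := fun _ => Nat) (Bool.rec (motive := fun _ => Nat) (Bool.rec (motive := fun _ => Nat) (Bool.rec (motive := fun _ => Nat) (Bool.rec (motive := fun _ => Nat) (4) (132) (Nat.ble 129 i)) (Bool.rec (motive := fun _ => Nat) (251) (123) (Nat.ble 131 i)) (Nat.ble 130 i)) (Bool.rec (motive := fun _ => Nat) (Bool.rec (motive := fun _ => Nat) (5) (133) (Nat.ble 133 i)) (Bool.rec (motive := fun _ => Nat) (250) (122) (Nat.ble 135 i)) (Nat.ble 134 i)) (Nat.ble 132 i)) (Bool.rec (motive := fun _ => Nat) (Bool.rec (motive := fun _ => Nat) (Bool.rec (motive := fun _ => Nat) (68) (196) (Nat.ble 137 i)) (Bool.rec (motive := fun _ => Nat) (187) (59) (Nat.ble 139 i)) (Nat.ble 138 i)) (Bool.rec (motive := fun _ => Nat) (Bool.rec (motive := fun _ => Nat) (69) (197) (Nat.ble 141 i)) (Bool.rec (motive := fun _ => Nat) (186) (58) (Nat.ble 143 i)) (Nat.ble 142 i)) (Nat.ble 140 i)) (Nat.ble 136 i)) (Bool.rec (motive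 := fun _ => Nat) (Bool.rec (motive := fun _ => Nat) (Bool.rec (motive := fun _ => Nat) (Bool.rec (motive := fun _ => Nat) (6) (134) (Nat.ble 145 i)) (Bool.rec (motive := fun _ => Nat) (249) (121) (Nat.ble 147 i)) (Nat.ble 146 i)) (Bool.rec (motive := fun _ => Nat) (Bool.rec (motive := fun _ => Nat) (7) (135) (Nat.ble 149 i)) (Bool.rec (motive := fun _ => Nat) (248) (120) (Nat.ble 151 i)) (Nat.ble 150 i)) (Nat.ble 148 i)) (Bool.rec (motive := fun _ => Nat) (Bool.rec (motive := fun _ => Nat) (Bool.rec (motive := fun _ => Nat) (70) (198) (Nat.ble 153 i)) (Bool.rec (motive := fun _ => Nat) (185) (57) (Nat.ble 155 i)) (Nat.ble 154 i)) (Bool.rec (motive := fun _ => Nat) (Bool.rec (motive := fun _ => Nat) (71) (199) (Nat.ble 157 i)) (Bool.rec (motive := fun _ => Nat) (184) (56) (Nat.ble 159 i)) (Nat.ble 158 i)) (Nat.ble 156 i)) (Nat.ble 152 i)) (Nat.ble 144 i)) (Bool.rec (motive := fun _ => Nat) (Bool.rec (motive := fun _ => Nat) (Bool.rec (motive :=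 fun _ => Nat) (Bool.rec (motive := fun _ => Nat) (Bool.rec (motive := fun _ => Nat) (20) (148) (Nat.ble 161 i)) (Bool.rec (motive := fun _ => Nat) (235) (107) (Nat.ble 163 i)) (Nat.ble 162 i)) (Bool.rec (motive := fun _ => Nat) (Bool.rec (motive := fun _ => Nat) (21) (149) (Nat.ble 165 i)) (Bool.rec (motive := fun _ => Nat) (234) (106) (Nat.ble 167 i)) (Nat.ble 166 i)) (Nat.ble 164 i)) (Bool.rec (motive := fun _ => Nat) (Bool.rec (motive := fun _ => Nat) (Bool.rec (motive := fun _ => Nat) (84) (212) (Nat.ble 169 i)) (Bool.rec (motive := fun _ => Nat) (171) (43) (Nat.ble 171 i)) (Nat.ble 170 i)) (Bool.rec (motive := fun _ => Nat) (Bool.rec (motive := fun _ => Nat) (85) (213) (Nat.ble 173 i)) (Bool.rec (motive := fun _ => Nat) (170) (42) (Nat.ble 175 i)) (Nat.ble 174 i)) (Nat.ble 172 i)) (Nat.ble 168 i)) (Bool.rec (motive := fun _ => Nat) (Bool.rec (motive := fun _ => Nat) (Bool.rec (motive := fun _ => Nat) (Bool.rec (motive := fun _ => Nat) (22)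 (150) (Nat.ble 177 i)) (Bool.rec (motive := fun _ => Nat) (233) (105) (Nat.ble 179 i)) (Nat.ble 178 i)) (Bool.rec (motive := fun _ => Nat) (Bool.rec (motive := fun _ => Nat) (23) (151) (Nat.ble 181 i)) (Bool.rec (motive := fun _ => Nat) (232) (104) (Nat.ble 183 i)) (Nat.ble 182 i)) (Nat.ble 180 i)) (Bool.rec (motive := fun _ => Nat) (Bool.rec (motive := fun _ => Nat) (Bool.rec (motive := fun _ => Nat) (86) (214) (Nat.ble 185 i)) (Bool.rec (motive := fun _ => Nat) (169) (41) (Nat.ble 187 i)) (Nat.ble 186 i)) (Bool.rec (motive := fun _ => Nat) (Bool.rec (motive := fun _ => Nat) (87) (215) (Nat.ble 189 i)) (Bool.rec (motive := fun _ => Nat) (168) (40) (Nat.ble 191 i)) (Nat.ble 190 i)) (Nat.ble 188 i)) (Nat.ble 184 i)) (Nat.ble 176 i)) (Nat.ble 160 i)) (Bool.rec (motive := fun _ => Nat) (Bool.rec (motive := fun _ => Nat) (Bool.rec (motive := fun _ => Nat) (Bool.rec (motive := fun _ => Nat) (Bool.rec (motive := fun _ => Nat) (Bool.rec (motive := fun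 _ => Nat) (36) (164) (Nat.ble 193 i)) (Bool.rec (motive := fun _ => Nat) (219) (91) (Nat.ble 195 i)) (Nat.ble 194 i)) (Bool.rec (motive := fun _ => Nat) (Bool.rec (motive := fun _ => Nat) (37) (165) (Nat.ble 197 i)) (Bool.rec (motive := fun _ => Nat) (218) (90) (Nat.ble 199 i)) (Nat.ble 198 i)) (Nat.ble 196 i)) (Bool.rec (motive := fun _ => Nat) (Bool.rec (motive := fun _ => Nat) (Bool.rec (motive := fun _ => Nat) (100) (228) (Nat.ble 201 i)) (Bool.rec (motive := fun _ => Nat) (155) (27) (Nat.ble 203 i)) (Nat.ble 202 i)) (Bool.rec (motive := fun _ => Nat) (Bool.rec (motive := fun _ => Nat) (101) (229) (Nat.ble 205 i)) (Bool.rec (motive := fun _ => Nat) (154) (26) (Nat.ble 207 i)) (Nat.ble 206 i)) (Nat.ble 204 i)) (Nat.ble 200 i)) (Bool.rec (motive := fun _ => Nat) (Bool.rec (motive := fun _ => Nat) (Bool.rec (motive := fun _ => Nat) (Bool.rec (motive := fun _ => Nat) (38) (166) (Nat.ble 209 i)) (Bool.rec (motive := fun _ => Nat) (217) (89) (Nat.ble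 211 i)) (Nat.ble 210 i)) (Bool.rec (motive := fun _ => Nat) (Bool.rec (motive := fun _ => Nat) (39) (167) (Nat.ble 213 i)) (Bool.rec (motive := fun _ => Nat) (216) (88) (Nat.ble 215 i)) (Nat.ble 214 i)) (Nat.ble 212 i)) (Bool.rec (motive := fun _ => Nat) (Bool.rec (motive := fun _ => Nat) (Bool.rec (motive := fun _ => Nat) (102) (230) (Nat.ble 217 i)) (Bool.rec (motive := fun _ => Nat) (153) (25) (Nat.ble 219 i)) (Nat.ble 218 i)) (Bool.rec (motive := fun _ => Nat) (Bool.rec (motive := fun _ => Nat) (103) (231) (Nat.ble 221 i)) (Bool.rec (motive := fun _ => Nat) (152) (24) (Nat.ble 223 i)) (Nat.ble 222 i)) (Nat.ble 220 i)) (Nat.ble 216 i)) (Nat.ble 208 i)) (Bool.rec (motive := fun _ => Nat) (Bool.rec (motive := fun _ => Nat) (Bool.rec (motive := fun _ => Nat) (Bool.rec (motive := fun _ => Nat) (Bool.rec (motive := fun _ => Nat) (52) (180) (Nat.ble 225 i)) (Bool.rec (motive := fun _ => Nat) (203) (75) (Nat.ble 227 i)) (Nat.ble 226 i)) (Bool.rec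 (motive := fun _ => Nat) (Bool.rec (motive := fun _ => Nat) (53) (181) (Nat.ble 229 i)) (Bool.rec (motive := fun _ => Nat) (202) (74) (Nat.ble 231 i)) (Nat.ble 230 i)) (Nat.ble 228 i)) (Bool.rec (motive := fun _ => Nat) (Bool.rec (motive := fun _ => Nat) (Bool.rec (motive := fun _ => Nat) (116) (244) (Nat.ble 233 i)) (Bool.rec (motive := fun _ => Nat) (139) (11) (Nat.ble 235 i)) (Nat.ble 234 i)) (Bool.rec (motive := fun _ => Nat) (Bool.rec (motive := fun _ => Nat) (117) (245) (Nat.ble 237 i)) (Bool.rec (motive := fun _ => Nat) (138) (10) (Nat.ble 239 i)) (Nat.ble 238 i)) (Nat.ble 236 i)) (Nat.ble 232 i)) (Bool.rec (motive := fun _ => Nat) (Bool.rec (motive := fun _ => Nat) (Bool.rec (motive := fun _ => Nat) (Bool.rec (motive := fun _ => Nat) (54) (182) (Nat.ble 241 i)) (Bool.rec (motive := fun _ => Nat) (201) (73) (Nat.ble 243 i)) (Nat.ble 242 i)) (Bool.rec (motive := fun _ => Nat) (Bool.rec (motive := fun _ => Nat) (55) (183) (Nat.ble 245 i))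 (Bool.rec (motive := fun _ => Nat) (200) (72) (Nat.ble 247 i)) (Nat.ble 246 i)) (Nat.ble 244 i)) (Bool.rec (motive := fun _ => Nat) (Bool.rec (motive := fun _ => Nat) (Bool.rec (motive := fun _ => Nat) (118) (246) (Nat.ble 249 i)) (Bool.rec (motive := fun _ => Nat) (137) (9) (Nat.ble 251 i)) (Nat.ble 250 i)) (Bool.rec (motive := fun _ => Nat) (Bool.rec (motive := fun _ => Nat) (119) (247) (Nat.ble 253 i)) (Bool.rec (motive := fun _ => Nat) (136) (8) (Nat.ble 255 i)) (Nat.ble 254 i)) (Nat.ble 252 i)) (Nat.ble 248 i)) (Nat.ble 240 i)) (Nat.ble 224 i)) (Nat.ble 192 i)) (Nat.ble 128 i))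

/-- Certificates for the candidates, packed. -/
noncomputable def candT (i : Nat) : Nat := (Bool.rec (motive := fun _ => Nat) (Bool.rec (motive := fun _ => Nat) (Bool.rec (motive := fun _ => Nat) (Bool.rec (motive := fun _ => Nat) (Bool.rec (motive := fun _ => Nat) (Bool.rec (motive := fun _ => Nat) (Bool.rec (motive := fun _ => Nat) (Bool.rec (motive := fun _ => Nat) (Bool.rec (motive := fun _ => Nat) (Bool.rec (motive := fun _ => Nat) (5) (13) (Nat.ble 1 i)) (Bool.rec (motive := fun _ => Nat) (13) (13) (Nat.ble 3 i)) (Nat.ble 2 i)) (Bool.rec (motive := fun _ => Nat) (Bool.rec (motive := fun _ => Nat) (5) (9) (Nat.ble 5 i)) (Bool.rec (motive := fun _ => Nat) (29) (29) (Nat.ble 7 i)) (Nat.ble 6 i)) (Nat.ble 4 i)) (Bool.rec (motive := fun _ => Nat) (Bool.rec (motive := fun _ => Nat) (Bool.rec (motive := fun _ => Nat) (5) (29) (Nat.ble 9 i)) (Bool.rec (motive := fun _ => Nat) (9) (29) (Nat.ble 11 i)) (Nat.ble 10 i)) (Bool.rec (motive := fun _ =>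 Nat) (Bool.rec (motive := fun _ => Nat) (5) (29) (Nat.ble 13 i)) (Bool.rec (motive := fun _ => Nat) (29) (9) (Nat.ble 15 i)) (Nat.ble 14 i)) (Nat.ble 12 i)) (Nat.ble 8 i)) (Bool.rec (motive := fun _ => Nat) (Bool.rec (motive := fun _ => Nat) (Bool.rec (motive := fun _ => Nat) (Bool.rec (motive := fun _ => Nat) (5) (2) (Nat.ble 17 i)) (Bool.rec (motive := fun _ => Nat) (27381575748) (9) (Nat.ble 19 i)) (Nat.ble 18 i)) (Bool.rec (motive := fun _ => Nat) (Bool.rec (motive := fun _ => Nat) (5) (1343246384) (Nat.ble 21 i)) (Bool.rec (motive := fun _ => Nat) (9) (1075859504) (Nat.ble 23 i)) (Nat.ble 22 i)) (Nat.ble 20 i)) (Bool.rec (motive := fun _ => Nat) (Bool.rec (motive := fun _ => Nat) (Bool.rec (motive := fun _ => Nat) (5) (9) (Nat.ble 25 i)) (Bool.rec (motive := fun _ => Nat) (1343246384) (1075859504) (Nat.ble 27 i)) (Nat.ble 26 i)) (Bool.rec (motive := fun _ => Nat) (Bool.rec (motive := fun _ => Nat) (5) (13) (Nat.ble 29 i)) (Bool.rec (motive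 := fun _ => Nat) (13) (13) (Nat.ble 31 i)) (Nat.ble 30 i)) (Nat.ble 28 i)) (Nat.ble 24 i)) (Nat.ble 16 i)) (Bool.rec (motive := fun _ => Nat) (Bool.rec (motive := fun _ => Nat) (Bool.rec (motive := fun _ => Nat) (Bool.rec (motive := fun _ => Nat) (Bool.rec (motive := fun _ => Nat) (5) (26) (Nat.ble 33 i)) (Bool.rec (motive := fun _ => Nat) (1293156820) (9) (Nat.ble 35 i)) (Nat.ble 34 i)) (Bool.rec (motive := fun _ => Nat) (Bool.rec (motive := fun _ => Nat) (5) (34629242928) (Nat.ble 37 i)) (Bool.rec (motive := fun _ => Nat) (9) (34361856048) (Nat.ble 39 i)) (Nat.ble 38 i)) (Nat.ble 36 i)) (Bool.rec (motive := fun _ => Nat) (Bool.rec (motive := fun _ => Nat) (Bool.rec (motive := fun _ => Nat) (5) (9) (Nat.ble 41 i)) (Bool.rec (motive := fun _ => Nat) (34629242928) (34361856048) (Nat.ble 43 i)) (Nat.ble 42 i)) (Bool.rec (motive := fun _ => Nat) (Bool.rec (motive := fun _ => Nat) (5) (13) (Nat.ble 45 i)) (Bool.rec (motive := fun _ => Nat) (13) (13)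 (Nat.ble 47 i)) (Nat.ble 46 i)) (Nat.ble 44 i)) (Nat.ble 40 i)) (Bool.rec (motive := fun _ => Nat) (Bool.rec (motive := fun _ => Nat) (Bool.rec (motive := fun _ => Nat) (Bool.rec (motive := fun _ => Nat) (5) (13) (Nat.ble 49 i)) (Bool.rec (motive := fun _ => Nat) (13) (13) (Nat.ble 51 i)) (Nat.ble 50 i)) (Bool.rec (motive := fun _ => Nat) (Bool.rec (motive := fun _ => Nat) (5) (9) (Nat.ble 53 i)) (Bool.rec (motive := fun _ => Nat) (4564471856) (4297084976) (Nat.ble 55 i)) (Nat.ble 54 i)) (Nat.ble 52 i)) (Bool.rec (motive := fun _ => Nat) (Bool.rec (motive := fun _ => Nat) (Bool.rec (motive := fun _ => Nat) (5) (4564471856) (Nat.ble 57 i)) (Bool.rec (motive := fun _ => Nat) (9) (4297084976) (Nat.ble 59 i)) (Nat.ble 58 i)) (Bool.rec (motive := fun _ => Nat) (Bool.rec (motive := fun _ => Nat) (5) (20846759988) (Nat.ble 61 i)) (Bool.rec (motive := fun _ => Nat) (61918441524) (9) (Nat.ble 63 i)) (Nat.ble 62 i)) (Nat.ble 60 i)) (Nat.ble 56 i)) (Nat.ble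 48 i)) (Nat.ble 32 i)) (Bool.rec (motive := fun _ => Nat) (Bool.rec (motive := fun _ => Nat) (Bool.rec (motive := fun _ => Nat) (Bool.rec (motive := fun _ => Nat) (Bool.rec (motive := fun _ => Nat) (Bool.rec (motive := fun _ => Nat) (5) (6) (Nat.ble 65 i)) (Bool.rec (motive := fun _ => Nat) (1252131188) (9) (Nat.ble 67 i)) (Nat.ble 66 i)) (Bool.rec (motive := fun _ => Nat) (Bool.rec (motive := fun _ => Nat) (5) (17449373744) (Nat.ble 69 i)) (Bool.rec (motive := fun _ => Nat) (9) (17181986864) (Nat.ble 71 i)) (Nat.ble 70 i)) (Nat.ble 68 i)) (Bool.rec (motive := fun _ => Nat) (Bool.rec (motive := fun _ => Nat) (Bool.rec (motive := fun _ => Nat) (5) (9) (Nat.ble 73 i)) (Bool.rec (motive := fun _ => Nat) (17449373744) (17181986864) (Nat.ble 75 i)) (Nat.ble 74 i)) (Bool.rec (motive := fun _ => Nat) (Bool.rec (motive := fun _ => Nat) (5) (13) (Nat.ble 77 i)) (Bool.rec (motive := fun _ => Nat) (13) (13) (Nat.ble 79 i)) (Nat.ble 78 i)) (Nat.ble 76 i))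 (Nat.ble 72 i)) (Bool.rec (motive := fun _ => Nat) (Bool.rec (motive := fun _ => Nat) (Bool.rec (motive := fun _ => Nat) (Bool.rec (motive := fun _ => Nat) (5) (13) (Nat.ble 81 i)) (Bool.rec (motive := fun _ => Nat) (13) (13) (Nat.ble 83 i)) (Nat.ble 82 i)) (Bool.rec (motive := fun _ => Nat) (Bool.rec (motive := fun _ => Nat) (5) (9) (Nat.ble 85 i)) (Bool.rec (motive := fun _ => Nat) (2416988208) (2149601328) (Nat.ble 87 i)) (Nat.ble 86 i)) (Nat.ble 84 i)) (Bool.rec (motive := fun _ => Nat) (Bool.rec (motive := fun _ => Nat) (Bool.rec (motive := fun _ => Nat) (5) (2416988208) (Nat.ble 89 i)) (Bool.rec (motive := fun _ => Nat) (9) (2149601328) (Nat.ble 91 i)) (Nat.ble 90 i)) (Bool.rec (motive := fun _ => Nat) (Bool.rec (motive := fun _ => Nat) (5) (20046696500) (Nat.ble 93 i)) (Bool.rec (motive := fun _ => Nat) (61384708148) (9) (Nat.ble 95 i)) (Nat.ble 94 i)) (Nat.ble 92 i)) (Nat.ble 88 i)) (Nat.ble 80 i)) (Bool.rec (motive := fun _ => Nat) (Bool.rec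 (motive := fun _ => Nat) (Bool.rec (motive := fun _ => Nat) (Bool.rec (motive := fun _ => Nat) (Bool.rec (motive := fun _ => Nat) (5) (13) (Nat.ble 97 i)) (Bool.rec (motive := fun _ => Nat) (13) (13) (Nat.ble 99 i)) (Nat.ble 98 i)) (Bool.rec (motive := fun _ => Nat) (Bool.rec (motive := fun _ => Nat) (5) (9) (Nat.ble 101 i)) (Bool.rec (motive := fun _ => Nat) (1343246384) (1075859504) (Nat.ble 103 i)) (Nat.ble 102 i)) (Nat.ble 100 i)) (Bool.rec (motive := fun _ => Nat) (Bool.rec (motive := fun _ => Nat) (Bool.rec (motive := fun _ => Nat) (5) (1343246384) (Nat.ble 105 i)) (Bool.rec (motive := fun _ => Nat) (9) (1075859504) (Nat.ble 107 i)) (Nat.ble 106 i)) (Bool.rec (motive := fun _ => Nat) (Bool.rec (motive := fun _ => Nat) (5) (17140043828) (Nat.ble 109 i)) (Bool.rec (motive := fun _ => Nat) (61967716404) (9) (Nat.ble 111 i)) (Nat.ble 110 i)) (Nat.ble 108 i)) (Nat.ble 104 i)) (Bool.rec (motive := fun _ => Nat) (Bool.rec (motive := fun _ => Nat)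 (Bool.rec (motive := fun _ => Nat) (Bool.rec (motive := fun _ => Nat) (5) (47984959540) (Nat.ble 113 i)) (Bool.rec (motive := fun _ => Nat) (47715471412) (9) (Nat.ble 115 i)) (Nat.ble 114 i)) (Bool.rec (motive := fun _ => Nat) (Bool.rec (motive := fun _ => Nat) (5) (1343246384) (Nat.ble 117 i)) (Bool.rec (motive := fun _ => Nat) (9) (1075859504) (Nat.ble 119 i)) (Nat.ble 118 i)) (Nat.ble 116 i)) (Bool.rec (motive := fun _ => Nat) (Bool.rec (motive := fun _ => Nat) (Bool.rec (motive := fun _ => Nat) (5) (9) (Nat.ble 121 i)) (Bool.rec (motive := fun _ => Nat) (1343246384) (1075859504) (Nat.ble 123 i)) (Nat.ble 122 i)) (Bool.rec (motive := fun _ => Nat) (Bool.rec (motive := fun _ => Nat) (5) (13) (Nat.ble 125 i)) (Bool.rec (motive := fun _ => Nat) (13) (13) (Nat.ble 127 i)) (Nat.ble 126 i)) (Nat.ble 124 i)) (Nat.ble 120 i)) (Nat.ble 112 i)) (Nat.ble 96 i)) (Nat.ble 64 i)) (Bool.rec (motive := fun _ => Nat) (Bool.rec (motive := fun _ => Nat) (Bool.rec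 (motive := fun _ => Nat) (Bool.rec (motive := fun _ => Nat) (Bool.rec (motive := fun _ => Nat) (Bool.rec (motive := fun _ => Nat) (Bool.rec (motive := fun _ => Nat) (5) (18) (Nat.ble 129 i)) (Bool.rec (motive := fun _ => Nat) (42278694980) (9) (Nat.ble 131 i)) (Nat.ble 130 i)) (Bool.rec (motive := fun _ => Nat) (Bool.rec (motive := fun _ => Nat) (5) (2416988208) (Nat.ble 133 i)) (Bool.rec (motive := fun _ => Nat) (9) (2149601328) (Nat.ble 135 i)) (Nat.ble 134 i)) (Nat.ble 132 i)) (Bool.rec (motive := fun _ => Nat) (Bool.rec (motive := fun _ => Nat) (Bool.rec (motive := fun _ => Nat) (5) (9) (Nat.ble 137 i)) (Bool.rec (motive := fun _ => Nat) (2416988208) (2149601328) (Nat.ble 139 i)) (Nat.ble 138 i)) (Bool.rec (motive := fun _ => Nat) (Bool.rec (motive := fun _ => Nat) (5) (13) (Nat.ble 141 i)) (Bool.rec (motive := fun _ => Nat) (13) (13) (Nat.ble 143 i)) (Nat.ble 142 i)) (Nat.ble 140 i)) (Nat.ble 136 i)) (Bool.rec (motive := fun _ => Nat) (Bool.rec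 (motive := fun _ => Nat) (Bool.rec (motive := fun _ => Nat) (Bool.rec (motive := fun _ => Nat) (5) (13) (Nat.ble 145 i)) (Bool.rec (motive := fun _ => Nat) (13) (13) (Nat.ble 147 i)) (Nat.ble 146 i)) (Bool.rec (motive := fun _ => Nat) (Bool.rec (motive := fun _ => Nat) (5) (9) (Nat.ble 149 i)) (Bool.rec (motive := fun _ => Nat) (68183674928) (68453158960) (Nat.ble 151 i)) (Nat.ble 150 i)) (Nat.ble 148 i)) (Bool.rec (motive := fun _ => Nat) (Bool.rec (motive := fun _ => Nat) (Bool.rec (motive := fun _ => Nat) (5) (68183674928) (Nat.ble 153 i)) (Bool.rec (motive := fun _ => Nat) (9) (68453158960) (Nat.ble 155 i)) (Nat.ble 154 i)) (Bool.rec (motive := fun _ => Nat) (Bool.rec (motive := fun _ => Nat) (5) (65876807732) (Nat.ble 157 i)) (Bool.rec (motive := fun _ => Nat) (41987100724) (9) (Nat.ble 159 i)) (Nat.ble 158 i)) (Nat.ble 156 i)) (Nat.ble 152 i)) (Nat.ble 144 i)) (Bool.rec (motive := fun _ => Nat) (Bool.rec (motive := fun _ => Nat) (Bool.rec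 (motive := fun _ => Nat) (Bool.rec (motive := fun _ => Nat) (Bool.rec (motive := fun _ => Nat) (5) (13) (Nat.ble 161 i)) (Bool.rec (motive := fun _ => Nat) (13) (13) (Nat.ble 163 i)) (Nat.ble 162 i)) (Bool.rec (motive := fun _ => Nat) (Bool.rec (motive := fun _ => Nat) (5) (9) (Nat.ble 165 i)) (Bool.rec (motive := fun _ => Nat) (8859439152) (8592052272) (Nat.ble 167 i)) (Nat.ble 166 i)) (Nat.ble 164 i)) (Bool.rec (motive := fun _ => Nat) (Bool.rec (motive := fun _ => Nat) (Bool.rec (motive := fun _ => Nat) (5) (8859439152) (Nat.ble 169 i)) (Bool.rec (motive := fun _ => Nat) (9) (8592052272) (Nat.ble 171 i)) (Nat.ble 170 i)) (Bool.rec (motive := fun _ => Nat) (Bool.rec (motive := fun _ => Nat) (5) (55776923700) (Nat.ble 173 i)) (Bool.rec (motive := fun _ => Nat) (1554010164) (9) (Nat.ble 175 i)) (Nat.ble 174 i)) (Nat.ble 172 i)) (Nat.ble 168 i)) (Bool.rec (motive := fun _ => Nat) (Bool.rec (motive := fun _ => Nat) (Bool.rec (motive := fun _ =>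 Nat) (Bool.rec (motive := fun _ => Nat) (5) (241) (Nat.ble 177 i)) (Bool.rec (motive := fun _ => Nat) (241) (9) (Nat.ble 179 i)) (Nat.ble 178 i)) (Bool.rec (motive := fun _ => Nat) (Bool.rec (motive := fun _ => Nat) (5) (241) (Nat.ble 181 i)) (Bool.rec (motive := fun _ => Nat) (9) (241) (Nat.ble 183 i)) (Nat.ble 182 i)) (Nat.ble 180 i)) (Bool.rec (motive := fun _ => Nat) (Bool.rec (motive := fun _ => Nat) (Bool.rec (motive := fun _ => Nat) (5) (9) (Nat.ble 185 i)) (Bool.rec (motive := fun _ => Nat) (241) (241) (Nat.ble 187 i)) (Nat.ble 186 i)) (Bool.rec (motive := fun _ => Nat) (Bool.rec (motive := fun _ => Nat) (5) (13) (Nat.ble 189 i)) (Bool.rec (motive := fun _ => Nat) (13) (13) (Nat.ble 191 i)) (Nat.ble 190 i)) (Nat.ble 188 i)) (Nat.ble 184 i)) (Nat.ble 176 i)) (Nat.ble 160 i)) (Bool.rec (motive := fun _ => Nat) (Bool.rec (motive := fun _ => Nat) (Bool.rec (motive := fun _ => Nat) (Bool.rec (motive := fun _ => Nat) (Bool.rec (motive := fun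 _ => Nat) (Bool.rec (motive := fun _ => Nat) (5) (13) (Nat.ble 193 i)) (Bool.rec (motive := fun _ => Nat) (13) (13) (Nat.ble 195 i)) (Nat.ble 194 i)) (Bool.rec (motive := fun _ => Nat) (Bool.rec (motive := fun _ => Nat) (5) (9) (Nat.ble 197 i)) (Bool.rec (motive := fun _ => Nat) (34629242928) (34361856048) (Nat.ble 199 i)) (Nat.ble 198 i)) (Nat.ble 196 i)) (Bool.rec (motive := fun _ => Nat) (Bool.rec (motive := fun _ => Nat) (Bool.rec (motive := fun _ => Nat) (5) (34629242928) (Nat.ble 201 i)) (Bool.rec (motive := fun _ => Nat) (9) (34361856048) (Nat.ble 203 i)) (Nat.ble 202 i)) (Bool.rec (motive := fun _ => Nat) (Bool.rec (motive := fun _ => Nat) (5) (52769607732) (Nat.ble 205 i)) (Bool.rec (motive := fun _ => Nat) (22169014324) (9) (Nat.ble 207 i)) (Nat.ble 206 i)) (Nat.ble 204 i)) (Nat.ble 200 i)) (Bool.rec (motive := fun _ => Nat) (Bool.rec (motive := fun _ => Nat) (Bool.rec (motive := fun _ => Nat) (Bool.rec (motive := fun _ => Nat) (5) (54393856052)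 (Nat.ble 209 i)) (Bool.rec (motive := fun _ => Nat) (54124367924) (9) (Nat.ble 211 i)) (Nat.ble 210 i)) (Bool.rec (motive := fun _ => Nat) (Bool.rec (motive := fun _ => Nat) (5) (2416988208) (Nat.ble 213 i)) (Bool.rec (motive := fun _ => Nat) (9) (2149601328) (Nat.ble 215 i)) (Nat.ble 214 i)) (Nat.ble 212 i)) (Bool.rec (motive := fun _ => Nat) (Bool.rec (motive := fun _ => Nat) (Bool.rec (motive := fun _ => Nat) (5) (9) (Nat.ble 217 i)) (Bool.rec (motive := fun _ => Nat) (2416988208) (2149601328) (Nat.ble 219 i)) (Nat.ble 218 i)) (Bool.rec (motive := fun _ => Nat) (Bool.rec (motive := fun _ => Nat) (5) (13) (Nat.ble 221 i)) (Bool.rec (motive := fun _ => Nat) (13) (13) (Nat.ble 223 i)) (Nat.ble 222 i)) (Nat.ble 220 i)) (Nat.ble 216 i)) (Nat.ble 208 i)) (Bool.rec (motive := fun _ => Nat) (Bool.rec (motive := fun _ => Nat) (Bool.rec (motive := fun _ => Nat) (Bool.rec (motive := fun _ => Nat) (Bool.rec (motive := fun _ => Nat) (5) (19161714740) (Nat.ble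 225 i)) (Bool.rec (motive := fun _ => Nat) (19160670260) (9) (Nat.ble 227 i)) (Nat.ble 226 i)) (Bool.rec (motive := fun _ => Nat) (Bool.rec (motive := fun _ => Nat) (5) (34629242928) (Nat.ble 229 i)) (Bool.rec (motive := fun _ => Nat) (9) (34361856048) (Nat.ble 231 i)) (Nat.ble 230 i)) (Nat.ble 228 i)) (Bool.rec (motive := fun _ => Nat) (Bool.rec (motive := fun _ => Nat) (Bool.rec (motive := fun _ => Nat) (5) (9) (Nat.ble 233 i)) (Bool.rec (motive := fun _ => Nat) (34629242928) (34361856048) (Nat.ble 235 i)) (Nat.ble 234 i)) (Bool.rec (motive := fun _ => Nat) (Bool.rec (motive := fun _ => Nat) (5) (13) (Nat.ble 237 i)) (Bool.rec (motive := fun _ => Nat) (13) (13) (Nat.ble 239 i)) (Nat.ble 238 i)) (Nat.ble 236 i)) (Nat.ble 232 i)) (Bool.rec (motive := fun _ => Nat) (Bool.rec (motive := fun _ => Nat) (Bool.rec (motive := fun _ => Nat) (Bool.rec (motive := fun _ => Nat) (5) (13) (Nat.ble 241 i)) (Bool.rec (motive := fun _ => Nat) (13) (13) (Nat.ble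 243 i)) (Nat.ble 242 i)) (Bool.rec (motive := fun _ => Nat) (Bool.rec (motive := fun _ => Nat) (5) (9) (Nat.ble 245 i)) (Bool.rec (motive := fun _ => Nat) (189) (189) (Nat.ble 247 i)) (Nat.ble 246 i)) (Nat.ble 244 i)) (Bool.rec (motive := fun _ => Nat) (Bool.rec (motive := fun _ => Nat) (Bool.rec (motive := fun _ => Nat) (5) (189) (Nat.ble 249 i)) (Bool.rec (motive := fun _ => Nat) (9) (189) (Nat.ble 251 i)) (Nat.ble 250 i)) (Bool.rec (motive := fun _ => Nat) (Bool.rec (motive := fun _ => Nat) (5) (189) (Nat.ble 253 i)) (Bool.rec (motive := fun _ => Nat) (189) (9) (Nat.ble 255 i)) (Nat.ble 254 i)) (Nat.ble 252 i)) (Nat.ble 248 i)) (Nat.ble 240 i)) (Nat.ble 224 i)) (Nat.ble 192 i)) (Nat.ble 128 i)) (Bool.rec (motive := fun _ => Nat) (Bool.rec (motive := fun _ => Nat) (Bool.rec (motive := fun _ => Nat) (Bool.rec (motive := fun _ => Nat) (Bool.rec (motive := fun _ => Nat) (Bool.rec (motive := fun _ => Nat) (Bool.rec (motive := fun _ => Nat) (Bool.rec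 (motive := fun _ => Nat) (5) (22) (Nat.ble 257 i)) (Bool.rec (motive := fun _ => Nat) (41606557764) (9) (Nat.ble 259 i)) (Nat.ble 258 i)) (Bool.rec (motive := fun _ => Nat) (Bool.rec (motive := fun _ => Nat) (5) (8859439152) (Nat.ble 261 i)) (Bool.rec (motive := fun _ => Nat) (9) (8592052272) (Nat.ble 263 i)) (Nat.ble 262 i)) (Nat.ble 260 i)) (Bool.rec (motive := fun _ => Nat) (Bool.rec (motive := fun _ => Nat) (Bool.rec (motive := fun _ => Nat) (5) (9) (Nat.ble 265 i)) (Bool.rec (motive := fun _ => Nat) (8859439152) (8592052272) (Nat.ble 267 i)) (Nat.ble 266 i)) (Bool.rec (motive := fun _ => Nat) (Bool.rec (motive := fun _ => Nat) (5) (13) (Nat.ble 269 i)) (Bool.rec (motive := fun _ => Nat) (13) (13) (Nat.ble 271 i)) (Nat.ble 270 i)) (Nat.ble 268 i)) (Nat.ble 264 i)) (Bool.rec (motive := fun _ => Nat) (Bool.rec (motive := fun _ => Nat) (Bool.rec (motive := fun _ => Nat) (Bool.rec (motive := fun _ => Nat) (5) (13) (Nat.ble 273 i)) (Bool.rec (motive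 := fun _ => Nat) (13) (13) (Nat.ble 275 i)) (Nat.ble 274 i)) (Bool.rec (motive := fun _ => Nat) (Bool.rec (motive := fun _ => Nat) (5) (9) (Nat.ble 277 i)) (Bool.rec (motive := fun _ => Nat) (34629242928) (34361856048) (Nat.ble 279 i)) (Nat.ble 278 i)) (Nat.ble 276 i)) (Bool.rec (motive := fun _ => Nat) (Bool.rec (motive := fun _ => Nat) (Bool.rec (motive := fun _ => Nat) (5) (34629242928) (Nat.ble 281 i)) (Bool.rec (motive := fun _ => Nat) (9) (34361856048) (Nat.ble 283 i)) (Nat.ble 282 i)) (Bool.rec (motive := fun _ => Nat) (Bool.rec (motive := fun _ => Nat) (5) (50047504436) (Nat.ble 285 i)) (Bool.rec (motive := fun _ => Nat) (54075093044) (9) (Nat.ble 287 i)) (Nat.ble 286 i)) (Nat.ble 284 i)) (Nat.ble 280 i)) (Nat.ble 272 i)) (Bool.rec (motive := fun _ => Nat) (Bool.rec (motive := fun _ => Nat) (Bool.rec (motive := fun _ => Nat) (Bool.rec (motive := fun _ => Nat) (Bool.rec (motive := fun _ => Nat) (5) (13) (Nat.ble 289 i)) (Bool.rec (motive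 := fun _ => Nat) (13) (13) (Nat.ble 291 i)) (Nat.ble 290 i)) (Bool.rec (motive := fun _ => Nat) (Bool.rec (motive := fun _ => Nat) (5) (9) (Nat.ble 293 i)) (Bool.rec (motive := fun _ => Nat) (68183674928) (68453158960) (Nat.ble 295 i)) (Nat.ble 294 i)) (Nat.ble 292 i)) (Bool.rec (motive := fun _ => Nat) (Bool.rec (motive := fun _ => Nat) (Bool.rec (motive := fun _ => Nat) (5) (68183674928) (Nat.ble 297 i)) (Bool.rec (motive := fun _ => Nat) (9) (68453158960) (Nat.ble 299 i)) (Nat.ble 298 i)) (Bool.rec (motive := fun _ => Nat) (Bool.rec (motive := fun _ => Nat) (5) (10664038452) (Nat.ble 301 i)) (Bool.rec (motive := fun _ => Nat) (42069946420) (9) (Nat.ble 303 i)) (Nat.ble 302 i)) (Nat.ble 300 i)) (Nat.ble 296 i)) (Bool.rec (motive := fun _ => Nat) (Bool.rec (motive := fun _ => Nat) (Bool.rec (motive := fun _ => Nat) (Bool.rec (motive := fun _ => Nat) (5) (59312721972) (Nat.ble 305 i)) (Bool.rec (motive := fun _ => Nat) (59313774644) (9) (Nat.ble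 307 i)) (Nat.ble 306 i)) (Bool.rec (motive := fun _ => Nat) (Bool.rec (motive := fun _ => Nat) (5) (34629242928) (Nat.ble 309 i)) (Bool.rec (motive := fun _ => Nat) (9) (34361856048) (Nat.ble 311 i)) (Nat.ble 310 i)) (Nat.ble 308 i)) (Bool.rec (motive := fun _ => Nat) (Bool.rec (motive := fun _ => Nat) (Bool.rec (motive := fun _ => Nat) (5) (9) (Nat.ble 313 i)) (Bool.rec (motive := fun _ => Nat) (34629242928) (34361856048) (Nat.ble 315 i)) (Nat.ble 314 i)) (Bool.rec (motive := fun _ => Nat) (Bool.rec (motive := fun _ => Nat) (5) (13) (Nat.ble 317 i)) (Bool.rec (motive := fun _ => Nat) (13) (13) (Nat.ble 319 i)) (Nat.ble 318 i)) (Nat.ble 316 i)) (Nat.ble 312 i)) (Nat.ble 304 i)) (Nat.ble 288 i)) (Bool.rec (motive := fun _ => Nat) (Bool.rec (motive := fun _ => Nat) (Bool.rec (motive := fun _ => Nat) (Bool.rec (motive := fun _ => Nat) (Bool.rec (motive := fun _ => Nat) (Bool.rec (motive := fun _ => Nat) (5) (13) (Nat.ble 321 i)) (Bool.rec (motive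 := fun _ => Nat) (13) (13) (Nat.ble 323 i)) (Nat.ble 322 i)) (Bool.rec (motive := fun _ => Nat) (Bool.rec (motive := fun _ => Nat) (5) (9) (Nat.ble 325 i)) (Bool.rec (motive := fun _ => Nat) (4564471856) (4297084976) (Nat.ble 327 i)) (Nat.ble 326 i)) (Nat.ble 324 i)) (Bool.rec (motive := fun _ => Nat) (Bool.rec (motive := fun _ => Nat) (Bool.rec (motive := fun _ => Nat) (5) (4564471856) (Nat.ble 329 i)) (Bool.rec (motive := fun _ => Nat) (9) (4297084976) (Nat.ble 331 i)) (Nat.ble 330 i)) (Bool.rec (motive := fun _ => Nat) (Bool.rec (motive := fun _ => Nat) (5) (40967884852) (Nat.ble 333 i)) (Bool.rec (motive := fun _ => Nat) (1506824244) (9) (Nat.ble 335 i)) (Nat.ble 334 i)) (Nat.ble 332 i)) (Nat.ble 328 i)) (Bool.rec (motive := fun _ => Nat) (Bool.rec (motive := fun _ => Nat) (Bool.rec (motive := fun _ => Nat) (Bool.rec (motive := fun _ => Nat) (5) (241) (Nat.ble 337 i)) (Bool.rec (motive := fun _ => Nat) (241) (9) (Nat.ble 339 i)) (Nat.ble 338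 i)) (Bool.rec (motive := fun _ => Nat) (Bool.rec (motive := fun _ => Nat) (5) (241) (Nat.ble 341 i)) (Bool.rec (motive := fun _ => Nat) (9) (241) (Nat.ble 343 i)) (Nat.ble 342 i)) (Nat.ble 340 i)) (Bool.rec (motive := fun _ => Nat) (Bool.rec (motive := fun _ => Nat) (Bool.rec (motive := fun _ => Nat) (5) (9) (Nat.ble 345 i)) (Bool.rec (motive := fun _ => Nat) (241) (241) (Nat.ble 347 i)) (Nat.ble 346 i)) (Bool.rec (motive := fun _ => Nat) (Bool.rec (motive := fun _ => Nat) (5) (13) (Nat.ble 349 i)) (Bool.rec (motive := fun _ => Nat) (13) (13) (Nat.ble 351 i)) (Nat.ble 350 i)) (Nat.ble 348 i)) (Nat.ble 344 i)) (Nat.ble 336 i)) (Bool.rec (motive := fun _ => Nat) (Bool.rec (motive := fun _ => Nat) (Bool.rec (motive := fun _ => Nat) (Bool.rec (motive := fun _ => Nat) (Bool.rec (motive := fun _ => Nat) (5) (189) (Nat.ble 353 i)) (Bool.rec (motive := fun _ => Nat) (189) (9) (Nat.ble 355 i)) (Nat.ble 354 i)) (Bool.rec (motive := fun _ => Nat) (Bool.rec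 (motive := fun _ => Nat) (5) (189) (Nat.ble 357 i)) (Bool.rec (motive := fun _ => Nat) (9) (189) (Nat.ble 359 i)) (Nat.ble 358 i)) (Nat.ble 356 i)) (Bool.rec (motive := fun _ => Nat) (Bool.rec (motive := fun _ => Nat) (Bool.rec (motive := fun _ => Nat) (5) (9) (Nat.ble 361 i)) (Bool.rec (motive := fun _ => Nat) (189) (189) (Nat.ble 363 i)) (Nat.ble 362 i)) (Bool.rec (motive := fun _ => Nat) (Bool.rec (motive := fun _ => Nat) (5) (13) (Nat.ble 365 i)) (Bool.rec (motive := fun _ => Nat) (13) (13) (Nat.ble 367 i)) (Nat.ble 366 i)) (Nat.ble 364 i)) (Nat.ble 360 i)) (Bool.rec (motive := fun _ => Nat) (Bool.rec (motive := fun _ => Nat) (Bool.rec (motive := fun _ => Nat) (Bool.rec (motive := fun _ => Nat) (5) (13) (Nat.ble 369 i)) (Bool.rec (motive := fun _ => Nat) (13) (13) (Nat.ble 371 i)) (Nat.ble 370 i)) (Bool.rec (motive := fun _ => Nat) (Bool.rec (motive := fun _ => Nat) (5) (9) (Nat.ble 373 i)) (Bool.rec (motive := fun _ => Nat) (4564471856) (4297084976)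 (Nat.ble 375 i)) (Nat.ble 374 i)) (Nat.ble 372 i)) (Bool.rec (motive := fun _ => Nat) (Bool.rec (motive := fun _ => Nat) (Bool.rec (motive := fun _ => Nat) (5) (4564471856) (Nat.ble 377 i)) (Bool.rec (motive := fun _ => Nat) (9) (4297084976) (Nat.ble 379 i)) (Nat.ble 378 i)) (Bool.rec (motive := fun _ => Nat) (Bool.rec (motive := fun _ => Nat) (5) (57589927988) (Nat.ble 381 i)) (Bool.rec (motive := fun _ => Nat) (24839753780) (9) (Nat.ble 383 i)) (Nat.ble 382 i)) (Nat.ble 380 i)) (Nat.ble 376 i)) (Nat.ble 368 i)) (Nat.ble 352 i)) (Nat.ble 320 i)) (Bool.rec (motive := fun _ => Nat) (Bool.rec (motive := fun _ => Nat) (Bool.rec (motive := fun _ => Nat) (Bool.rec (motive := fun _ => Nat) (Bool.rec (motive := fun _ => Nat) (Bool.rec (motive := fun _ => Nat) (Bool.rec (motive := fun _ => Nat) (5) (13) (Nat.ble 385 i)) (Bool.rec (motive := fun _ => Nat) (13) (13) (Nat.ble 387 i)) (Nat.ble 386 i)) (Bool.rec (motive := fun _ => Nat) (Bool.rec (motive :=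 fun _ => Nat) (5) (9) (Nat.ble 389 i)) (Bool.rec (motive := fun _ => Nat) (17449373744) (17181986864) (Nat.ble 391 i)) (Nat.ble 390 i)) (Nat.ble 388 i)) (Bool.rec (motive := fun _ => Nat) (Bool.rec (motive := fun _ => Nat) (Bool.rec (motive := fun _ => Nat) (5) (17449373744) (Nat.ble 393 i)) (Bool.rec (motive := fun _ => Nat) (9) (17181986864) (Nat.ble 395 i)) (Nat.ble 394 i)) (Bool.rec (motive := fun _ => Nat) (Bool.rec (motive := fun _ => Nat) (5) (19118706740) (Nat.ble 397 i)) (Bool.rec (motive := fun _ => Nat) (33615269940) (9) (Nat.ble 399 i)) (Nat.ble 398 i)) (Nat.ble 396 i)) (Nat.ble 392 i)) (Bool.rec (motive := fun _ => Nat) (Bool.rec (motive := fun _ => Nat) (Bool.rec (motive := fun _ => Nat) (Bool.rec (motive := fun _ => Nat) (5) (189) (Nat.ble 401 i)) (Bool.rec (motive := fun _ => Nat) (189) (9) (Nat.ble 403 i)) (Nat.ble 402 i)) (Bool.rec (motive := fun _ => Nat) (Bool.rec (motive := fun _ => Nat) (5) (189) (Nat.ble 405 i)) (Bool.rec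 (motive := fun _ => Nat) (9) (189) (Nat.ble 407 i)) (Nat.ble 406 i)) (Nat.ble 404 i)) (Bool.rec (motive := fun _ => Nat) (Bool.rec (motive := fun _ => Nat) (Bool.rec (motive := fun _ => Nat) (5) (9) (Nat.ble 409 i)) (Bool.rec (motive := fun _ => Nat) (189) (189) (Nat.ble 411 i)) (Nat.ble 410 i)) (Bool.rec (motive := fun _ => Nat) (Bool.rec (motive := fun _ => Nat) (5) (13) (Nat.ble 413 i)) (Bool.rec (motive := fun _ => Nat) (13) (13) (Nat.ble 415 i)) (Nat.ble 414 i)) (Nat.ble 412 i)) (Nat.ble 408 i)) (Nat.ble 400 i)) (Bool.rec (motive := fun _ => Nat) (Bool.rec (motive := fun _ => Nat) (Bool.rec (motive := fun _ => Nat) (Bool.rec (motive := fun _ => Nat) (Bool.rec (motive := fun _ => Nat) (5) (40036749364) (Nat.ble 417 i)) (Bool.rec (motive := fun _ => Nat) (48088764468) (9) (Nat.ble 419 i)) (Nat.ble 418 i)) (Bool.rec (motive := fun _ => Nat) (Bool.rec (motive := fun _ => Nat) (5) (8859439152) (Nat.ble 421 i)) (Bool.rec (motive := fun _ => Nat)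 (9) (8592052272) (Nat.ble 423 i)) (Nat.ble 422 i)) (Nat.ble 420 i)) (Bool.rec (motive := fun _ => Nat) (Bool.rec (motive := fun _ => Nat) (Bool.rec (motive := fun _ => Nat) (5) (9) (Nat.ble 425 i)) (Bool.rec (motive := fun _ => Nat) (8859439152) (8592052272) (Nat.ble 427 i)) (Nat.ble 426 i)) (Bool.rec (motive := fun _ => Nat) (Bool.rec (motive := fun _ => Nat) (5) (13) (Nat.ble 429 i)) (Bool.rec (motive := fun _ => Nat) (13) (13) (Nat.ble 431 i)) (Nat.ble 430 i)) (Nat.ble 428 i)) (Nat.ble 424 i)) (Bool.rec (motive := fun _ => Nat) (Bool.rec (motive := fun _ => Nat) (Bool.rec (motive := fun _ => Nat) (Bool.rec (motive := fun _ => Nat) (5) (13) (Nat.ble 433 i)) (Bool.rec (motive := fun _ => Nat) (13) (13) (Nat.ble 435 i)) (Nat.ble 434 i)) (Bool.rec (motive := fun _ => Nat) (Bool.rec (motive := fun _ => Nat) (5) (9) (Nat.ble 437 i)) (Bool.rec (motive := fun _ => Nat) (68183674928) (68453158960) (Nat.ble 439 i)) (Nat.ble 438 i)) (Nat.ble 436 i)) (Bool.rec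 (motive := fun _ => Nat) (Bool.rec (motive := fun _ => Nat) (Bool.rec (motive := fun _ => Nat) (5) (68183674928) (Nat.ble 441 i)) (Bool.rec (motive := fun _ => Nat) (9) (68453158960) (Nat.ble 443 i)) (Nat.ble 442 i)) (Bool.rec (motive := fun _ => Nat) (Bool.rec (motive := fun _ => Nat) (5) (27373097012) (Nat.ble 445 i)) (Bool.rec (motive := fun _ => Nat) (42138095668) (9) (Nat.ble 447 i)) (Nat.ble 446 i)) (Nat.ble 444 i)) (Nat.ble 440 i)) (Nat.ble 432 i)) (Nat.ble 416 i)) (Bool.rec (motive := fun _ => Nat) (Bool.rec (motive := fun _ => Nat) (Bool.rec (motive := fun _ => Nat) (Bool.rec (motive := fun _ => Nat) (Bool.rec (motive := fun _ => Nat) (Bool.rec (motive := fun _ => Nat) (5) (37922820148) (Nat.ble 449 i)) (Bool.rec (motive := fun _ => Nat) (54564769844) (9) (Nat.ble 451 i)) (Nat.ble 450 i)) (Bool.rec (motive := fun _ => Nat) (Bool.rec (motive := fun _ => Nat) (5) (17449373744) (Nat.ble 453 i)) (Bool.rec (motive := fun _ => Nat) (9) (17181986864)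 (Nat.ble 455 i)) (Nat.ble 454 i)) (Nat.ble 452 i)) (Bool.rec (motive := fun _ => Nat) (Bool.rec (motive := fun _ => Nat) (Bool.rec (motive := fun _ => Nat) (5) (9) (Nat.ble 457 i)) (Bool.rec (motive := fun _ => Nat) (17449373744) (17181986864) (Nat.ble 459 i)) (Nat.ble 458 i)) (Bool.rec (motive := fun _ => Nat) (Bool.rec (motive := fun _ => Nat) (5) (13) (Nat.ble 461 i)) (Bool.rec (motive := fun _ => Nat) (13) (13) (Nat.ble 463 i)) (Nat.ble 462 i)) (Nat.ble 460 i)) (Nat.ble 456 i)) (Bool.rec (motive := fun _ => Nat) (Bool.rec (motive := fun _ => Nat) (Bool.rec (motive := fun _ => Nat) (Bool.rec (motive := fun _ => Nat) (5) (13) (Nat.ble 465 i)) (Bool.rec (motive := fun _ => Nat) (13) (13) (Nat.ble 467 i)) (Nat.ble 466 i)) (Bool.rec (motive := fun _ => Nat) (Bool.rec (motive := fun _ => Nat) (5) (9) (Nat.ble 469 i)) (Bool.rec (motive := fun _ => Nat) (34629242928) (34361856048) (Nat.ble 471 i)) (Nat.ble 470 i)) (Nat.ble 468 i)) (Bool.rec (motive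 := fun _ => Nat) (Bool.rec (motive := fun _ => Nat) (Bool.rec (motive := fun _ => Nat) (5) (34629242928) (Nat.ble 473 i)) (Bool.rec (motive := fun _ => Nat) (9) (34361856048) (Nat.ble 475 i)) (Nat.ble 474 i)) (Bool.rec (motive := fun _ => Nat) (Bool.rec (motive := fun _ => Nat) (5) (14367608884) (Nat.ble 477 i)) (Bool.rec (motive := fun _ => Nat) (48189427764) (9) (Nat.ble 479 i)) (Nat.ble 478 i)) (Nat.ble 476 i)) (Nat.ble 472 i)) (Nat.ble 464 i)) (Bool.rec (motive := fun _ => Nat) (Bool.rec (motive := fun _ => Nat) (Bool.rec (motive := fun _ => Nat) (Bool.rec (motive := fun _ => Nat) (Bool.rec (motive := fun _ => Nat) (5) (13) (Nat.ble 481 i)) (Bool.rec (motive := fun _ => Nat) (13) (13) (Nat.ble 483 i)) (Nat.ble 482 i)) (Bool.rec (motive := fun _ => Nat) (Bool.rec (motive := fun _ => Nat) (5) (9) (Nat.ble 485 i)) (Bool.rec (motive := fun _ => Nat) (241) (241) (Nat.ble 487 i)) (Nat.ble 486 i)) (Nat.ble 484 i)) (Bool.rec (motive := fun _ => Nat)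 (Bool.rec (motive := fun _ => Nat) (Bool.rec (motive := fun _ => Nat) (5) (241) (Nat.ble 489 i)) (Bool.rec (motive := fun _ => Nat) (9) (241) (Nat.ble 491 i)) (Nat.ble 490 i)) (Bool.rec (motive := fun _ => Nat) (Bool.rec (motive := fun _ => Nat) (5) (241) (Nat.ble 493 i)) (Bool.rec (motive := fun _ => Nat) (241) (9) (Nat.ble 495 i)) (Nat.ble 494 i)) (Nat.ble 492 i)) (Nat.ble 488 i)) (Bool.rec (motive := fun _ => Nat) (Bool.rec (motive := fun _ => Nat) (Bool.rec (motive := fun _ => Nat) (Bool.rec (motive := fun _ => Nat) (5) (60370735156) (Nat.ble 497 i)) (Bool.rec (motive := fun _ => Nat) (1582321716) (9) (Nat.ble 499 i)) (Nat.ble 498 i)) (Bool.rec (motive := fun _ => Nat) (Bool.rec (motive := fun _ => Nat) (5) (34629242928) (Nat.ble 501 i)) (Bool.rec (motive := fun _ => Nat) (9) (34361856048) (Nat.ble 503 i)) (Nat.ble 502 i)) (Nat.ble 500 i)) (Bool.rec (motive := fun _ => Nat) (Bool.rec (motive := fun _ => Nat) (Bool.rec (motive := fun _ => Nat)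 (5) (9) (Nat.ble 505 i)) (Bool.rec (motive := fun _ => Nat) (34629242928) (34361856048) (Nat.ble 507 i)) (Nat.ble 506 i)) (Bool.rec (motive := fun _ => Nat) (Bool.rec (motive := fun _ => Nat) (5) (13) (Nat.ble 509 i)) (Bool.rec (motive := fun _ => Nat) (13) (13) (Nat.ble 511 i)) (Nat.ble 510 i)) (Nat.ble 508 i)) (Nat.ble 504 i)) (Nat.ble 496 i)) (Nat.ble 480 i)) (Nat.ble 448 i)) (Nat.ble 384 i)) (Nat.ble 256 i)) (Bool.rec (motive := fun _ => Nat) (Bool.rec (motive := fun _ => Nat) (Bool.rec (motive := fun _ => Nat) (Bool.rec (motive := fun _ => Nat) (Bool.rec (motive := fun _ => Nat) (Bool.rec (motive := fun _ => Nat) (Bool.rec (motive := fun _ => Nat) (Bool.rec (motive := fun _ => Nat) (Bool.rec (motive := fun _ => Nat) (5) (10) (Nat.ble 513 i)) (Bool.rec (motive := fun _ => Nat) (49677447236) (9) (Nat.ble 515 i)) (Nat.ble 514 i)) (Bool.rec (motive := fun _ => Nat) (Bool.rec (motive := fun _ => Nat) (5) (68183674928) (Nat.ble 517 i)) (Bool.rec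 (motive := fun _ => Nat) (9) (68453158960) (Nat.ble 519 i)) (Nat.ble 518 i)) (Nat.ble 516 i)) (Bool.rec (motive := fun _ => Nat) (Bool.rec (motive := fun _ => Nat) (Bool.rec (motive := fun _ => Nat) (5) (9) (Nat.ble 521 i)) (Bool.rec (motive := fun _ => Nat) (68183674928) (68453158960) (Nat.ble 523 i)) (Nat.ble 522 i)) (Bool.rec (motive := fun _ => Nat) (Bool.rec (motive := fun _ => Nat) (5) (13) (Nat.ble 525 i)) (Bool.rec (motive := fun _ => Nat) (13) (13) (Nat.ble 527 i)) (Nat.ble 526 i)) (Nat.ble 524 i)) (Nat.ble 520 i)) (Bool.rec (motive := fun _ => Nat) (Bool.rec (motive := fun _ => Nat) (Bool.rec (motive := fun _ => Nat) (Bool.rec (motive := fun _ => Nat) (5) (13) (Nat.ble 529 i)) (Bool.rec (motive := fun _ => Nat) (13) (13) (Nat.ble 531 i)) (Nat.ble 530 i)) (Bool.rec (motive := fun _ => Nat) (Bool.rec (motive := fun _ => Nat) (5) (9) (Nat.ble 533 i)) (Bool.rec (motive := fun _ => Nat) (17449373744) (17181986864) (Nat.ble 535 i)) (Nat.ble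 534 i)) (Nat.ble 532 i)) (Bool.rec (motive := fun _ => Nat) (Bool.rec (motive := fun _ => Nat) (Bool.rec (motive := fun _ => Nat) (5) (17449373744) (Nat.ble 537 i)) (Bool.rec (motive := fun _ => Nat) (9) (17181986864) (Nat.ble 539 i)) (Nat.ble 538 i)) (Bool.rec (motive := fun _ => Nat) (Bool.rec (motive := fun _ => Nat) (5) (50858053684) (Nat.ble 541 i)) (Bool.rec (motive := fun _ => Nat) (54615101492) (9) (Nat.ble 543 i)) (Nat.ble 542 i)) (Nat.ble 540 i)) (Nat.ble 536 i)) (Nat.ble 528 i)) (Bool.rec (motive := fun _ => Nat) (Bool.rec (motive := fun _ => Nat) (Bool.rec (motive := fun _ => Nat) (Bool.rec (motive := fun _ => Nat) (Bool.rec (motive := fun _ => Nat) (5) (13) (Nat.ble 545 i)) (Bool.rec (motive := fun _ => Nat) (13) (13) (Nat.ble 547 i)) (Nat.ble 546 i)) (Bool.rec (motive := fun _ => Nat) (Bool.rec (motive := fun _ => Nat) (5) (9) (Nat.ble 549 i)) (Bool.rec (motive := fun _ => Nat) (2416988208) (2149601328) (Nat.ble 551 i)) (Nat.ble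 550 i)) (Nat.ble 548 i)) (Bool.rec (motive := fun _ => Nat) (Bool.rec (motive := fun _ => Nat) (Bool.rec (motive := fun _ => Nat) (5) (2416988208) (Nat.ble 553 i)) (Bool.rec (motive := fun _ => Nat) (9) (2149601328) (Nat.ble 555 i)) (Nat.ble 554 i)) (Bool.rec (motive := fun _ => Nat) (Bool.rec (motive := fun _ => Nat) (5) (4125118516) (Nat.ble 557 i)) (Bool.rec (motive := fun _ => Nat) (22109245492) (9) (Nat.ble 559 i)) (Nat.ble 558 i)) (Nat.ble 556 i)) (Nat.ble 552 i)) (Bool.rec (motive := fun _ => Nat) (Bool.rec (motive := fun _ => Nat) (Bool.rec (motive := fun _ => Nat) (Bool.rec (motive := fun _ => Nat) (5) (189) (Nat.ble 561 i)) (Bool.rec (motive := fun _ => Nat) (189) (9) (Nat.ble 563 i)) (Nat.ble 562 i)) (Bool.rec (motive := fun _ => Nat) (Bool.rec (motive := fun _ => Nat) (5) (189) (Nat.ble 565 i)) (Bool.rec (motive := fun _ => Nat) (9) (189) (Nat.ble 567 i)) (Nat.ble 566 i)) (Nat.ble 564 i)) (Bool.rec (motive := fun _ => Nat) (Bool.rec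 (motive := fun _ => Nat) (Bool.rec (motive := fun _ => Nat) (5) (9) (Nat.ble 569 i)) (Bool.rec (motive := fun _ => Nat) (189) (189) (Nat.ble 571 i)) (Nat.ble 570 i)) (Bool.rec (motive := fun _ => Nat) (Bool.rec (motive := fun _ => Nat) (5) (13) (Nat.ble 573 i)) (Bool.rec (motive := fun _ => Nat) (13) (13) (Nat.ble 575 i)) (Nat.ble 574 i)) (Nat.ble 572 i)) (Nat.ble 568 i)) (Nat.ble 560 i)) (Nat.ble 544 i)) (Bool.rec (motive := fun _ => Nat) (Bool.rec (motive := fun _ => Nat) (Bool.rec (motive := fun _ => Nat) (Bool.rec (motive := fun _ => Nat) (Bool.rec (motive := fun _ => Nat) (Bool.rec (motive := fun _ => Nat) (5) (13) (Nat.ble 577 i)) (Bool.rec (motive := fun _ => Nat) (13) (13) (Nat.ble 579 i)) (Nat.ble 578 i)) (Bool.rec (motive := fun _ => Nat) (Bool.rec (motive := fun _ => Nat) (5) (9) (Nat.ble 581 i)) (Bool.rec (motive := fun _ => Nat) (8859439152) (8592052272) (Nat.ble 583 i)) (Nat.ble 582 i)) (Nat.ble 580 i)) (Bool.rec (motive := fun _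 => Nat) (Bool.rec (motive := fun _ => Nat) (Bool.rec (motive := fun _ => Nat) (5) (8859439152) (Nat.ble 585 i)) (Bool.rec (motive := fun _ => Nat) (9) (8592052272) (Nat.ble 587 i)) (Nat.ble 586 i)) (Bool.rec (motive := fun _ => Nat) (Bool.rec (motive := fun _ => Nat) (5) (58960400436) (Nat.ble 589 i)) (Bool.rec (motive := fun _ => Nat) (33728516148) (9) (Nat.ble 591 i)) (Nat.ble 590 i)) (Nat.ble 588 i)) (Nat.ble 584 i)) (Bool.rec (motive := fun _ => Nat) (Bool.rec (motive := fun _ => Nat) (Bool.rec (motive := fun _ => Nat) (Bool.rec (motive := fun _ => Nat) (5) (42196820020) (Nat.ble 593 i)) (Bool.rec (motive := fun _ => Nat) (42464202804) (9) (Nat.ble 595 i)) (Nat.ble 594 i)) (Bool.rec (motive := fun _ => Nat) (Bool.rec (motive := fun _ => Nat) (5) (17449373744) (Nat.ble 597 i)) (Bool.rec (motive := fun _ => Nat) (9) (17181986864) (Nat.ble 599 i)) (Nat.ble 598 i)) (Nat.ble 596 i)) (Bool.rec (motive := fun _ => Nat) (Bool.rec (motive := fun _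 => Nat) (Bool.rec (motive := fun _ => Nat) (5) (9) (Nat.ble 601 i)) (Bool.rec (motive := fun _ => Nat) (17449373744) (17181986864) (Nat.ble 603 i)) (Nat.ble 602 i)) (Bool.rec (motive := fun _ => Nat) (Bool.rec (motive := fun _ => Nat) (5) (13) (Nat.ble 605 i)) (Bool.rec (motive := fun _ => Nat) (13) (13) (Nat.ble 607 i)) (Nat.ble 606 i)) (Nat.ble 604 i)) (Nat.ble 600 i)) (Nat.ble 592 i)) (Bool.rec (motive := fun _ => Nat) (Bool.rec (motive := fun _ => Nat) (Bool.rec (motive := fun _ => Nat) (Bool.rec (motive := fun _ => Nat) (Bool.rec (motive := fun _ => Nat) (5) (241) (Nat.ble 609 i)) (Bool.rec (motive := fun _ => Nat) (241) (9) (Nat.ble 611 i)) (Nat.ble 610 i)) (Bool.rec (motive := fun _ => Nat) (Bool.rec (motive := fun _ => Nat) (5) (241) (Nat.ble 613 i)) (Bool.rec (motive := fun _ => Nat) (9) (241) (Nat.ble 615 i)) (Nat.ble 614 i)) (Nat.ble 612 i)) (Bool.rec (motive := fun _ => Nat) (Bool.rec (motive := fun _ => Nat) (Bool.rec (motive := fun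 _ => Nat) (5) (9) (Nat.ble 617 i)) (Bool.rec (motive := fun _ => Nat) (241) (241) (Nat.ble 619 i)) (Nat.ble 618 i)) (Bool.rec (motive := fun _ => Nat) (Bool.rec (motive := fun _ => Nat) (5) (13) (Nat.ble 621 i)) (Bool.rec (motive := fun _ => Nat) (13) (13) (Nat.ble 623 i)) (Nat.ble 622 i)) (Nat.ble 620 i)) (Nat.ble 616 i)) (Bool.rec (motive := fun _ => Nat) (Bool.rec (motive := fun _ => Nat) (Bool.rec (motive := fun _ => Nat) (Bool.rec (motive := fun _ => Nat) (5) (13) (Nat.ble 625 i)) (Bool.rec (motive := fun _ => Nat) (13) (13) (Nat.ble 627 i)) (Nat.ble 626 i)) (Bool.rec (motive := fun _ => Nat) (Bool.rec (motive := fun _ => Nat) (5) (9) (Nat.ble 629 i)) (Bool.rec (motive := fun _ => Nat) (2416988208) (2149601328) (Nat.ble 631 i)) (Nat.ble 630 i)) (Nat.ble 628 i)) (Bool.rec (motive := fun _ => Nat) (Bool.rec (motive := fun _ => Nat) (Bool.rec (motive := fun _ => Nat) (5) (2416988208) (Nat.ble 633 i)) (Bool.rec (motive := fun _ => Nat) (9) (2149601328)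 (Nat.ble 635 i)) (Nat.ble 634 i)) (Bool.rec (motive := fun _ => Nat) (Bool.rec (motive := fun _ => Nat) (5) (22903017524) (Nat.ble 637 i)) (Bool.rec (motive := fun _ => Nat) (23170408500) (9) (Nat.ble 639 i)) (Nat.ble 638 i)) (Nat.ble 636 i)) (Nat.ble 632 i)) (Nat.ble 624 i)) (Nat.ble 608 i)) (Nat.ble 576 i)) (Bool.rec (motive := fun _ => Nat) (Bool.rec (motive := fun _ => Nat) (Bool.rec (motive := fun _ => Nat) (Bool.rec (motive := fun _ => Nat) (Bool.rec (motive := fun _ => Nat) (Bool.rec (motive := fun _ => Nat) (Bool.rec (motive := fun _ => Nat) (5) (13) (Nat.ble 641 i)) (Bool.rec (motive := fun _ => Nat) (13) (13) (Nat.ble 643 i)) (Nat.ble 642 i)) (Bool.rec (motive := fun _ => Nat) (Bool.rec (motive := fun _ => Nat) (5) (9) (Nat.ble 645 i)) (Bool.rec (motive := fun _ => Nat) (4564471856) (4297084976) (Nat.ble 647 i)) (Nat.ble 646 i)) (Nat.ble 644 i)) (Bool.rec (motive := fun _ => Nat) (Bool.rec (motive := fun _ => Nat) (Bool.rec (motive :=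 fun _ => Nat) (5) (4564471856) (Nat.ble 649 i)) (Bool.rec (motive := fun _ => Nat) (9) (4297084976) (Nat.ble 651 i)) (Nat.ble 650 i)) (Bool.rec (motive := fun _ => Nat) (Bool.rec (motive := fun _ => Nat) (5) (7571787828) (Nat.ble 653 i)) (Bool.rec (motive := fun _ => Nat) (11330932788) (9) (Nat.ble 655 i)) (Nat.ble 654 i)) (Nat.ble 652 i)) (Nat.ble 648 i)) (Bool.rec (motive := fun _ => Nat) (Bool.rec (motive := fun _ => Nat) (Bool.rec (motive := fun _ => Nat) (Bool.rec (motive := fun _ => Nat) (5) (61624836148) (Nat.ble 657 i)) (Bool.rec (motive := fun _ => Nat) (61892218932) (9) (Nat.ble 659 i)) (Nat.ble 658 i)) (Bool.rec (motive := fun _ => Nat) (Bool.rec (motive := fun _ => Nat) (5) (68183674928) (Nat.ble 661 i)) (Bool.rec (motive := fun _ => Nat) (9) (68453158960) (Nat.ble 663 i)) (Nat.ble 662 i)) (Nat.ble 660 i)) (Bool.rec (motive := fun _ => Nat) (Bool.rec (motive := fun _ => Nat) (Bool.rec (motive := fun _ => Nat) (5) (9) (Nat.ble 665 i))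 (Bool.rec (motive := fun _ => Nat) (68183674928) (68453158960) (Nat.ble 667 i)) (Nat.ble 666 i)) (Bool.rec (motive := fun _ => Nat) (Bool.rec (motive := fun _ => Nat) (5) (13) (Nat.ble 669 i)) (Bool.rec (motive := fun _ => Nat) (13) (13) (Nat.ble 671 i)) (Nat.ble 670 i)) (Nat.ble 668 i)) (Nat.ble 664 i)) (Nat.ble 656 i)) (Bool.rec (motive := fun _ => Nat) (Bool.rec (motive := fun _ => Nat) (Bool.rec (motive := fun _ => Nat) (Bool.rec (motive := fun _ => Nat) (Bool.rec (motive := fun _ => Nat) (5) (62828597300) (Nat.ble 673 i)) (Bool.rec (motive := fun _ => Nat) (61216935988) (9) (Nat.ble 675 i)) (Nat.ble 674 i)) (Bool.rec (motive := fun _ => Nat) (Bool.rec (motive := fun _ => Nat) (5) (2416988208) (Nat.ble 677 i)) (Bool.rec (motive := fun _ => Nat) (9) (2149601328) (Nat.ble 679 i)) (Nat.ble 678 i)) (Nat.ble 676 i)) (Bool.rec (motive := fun _ => Nat) (Bool.rec (motive := fun _ => Nat) (Bool.rec (motive := fun _ => Nat) (5) (9) (Nat.ble 681 i))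 (Bool.rec (motive := fun _ => Nat) (2416988208) (2149601328) (Nat.ble 683 i)) (Nat.ble 682 i)) (Bool.rec (motive := fun _ => Nat) (Bool.rec (motive := fun _ => Nat) (5) (13) (Nat.ble 685 i)) (Bool.rec (motive := fun _ => Nat) (13) (13) (Nat.ble 687 i)) (Nat.ble 686 i)) (Nat.ble 684 i)) (Nat.ble 680 i)) (Bool.rec (motive := fun _ => Nat) (Bool.rec (motive := fun _ => Nat) (Bool.rec (motive := fun _ => Nat) (Bool.rec (motive := fun _ => Nat) (5) (13) (Nat.ble 689 i)) (Bool.rec (motive := fun _ => Nat) (13) (13) (Nat.ble 691 i)) (Nat.ble 690 i)) (Bool.rec (motive := fun _ => Nat) (Bool.rec (motive := fun _ => Nat) (5) (9) (Nat.ble 693 i)) (Bool.rec (motive := fun _ => Nat) (4564471856) (4297084976) (Nat.ble 695 i)) (Nat.ble 694 i)) (Nat.ble 692 i)) (Bool.rec (motive := fun _ => Nat) (Bool.rec (motive := fun _ => Nat) (Bool.rec (motive := fun _ => Nat) (5) (4564471856) (Nat.ble 697 i)) (Bool.rec (motive := fun _ => Nat) (9) (4297084976) (Nat.ble 699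 i)) (Nat.ble 698 i)) (Bool.rec (motive := fun _ => Nat) (Bool.rec (motive := fun _ => Nat) (5) (44314939444) (Nat.ble 701 i)) (Bool.rec (motive := fun _ => Nat) (48071987252) (9) (Nat.ble 703 i)) (Nat.ble 702 i)) (Nat.ble 700 i)) (Nat.ble 696 i)) (Nat.ble 688 i)) (Nat.ble 672 i)) (Bool.rec (motive := fun _ => Nat) (Bool.rec (motive := fun _ => Nat) (Bool.rec (motive := fun _ => Nat) (Bool.rec (motive := fun _ => Nat) (Bool.rec (motive := fun _ => Nat) (Bool.rec (motive := fun _ => Nat) (5) (189) (Nat.ble 705 i)) (Bool.rec (motive := fun _ => Nat) (189) (9) (Nat.ble 707 i)) (Nat.ble 706 i)) (Bool.rec (motive := fun _ => Nat) (Bool.rec (motive := fun _ => Nat) (5) (189) (Nat.ble 709 i)) (Bool.rec (motive := fun _ => Nat) (9) (189) (Nat.ble 711 i)) (Nat.ble 710 i)) (Nat.ble 708 i)) (Bool.rec (motive := fun _ => Nat) (Bool.rec (motive := fun _ => Nat) (Bool.rec (motive := fun _ => Nat) (5) (9) (Nat.ble 713 i)) (Bool.rec (motive := fun _ => Nat) (189)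 (189) (Nat.ble 715 i)) (Nat.ble 714 i)) (Bool.rec (motive := fun _ => Nat) (Bool.rec (motive := fun _ => Nat) (5) (13) (Nat.ble 717 i)) (Bool.rec (motive := fun _ => Nat) (13) (13) (Nat.ble 719 i)) (Nat.ble 718 i)) (Nat.ble 716 i)) (Nat.ble 712 i)) (Bool.rec (motive := fun _ => Nat) (Bool.rec (motive := fun _ => Nat) (Bool.rec (motive := fun _ => Nat) (Bool.rec (motive := fun _ => Nat) (5) (13) (Nat.ble 721 i)) (Bool.rec (motive := fun _ => Nat) (13) (13) (Nat.ble 723 i)) (Nat.ble 722 i)) (Bool.rec (motive := fun _ => Nat) (Bool.rec (motive := fun _ => Nat) (5) (9) (Nat.ble 725 i)) (Bool.rec (motive := fun _ => Nat) (241) (241) (Nat.ble 727 i)) (Nat.ble 726 i)) (Nat.ble 724 i)) (Bool.rec (motive := fun _ => Nat) (Bool.rec (motive := fun _ => Nat) (Bool.rec (motive := fun _ => Nat) (5) (241) (Nat.ble 729 i)) (Bool.rec (motive := fun _ => Nat) (9) (241) (Nat.ble 731 i)) (Nat.ble 730 i)) (Bool.rec (motive := fun _ => Nat) (Bool.rec (motive := fun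 _ => Nat) (5) (241) (Nat.ble 733 i)) (Bool.rec (motive := fun _ => Nat) (241) (9) (Nat.ble 735 i)) (Nat.ble 734 i)) (Nat.ble 732 i)) (Nat.ble 728 i)) (Nat.ble 720 i)) (Bool.rec (motive := fun _ => Nat) (Bool.rec (motive := fun _ => Nat) (Bool.rec (motive := fun _ => Nat) (Bool.rec (motive := fun _ => Nat) (Bool.rec (motive := fun _ => Nat) (5) (13) (Nat.ble 737 i)) (Bool.rec (motive := fun _ => Nat) (13) (13) (Nat.ble 739 i)) (Nat.ble 738 i)) (Bool.rec (motive := fun _ => Nat) (Bool.rec (motive := fun _ => Nat) (5) (9) (Nat.ble 741 i)) (Bool.rec (motive := fun _ => Nat) (8859439152) (8592052272) (Nat.ble 743 i)) (Nat.ble 742 i)) (Nat.ble 740 i)) (Bool.rec (motive := fun _ => Nat) (Bool.rec (motive := fun _ => Nat) (Bool.rec (motive := fun _ => Nat) (5) (8859439152) (Nat.ble 745 i)) (Bool.rec (motive := fun _ => Nat) (9) (8592052272) (Nat.ble 747 i)) (Nat.ble 746 i)) (Bool.rec (motive := fun _ => Nat) (Bool.rec (motive := fun _ => Nat) (5) (7325372468)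 (Nat.ble 749 i)) (Bool.rec (motive := fun _ => Nat) (7324327988) (9) (Nat.ble 751 i)) (Nat.ble 750 i)) (Nat.ble 748 i)) (Nat.ble 744 i)) (Bool.rec (motive := fun _ => Nat) (Bool.rec (motive := fun _ => Nat) (Bool.rec (motive := fun _ => Nat) (Bool.rec (motive := fun _ => Nat) (5) (6427791412) (Nat.ble 753 i)) (Bool.rec (motive := fun _ => Nat) (61456019508) (9) (Nat.ble 755 i)) (Nat.ble 754 i)) (Bool.rec (motive := fun _ => Nat) (Bool.rec (motive := fun _ => Nat) (5) (2416988208) (Nat.ble 757 i)) (Bool.rec (motive := fun _ => Nat) (9) (2149601328) (Nat.ble 759 i)) (Nat.ble 758 i)) (Nat.ble 756 i)) (Bool.rec (motive := fun _ => Nat) (Bool.rec (motive := fun _ => Nat) (Bool.rec (motive := fun _ => Nat) (5) (9) (Nat.ble 761 i)) (Bool.rec (motive := fun _ => Nat) (2416988208) (2149601328) (Nat.ble 763 i)) (Nat.ble 762 i)) (Bool.rec (motive := fun _ => Nat) (Bool.rec (motive := fun _ => Nat) (5) (13) (Nat.ble 765 i)) (Bool.rec (motive := fun _ => Nat)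 (13) (13) (Nat.ble 767 i)) (Nat.ble 766 i)) (Nat.ble 764 i)) (Nat.ble 760 i)) (Nat.ble 752 i)) (Nat.ble 736 i)) (Nat.ble 704 i)) (Nat.ble 640 i)) (Bool.rec (motive := fun _ => Nat) (Bool.rec (motive := fun _ => Nat) (Bool.rec (motive := fun _ => Nat) (Bool.rec (motive := fun _ => Nat) (Bool.rec (motive := fun _ => Nat) (Bool.rec (motive := fun _ => Nat) (Bool.rec (motive := fun _ => Nat) (Bool.rec (motive := fun _ => Nat) (5) (13) (Nat.ble 769 i)) (Bool.rec (motive := fun _ => Nat) (13) (13) (Nat.ble 771 i)) (Nat.ble 770 i)) (Bool.rec (motive := fun _ => Nat) (Bool.rec (motive := fun _ => Nat) (5) (9) (Nat.ble 773 i)) (Bool.rec (motive := fun _ => Nat) (1343246384) (1075859504) (Nat.ble 775 i)) (Nat.ble 774 i)) (Nat.ble 772 i)) (Bool.rec (motive := fun _ => Nat) (Bool.rec (motive := fun _ => Nat) (Bool.rec (motive := fun _ => Nat) (5) (1343246384) (Nat.ble 777 i)) (Bool.rec (motive := fun _ => Nat) (9) (1075859504) (Nat.ble 779 i)) (Nat.ble 778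 i)) (Bool.rec (motive := fun _ => Nat) (Bool.rec (motive := fun _ => Nat) (5) (57744052276) (Nat.ble 781 i)) (Bool.rec (motive := fun _ => Nat) (53987004468) (9) (Nat.ble 783 i)) (Nat.ble 782 i)) (Nat.ble 780 i)) (Nat.ble 776 i)) (Bool.rec (motive := fun _ => Nat) (Bool.rec (motive := fun _ => Nat) (Bool.rec (motive := fun _ => Nat) (Bool.rec (motive := fun _ => Nat) (5) (48013271092) (Nat.ble 785 i)) (Bool.rec (motive := fun _ => Nat) (47745880116) (9) (Nat.ble 787 i)) (Nat.ble 786 i)) (Bool.rec (motive := fun _ => Nat) (Bool.rec (motive := fun _ => Nat) (5) (1343246384) (Nat.ble 789 i)) (Bool.rec (motive := fun _ => Nat) (9) (1075859504) (Nat.ble 791 i)) (Nat.ble 790 i)) (Nat.ble 788 i)) (Bool.rec (motive := fun _ => Nat) (Bool.rec (motive := fun _ => Nat) (Bool.rec (motive := fun _ => Nat) (5) (9) (Nat.ble 793 i)) (Bool.rec (motive := fun _ => Nat) (1343246384) (1075859504) (Nat.ble 795 i)) (Nat.ble 794 i)) (Bool.rec (motive := fun _ => Nat)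 (Bool.rec (motive := fun _ => Nat) (5) (13) (Nat.ble 797 i)) (Bool.rec (motive := fun _ => Nat) (13) (13) (Nat.ble 799 i)) (Nat.ble 798 i)) (Nat.ble 796 i)) (Nat.ble 792 i)) (Nat.ble 784 i)) (Bool.rec (motive := fun _ => Nat) (Bool.rec (motive := fun _ => Nat) (Bool.rec (motive := fun _ => Nat) (Bool.rec (motive := fun _ => Nat) (Bool.rec (motive := fun _ => Nat) (5) (12123656244) (Nat.ble 801 i)) (Bool.rec (motive := fun _ => Nat) (12391047220) (9) (Nat.ble 803 i)) (Nat.ble 802 i)) (Bool.rec (motive := fun _ => Nat) (Bool.rec (motive := fun _ => Nat) (5) (68183674928) (Nat.ble 805 i)) (Bool.rec (motive := fun _ => Nat) (9) (68453158960) (Nat.ble 807 i)) (Nat.ble 806 i)) (Nat.ble 804 i)) (Bool.rec (motive := fun _ => Nat) (Bool.rec (motive := fun _ => Nat) (Bool.rec (motive := fun _ => Nat) (5) (9) (Nat.ble 809 i)) (Bool.rec (motive := fun _ => Nat) (68183674928) (68453158960) (Nat.ble 811 i)) (Nat.ble 810 i)) (Bool.rec (motive := fun _ => Nat)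 (Bool.rec (motive := fun _ => Nat) (5) (13) (Nat.ble 813 i)) (Bool.rec (motive := fun _ => Nat) (13) (13) (Nat.ble 815 i)) (Nat.ble 814 i)) (Nat.ble 812 i)) (Nat.ble 808 i)) (Bool.rec (motive := fun _ => Nat) (Bool.rec (motive := fun _ => Nat) (Bool.rec (motive := fun _ => Nat) (Bool.rec (motive := fun _ => Nat) (5) (13) (Nat.ble 817 i)) (Bool.rec (motive := fun _ => Nat) (13) (13) (Nat.ble 819 i)) (Nat.ble 818 i)) (Bool.rec (motive := fun _ => Nat) (Bool.rec (motive := fun _ => Nat) (5) (9) (Nat.ble 821 i)) (Bool.rec (motive := fun _ => Nat) (241) (241) (Nat.ble 823 i)) (Nat.ble 822 i)) (Nat.ble 820 i)) (Bool.rec (motive := fun _ => Nat) (Bool.rec (motive := fun _ => Nat) (Bool.rec (motive := fun _ => Nat) (5) (241) (Nat.ble 825 i)) (Bool.rec (motive := fun _ => Nat) (9) (241) (Nat.ble 827 i)) (Nat.ble 826 i)) (Bool.rec (motive := fun _ => Nat) (Bool.rec (motive := fun _ => Nat) (5) (241) (Nat.ble 829 i)) (Bool.rec (motive := fun _ => Nat) (241)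 (9) (Nat.ble 831 i)) (Nat.ble 830 i)) (Nat.ble 828 i)) (Nat.ble 824 i)) (Nat.ble 816 i)) (Nat.ble 800 i)) (Bool.rec (motive := fun _ => Nat) (Bool.rec (motive := fun _ => Nat) (Bool.rec (motive := fun _ => Nat) (Bool.rec (motive := fun _ => Nat) (Bool.rec (motive := fun _ => Nat) (Bool.rec (motive := fun _ => Nat) (5) (30850195508) (Nat.ble 833 i)) (Bool.rec (motive := fun _ => Nat) (30582804532) (9) (Nat.ble 835 i)) (Nat.ble 834 i)) (Bool.rec (motive := fun _ => Nat) (Bool.rec (motive := fun _ => Nat) (5) (8859439152) (Nat.ble 837 i)) (Bool.rec (motive := fun _ => Nat) (9) (8592052272) (Nat.ble 839 i)) (Nat.ble 838 i)) (Nat.ble 836 i)) (Bool.rec (motive := fun _ => Nat) (Bool.rec (motive := fun _ => Nat) (Bool.rec (motive := fun _ => Nat) (5) (9) (Nat.ble 841 i)) (Bool.rec (motive := fun _ => Nat) (8859439152) (8592052272) (Nat.ble 843 i)) (Nat.ble 842 i)) (Bool.rec (motive := fun _ => Nat) (Bool.rec (motive := fun _ => Nat) (5) (13) (Nat.ble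 845 i)) (Bool.rec (motive := fun _ => Nat) (13) (13) (Nat.ble 847 i)) (Nat.ble 846 i)) (Nat.ble 844 i)) (Nat.ble 840 i)) (Bool.rec (motive := fun _ => Nat) (Bool.rec (motive := fun _ => Nat) (Bool.rec (motive := fun _ => Nat) (Bool.rec (motive := fun _ => Nat) (5) (13) (Nat.ble 849 i)) (Bool.rec (motive := fun _ => Nat) (13) (13) (Nat.ble 851 i)) (Nat.ble 850 i)) (Bool.rec (motive := fun _ => Nat) (Bool.rec (motive := fun _ => Nat) (5) (9) (Nat.ble 853 i)) (Bool.rec (motive := fun _ => Nat) (189) (189) (Nat.ble 855 i)) (Nat.ble 854 i)) (Nat.ble 852 i)) (Bool.rec (motive := fun _ => Nat) (Bool.rec (motive := fun _ => Nat) (Bool.rec (motive := fun _ => Nat) (5) (189) (Nat.ble 857 i)) (Bool.rec (motive := fun _ => Nat) (9) (189) (Nat.ble 859 i)) (Nat.ble 858 i)) (Bool.rec (motive := fun _ => Nat) (Bool.rec (motive := fun _ => Nat) (5) (189) (Nat.ble 861 i)) (Bool.rec (motive := fun _ => Nat) (189) (9) (Nat.ble 863 i)) (Nat.ble 862 i)) (Nat.ble 860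 i)) (Nat.ble 856 i)) (Nat.ble 848 i)) (Bool.rec (motive := fun _ => Nat) (Bool.rec (motive := fun _ => Nat) (Bool.rec (motive := fun _ => Nat) (Bool.rec (motive := fun _ => Nat) (Bool.rec (motive := fun _ => Nat) (5) (13) (Nat.ble 865 i)) (Bool.rec (motive := fun _ => Nat) (13) (13) (Nat.ble 867 i)) (Nat.ble 866 i)) (Bool.rec (motive := fun _ => Nat) (Bool.rec (motive := fun _ => Nat) (5) (9) (Nat.ble 869 i)) (Bool.rec (motive := fun _ => Nat) (1343246384) (1075859504) (Nat.ble 871 i)) (Nat.ble 870 i)) (Nat.ble 868 i)) (Bool.rec (motive := fun _ => Nat) (Bool.rec (motive := fun _ => Nat) (Bool.rec (motive := fun _ => Nat) (5) (1343246384) (Nat.ble 873 i)) (Bool.rec (motive := fun _ => Nat) (9) (1075859504) (Nat.ble 875 i)) (Nat.ble 874 i)) (Bool.rec (motive := fun _ => Nat) (Bool.rec (motive := fun _ => Nat) (5) (47808798772) (Nat.ble 877 i)) (Bool.rec (motive := fun _ => Nat) (47539310644) (9) (Nat.ble 879 i)) (Nat.ble 878 i)) (Nat.ble 876 i))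 (Nat.ble 872 i)) (Bool.rec (motive := fun _ => Nat) (Bool.rec (motive := fun _ => Nat) (Bool.rec (motive := fun _ => Nat) (Bool.rec (motive := fun _ => Nat) (5) (23828910132) (Nat.ble 881 i)) (Bool.rec (motive := fun _ => Nat) (42620440628) (9) (Nat.ble 883 i)) (Nat.ble 882 i)) (Bool.rec (motive := fun _ => Nat) (Bool.rec (motive := fun _ => Nat) (5) (1343246384) (Nat.ble 885 i)) (Bool.rec (motive := fun _ => Nat) (9) (1075859504) (Nat.ble 887 i)) (Nat.ble 886 i)) (Nat.ble 884 i)) (Bool.rec (motive := fun _ => Nat) (Bool.rec (motive := fun _ => Nat) (Bool.rec (motive := fun _ => Nat) (5) (9) (Nat.ble 889 i)) (Bool.rec (motive := fun _ => Nat) (1343246384) (1075859504) (Nat.ble 891 i)) (Nat.ble 890 i)) (Bool.rec (motive := fun _ => Nat) (Bool.rec (motive := fun _ => Nat) (5) (13) (Nat.ble 893 i)) (Bool.rec (motive := fun _ => Nat) (13) (13) (Nat.ble 895 i)) (Nat.ble 894 i)) (Nat.ble 892 i)) (Nat.ble 888 i)) (Nat.ble 880 i)) (Nat.ble 864 i)) (Nat.ble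 832 i)) (Bool.rec (motive := fun _ => Nat) (Bool.rec (motive := fun _ => Nat) (Bool.rec (motive := fun _ => Nat) (Bool.rec (motive := fun _ => Nat) (Bool.rec (motive := fun _ => Nat) (Bool.rec (motive := fun _ => Nat) (Bool.rec (motive := fun _ => Nat) (5) (241) (Nat.ble 897 i)) (Bool.rec (motive := fun _ => Nat) (241) (9) (Nat.ble 899 i)) (Nat.ble 898 i)) (Bool.rec (motive := fun _ => Nat) (Bool.rec (motive := fun _ => Nat) (5) (241) (Nat.ble 901 i)) (Bool.rec (motive := fun _ => Nat) (9) (241) (Nat.ble 903 i)) (Nat.ble 902 i)) (Nat.ble 900 i)) (Bool.rec (motive := fun _ => Nat) (Bool.rec (motive := fun _ => Nat) (Bool.rec (motive := fun _ => Nat) (5) (9) (Nat.ble 905 i)) (Bool.rec (motive := fun _ => Nat) (241) (241) (Nat.ble 907 i)) (Nat.ble 906 i)) (Bool.rec (motive := fun _ => Nat) (Bool.rec (motive := fun _ => Nat) (5) (13) (Nat.ble 909 i)) (Bool.rec (motive := fun _ => Nat) (13) (13) (Nat.ble 911 i)) (Nat.ble 910 i)) (Nat.ble 908 i)) (Nat.ble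 904 i)) (Bool.rec (motive := fun _ => Nat) (Bool.rec (motive := fun _ => Nat) (Bool.rec (motive := fun _ => Nat) (Bool.rec (motive := fun _ => Nat) (5) (13) (Nat.ble 913 i)) (Bool.rec (motive := fun _ => Nat) (13) (13) (Nat.ble 915 i)) (Nat.ble 914 i)) (Bool.rec (motive := fun _ => Nat) (Bool.rec (motive := fun _ => Nat) (5) (9) (Nat.ble 917 i)) (Bool.rec (motive := fun _ => Nat) (17449373744) (17181986864) (Nat.ble 919 i)) (Nat.ble 918 i)) (Nat.ble 916 i)) (Bool.rec (motive := fun _ => Nat) (Bool.rec (motive := fun _ => Nat) (Bool.rec (motive := fun _ => Nat) (5) (17449373744) (Nat.ble 921 i)) (Bool.rec (motive := fun _ => Nat) (9) (17181986864) (Nat.ble 923 i)) (Nat.ble 922 i)) (Bool.rec (motive := fun _ => Nat) (Bool.rec (motive := fun _ => Nat) (5) (32880218164) (Nat.ble 925 i)) (Bool.rec (motive := fun _ => Nat) (32612835380) (9) (Nat.ble 927 i)) (Nat.ble 926 i)) (Nat.ble 924 i)) (Nat.ble 920 i)) (Nat.ble 912 i)) (Bool.rec (motive := fun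 _ => Nat) (Bool.rec (motive := fun _ => Nat) (Bool.rec (motive := fun _ => Nat) (Bool.rec (motive := fun _ => Nat) (Bool.rec (motive := fun _ => Nat) (5) (13) (Nat.ble 929 i)) (Bool.rec (motive := fun _ => Nat) (13) (13) (Nat.ble 931 i)) (Nat.ble 930 i)) (Bool.rec (motive := fun _ => Nat) (Bool.rec (motive := fun _ => Nat) (5) (9) (Nat.ble 933 i)) (Bool.rec (motive := fun _ => Nat) (189) (189) (Nat.ble 935 i)) (Nat.ble 934 i)) (Nat.ble 932 i)) (Bool.rec (motive := fun _ => Nat) (Bool.rec (motive := fun _ => Nat) (Bool.rec (motive := fun _ => Nat) (5) (189) (Nat.ble 937 i)) (Bool.rec (motive := fun _ => Nat) (9) (189) (Nat.ble 939 i)) (Nat.ble 938 i)) (Bool.rec (motive := fun _ => Nat) (Bool.rec (motive := fun _ => Nat) (5) (189) (Nat.ble 941 i)) (Bool.rec (motive := fun _ => Nat) (189) (9) (Nat.ble 943 i)) (Nat.ble 942 i)) (Nat.ble 940 i)) (Nat.ble 936 i)) (Bool.rec (motive := fun _ => Nat) (Bool.rec (motive := fun _ => Nat) (Bool.rec (motive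 := fun _ => Nat) (Bool.rec (motive := fun _ => Nat) (5) (66791166004) (Nat.ble 945 i)) (Bool.rec (motive := fun _ => Nat) (11494510644) (9) (Nat.ble 947 i)) (Nat.ble 946 i)) (Bool.rec (motive := fun _ => Nat) (Bool.rec (motive := fun _ => Nat) (5) (68183674928) (Nat.ble 949 i)) (Bool.rec (motive := fun _ => Nat) (9) (68453158960) (Nat.ble 951 i)) (Nat.ble 950 i)) (Nat.ble 948 i)) (Bool.rec (motive := fun _ => Nat) (Bool.rec (motive := fun _ => Nat) (Bool.rec (motive := fun _ => Nat) (5) (9) (Nat.ble 953 i)) (Bool.rec (motive := fun _ => Nat) (68183674928) (68453158960) (Nat.ble 955 i)) (Nat.ble 954 i)) (Bool.rec (motive := fun _ => Nat) (Bool.rec (motive := fun _ => Nat) (5) (13) (Nat.ble 957 i)) (Bool.rec (motive := fun _ => Nat) (13) (13) (Nat.ble 959 i)) (Nat.ble 958 i)) (Nat.ble 956 i)) (Nat.ble 952 i)) (Nat.ble 944 i)) (Nat.ble 928 i)) (Bool.rec (motive := fun _ => Nat) (Bool.rec (motive := fun _ => Nat) (Bool.rec (motive := fun _ => Nat)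 (Bool.rec (motive := fun _ => Nat) (Bool.rec (motive := fun _ => Nat) (Bool.rec (motive := fun _ => Nat) (5) (13) (Nat.ble 961 i)) (Bool.rec (motive := fun _ => Nat) (13) (13) (Nat.ble 963 i)) (Nat.ble 962 i)) (Bool.rec (motive := fun _ => Nat) (Bool.rec (motive := fun _ => Nat) (5) (9) (Nat.ble 965 i)) (Bool.rec (motive := fun _ => Nat) (4564471856) (4297084976) (Nat.ble 967 i)) (Nat.ble 966 i)) (Nat.ble 964 i)) (Bool.rec (motive := fun _ => Nat) (Bool.rec (motive := fun _ => Nat) (Bool.rec (motive := fun _ => Nat) (5) (4564471856) (Nat.ble 969 i)) (Bool.rec (motive := fun _ => Nat) (9) (4297084976) (Nat.ble 971 i)) (Nat.ble 970 i)) (Bool.rec (motive := fun _ => Nat) (Bool.rec (motive := fun _ => Nat) (5) (52543115316) (Nat.ble 973 i)) (Bool.rec (motive := fun _ => Nat) (52544167988) (9) (Nat.ble 975 i)) (Nat.ble 974 i)) (Nat.ble 972 i)) (Nat.ble 968 i)) (Bool.rec (motive := fun _ => Nat) (Bool.rec (motive := fun _ => Nat) (Bool.rec (motive :=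 fun _ => Nat) (Bool.rec (motive := fun _ => Nat) (5) (36319547444) (Nat.ble 977 i)) (Bool.rec (motive := fun _ => Nat) (54574215220) (9) (Nat.ble 979 i)) (Nat.ble 978 i)) (Bool.rec (motive := fun _ => Nat) (Bool.rec (motive := fun _ => Nat) (5) (17449373744) (Nat.ble 981 i)) (Bool.rec (motive := fun _ => Nat) (9) (17181986864) (Nat.ble 983 i)) (Nat.ble 982 i)) (Nat.ble 980 i)) (Bool.rec (motive := fun _ => Nat) (Bool.rec (motive := fun _ => Nat) (Bool.rec (motive := fun _ => Nat) (5) (9) (Nat.ble 985 i)) (Bool.rec (motive := fun _ => Nat) (17449373744) (17181986864) (Nat.ble 987 i)) (Nat.ble 986 i)) (Bool.rec (motive := fun _ => Nat) (Bool.rec (motive := fun _ => Nat) (5) (13) (Nat.ble 989 i)) (Bool.rec (motive := fun _ => Nat) (13) (13) (Nat.ble 991 i)) (Nat.ble 990 i)) (Nat.ble 988 i)) (Nat.ble 984 i)) (Nat.ble 976 i)) (Bool.rec (motive := fun _ => Nat) (Bool.rec (motive := fun _ => Nat) (Bool.rec (motive := fun _ => Nat) (Bool.rec (motive :=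 fun _ => Nat) (Bool.rec (motive := fun _ => Nat) (5) (65076744244) (Nat.ble 993 i)) (Bool.rec (motive := fun _ => Nat) (42527125556) (9) (Nat.ble 995 i)) (Nat.ble 994 i)) (Bool.rec (motive := fun _ => Nat) (Bool.rec (motive := fun _ => Nat) (5) (8859439152) (Nat.ble 997 i)) (Bool.rec (motive := fun _ => Nat) (9) (8592052272) (Nat.ble 999 i)) (Nat.ble 998 i)) (Nat.ble 996 i)) (Bool.rec (motive := fun _ => Nat) (Bool.rec (motive := fun _ => Nat) (Bool.rec (motive := fun _ => Nat) (5) (9) (Nat.ble 1001 i)) (Bool.rec (motive := fun _ => Nat) (8859439152) (8592052272) (Nat.ble 1003 i)) (Nat.ble 1002 i)) (Bool.rec (motive := fun _ => Nat) (Bool.rec (motive := fun _ => Nat) (5) (13) (Nat.ble 1005 i)) (Bool.rec (motive := fun _ => Nat) (13) (13) (Nat.ble 1007 i)) (Nat.ble 1006 i)) (Nat.ble 1004 i)) (Nat.ble 1000 i)) (Bool.rec (motive := fun _ => Nat) (Bool.rec (motive := fun _ => Nat) (Bool.rec (motive := fun _ => Nat) (Bool.rec (motive := fun _ => Nat)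 (5) (13) (Nat.ble 1009 i)) (Bool.rec (motive := fun _ => Nat) (13) (13) (Nat.ble 1011 i)) (Nat.ble 1010 i)) (Bool.rec (motive := fun _ => Nat) (Bool.rec (motive := fun _ => Nat) (5) (9) (Nat.ble 1013 i)) (Bool.rec (motive := fun _ => Nat) (4564471856) (4297084976) (Nat.ble 1015 i)) (Nat.ble 1014 i)) (Nat.ble 1012 i)) (Bool.rec (motive := fun _ => Nat) (Bool.rec (motive := fun _ => Nat) (Bool.rec (motive := fun _ => Nat) (5) (4564471856) (Nat.ble 1017 i)) (Bool.rec (motive := fun _ => Nat) (9) (4297084976) (Nat.ble 1019 i)) (Nat.ble 1018 i)) (Bool.rec (motive := fun _ => Nat) (Bool.rec (motive := fun _ => Nat) (5) (14) (Nat.ble 1021 i)) (Bool.rec (motive := fun _ => Nat) (58258993220) (9) (Nat.ble 1023 i)) (Nat.ble 1022 i)) (Nat.ble 1020 i)) (Nat.ble 1016 i)) (Nat.ble 1008 i)) (Nat.ble 992 i)) (Nat.ble 960 i)) (Nat.ble 896 i)) (Nat.ble 768 i)) (Nat.ble 512 i))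

/-- Elements realising the signs on the basis. -/
noncomputable def sgnT (i : Nat) : Nat := (Bool.rec (motive := fun _ => Nat) (Bool.rec (motive := fun _ => Nat) (Bool.rec (motive := fun _ => Nat) (Bool.rec (motive := fun _ => Nat) (Bool.rec (motive := fun _ => Nat) (Bool.rec (motive := fun _ => Nat) (Bool.rec (motive := fun _ => Nat) (Bool.rec (motive := fun _ => Nat) (0) (508) (Nat.ble 1 i)) (Bool.rec (motive := fun _ => Nat) (506) (6) (Nat.ble 3 i)) (Nat.ble 2 i)) (Bool.rec (motive := fun _ => Nat) (Bool.rec (motive := fun _ => Nat) (502) (10) (Nat.ble 5 i)) (Bool.rec (motive := fun _ => Nat) (12) (496) (Nat.ble 7 i)) (Nat.ble 6 i)) (Nat.ble 4 i)) (Bool.rec (motive := fun _ => Nat) (Bool.rec (motive := fun _ => Nat) (Bool.rec (motive := fun _ => Nat) (494) (18) (Nat.ble 9 i)) (Bool.rec (motive := fun _ => Nat) (20) (488) (Nat.ble 11 i)) (Nat.ble 10 i)) (Bool.rec (motive := fun _ => Nat) (Bool.rec (motive := fun _ => Nat) (24) (484) (Nat.ble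 13 i)) (Bool.rec (motive := fun _ => Nat) (482) (30) (Nat.ble 15 i)) (Nat.ble 14 i)) (Nat.ble 12 i)) (Nat.ble 8 i)) (Bool.rec (motive := fun _ => Nat) (Bool.rec (motive := fun _ => Nat) (Bool.rec (motive := fun _ => Nat) (Bool.rec (motive := fun _ => Nat) (478) (34) (Nat.ble 17 i)) (Bool.rec (motive := fun _ => Nat) (36) (472) (Nat.ble 19 i)) (Nat.ble 18 i)) (Bool.rec (motive := fun _ => Nat) (Bool.rec (motive := fun _ => Nat) (40) (468) (Nat.ble 21 i)) (Bool.rec (motive := fun _ => Nat) (466) (46) (Nat.ble 23 i)) (Nat.ble 22 i)) (Nat.ble 20 i)) (Bool.rec (motive := fun _ => Nat) (Bool.rec (motive := fun _ => Nat) (Bool.rec (motive := fun _ => Nat) (48) (460) (Nat.ble 25 i)) (Bool.rec (motive := fun _ => Nat) (458) (54) (Nat.ble 27 i)) (Nat.ble 26 i)) (Bool.rec (motive := fun _ => Nat) (Bool.rec (motive := fun _ => Nat) (454) (58) (Nat.ble 29 i)) (Bool.rec (motive := fun _ => Nat) (60) (448) (Nat.ble 31 i)) (Nat.ble 30 i)) (Nat.ble 28 i)) (Nat.ble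 24 i)) (Nat.ble 16 i)) (Bool.rec (motive := fun _ => Nat) (Bool.rec (motive := fun _ => Nat) (Bool.rec (motive := fun _ => Nat) (Bool.rec (motive := fun _ => Nat) (Bool.rec (motive := fun _ => Nat) (446) (66) (Nat.ble 33 i)) (Bool.rec (motive := fun _ => Nat) (68) (440) (Nat.ble 35 i)) (Nat.ble 34 i)) (Bool.rec (motive := fun _ => Nat) (Bool.rec (motive := fun _ => Nat) (72) (436) (Nat.ble 37 i)) (Bool.rec (motive := fun _ => Nat) (434) (78) (Nat.ble 39 i)) (Nat.ble 38 i)) (Nat.ble 36 i)) (Bool.rec (motive := fun _ => Nat) (Bool.rec (motive := fun _ => Nat) (Bool.rec (motive := fun _ => Nat) (80) (428) (Nat.ble 41 i)) (Bool.rec (motive := fun _ => Nat) (426) (86) (Nat.ble 43 i)) (Nat.ble 42 i)) (Bool.rec (motive := fun _ => Nat) (Bool.rec (motive := fun _ => Nat) (422) (90) (Nat.ble 45 i)) (Bool.rec (motive := fun _ => Nat) (92) (416) (Nat.ble 47 i)) (Nat.ble 46 i)) (Nat.ble 44 i)) (Nat.ble 40 i)) (Bool.rec (motive := fun _ => Nat) (Bool.rec (motive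 := fun _ => Nat) (Bool.rec (motive := fun _ => Nat) (Bool.rec (motive := fun _ => Nat) (96) (412) (Nat.ble 49 i)) (Bool.rec (motive := fun _ => Nat) (410) (102) (Nat.ble 51 i)) (Nat.ble 50 i)) (Bool.rec (motive := fun _ => Nat) (Bool.rec (motive := fun _ => Nat) (406) (106) (Nat.ble 53 i)) (Bool.rec (motive := fun _ => Nat) (108) (400) (Nat.ble 55 i)) (Nat.ble 54 i)) (Nat.ble 52 i)) (Bool.rec (motive := fun _ => Nat) (Bool.rec (motive := fun _ => Nat) (Bool.rec (motive := fun _ => Nat) (398) (114) (Nat.ble 57 i)) (Bool.rec (motive := fun _ => Nat) (116) (392) (Nat.ble 59 i)) (Nat.ble 58 i)) (Bool.rec (motive := fun _ => Nat) (Bool.rec (motive := fun _ => Nat) (120) (388) (Nat.ble 61 i)) (Bool.rec (motive := fun _ => Nat) (386) (126) (Nat.ble 63 i)) (Nat.ble 62 i)) (Nat.ble 60 i)) (Nat.ble 56 i)) (Nat.ble 48 i)) (Nat.ble 32 i)) (Bool.rec (motive := fun _ => Nat) (Bool.rec (motive := fun _ => Nat) (Bool.rec (motive := fun _ => Nat) (Bool.rec (motive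 := fun _ => Nat) (Bool.rec (motive := fun _ => Nat) (Bool.rec (motive := fun _ => Nat) (382) (130) (Nat.ble 65 i)) (Bool.rec (motive := fun _ => Nat) (132) (376) (Nat.ble 67 i)) (Nat.ble 66 i)) (Bool.rec (motive := fun _ => Nat) (Bool.rec (motive := fun _ => Nat) (136) (372) (Nat.ble 69 i)) (Bool.rec (motive := fun _ => Nat) (370) (142) (Nat.ble 71 i)) (Nat.ble 70 i)) (Nat.ble 68 i)) (Bool.rec (motive := fun _ => Nat) (Bool.rec (motive := fun _ => Nat) (Bool.rec (motive := fun _ => Nat) (144) (364) (Nat.ble 73 i)) (Bool.rec (motive := fun _ => Nat) (362) (150) (Nat.ble 75 i)) (Nat.ble 74 i)) (Bool.rec (motive := fun _ => Nat) (Bool.rec (motive := fun _ => Nat) (358) (154) (Nat.ble 77 i)) (Bool.rec (motive := fun _ => Nat) (156) (352) (Nat.ble 79 i)) (Nat.ble 78 i)) (Nat.ble 76 i)) (Nat.ble 72 i)) (Bool.rec (motive := fun _ => Nat) (Bool.rec (motive := fun _ => Nat) (Bool.rec (motive := fun _ => Nat) (Bool.rec (motive := fun _ => Nat) (160) (348)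 (Nat.ble 81 i)) (Bool.rec (motive := fun _ => Nat) (346) (166) (Nat.ble 83 i)) (Nat.ble 82 i)) (Bool.rec (motive := fun _ => Nat) (Bool.rec (motive := fun _ => Nat) (342) (170) (Nat.ble 85 i)) (Bool.rec (motive := fun _ => Nat) (172) (336) (Nat.ble 87 i)) (Nat.ble 86 i)) (Nat.ble 84 i)) (Bool.rec (motive := fun _ => Nat) (Bool.rec (motive := fun _ => Nat) (Bool.rec (motive := fun _ => Nat) (334) (178) (Nat.ble 89 i)) (Bool.rec (motive := fun _ => Nat) (180) (328) (Nat.ble 91 i)) (Nat.ble 90 i)) (Bool.rec (motive := fun _ => Nat) (Bool.rec (motive := fun _ => Nat) (184) (324) (Nat.ble 93 i)) (Bool.rec (motive := fun _ => Nat) (322) (190) (Nat.ble 95 i)) (Nat.ble 94 i)) (Nat.ble 92 i)) (Nat.ble 88 i)) (Nat.ble 80 i)) (Bool.rec (motive := fun _ => Nat) (Bool.rec (motive := fun _ => Nat) (Bool.rec (motive := fun _ => Nat) (Bool.rec (motive := fun _ => Nat) (Bool.rec (motive := fun _ => Nat) (192) (316) (Nat.ble 97 i)) (Bool.rec (motive := fun _ =>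 Nat) (314) (198) (Nat.ble 99 i)) (Nat.ble 98 i)) (Bool.rec (motive := fun _ => Nat) (Bool.rec (motive := fun _ => Nat) (310) (202) (Nat.ble 101 i)) (Bool.rec (motive := fun _ => Nat) (204) (304) (Nat.ble 103 i)) (Nat.ble 102 i)) (Nat.ble 100 i)) (Bool.rec (motive := fun _ => Nat) (Bool.rec (motive := fun _ => Nat) (Bool.rec (motive := fun _ => Nat) (302) (210) (Nat.ble 105 i)) (Bool.rec (motive := fun _ => Nat) (212) (296) (Nat.ble 107 i)) (Nat.ble 106 i)) (Bool.rec (motive := fun _ => Nat) (Bool.rec (motive := fun _ => Nat) (216) (292) (Nat.ble 109 i)) (Bool.rec (motive := fun _ => Nat) (290) (222) (Nat.ble 111 i)) (Nat.ble 110 i)) (Nat.ble 108 i)) (Nat.ble 104 i)) (Bool.rec (motive := fun _ => Nat) (Bool.rec (motive := fun _ => Nat) (Bool.rec (motive := fun _ => Nat) (Bool.rec (motive := fun _ => Nat) (286) (226) (Nat.ble 113 i)) (Bool.rec (motive := fun _ => Nat) (228) (280) (Nat.ble 115 i)) (Nat.ble 114 i)) (Bool.rec (motive := fun _ => Nat)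 (Bool.rec (motive := fun _ => Nat) (232) (276) (Nat.ble 117 i)) (Bool.rec (motive := fun _ => Nat) (274) (238) (Nat.ble 119 i)) (Nat.ble 118 i)) (Nat.ble 116 i)) (Bool.rec (motive := fun _ => Nat) (Bool.rec (motive := fun _ => Nat) (Bool.rec (motive := fun _ => Nat) (240) (268) (Nat.ble 121 i)) (Bool.rec (motive := fun _ => Nat) (266) (246) (Nat.ble 123 i)) (Nat.ble 122 i)) (Bool.rec (motive := fun _ => Nat) (Bool.rec (motive := fun _ => Nat) (262) (250) (Nat.ble 125 i)) (Bool.rec (motive := fun _ => Nat) (252) (256) (Nat.ble 127 i)) (Nat.ble 126 i)) (Nat.ble 124 i)) (Nat.ble 120 i)) (Nat.ble 112 i)) (Nat.ble 96 i)) (Nat.ble 64 i)) (Bool.rec (motive := fun _ => Nat) (Bool.rec (motive := fun _ => Nat) (Bool.rec (motive := fun _ => Nat) (Bool.rec (motive := fun _ => Nat) (Bool.rec (motive := fun _ => Nat) (Bool.rec (motive := fun _ => Nat) (Bool.rec (motive := fun _ => Nat) (254) (258) (Nat.ble 129 i)) (Bool.rec (motive := fun _ => Nat) (260) (248)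 (Nat.ble 131 i)) (Nat.ble 130 i)) (Bool.rec (motive := fun _ => Nat) (Bool.rec (motive := fun _ => Nat) (264) (244) (Nat.ble 133 i)) (Bool.rec (motive := fun _ => Nat) (242) (270) (Nat.ble 135 i)) (Nat.ble 134 i)) (Nat.ble 132 i)) (Bool.rec (motive := fun _ => Nat) (Bool.rec (motive := fun _ => Nat) (Bool.rec (motive := fun _ => Nat) (272) (236) (Nat.ble 137 i)) (Bool.rec (motive := fun _ => Nat) (234) (278) (Nat.ble 139 i)) (Nat.ble 138 i)) (Bool.rec (motive := fun _ => Nat) (Bool.rec (motive := fun _ => Nat) (230) (282) (Nat.ble 141 i)) (Bool.rec (motive := fun _ => Nat) (284) (224) (Nat.ble 143 i)) (Nat.ble 142 i)) (Nat.ble 140 i)) (Nat.ble 136 i)) (Bool.rec (motive := fun _ => Nat) (Bool.rec (motive := fun _ => Nat) (Bool.rec (motive := fun _ => Nat) (Bool.rec (motive := fun _ => Nat) (288) (220) (Nat.ble 145 i)) (Bool.rec (motive := fun _ => Nat) (218) (294) (Nat.ble 147 i)) (Nat.ble 146 i)) (Bool.rec (motive := fun _ => Nat) (Bool.rec (motive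 := fun _ => Nat) (214) (298) (Nat.ble 149 i)) (Bool.rec (motive := fun _ => Nat) (300) (208) (Nat.ble 151 i)) (Nat.ble 150 i)) (Nat.ble 148 i)) (Bool.rec (motive := fun _ => Nat) (Bool.rec (motive := fun _ => Nat) (Bool.rec (motive := fun _ => Nat) (206) (306) (Nat.ble 153 i)) (Bool.rec (motive := fun _ => Nat) (308) (200) (Nat.ble 155 i)) (Nat.ble 154 i)) (Bool.rec (motive := fun _ => Nat) (Bool.rec (motive := fun _ => Nat) (312) (196) (Nat.ble 157 i)) (Bool.rec (motive := fun _ => Nat) (194) (318) (Nat.ble 159 i)) (Nat.ble 158 i)) (Nat.ble 156 i)) (Nat.ble 152 i)) (Nat.ble 144 i)) (Bool.rec (motive := fun _ => Nat) (Bool.rec (motive := fun _ => Nat) (Bool.rec (motive := fun _ => Nat) (Bool.rec (motive := fun _ => Nat) (Bool.rec (motive := fun _ => Nat) (320) (188) (Nat.ble 161 i)) (Bool.rec (motive := fun _ => Nat) (186) (326) (Nat.ble 163 i)) (Nat.ble 162 i)) (Bool.rec (motive := fun _ => Nat) (Bool.rec (motive := fun _ => Nat) (182) (330)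 (Nat.ble 165 i)) (Bool.rec (motive := fun _ => Nat) (332) (176) (Nat.ble 167 i)) (Nat.ble 166 i)) (Nat.ble 164 i)) (Bool.rec (motive := fun _ => Nat) (Bool.rec (motive := fun _ => Nat) (Bool.rec (motive := fun _ => Nat) (174) (338) (Nat.ble 169 i)) (Bool.rec (motive := fun _ => Nat) (340) (168) (Nat.ble 171 i)) (Nat.ble 170 i)) (Bool.rec (motive := fun _ => Nat) (Bool.rec (motive := fun _ => Nat) (344) (164) (Nat.ble 173 i)) (Bool.rec (motive := fun _ => Nat) (162) (350) (Nat.ble 175 i)) (Nat.ble 174 i)) (Nat.ble 172 i)) (Nat.ble 168 i)) (Bool.rec (motive := fun _ => Nat) (Bool.rec (motive := fun _ => Nat) (Bool.rec (motive := fun _ => Nat) (Bool.rec (motive := fun _ => Nat) (158) (354) (Nat.ble 177 i)) (Bool.rec (motive := fun _ => Nat) (356) (152) (Nat.ble 179 i)) (Nat.ble 178 i)) (Bool.rec (motive := fun _ => Nat) (Bool.rec (motive := fun _ => Nat) (360) (148) (Nat.ble 181 i)) (Bool.rec (motive := fun _ => Nat) (146) (366) (Nat.ble 183 i))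 (Nat.ble 182 i)) (Nat.ble 180 i)) (Bool.rec (motive := fun _ => Nat) (Bool.rec (motive := fun _ => Nat) (Bool.rec (motive := fun _ => Nat) (368) (140) (Nat.ble 185 i)) (Bool.rec (motive := fun _ => Nat) (138) (374) (Nat.ble 187 i)) (Nat.ble 186 i)) (Bool.rec (motive := fun _ => Nat) (Bool.rec (motive := fun _ => Nat) (134) (378) (Nat.ble 189 i)) (Bool.rec (motive := fun _ => Nat) (380) (128) (Nat.ble 191 i)) (Nat.ble 190 i)) (Nat.ble 188 i)) (Nat.ble 184 i)) (Nat.ble 176 i)) (Nat.ble 160 i)) (Bool.rec (motive := fun _ => Nat) (Bool.rec (motive := fun _ => Nat) (Bool.rec (motive := fun _ => Nat) (Bool.rec (motive := fun _ => Nat) (Bool.rec (motive := fun _ => Nat) (Bool.rec (motive := fun _ => Nat) (384) (124) (Nat.ble 193 i)) (Bool.rec (motive := fun _ => Nat) (122) (390) (Nat.ble 195 i)) (Nat.ble 194 i)) (Bool.rec (motive := fun _ => Nat) (Bool.rec (motive := fun _ => Nat) (118) (394) (Nat.ble 197 i)) (Bool.rec (motive := fun _ => Nat) (396)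 (112) (Nat.ble 199 i)) (Nat.ble 198 i)) (Nat.ble 196 i)) (Bool.rec (motive := fun _ => Nat) (Bool.rec (motive := fun _ => Nat) (Bool.rec (motive := fun _ => Nat) (110) (402) (Nat.ble 201 i)) (Bool.rec (motive := fun _ => Nat) (404) (104) (Nat.ble 203 i)) (Nat.ble 202 i)) (Bool.rec (motive := fun _ => Nat) (Bool.rec (motive := fun _ => Nat) (408) (100) (Nat.ble 205 i)) (Bool.rec (motive := fun _ => Nat) (98) (414) (Nat.ble 207 i)) (Nat.ble 206 i)) (Nat.ble 204 i)) (Nat.ble 200 i)) (Bool.rec (motive := fun _ => Nat) (Bool.rec (motive := fun _ => Nat) (Bool.rec (motive := fun _ => Nat) (Bool.rec (motive := fun _ => Nat) (94) (418) (Nat.ble 209 i)) (Bool.rec (motive := fun _ => Nat) (420) (88) (Nat.ble 211 i)) (Nat.ble 210 i)) (Bool.rec (motive := fun _ => Nat) (Bool.rec (motive := fun _ => Nat) (424) (84) (Nat.ble 213 i)) (Bool.rec (motive := fun _ => Nat) (82) (430) (Nat.ble 215 i)) (Nat.ble 214 i)) (Nat.ble 212 i)) (Bool.rec (motive := fun _ =>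 Nat) (Bool.rec (motive := fun _ => Nat) (Bool.rec (motive := fun _ => Nat) (432) (76) (Nat.ble 217 i)) (Bool.rec (motive := fun _ => Nat) (74) (438) (Nat.ble 219 i)) (Nat.ble 218 i)) (Bool.rec (motive := fun _ => Nat) (Bool.rec (motive := fun _ => Nat) (70) (442) (Nat.ble 221 i)) (Bool.rec (motive := fun _ => Nat) (444) (64) (Nat.ble 223 i)) (Nat.ble 222 i)) (Nat.ble 220 i)) (Nat.ble 216 i)) (Nat.ble 208 i)) (Bool.rec (motive := fun _ => Nat) (Bool.rec (motive := fun _ => Nat) (Bool.rec (motive := fun _ => Nat) (Bool.rec (motive := fun _ => Nat) (Bool.rec (motive := fun _ => Nat) (62) (450) (Nat.ble 225 i)) (Bool.rec (motive := fun _ => Nat) (452) (56) (Nat.ble 227 i)) (Nat.ble 226 i)) (Bool.rec (motive := fun _ => Nat) (Bool.rec (motive := fun _ => Nat) (456) (52) (Nat.ble 229 i)) (Bool.rec (motive := fun _ => Nat) (50) (462) (Nat.ble 231 i)) (Nat.ble 230 i)) (Nat.ble 228 i)) (Bool.rec (motive := fun _ => Nat) (Bool.rec (motive := fun _ => Nat)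 (Bool.rec (motive := fun _ => Nat) (464) (44) (Nat.ble 233 i)) (Bool.rec (motive := fun _ => Nat) (42) (470) (Nat.ble 235 i)) (Nat.ble 234 i)) (Bool.rec (motive := fun _ => Nat) (Bool.rec (motive := fun _ => Nat) (38) (474) (Nat.ble 237 i)) (Bool.rec (motive := fun _ => Nat) (476) (32) (Nat.ble 239 i)) (Nat.ble 238 i)) (Nat.ble 236 i)) (Nat.ble 232 i)) (Bool.rec (motive := fun _ => Nat) (Bool.rec (motive := fun _ => Nat) (Bool.rec (motive := fun _ => Nat) (Bool.rec (motive := fun _ => Nat) (480) (28) (Nat.ble 241 i)) (Bool.rec (motive := fun _ => Nat) (26) (486) (Nat.ble 243 i)) (Nat.ble 242 i)) (Bool.rec (motive := fun _ => Nat) (Bool.rec (motive := fun _ => Nat) (22) (490) (Nat.ble 245 i)) (Bool.rec (motive := fun _ => Nat) (492) (16) (Nat.ble 247 i)) (Nat.ble 246 i)) (Nat.ble 244 i)) (Bool.rec (motive := fun _ => Nat) (Bool.rec (motive := fun _ => Nat) (Bool.rec (motive := fun _ => Nat) (14) (498) (Nat.ble 249 i)) (Bool.rec (motive := fun _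 => Nat) (500) (8) (Nat.ble 251 i)) (Nat.ble 250 i)) (Bool.rec (motive := fun _ => Nat) (Bool.rec (motive := fun _ => Nat) (504) (4) (Nat.ble 253 i)) (Bool.rec (motive := fun _ => Nat) (2) (510) (Nat.ble 255 i)) (Nat.ble 254 i)) (Nat.ble 252 i)) (Nat.ble 248 i)) (Nat.ble 240 i)) (Nat.ble 224 i)) (Nat.ble 192 i)) (Nat.ble 128 i))

/-- The cyclic basis. -/
def bbL : List Nat := [4, 16, 128, 255, 32, 64, 8, 1]

/-- The letters with their matrices and permutations of the classes. -/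
def actL : List (Nat × List Nat × List Nat) := [(6, [2, 1, 4, 16, 8, 255, 128, 64], [0, 2, 1, 3, 6, 7, 4, 5, 9, 8, 10]),
  (8, [1, 4, 2, 32, 64, 8, 16, 255], [0, 1, 3, 2, 7, 9, 8, 4, 6, 5, 10]),
  (11, [1, 2, 16, 4, 128, 64, 8, 255], [0, 1, 2, 6, 3, 7, 9, 8, 4, 5, 10]),
  (14, [1, 177, 182, 165, 188, 244, 149, 75], [0, 1, 2, 3, 8, 5, 7, 6, 4, 9, 10])]

end CfsgLib.Coset.Th.Out
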