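import Cfsg.Agent.Coset.Th.OutC

/-!
An automorphism fixing the involution and the element of order seven acts on the coordinates as a
power of that element.
-/

set_option autoImplicit false
set_option maxRecDepth 100000
set_option Elab.async false
set_option linter.style.haveILetI false

namespace CfsgLib.Coset.Th.Out

open Cfsg.Spor (Th)
open CfsgLib.Coset.Th.Cent

variable {τ : A →* Equiv.Perm (Fin 17199)} {lab cnt : Nat → Nat → Nat}
  (D : frame_LG.EdgeData τ lab cnt)
theorem actS_eq : ∀ a ∈ actL, a.1 = 11 → ∀ v, actS v = actM a v := by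
  have h : ∀ a ∈ actL, a.1 = 11 → a = actL.getD 2 (0, [], []) := by decide +kernel
  intro a ha h11 v
  rw [h a ha h11]
  rfl

include D

/-- The action on the coordinates of an automorphism fixing two elements. -/
theorem coord_power (α : MulAut Th) (hz : α zT = zT) (hs : α sT = sT)
    (hC' : ∀ y, y ∈ CT → α.symm y ∈ CT) (hQ : ∀ q, q ∈ QT → α q ∈ QT) :
    ∃ j < 7, ∀ q ∈ QT, piQ (α q) = iterS j (piQ q) := by
  let F : Nat → Nat := fun v => piQ (α (rep8 v))
  have hFq : ∀ q ∈ QT, piQ (α q) = F (piQ q) := by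
    intro q hq
    rcases rep8_eq hq with h | h <;> conv_lhs => rw [h]
    rw [map_mul, hz, piQ_mul (hQ _ (rep8_mem _)) zT_mem_QT, piQ_zT, Nat.xor_zero]
  have hinj : ∀ p ∈ QT, ∀ q ∈ QT, piQ (α p) = piQ (α q) → piQ p = piQ q := by
    intro p hp q hq h
    have h1 : piQ (α (p⁻¹ * q)) = 0 := by
      have h0 := piQ_mul (inv_mem (hQ p hp)) (hQ p hp)
      rw [inv_mul_cancel, piQ_one, h] at h0
      rw [map_mul, map_inv, piQ_mul (inv_mem (hQ p hp)) (hQ q hq), ← h0]
    have h2 : piQ (p⁻¹ * q) = 0 := by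
      rcases piQ_eq_zero (hQ _ (mul_mem (inv_mem hp) hq)) h1 with e | e
      · have : p⁻¹ * q = 1 := α.injective (e.trans (map_one α).symm)
        rw [this, piQ_one]
      · have : p⁻¹ * q = zT := α.injective (e.trans hz.symm)
        rw [this, piQ_zT]
    have h3 := piQ_mul hp (mul_mem (inv_mem hp) hq)
    rw [mul_inv_cancel_left, h2, Nat.xor_zero] at h3
    exact h3.symm
  have hcomm : ∀ v, v < 256 → F (actS v) = actS (F v) := by
    intro v hv
    obtain ⟨a, ha, h11⟩ : ∃ a ∈ actL, a.1 = 11 := by decide +kernel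
    rw [actS_eq a ha h11, actS_eq a ha h11]
    have hq := conj_mem_QT ha (rep8_mem v)
    have h1 := hFq _ hq
    rw [piQ_conj ha (rep8_mem v), piQ_rep8 hv] at h1
    have hα : α (fl LG a.1) = fl LG a.1 := by rw [h11]; exact hs
    rw [← h1, map_mul, map_mul, map_inv, hα, piQ_conj ha (hQ _ (rep8_mem v))]
  have hF0 : F 0 = 0 := by
    have := hFq 1 (one_mem _)
    rw [map_one, piQ_one] at this
    exact this.symm
  have hFadd : ∀ x y, x < 256 → y < 256 → F (x ^^^ y) = F x ^^^ F y := by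
    intro x y hx hy
    show _ = piQ (α (rep8 x)) ^^^ piQ (α (rep8 y))
    rw [← piQ_mul (hQ _ (rep8_mem x)) (hQ _ (rep8_mem y)), ← map_mul,
      hFq _ (mul_mem (rep8_mem x) (rep8_mem y)), piQ_mul (rep8_mem x) (rep8_mem y), piQ_rep8 hx,
      piQ_rep8 hy]
  have hFinj : ∀ v, v < 256 → F v = 0 → v = 0 := by
    intro v hv h
    have := hinj _ (rep8_mem v) _ (one_mem _) (by
      show F v = _
      rw [h, map_one, piQ_one])
    rwa [piQ_rep8 hv, piQ_one] at this
  obtain ⟨j, hj, hjv⟩ := rigid (F := F) hF0 (fun v _ => piQ_lt _) hFadd hFinj hcomm fun a ha => by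
    have hl : fl LG a.1 ∈ CT := letter_CT _ (by rcases actL_cases ha with h | h | h | h | h <;> simp [h])
    obtain ⟨σ, hσ⟩ := CT_classes D (hC' _ hl)
    refine ⟨σ, fun b t hb ht hbt => ?_⟩
    have hmem := CT_normalizes D (hC' _ hl) (rep8_mem b)
    have h1 : piQ (α ((α.symm (fl LG a.1))⁻¹ * rep8 b * α.symm (fl LG a.1))) = piQ (α (rep8 t)) := by
      rw [map_mul, map_mul, map_inv, MulEquiv.apply_symm_apply, piQ_conj ha (hQ _ (rep8_mem b))]
      exact hbt.symm
    have h2 := hinj _ hmem _ (rep8_mem t) h1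
    have h3 := hσ _ (rep8_mem b)
    rw [h2, piQ_rep8 ht, piQ_rep8 hb] at h3
    exact h3
  exact ⟨j, hj, fun q hq => by rw [hFq q hq, hjv _ (piQ_lt q)]⟩

end CfsgLib.Coset.Th.Out
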