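import Cfsg.Agent.Coset.Th.OutHom

/-!
The centralizer in the presented Thompson group of the subgroup on the letters `d`, `e`, `s`, `t`.
-/

set_option autoImplicit false
set_option maxRecDepth 100000
set_option Elab.async false
set_option linter.style.haveILetI false

namespace CfsgLib.Coset.Th.Out

open Cfsg.Spor (Th)
open CfsgLib.Coset.Th.Cent
open CfsgLib.Coset.Ly (iv ff ff_eq)

/-- The subgroup on four letters and their inverses. -/
noncomputable abbrev LS : Subgroup A := genBy LA SQ

theorem card_LS : 1512 ≤ Nat.card LS := by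
  have h := card_le_of_genBy (level_step (relsX := relsA ++ [relK]) SP SQ rfl
    (by decide +kernel)
    (fun w hw => (List.mem_append.mp hw).elim (ev_relsA w)
      fun h => (List.mem_singleton.mp h) ▸ ev_relK)
    (by decide +kernel) TQ2.hR TQ2.hdefs TQ2.hsteps TQ2.htable (by decide)
    ⟨card_genBy_SQ.1, le_rfl⟩)
  have h2 := h.2
  rw [card_and_injective.1] at h2
  show 1512 ≤ Nat.card (genBy LA SQ)
  omega

theorem nodeSize_facts : ∀ n < 11, 1 ≤ n →
    nodeSize.getD n 0 ∣ 634023936 ∧ ¬ 1512 ∣ 634023936 / nodeSize.getD n 0 := by decide +kernel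

/-- The three points fixed by the four letters. -/
noncomputable def fixL (i : Nat) : Bool :=
  cond (allList (fun l => Nat.beq (ff (tget TP.Tb) i [l]) i) SQ) (Nat.ble (Nat.add i 1) 3) true

theorem fixL_all : allBelow 10 819 fixL = true := by decide +kernel

/-- The words carrying the first point to the fixed points. -/
def fixW : List (List Nat) := [[], [2], [2, 0]]

theorem fixW_spec : ∀ i < 3, (∀ l ∈ fixW.getD i [], l = 0 ∨ l = 2) ∧
    follow (tget TP.Tb) 0 (fixW.getD i []) = i := by decide +kernel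

/-- The listed words commute with the four letters. -/
theorem fix_comm : ∀ l ∈ SQ, ∀ m ∈ [0, 2], eqA [l, m] [m, l] = true := by decide +kernel

theorem zero_fix : ∀ l ∈ SQ, follow (tget TP.Tb) 0 [l] = 0 := by decide +kernel

/-- The action commutes with no power of the element of order seven but the identity. -/
theorem pow_move : ∀ j < 7, j ≠ 0 → ∃ v ∈ [1, 2, 4, 8, 16],
    iterS j (actM (actL.getD 0 (0, [], [])) v) ≠ actM (actL.getD 0 (0, [], [])) (iterS j v) := by
  decide +kernel

/-- Only zero is fixed by the three letters. -/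
noncomputable def fix3 (v : Nat) : Bool :=
  cond (Nat.beq v 0) true (!(allList (fun i =>
    Nat.beq (actM (actL.getD i (0, [], [])) v) v) [0, 1, 2]))

theorem fix3_all : allBelow 8 256 fix3 = true := by decide +kernel

theorem fl_SQ_mem {l : Nat} (hl : l ∈ SQ) : fl LA l ∈ LS := by
  have := ev_mem_genBy (L := LA) SQ (w := [l]) (fun x hx => by simpa [List.mem_singleton.mp hx] using hl)
  simpa [ev_cons] using this

theorem SQ_lt : ∀ l ∈ SQ, l < 14 := by decide

variable {τ : A →* Equiv.Perm (Fin 17199)} {lab cnt : Nat → Nat → Nat}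
  (D : frame_LG.EdgeData τ lab cnt)
include D

/-- Elements commuting with the subgroup lie in the model. -/
theorem commute_LS_mem {x : Th} (hx : ∀ k ∈ LS, x * ΨT k = ΨT k * x) : x ∈ ΨT.range := by
  obtain ⟨n, hn, α, hh⟩ := node_cover D x
  obtain ⟨h, he⟩ := hh
  rcases Nat.eq_zero_or_pos n with rfl | hpos
  · refine ⟨h * α, ?_⟩
    rw [map_mul, he]
    simp [nodeW]
  exfalso
  set W := ev LG (nodeW.getD n [])
  have hle : LS.map (MulAut.conj α).toMonoidHom ≤ stT n := by
    rintro _ ⟨k, hk, rfl⟩
    rw [mem_stT]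
    refine ⟨h⁻¹ * k * h, ?_⟩
    have hk' := hx k hk
    have hxe : x = ΨT h * (W * ΨT α) := by rw [he]; group
    simp only [MulEquiv.toMonoidHom_eq_coe, MonoidHom.coe_coe, MulAut.conj_apply, map_mul, map_inv]
    calc (ΨT h)⁻¹ * ΨT k * ΨT h = (ΨT h)⁻¹ * (ΨT k * x) * (W * ΨT α)⁻¹ := by rw [hxe]; group
      _ = (ΨT h)⁻¹ * (x * ΨT k) * (W * ΨT α)⁻¹ := by rw [hk']
      _ = _ := by rw [hxe]; simp only [W]; group
  have hd := Subgroup.card_dvd_of_le hle
  rw [Subgroup.card_map_of_injective (MulEquiv.injective _)] at hd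
  have hL : Nat.card LS = 1512 := le_antisymm card_genBy_SQ.2 card_LS
  obtain ⟨hdiv, hnd⟩ := nodeSize_facts n hn hpos
  have hi : (stT n).index = nodeSize.getD n 0 := by
    rw [← stabN_eq, D.index_stabN hn]; rfl
  have hm := (stT n).card_mul_index
  rw [hi, card_and_injective.1] at hm
  refine hnd (hL ▸ ?_)
  rw [← hm, Nat.mul_div_cancel _ (Nat.pos_of_ne_zero fun h0 => by rw [h0, mul_zero] at hm; omega)]
  exact hd

/-- An element of the model commuting with the subgroup and the first letter. -/
theorem centralizer_LS_P {y : A} (hy : y * aA = aA * y) (hc : ∀ k ∈ LS, y * k = k * y) :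
    y = 1 ∨ y = aA := by
  haveI : Finite Th := finite_Th D
  have hfl : ∀ l ∈ SQ, ΨT y * fl LG l = fl LG l * ΨT y := fun l hl => by
    have h := congrArg ΨT (hc _ (fl_SQ_mem hl))
    rw [map_mul, map_mul] at h
    have e : ΨT (fl LA l) = fl LG l := by
      simpa [ev_cons] using ΨT_ev [l] (by simpa using SQ_lt l hl)
    rwa [e] at h
  have hyC : ΨT y ∈ CT := by
    rw [Subgroup.mem_centralizer_singleton_iff, zT, ← map_mul, ← map_mul, hy]
  set g := ΨT y
  have hfix : ∀ l ∈ SQ, MulAut.conj g⁻¹ (fl LG l) = fl LG l := fun l hl => by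
    rw [MulAut.conj_apply, inv_inv, mul_assoc, ← hfl l hl, inv_mul_cancel_left]
  obtain ⟨j, hj, hjq⟩ := coord_power D (MulAut.conj g⁻¹)
    (by rw [MulAut.conj_apply, inv_inv, mul_assoc, ← Subgroup.mem_centralizer_singleton_iff.mp hyC,
      inv_mul_cancel_left])
    (hfix 11 (by decide))
    (fun x hx => by
      rw [MulAut.conj_symm_apply, inv_inv]
      exact mul_mem (mul_mem hyC hx) (inv_mem hyC))
    (fun q hq => by
      rw [MulAut.conj_apply, inv_inv]
      exact CT_normalizes D hyC hq)
  have hj0 : j = 0 := by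
    by_contra hne
    obtain ⟨v, hv, hmove⟩ := pow_move j hj hne
    refine hmove ?_
    have hv256 : v < 256 := (by decide : ∀ v ∈ [1, 2, 4, 8, 16], v < 256) v hv
    obtain ⟨ha, h6⟩ : actL.getD 0 (0, [], []) ∈ actL ∧ (actL.getD 0 (0, [], [])).1 = 6 := by
      decide +kernel
    have hq := conj_mem_QT ha (rep8_mem v)
    have h1 := hjq _ hq
    rw [piQ_conj ha (rep8_mem v), piQ_rep8 hv256, map_mul, map_mul, map_inv, h6,
      hfix 6 (by decide)] at h1
    have hgq : MulAut.conj g⁻¹ (rep8 v) ∈ QT := by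
      rw [MulAut.conj_apply, inv_inv]; exact CT_normalizes D hyC (rep8_mem v)
    have h2 := piQ_conj ha hgq
    rw [h6] at h2
    rw [h2, hjq _ (rep8_mem v), piQ_rep8 hv256] at h1
    exact h1.symm
  subst hj0
  have hQ : g ∈ QT := mem_QT_of_trivial D hyC fun q hq => by
    have := hjq q hq
    rwa [MulAut.conj_apply, inv_inv] at this
  have hv0 : piQ g = 0 := by
    have h := of_allBelow fix3_all _ (piQ_lt g)
    rw [fix3] at h
    cases hb : Nat.beq (piQ g) 0
    · exfalso
      rw [hb, cond_false] at h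
      have hall : allList (fun i => Nat.beq (actM (actL.getD i (0, [], [])) (piQ g)) (piQ g))
          [0, 1, 2] = true := by
        refine allList_iff.mpr fun i hi => ?_
        obtain ⟨ha, hl⟩ : actL.getD i (0, [], []) ∈ actL ∧
            (actL.getD i (0, [], [])).1 ∈ SQ :=
          (by decide +kernel : ∀ i ∈ [0, 1, 2], actL.getD i (0, [], []) ∈ actL ∧
            (actL.getD i (0, [], [])).1 ∈ SQ) i hi
        have h1 := piQ_conj ha hQ
        rw [mul_assoc, hfl _ hl, inv_mul_cancel_left] at h1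
        rw [← h1]
        exact Nat.beq_refl _
      rw [hall] at h
      exact Bool.noConfusion h
    · exact Nat.eq_of_beq_eq_true hb
  rcases piQ_eq_zero hQ hv0 with e | e
  · exact Or.inl (ΨT_injective (e.trans (map_one _).symm))
  · exact Or.inr (ΨT_injective e)

/-- The centralizer of the subgroup in the model. -/
theorem centralizer_LS {x : A} (hc : ∀ k ∈ LS, x * k = k * x) :
    x ∈ [[], [0], [2], [2, 0], [0, 2], [0, 2, 0]].map (ev LA) := by
  have hap : ∀ (σ : Equiv.Perm (Fin 819)) (i : Fin 819), σ (σ⁻¹ i) = i := fun σ i => by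
    rw [← Equiv.Perm.mul_apply, mul_inv_cancel, Equiv.Perm.one_apply]
  have hfollow : ∀ (l : Nat), l < 14 → ∀ i : Fin 819,
      ff (tget TP.Tb) i [l] = ((ρ (ev LA [l]))⁻¹ i : Fin 819) := fun l hl i => by
    rw [ff_eq, ← matches_ρ.follow_eq [l] i fun x hx => by
      rw [List.mem_singleton.mp hx, len_LA]; exact hl]
  have hp : (ρ x (0 : Fin 819) : Nat) < 3 := by
    have h := of_allBelow fixL_all (ρ x 0 : Fin 819) (Fin.isLt _)
    rw [fixL] at h
    rw [show allList (fun l => Nat.beq (ff (tget TP.Tb) ((ρ x 0 : Fin 819) : Nat) [l])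
        ((ρ x 0 : Fin 819) : Nat)) SQ = true from by
      refine allList_iff.mpr fun l hl => ?_
      have hl14 := SQ_lt l hl
      have hk : ev LA [l] ∈ LS := by simpa [ev_cons] using fl_SQ_mem hl
      have h0 : (ρ (ev LA [l]))⁻¹ (0 : Fin 819) = 0 := Fin.ext (by
        rw [← hfollow l hl14 0, ff_eq]; exact zero_fix l hl)
      rw [hfollow l hl14]
      have : (ρ (ev LA [l]))⁻¹ (ρ x 0) = ρ x 0 := by
        rw [← map_inv, ← Equiv.Perm.mul_apply, ← map_mul, ← hc _ (inv_mem hk), map_mul,
          Equiv.Perm.mul_apply, map_inv, h0]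
      rw [this]
      exact Nat.beq_refl _, cond_true] at h
    exact Nat.ble_eq.mp h
  obtain ⟨hwl, hwf⟩ := fixW_spec _ hp
  set w := fixW.getD (ρ x (0 : Fin 819) : Nat) []
  have hw14 : ∀ l ∈ w, l < 14 := fun l hl => by rcases hwl l hl with h | h <;> omega
  have hwc : ∀ k ∈ LS, ev LA w * k = k * ev LA w := by
    have hgen : ∀ m ∈ [0, 2], ∀ k ∈ LS, fl LA m * k = k * fl LA m := by
      intro m hm k hk
      induction hk using Subgroup.closure_induction with
      | mem u hu =>
        obtain ⟨l, hl, rfl⟩ := List.mem_map.mp hu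
        have := eqA_sound (fix_comm l hl m hm)
        simpa [ev_cons] using this.symm
      | one => simp
      | mul a b _ _ ha hb => exact (Commute.mul_right ha hb : Commute (fl LA m) (a * b))
      | inv a _ ha => exact (Commute.inv_right ha : Commute (fl LA m) a⁻¹)
    clear hwf
    clear_value w
    induction w with
    | nil => intro k _; simp
    | cons l w ih =>
      intro k hk
      rw [ev_cons]
      refine (Commute.mul_left (hgen l ?_ k hk) (ih (fun x hx => hwl x (by simp [hx]))
        (fun x hx => hw14 x (by simp [hx])) k hk) : Commute (fl LA l * ev LA w) k)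
      rcases hwl l (by simp) with h | h <;> simp [h]
  have hy0 : ρ (ev LA w * x) (0 : Fin 819) = 0 := by
    rw [map_mul, Equiv.Perm.mul_apply]
    have e : ρ x (0 : Fin 819) = (ρ (ev LA w))⁻¹ 0 := Fin.ext (hwf.symm.trans
      (matches_ρ.follow_eq w 0 fun l hl => (hw14 l hl).trans_eq len_LA.symm).symm)
    rw [e, hap]
  have hyP : ev LA w * x ∈ Subgroup.centralizer {aA} := pstab_eq ▸ hy0
  have h := centralizer_LS_P D (Subgroup.mem_centralizer_singleton_iff.mp hyP) fun k hk => by
    rw [mul_assoc, hc k hk, ← mul_assoc, hwc k hk, mul_assoc]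
  have hx : x = ev LA (invW w) ∨ x = ev LA (invW w ++ [0]) := by
    rcases h with e | e
    · left; rw [ev_invW w hw14]; exact (inv_eq_of_mul_eq_one_right e).symm
    · right; rw [ev_append, ev_invW w hw14, show ev LA [0] = aA from rfl, ← e]; group
  have key : ∀ i < 3, (∃ v ∈ [[], [0], [2], [2, 0], [0, 2], [0, 2, 0]],
      eqA (invW (fixW.getD i [])) v = true) ∧ ∃ v ∈ [[], [0], [2], [2, 0], [0, 2], [0, 2, 0]],
      eqA (invW (fixW.getD i []) ++ [0]) v = true := by decide +kernel
  obtain ⟨⟨v, hv, hve⟩, v', hv', hve'⟩ := key _ hp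
  rw [List.mem_map]
  rcases hx with e | e
  · exact ⟨v, hv, (e.trans (eqA_sound hve)).symm⟩
  · exact ⟨v', hv', (e.trans (eqA_sound hve')).symm⟩

end CfsgLib.Coset.Th.Out
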