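import Cfsg.Agent.Coset.Th.OutL
import Cfsg.Prelude.Def_KGroupFacts
import Mathlib.GroupTheory.Sylow

/-!
Every automorphism of the presented Thompson group is inner, given the edge data of the double
cosets.
-/

set_option autoImplicit false
set_option maxRecDepth 100000
set_option Elab.async false
set_option linter.style.haveILetI false

namespace CfsgLib.Coset.Th.Out

open Cfsg.Spor (Th)
open CfsgLib.Coset.Th.Cent

section Kernel

/-- The sign of one generator under an element realising given signs. -/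
noncomputable def sgnOK (e : Nat) : Bool :=
  allBlock 3 0 fun j =>
    eqA (qW (sgnT e) ++ qBas.getD (Nat.add j 1) [] ++ invW (qW (sgnT e)))
      (qBas.getD (Nat.add j 1) [] ++
        cond (Nat.beq (Nat.land (Nat.shiftRight e j) 1) 1) [0] [])

/-- The number of a list of bits. -/
def bitsN : List Bool → Nat
  | [] => 0
  | b :: l => 2 * bitsN l + cond b 1 0

end Kernel

theorem sgnOK_all : allBelow 8 256 sgnOK = true := by decide +kernel

theorem bitsN_lt : ∀ l : List Bool, bitsN l < 2 ^ l.length := by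
  intro l
  induction l with
  | nil => simp [bitsN]
  | cons b l ih =>
    rw [bitsN, List.length_cons, pow_succ]
    cases b <;> simp only [cond_true, cond_false] <;> omega

theorem bitsN_bit : ∀ (l : List Bool) (j : Nat), j < l.length →
    Nat.beq (Nat.land (Nat.shiftRight (bitsN l) j) 1) 1 = l.getD j false := by
  intro l
  induction l with
  | nil => intro j h; simp at h
  | cons b l ih =>
    intro j h
    rw [show ∀ x, Nat.land x 1 = x % 2 from fun x => Nat.and_two_pow_sub_one_eq_mod x 1,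
      show Nat.shiftRight (bitsN (b :: l)) j = bitsN (b :: l) / 2 ^ j from Nat.shiftRight_eq_div_pow _ _]
    rcases j with _ | j
    · rw [pow_zero, Nat.div_one, List.getD_cons_zero, bitsN]
      cases b
      · rw [show (2 * bitsN l + cond false 1 0) % 2 = 0 by simp]; rfl
      · rw [show (2 * bitsN l + cond true 1 0) % 2 = 1 by simp [Nat.add_mod]]; rfl
    · have := ih j (by simpa using h)
      rw [show ∀ x, Nat.land x 1 = x % 2 from fun x => Nat.and_two_pow_sub_one_eq_mod x 1,
        show Nat.shiftRight (bitsN l) j = bitsN l / 2 ^ j from Nat.shiftRight_eq_div_pow _ _] at this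
      rw [List.getD_cons_succ, ← this, bitsN, pow_succ', ← Nat.div_div_eq_div_mul,
        show (2 * bitsN l + cond b 1 0) / 2 = bitsN l by
          cases b <;> simp only [cond_true, cond_false] <;> omega]

theorem iter_inv : ∀ j < 7,
    allBelow 8 256 (fun v => Nat.beq (iterS ((7 - j) % 7) (iterS j v)) v) = true := by
  decide +kernel

/-- Words carrying the powers of the element of order seven back. -/
theorem power_words : ∀ k < 7, k ≠ 0 → ∃ w ∈ [[], [12], [13], [6], [6, 12], [6, 13]],
    eqA (w ++ List.replicate k 11 ++ invW w) [11] = true := by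
  decide +kernel

theorem ΨT_zT_conj (y : Th) (hy : y ∈ CT) : MulAut.conj y zT = zT := by
  rw [MulAut.conj_apply, Subgroup.mem_centralizer_singleton_iff.mp hy, mul_inv_cancel_right]

theorem zT_sq : zT * zT = 1 := by rw [zT, ← map_mul, aA_sq, map_one]

theorem zT_ne_one : zT ≠ 1 := fun h => by
  have := orderOf_zT
  rw [h, orderOf_one] at this
  exact absurd this (by norm_num)

theorem orderOf_sT : orderOf sT = 7 := by
  haveI : Fact (Nat.Prime 7) := ⟨by norm_num⟩
  refine orderOf_eq_prime sT_seven fun h => ?_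
  exact rep_moves (w := [11]) (n := 1) (by simp) (by decide +kernel) (by norm_num)
    (by rw [ev_cons, ev_nil, mul_one]; exact h)

variable {τ : A →* Equiv.Perm (Fin 17199)} {lab cnt : Nat → Nat → Nat}
  (D : frame_LG.EdgeData τ lab cnt)
include D

/-- The involution is carried to a conjugate. -/
theorem exists_fix_zT (α : MulAut Th) : ∃ g : Th, (MulAut.conj g * α) zT = zT := by
  haveI : Finite Th := finite_Th D
  haveI : Fact (Nat.Prime 2) := ⟨Nat.prime_two⟩
  have hR : IsPGroup 2 (QT.subgroupOf CT) :=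
    IsPGroup.of_card (n := 9) ((Nat.card_congr (Subgroup.subgroupOfEquivOfLe QT_le).toEquiv).trans
      (by rw [card_QT]; norm_num))
  obtain ⟨S₀, hS₀⟩ := hR.exists_le_sylow
  have h2C : (Nat.card CT).factorization 2 = 15 := by
    rw [card_CT D, Nat.factorization_def _ Nat.prime_two,
      show 92897280 = 2 ^ 15 * 2835 by norm_num, padicValNat.mul (by norm_num) (by norm_num),
      padicValNat.prime_pow, padicValNat.eq_zero_of_not_dvd (by norm_num)]
  have h2G : (Nat.card Th).factorization 2 = 15 := by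
    rw [card_Th D, Nat.factorization_def _ Nat.prime_two,
      show 90745943887872000 = 2 ^ 15 * 2769346432125 by norm_num,
      padicValNat.mul (by norm_num) (by norm_num), padicValNat.prime_pow,
      padicValNat.eq_zero_of_not_dvd (by norm_num)]
  set U := (S₀ : Subgroup CT).map CT.subtype
  have hU : Nat.card U = 2 ^ 15 := by
    rw [Subgroup.card_map_of_injective CT.subtype_injective, S₀.card_eq_multiplicity, h2C]
  let S₁ : Sylow 2 Th := Sylow.ofCard U (by rw [hU, h2G])
  let S₂ : Sylow 2 Th := Sylow.ofCard (U.map α.toMonoidHom) (by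
    rw [Subgroup.card_map_of_injective α.injective, hU, h2G])
  obtain ⟨g, hg⟩ := MulAction.exists_smul_eq Th S₂ S₁
  refine ⟨g, ?_⟩
  set z' := (MulAut.conj g * α) zT
  have hcomm : ∀ u ∈ U, z' * u = u * z' := by
    intro u hu
    have hu' : u ∈ (↑(g • S₂) : Subgroup Th) := by rw [hg]; exact hu
    rw [Sylow.coe_subgroup_smul, Subgroup.mem_smul_pointwise_iff_exists] at hu'
    obtain ⟨w, ⟨v, hv, rfl⟩, rfl⟩ := hu'
    obtain ⟨c, -, rfl⟩ := hv
    have hc := congrArg (MulAut.conj g * α) (Subgroup.mem_centralizer_singleton_iff.mp c.2)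
    rw [map_mul, map_mul] at hc
    exact hc.symm
  have hQU : ∀ q ∈ QT, q ∈ U := fun q hq => ⟨⟨q, QT_le hq⟩, hS₀ hq, rfl⟩
  have hz' : z' ∈ CT :=
    Subgroup.mem_centralizer_singleton_iff.mpr (hcomm zT (hQU _ zT_mem_QT))
  rcases centralizer_QT D hz' fun q hq => hcomm q (hQU q hq) with h | h
  · exact absurd ((MulAut.conj g * α).injective (h.trans (map_one _).symm)) zT_ne_one
  · exact h

theorem mem_CT_of_fix {α : MulAut Th} (hz : α zT = zT) {y : Th} (hy : y ∈ CT) : α y ∈ CT := by
  rw [Subgroup.mem_centralizer_singleton_iff] at hy ⊢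
  rw [← hz, ← map_mul, ← map_mul, hy]

/-- The subgroup of order 512 is preserved. -/
theorem mem_QT_of_fix {α : MulAut Th} (hz : α zT = zT) : ∀ q ∈ QT, α q ∈ QT := by
  haveI : Finite Th := finite_Th D
  haveI : Fact (Nat.Prime 2) := ⟨Nat.prime_two⟩
  set N := (QT.map α.toMonoidHom).subgroupOf CT
  have hsy : α.symm zT = zT := by rw [MulEquiv.symm_apply_eq, hz]
  haveI : N.Normal := ⟨fun a ha g => by
    rw [Subgroup.mem_subgroupOf] at ha ⊢
    obtain ⟨q, hq, e⟩ := ha
    refine ⟨α.symm (g : Th) * q * (α.symm (g : Th))⁻¹, ?_, ?_⟩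
    · have := CT_normalizes D (inv_mem (mem_CT_of_fix D hsy g.2)) hq
      simpa using this
    · simp only [MulEquiv.toMonoidHom_eq_coe, MonoidHom.coe_coe, map_mul, map_inv,
        MulEquiv.apply_symm_apply, Subgroup.coe_mul, Subgroup.coe_inv]
      rw [show α q = (a : Th) from e]⟩
  intro q hq
  rcases normal_CT D N with h | h
  · exact h (show (⟨α q, mem_CT_of_fix D hz (QT_le hq)⟩ : CT) ∈ N from ⟨q, hq, rfl⟩)
  · exfalso
    have hle : QT.map α.toMonoidHom ≤ CT := by
      rintro _ ⟨q, hq, rfl⟩; exact mem_CT_of_fix D hz (QT_le hq)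
    have hN : IsPGroup 2 N := IsPGroup.of_card (n := 9)
      ((Nat.card_congr (Subgroup.subgroupOfEquivOfLe hle).toEquiv).trans
        (by rw [Subgroup.card_map_of_injective α.injective, card_QT]; norm_num))
    have hR : IsPGroup 2 (QT.subgroupOf CT) :=
      IsPGroup.of_card (n := 9)
        ((Nat.card_congr (Subgroup.subgroupOfEquivOfLe QT_le).toEquiv).trans
          (by rw [card_QT]; norm_num))
    obtain ⟨hn, -⟩ := quotient_CT D
    have htop := h ▸ IsPGroup.to_sup_of_normal_right hN hR
    obtain ⟨k, hk⟩ := IsPGroup.iff_card.mp htop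
    rw [Subgroup.card_top, card_CT D] at hk
    have h3 : 3 ∣ 2 ^ k := hk ▸ (by norm_num)
    exact absurd (Nat.prime_three.dvd_of_dvd_pow h3) (by norm_num)

/-- After an inner correction the element of order seven is fixed as well. -/
theorem exists_fix_sT {α : MulAut Th} (hz : α zT = zT) :
    ∃ g ∈ CT, (MulAut.conj g * α) sT = sT := by
  haveI : Finite Th := finite_Th D
  haveI : Fact (Nat.Prime 7) := ⟨by norm_num⟩
  have hs : sT ∈ CT := letter_CT 11 (by simp)
  let s' : CT := ⟨sT, hs⟩
  let r' : CT := ⟨α sT, mem_CT_of_fix D hz hs⟩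
  have h7 : (Nat.card CT).factorization 7 = 1 := by
    rw [card_CT D, Nat.factorization_def _ (by norm_num),
      show 92897280 = 7 ^ 1 * 13271040 by norm_num, padicValNat.mul (by norm_num) (by norm_num),
      padicValNat.prime_pow, padicValNat.eq_zero_of_not_dvd (by norm_num)]
  have os : orderOf s' = 7 := by rw [← Subgroup.orderOf_coe]; exact orderOf_sT
  have or' : orderOf r' = 7 := by
    rw [← Subgroup.orderOf_coe]
    exact (MulEquiv.orderOf_eq α sT).trans orderOf_sT
  let P₁ : Sylow 7 CT := Sylow.ofCard (Subgroup.zpowers s') (by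
    rw [Nat.card_zpowers, os, h7]; norm_num)
  let P₂ : Sylow 7 CT := Sylow.ofCard (Subgroup.zpowers r') (by
    rw [Nat.card_zpowers, or', h7]; norm_num)
  obtain ⟨c, hc⟩ := MulAction.exists_smul_eq CT P₂ P₁
  have hmem : c * r' * c⁻¹ ∈ Subgroup.zpowers s' := by
    show c * r' * c⁻¹ ∈ (P₁ : Subgroup CT)
    rw [← hc, Sylow.coe_subgroup_smul, Subgroup.mem_smul_pointwise_iff_exists]
    exact ⟨r', Subgroup.mem_zpowers r', by simp⟩
  rw [← mem_powers_iff_mem_zpowers] at hmem
  obtain ⟨k, hk⟩ := hmem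
  have hk' : (c : Th) * α sT * (c : Th)⁻¹ = sT ^ (k % 7) := by
    rw [← orderOf_sT, pow_mod_orderOf]
    have := congrArg Subtype.val hk
    simpa [s', r'] using this.symm
  have hk0 : k % 7 ≠ 0 := by
    intro h0
    rw [h0, pow_zero, conj_eq_one_iff] at hk'
    have := orderOf_sT
    rw [α.injective (hk'.trans (map_one α).symm), orderOf_one] at this
    norm_num at this
  obtain ⟨w, hw, hwe⟩ := power_words (k % 7) (Nat.mod_lt _ (by norm_num)) hk0
  have hwl : ∀ l ∈ w, l = 6 ∨ l = 12 ∨ l = 13 :=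
    (by decide : ∀ w ∈ [[], [12], [13], [6], [6, 12], [6, 13]], ∀ l ∈ w,
      l = 6 ∨ l = 12 ∨ l = 13) w hw
  have hwC : ev LG w ∈ CT := by
    clear hwe hw
    induction w with
    | nil => exact one_mem _
    | cons l w ih =>
      rw [ev_cons]
      refine mul_mem ?_ (ih fun x hx => hwl x (by simp [hx]))
      rcases hwl l (by simp) with rfl | rfl | rfl
      · exact letter_CT 6 (by simp)
      · exact letter_CT 12 (by simp)
      · rw [show fl LG 13 = (fl LG 12)⁻¹ from fl_xor16 len_LG pair_LG 12]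
        exact inv_mem (letter_CT 12 (by simp))
  refine ⟨ev LG w * c, mul_mem hwC c.2, ?_⟩
  have hl : ∀ l ∈ w ++ List.replicate (k % 7) 11 ++ invW w, l < 14 := by
    intro l hl
    simp only [List.mem_append, invW, List.mem_map, List.mem_reverse] at hl
    rcases hl with (hl | hl) | ⟨m, hm, rfl⟩
    · rcases hwl l hl with h | h | h <;> omega
    · rw [List.eq_of_mem_replicate hl]; norm_num
    · exact (pairsA m (by rcases hwl m hm with h | h | h <;> omega)).1
  have he := congrArg ΨT (eqA_sound hwe)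
  rw [ΨT_ev _ hl, ΨT_ev _ (by simp), ev_append, ev_append, ev_invW_LG,
    show List.replicate (k % 7) 11 = sW (k % 7) from rfl, (sT_pow _).1, ev_cons, ev_nil,
    mul_one] at he
  rw [map_mul, mul_assoc, MulAut.mul_apply, MulAut.mul_apply]
  simp only [MulAut.conj_apply]
  rw [hk', he]
  rfl

/-- After an inner correction the subgroup of order 512 is fixed pointwise. -/
theorem exists_fix_QT {α : MulAut Th} (hz : α zT = zT) :
    ∃ g ∈ CT, ∀ q ∈ QT, (MulAut.conj g * α) q = q := by
  obtain ⟨g₁, hg₁, hs⟩ := exists_fix_sT D hz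
  set β := MulAut.conj g₁ * α
  have hβz : β zT = zT := by
    show MulAut.conj g₁ (α zT) = zT
    rw [hz, ΨT_zT_conj g₁ hg₁]
  have hβQ := mem_QT_of_fix D hβz
  have hsy : β.symm zT = zT := by rw [MulEquiv.symm_apply_eq, hβz]
  obtain ⟨j, hj, hjq⟩ := coord_power D β hβz hs (fun y hy => mem_CT_of_fix D hsy hy) hβQ
  have hsj : sT ^ j ∈ CT := pow_mem (letter_CT 11 (by simp)) j
  have hpi : ∀ (i : Nat), ∀ p ∈ QT, piQ ((sT ^ i)⁻¹ * p * sT ^ i) = iterS i (piQ p) := by
    intro i
    induction i with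
    | zero => intro p _; simp [iterS]
    | succ i ih =>
      intro p hp
      obtain ⟨a, ha, h11⟩ : ∃ a ∈ actL, a.1 = 11 := by decide +kernel
      rw [show (sT ^ (i + 1))⁻¹ * p * sT ^ (i + 1) = (fl LG a.1)⁻¹ * ((sT ^ i)⁻¹ * p * sT ^ i) *
        fl LG a.1 by rw [h11, pow_succ, show fl LG 11 = sT from rfl]; group,
        piQ_conj ha (conj_sT_QT hp i), ih p hp, ← actS_eq a ha h11]
      rfl
  set γ := MulAut.conj (sT ^ j) * β
  have hγz : γ zT = zT := by
    show MulAut.conj (sT ^ j) (β zT) = zT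
    rw [hβz, ΨT_zT_conj _ hsj]
  have hγQ := mem_QT_of_fix D hγz
  have hγ : ∀ q ∈ QT, piQ (γ q) = piQ q := by
    intro q hq
    have h := hpi j (γ q) (hγQ q hq)
    rw [show (sT ^ j)⁻¹ * γ q * sT ^ j = β q by
      show (sT ^ j)⁻¹ * (MulAut.conj (sT ^ j) (β q)) * sT ^ j = β q
      rw [MulAut.conj_apply]; group, hjq q hq] at h
    have h1 := of_allBelow (iter_inv j hj) _ (piQ_lt (γ q))
    have h2 := of_allBelow (iter_inv j hj) _ (piQ_lt q)
    rw [← Nat.eq_of_beq_eq_true h1, ← h, Nat.eq_of_beq_eq_true h2]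
  -- the signs
  have hsign : ∀ i, ∃ b : Bool, γ (ΨT (ev LA (qBas.getD i []))) =
      ΨT (ev LA (qBas.getD i [])) * cond b zT 1 := by
    intro i
    set q := ΨT (ev LA (qBas.getD i []))
    have hq : q ∈ QT := ⟨_, qBas_mem i, rfl⟩
    have h0 : piQ (q⁻¹ * γ q) = 0 := by
      have h1 := piQ_mul (inv_mem hq) hq
      rw [inv_mul_cancel, piQ_one] at h1
      rw [piQ_mul (inv_mem hq) (hγQ q hq), hγ q hq, ← h1]
    rcases piQ_eq_zero (mul_mem (inv_mem hq) (hγQ q hq)) h0 with e | e
    · exact ⟨false, by rw [cond_false, mul_one]; exact (inv_mul_eq_one.mp e).symm⟩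
    · exact ⟨true, by rw [cond_true, ← e, mul_inv_cancel_left]⟩
  choose ε hε using hsign
  set L := (List.range 8).map fun i => ε (i + 1)
  set m := sgnT (bitsN L)
  set r := ΨT (ev LA (qW m))
  have hr : r ∈ CT := QT_le ⟨_, qW_mem m, rfl⟩
  refine ⟨r * sT ^ j * g₁, mul_mem (mul_mem hr hsj) hg₁, ?_⟩
  have hδ : MulAut.conj (r * sT ^ j * g₁) * α = MulAut.conj r * γ := by
    rw [map_mul, map_mul]
    simp only [γ, β, mul_assoc]
  rw [hδ]
  set δ := MulAut.conj r * γ
  have hδz : δ zT = zT := by
    show MulAut.conj r (γ zT) = zT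
    rw [hγz, ΨT_zT_conj r hr]
  have hbas : ∀ i < 9, δ (ΨT (ev LA (qBas.getD i []))) = ΨT (ev LA (qBas.getD i [])) := by
    intro i hi
    rcases i with _ | i
    · exact hδz
    have hi8 : i < 8 := by omega
    show MulAut.conj r (γ _) = _
    rw [hε, map_mul]
    set b := qBas.getD (i + 1) []
    have hc : MulAut.conj r (cond (ε (i + 1)) zT 1) = cond (ε (i + 1)) zT 1 := by
      cases ε (i + 1)
      · simp
      · exact ΨT_zT_conj r hr
    have hlen : L.length = 8 := by simp [L]
    have hlt : bitsN L < 256 := by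
      have := bitsN_lt L
      rwa [hlen] at this
    have hs := allBlock_iff 3 0 _ (of_allBelow sgnOK_all (bitsN L) hlt) i (by simp) (by simpa using hi8)
    rw [show Nat.add i 1 = i + 1 from rfl, bitsN_bit L i (hlen ▸ hi8),
      show L.getD i false = ε (i + 1) by simp [L, List.getD_eq_getElem?_getD, hi8]] at hs
    have he := congrArg ΨT (eqA_sound hs)
    have hi' : ΨT (ev LA (invW (qW (sgnT (bitsN L))))) = r⁻¹ := by
      rw [ev_invW _ (qW_lt _), map_inv]
    simp only [ev_append, map_mul, b] at he ⊢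
    rw [hi'] at he
    rw [hc, MulAut.conj_apply, show r * ΨT (ev LA (qBas.getD (i + 1) [])) * r⁻¹ = _ from he, mul_assoc,
      show ΨT (ev LA (cond (ε (i + 1)) [0] [])) * cond (ε (i + 1)) zT 1 = 1 by
        cases ε (i + 1)
        · simp
        · exact zT_sq, mul_one]
  intro q hq
  obtain ⟨x, hx, rfl⟩ := hq
  induction hx using Subgroup.closure_induction with
  | mem u hu =>
    obtain ⟨v, hv, rfl⟩ := hu
    obtain ⟨i, hi, rfl⟩ := List.getElem_of_mem hv
    rw [← List.getD_eq_getElem qBas [] hi]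
    exact hbas i (qBas_length ▸ hi)
  | one => simp
  | mul a b _ _ ha hb => rw [map_mul, map_mul, ha, hb]
  | inv a _ ha => rw [map_inv, map_inv, ha]

/-- An automorphism fixing the subgroup of order 512 pointwise fixes the centralizer. -/
theorem fix_CT {δ : MulAut Th} (h : ∀ q ∈ QT, δ q = q) : ∀ y ∈ CT, δ y = y := by
  have hz : δ zT = zT := h _ zT_mem_QT
  intro y hy
  let K : Subgroup Th :=
    { carrier := {y | δ y = y}
      one_mem' := map_one δ
      mul_mem' := fun {a b} (ha : δ a = a) (hb : δ b = b) => show δ (a * b) = a * b by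
        rw [map_mul, ha, hb]
      inv_mem' := fun {a} (ha : δ a = a) => show δ a⁻¹ = a⁻¹ by rw [map_inv, ha] }
  refine CT_le_of D K h (fun i => ?_) hy
  have hx := xT_mem_centralizer i
  set x := xT i
  set e := x⁻¹ * δ x
  have he : e ∈ CT := mul_mem (inv_mem hx) (mem_CT_of_fix D hz hx)
  have hcq : ∀ q ∈ QT, e * q = q * e := by
    intro q hq
    have h1 : x * q * x⁻¹ ∈ QT := xT_conj i q hq
    have h2 := h _ h1
    rw [map_mul, map_mul, map_inv, h q hq] at h2
    calc e * q = x⁻¹ * (δ x * q * (δ x)⁻¹) * δ x := by simp only [e]; group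
      _ = q * e := by rw [h2]; simp only [e]; group
  rcases centralizer_QT D he hcq with h1 | h1
  · exact (inv_mul_eq_one.mp h1).symm
  · exfalso
    have h3 := h _ ((carmFacts (repTh_injective D)).cube i)
    rw [map_pow, show δ x = x * zT by rw [← h1]; simp only [e]; group,
      Commute.mul_pow (Subgroup.mem_centralizer_singleton_iff.mp hx), mul_eq_left] at h3
    refine zT_ne_one ?_
    rw [pow_succ, pow_two, zT_sq, one_mul] at h3
    exact h3

/-- Every automorphism of the group is inner. -/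
theorem out_Th : Nat.card (Cfsg.Out Th) = 1 := by
  haveI : Finite Th := finite_Th D
  rw [← Subgroup.index_eq_card, Subgroup.index_eq_one, eq_top_iff]
  intro α _
  suffices h : ∃ g : Th, MulAut.conj g * α = 1 by
    obtain ⟨g, hg⟩ := h
    exact ⟨g⁻¹, by rw [map_inv, eq_comm]; exact eq_inv_of_mul_eq_one_right hg⟩
  obtain ⟨g₁, hz⟩ := exists_fix_zT D α
  obtain ⟨g₂, -, hQ⟩ := exists_fix_QT D hz
  have hC := fix_CT D hQ
  set δ := MulAut.conj g₂ * (MulAut.conj g₁ * α)
  set B := fl LG 2
  have hl : ∀ l < 14, ΨT (ev LA [l]) = fl LG l := fun l hl => by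
    rw [ΨT_ev _ (by simpa using hl), ev_cons, ev_nil, mul_one]
  have hlet : ∀ l ∈ SQ, δ (fl LG l) = fl LG l := by
    intro l hl'
    refine hC _ ?_
    simp only [SQ, List.mem_cons, List.not_mem_nil, or_false] at hl'
    have e7 : fl LG 7 = (fl LG 6)⁻¹ := fl_xor16 len_LG pair_LG 6
    have e9 : fl LG 9 = (fl LG 8)⁻¹ := fl_xor16 len_LG pair_LG 8
    have e13 : fl LG 13 = (fl LG 12)⁻¹ := fl_xor16 len_LG pair_LG 12
    rcases hl' with rfl | rfl | rfl | rfl | rfl | rfl | rfl | rfl
    exacts [letter_CT 6 (by simp), e7 ▸ inv_mem (letter_CT 6 (by simp)), letter_CT 8 (by simp),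
      e9 ▸ inv_mem (letter_CT 8 (by simp)), letter_CT 10 (by simp), letter_CT 11 (by simp),
      letter_CT 12 (by simp), e13 ▸ inv_mem (letter_CT 12 (by simp))]
  have hcomm : ∀ k ∈ LS, δ B * ΨT k = ΨT k * δ B := by
    intro k hk
    induction hk using Subgroup.closure_induction with
    | mem u hu =>
      obtain ⟨l, hl', rfl⟩ := List.mem_map.mp hu
      have h := congrArg δ (congrArg ΨT (eqA_sound (fix_comm l hl' 2 (by simp))))
      rw [ΨT_ev _ (by simp [SQ_lt l hl']), ΨT_ev _ (by simp [SQ_lt l hl']), ev_cons, ev_cons,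
        ev_cons, ev_cons, ev_nil, mul_one, mul_one, map_mul, map_mul, hlet l hl'] at h
      rw [show ΨT (fl LA l) = fl LG l by simpa [ev_cons] using hl l (SQ_lt l hl')]
      exact h.symm
    | one => simp
    | mul a b _ _ ha hb => rw [map_mul]; exact (Commute.mul_right ha hb : Commute (δ B) (ΨT a * ΨT b))
    | inv a _ ha => rw [map_inv]; exact (Commute.inv_right ha : Commute (δ B) (ΨT a)⁻¹)
  obtain ⟨x, hx⟩ := commute_LS_mem D hcomm
  have hxc : ∀ k ∈ LS, x * k = k * x := fun k hk => ΨT_injective (by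
    rw [map_mul, map_mul, hx]; exact hcomm k hk)
  have hB2 : δ B * δ B = 1 := by
    rw [← map_mul, show B = ΨT (ev LA [2]) from (hl 2 (by norm_num)).symm, ← map_mul, ← ev_append,
      ev_relsA _ (by decide +kernel : [2] ++ [2] ∈ relsA), map_one, map_one]
  have hB1 : δ B ≠ 1 := fun e => by
    have e' : B = 1 := δ.injective (e.trans (map_one δ).symm)
    exact rep_moves (w := [2]) (n := 1) (by simp) (by decide +kernel) (by norm_num)
      (by simpa [ev_cons] using e')
  have hBz : δ B ≠ zT := fun e => by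
    have e' : B = zT := δ.injective (e.trans (hC _ (QT_le zT_mem_QT)).symm)
    rw [zT, show B = ΨT (ev LA [2]) from (hl 2 (by norm_num)).symm] at e'
    have := sig_eq (v := [2]) (w := [0]) (by simp) (by simp) (ΨT_injective e')
    exact absurd this (by decide +kernel)
  obtain ⟨v, hv, hvx⟩ := List.mem_map.mp (centralizer_LS D hxc)
  have hsq : ∀ v ∈ [[2, 0], [0, 2]], sigB (v ++ v) ≠ sigB [] := by decide +kernel
  have hmain : δ B = B ∨ δ B = zT * B * zT := by
    rw [← hx, ← hvx] at hB1 hB2 hBz ⊢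
    simp only [List.mem_cons, List.not_mem_nil, or_false] at hv
    rcases hv with rfl | rfl | rfl | rfl | rfl | rfl
    · exact absurd (by rw [ev_nil, map_one]) hB1
    · exact absurd rfl hBz
    · exact Or.inl (hl 2 (by norm_num))
    iterate 2
      rw [← map_mul, ← ev_append] at hB2
      exact absurd (sig_eq (w := []) (by simp) (by simp)
        ((ΨT_injective (hB2.trans (map_one ΨT).symm)).trans (ev_nil _).symm)) (hsq _ (by simp))
    · right
      rw [show ([0, 2, 0] : List Nat) = [0] ++ [2] ++ [0] from rfl, ev_append, ev_append, map_mul,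
        map_mul, hl 2 (by norm_num)]
      rfl
  obtain ⟨g₃, hg₃, hB⟩ : ∃ g ∈ CT, (∀ y ∈ CT, (MulAut.conj g * δ) y = y) ∧
      (MulAut.conj g * δ) B = B := by
    rcases hmain with h | h
    · exact ⟨1, one_mem _, fun y hy => by simp [hC y hy], by simp [h]⟩
    · refine ⟨zT, QT_le zT_mem_QT, fun y hy => ?_, ?_⟩
      · show MulAut.conj zT (δ y) = y
        rw [hC y hy, MulAut.conj_apply, ← Subgroup.mem_centralizer_singleton_iff.mp hy,
          mul_inv_cancel_right]
      · show MulAut.conj zT (δ B) = B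
        rw [h, MulAut.conj_apply, inv_eq_of_mul_eq_one_right zT_sq]
        calc zT * (zT * B * zT) * zT = (zT * zT) * B * (zT * zT) := by group
          _ = B := by rw [zT_sq, one_mul, mul_one]
  refine ⟨g₃ * g₂ * g₁, ?_⟩
  rw [map_mul, map_mul, mul_assoc, mul_assoc]
  set η := MulAut.conj g₃ * δ
  show η = 1
  refine MulEquiv.ext fun g => ?_
  have hg : g ∈ Subgroup.closure {x | x ∈ LG} := frame_LG.gen ▸ Subgroup.mem_top g
  show η g = g
  induction hg using Subgroup.closure_induction with
  | mem x hx =>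
    obtain ⟨l, hl', rfl⟩ := List.getElem_of_mem hx
    rw [← List.getD_eq_getElem LG 1 hl']
    show η (fl LG l) = fl LG l
    rw [len_LG] at hl'
    have heven : ∀ k < 8, η (fl LG (2 * k)) = fl LG (2 * k) := by
      intro k hk
      interval_cases k
      exacts [hB.1 _ (letter_CT 0 (by simp)), hB.2, hB.1 _ (letter_CT 4 (by simp)),
        hB.1 _ (letter_CT 6 (by simp)), hB.1 _ (letter_CT 8 (by simp)),
        hB.1 _ (letter_CT 10 (by simp)), hB.1 _ (letter_CT 12 (by simp)),
        hB.1 _ (letter_CT 14 (by simp))]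
    rcases Nat.even_or_odd' l with ⟨k, rfl | rfl⟩
    · exact heven k (by omega)
    · rw [show 2 * k + 1 = Nat.xor (2 * k) 1 from
        ((by decide +kernel : ∀ k < 8, 2 * k + 1 = Nat.xor (2 * k) 1) k (by omega)),
        fl_xor16 len_LG pair_LG, map_inv, heven k (by omega)]
  | one => exact map_one _
  | mul x y _ _ hx hy => rw [map_mul, hx, hy]
  | inv x _ hx => rw [map_inv, hx]

end CfsgLib.Coset.Th.Out
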