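import Cfsg.Agent.Coset.Th.CentG
import Cfsg.Agent.Coset.Th.OutData
import Mathlib.Data.Nat.Bitwise

/-!
Coordinates on the quotient of the subgroup of order 512 by its centre, and the action of four
letters in these coordinates.
-/

set_option autoImplicit false
set_option maxRecDepth 100000
set_option Elab.async false

namespace CfsgLib.Coset.Th.Out

open Cfsg.Spor (Th)
open CfsgLib.Coset.Th.Cent

section Kernel

/-- The sum of the selected entries of a list. -/
noncomputable def selX (v : Nat) (L : List Nat) : Nat :=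
  List.rec (motive := fun _ => Nat → Nat) (fun _ => 0)
    (fun x _ ih v => cond (Nat.beq (Nat.land v 1) 1) (Nat.xor x (ih (Nat.shiftRight v 1)))
      (ih (Nat.shiftRight v 1))) L v

/-- The unit vectors. -/
def unitL : List Nat := [1, 2, 4, 8, 16, 32, 64, 128]

/-- The coordinates of a normal form, modulo the centre. -/
noncomputable def mk8 (m : Nat) : Nat := Nat.shiftRight m 1

/-- Multiplication by a generator adds its coordinates. -/
noncomputable def mk8OK (m : Nat) : Bool :=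
  allBlock 4 0 fun j => cond (Nat.ble 9 j) true
    (Nat.beq (mk8 (qMul m j)) (Nat.xor (mk8 m) (mk8 (Nat.pow 2 j))))

/-- A vector is the selected sum of the unit vectors. -/
noncomputable def unitOK (v : Nat) : Bool := Nat.beq (selX v unitL) v

end Kernel

theorem mk8OK_all : allBelow 9 512 mk8OK = true := by decide +kernel

theorem unitOK_all : allBelow 8 256 unitOK = true := by decide +kernel

theorem qW_pow : ∀ j < 9, qW (2 ^ j) = qBas.getD j [] := by decide +kernel

theorem qW_zero : qW 0 = [] := by decide +kernel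

theorem qW_injective {m m' : Nat} (hm : m < 512) (hm' : m' < 512)
    (h : ev LA (qW m) = ev LA (qW m')) : m = m' := by
  have hb : Function.Bijective (fun i : Fin 512 => (⟨ev LA (qW i), qW_mem i⟩ : QA)) := by
    haveI : Finite QA := Nat.finite_of_card_ne_zero (by rw [card_QA]; norm_num)
    refine Function.Surjective.bijective_of_nat_card_le ?_ (by rw [card_QA, Nat.card_fin])
    rintro ⟨g, hg⟩
    obtain ⟨m, hm, e⟩ := exists_qW hg
    exact ⟨⟨m, hm⟩, Subtype.ext e⟩
  exact congrArg Fin.val (hb.1 (a₁ := ⟨m, hm⟩) (a₂ := ⟨m', hm'⟩) (Subtype.ext h))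

open Classical in
/-- The coordinates of an element of the subgroup. -/
noncomputable def piQ (q : Th) : Nat :=
  if h : ∃ m, m < 512 ∧ ΨT (ev LA (qW m)) = q then mk8 h.choose else 0

theorem piQ_qW {m : Nat} (hm : m < 512) : piQ (ΨT (ev LA (qW m))) = mk8 m := by
  have h : ∃ k, k < 512 ∧ ΨT (ev LA (qW k)) = ΨT (ev LA (qW m)) := ⟨m, hm, rfl⟩
  rw [piQ, dif_pos h, qW_injective h.choose_spec.1 hm (ΨT_injective h.choose_spec.2)]

theorem exists_QT {q : Th} (hq : q ∈ QT) : ∃ m, m < 512 ∧ ΨT (ev LA (qW m)) = q := by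
  obtain ⟨x, hx, rfl⟩ := hq
  obtain ⟨m, hm, rfl⟩ := exists_qW hx
  exact ⟨m, hm, rfl⟩

theorem piQ_lt (q : Th) : piQ q < 256 := by
  unfold piQ
  split
  next h =>
    have := h.choose_spec.1
    show h.choose >>> 1 < 256
    rw [Nat.shiftRight_eq_div_pow]
    omega
  next => norm_num

theorem piQ_one : piQ 1 = 0 := by
  have h := piQ_qW (m := 0) (by norm_num)
  rw [qW_zero, ev_nil, map_one] at h
  exact h

theorem piQ_bas {j : Nat} (hj : j < 9) :
    piQ (ΨT (ev LA (qBas.getD j []))) = mk8 (2 ^ j) := by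
  rw [← qW_pow j hj, piQ_qW]
  calc 2 ^ j ≤ 2 ^ 8 := Nat.pow_le_pow_right (by norm_num) (by omega)
    _ < 512 := by norm_num

theorem piQ_mul {p q : Th} (hp : p ∈ QT) (hq : q ∈ QT) :
    piQ (p * q) = piQ p ^^^ piQ q := by
  obtain ⟨y, hy, rfl⟩ := hq
  induction hy using Subgroup.closure_induction generalizing p with
  | mem x hx =>
    obtain ⟨w, hw, rfl⟩ := hx
    obtain ⟨j, hj, rfl⟩ := List.getElem_of_mem hw
    rw [← List.getD_eq_getElem qBas [] hj]
    have hj9 : j < 9 := qBas_length ▸ hj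
    obtain ⟨m, hm, rfl⟩ := exists_QT hp
    rw [← map_mul, qMul_eq hm hj9, piQ_qW (qMul_lt _ _), piQ_qW hm, piQ_bas hj9]
    exact Nat.eq_of_beq_eq_true (allBlock_nine (of_allBelow mk8OK_all m hm) hj9)
  | one => simp [piQ_one]
  | mul a b ha hb iha ihb =>
    rw [map_mul, ← mul_assoc, ihb (mul_mem hp ⟨a, ha, rfl⟩), iha hp, ihb (p := ΨT a) ⟨a, ha, rfl⟩,
      Nat.xor_assoc]
  | inv a ha iha =>
    have h1 := iha (mul_mem hp ⟨a⁻¹, inv_mem ha, rfl⟩)
    have h2 := iha (p := ΨT a⁻¹) ⟨a⁻¹, inv_mem ha, rfl⟩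
    rw [map_inv, inv_mul_cancel, piQ_one] at h2
    rw [map_inv, inv_mul_cancel_right] at h1
    rw [map_inv, h1, Nat.xor_assoc, Nat.xor_comm (piQ (ΨT a)), ← h2, Nat.xor_zero]

/-- An element of the subgroup with given coordinates. -/
noncomputable def rep8 (v : Nat) : Th := ΨT (ev LA (qW (2 * v)))

theorem rep8_mem (v : Nat) : rep8 v ∈ QT := ⟨_, qW_mem _, rfl⟩

theorem piQ_rep8 {v : Nat} (hv : v < 256) : piQ (rep8 v) = v := by
  rw [rep8, piQ_qW (by omega)]
  show (2 * v) >>> 1 = v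
  rw [Nat.shiftRight_eq_div_pow]
  omega

theorem piQ_zT : piQ zT = 0 := by
  have h := piQ_bas (j := 0) (by norm_num)
  simpa [zT, qBas, mk8] using h

theorem piQ_eq_zero {q : Th} (hq : q ∈ QT) (h : piQ q = 0) : q = 1 ∨ q = zT := by
  obtain ⟨m, hm, rfl⟩ := exists_QT hq
  rw [piQ_qW hm] at h
  have h' : m >>> 1 = 0 := h
  rw [Nat.shiftRight_eq_div_pow] at h'
  rcases qW_cen (m := m) (by omega) with e | e <;> rw [e]
  · exact Or.inl (map_one _)
  · exact Or.inr rfl

/-- A map that is additive in coordinates is given by its values on the unit vectors. -/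
theorem linear_selX {F : Nat → Nat} (h0 : F 0 = 0)
    (hadd : ∀ x y, x < 256 → y < 256 → F (x ^^^ y) = F x ^^^ F y) :
    ∀ (L : List Nat) (v : Nat), (∀ x ∈ L, x < 256) →
      selX v L < 256 ∧ F (selX v L) = selX v (L.map F) := by
  intro L
  induction L with
  | nil => intro v _; exact ⟨by simp [selX], h0⟩
  | cons x L ih =>
    intro v hL
    have e : ∀ (y : Nat) (M : List Nat), selX v (y :: M) =
        cond (Nat.beq (Nat.land v 1) 1) (Nat.xor y (selX (Nat.shiftRight v 1) M))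
          (selX (Nat.shiftRight v 1) M) := fun _ _ => rfl
    obtain ⟨hlt, hF⟩ := ih (Nat.shiftRight v 1) fun y hy => hL y (by simp [hy])
    rw [List.map_cons, e, e]
    cases Nat.beq (Nat.land v 1) 1
    · exact ⟨hlt, hF⟩
    · have hx := hL x (by simp)
      refine ⟨Nat.xor_lt_two_pow (n := 8) hx hlt, ?_⟩
      show F (x ^^^ selX (Nat.shiftRight v 1) L) = F x ^^^ selX (Nat.shiftRight v 1) (L.map F)
      rw [hadd x _ hx hlt, hF]

theorem linear_unit {F : Nat → Nat} (h0 : F 0 = 0)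
    (hadd : ∀ x y, x < 256 → y < 256 → F (x ^^^ y) = F x ^^^ F y) {v : Nat} (hv : v < 256) :
    F v = selX v (unitL.map F) := by
  rw [← (linear_selX h0 hadd unitL v (by decide)).2,
    Nat.eq_of_beq_eq_true (of_allBelow unitOK_all v hv)]

/-- Conjugation by four letters in coordinates. -/
noncomputable def actM (a : Nat × List Nat × List Nat) (v : Nat) : Nat := selX v a.2.1

theorem actL_spec : ∀ a ∈ actL, ∀ j < 8,
    (a.1 = 6 ∨ a.1 = 8 ∨ a.1 = 10 ∨ a.1 = 11 ∨ a.1 = 14) ∧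
      ((a.1 = 14 ∧ a.2.1.getD j 0 = mk8 (qU.getD (j + 1) 0)) ∨
        ∃ p ∈ qConj, p.1 = a.1 ∧ a.2.1.getD j 0 = mk8 (p.2.getD (j + 1) 0)) := by
  decide +kernel

theorem conj_bas {a : Nat × List Nat × List Nat} (ha : a ∈ actL) {j : Nat} (hj : j < 8) :
    piQ ((fl LG a.1)⁻¹ * ΨT (ev LA (qBas.getD (j + 1) [])) * fl LG a.1) = a.2.1.getD j 0 := by
  obtain ⟨hl, h | ⟨p, hp, hpl, he⟩⟩ := actL_spec a ha j hj
  · obtain ⟨h14, he⟩ := h
    rw [h14, he]
    have h := of_allBelow qUOK_all (j + 1) (show j + 1 < 9 by omega)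
    rw [qUOK, cond_false_eq_true, cond_false_eq_true, cond_false_eq_true] at h
    obtain ⟨hid, he1, hlt, he2⟩ := h
    have hids : ∀ x ∈ qUids.getD (j + 1) [], x < 6 :=
      fun x hx => Nat.ble_eq.mp (allList_iff.mp hid x hx)
    rw [eqA_sound he1, ΨT_ev _ (flatT_lt kgW_lt _), mul_assoc, conj_flat _ hids,
      inv_mul_cancel_left, ← ΨT_ev _ (flatT_lt kmW_lt _), eqA_sound he2,
      piQ_qW (Nat.ble_eq.mp hlt)]
  · rw [← hpl, he]
    have hp14 : p.1 < 14 := (by decide +kernel : ∀ q ∈ qConj, q.1 < 14) p hp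
    have h := allBlock_nine (allList_iff.mp qConjOK_all p hp) (show j + 1 < 9 by omega)
    rw [cond_false_eq_true] at h
    obtain ⟨hlt, he⟩ := h
    have hx : ΨT (ev LA [Nat.xor p.1 1]) = (fl LG p.1)⁻¹ := by
      rw [ΨT_ev _ (by simpa using (pairsA _ hp14).1), ev_cons, ev_nil, mul_one,
        fl_xor16 len_LG pair_LG]
    have hy : ΨT (ev LA [p.1]) = fl LG p.1 := by
      rw [ΨT_ev _ (by simpa using hp14), ev_cons, ev_nil, mul_one]
    rw [← hx, ← hy, ← map_mul, ← map_mul, ← ev_append, ← ev_append, eqA_sound he,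
      piQ_qW (Nat.ble_eq.mp hlt)]

theorem actL_cases {a : Nat × List Nat × List Nat} (ha : a ∈ actL) :
    a.1 = 6 ∨ a.1 = 8 ∨ a.1 = 10 ∨ a.1 = 11 ∨ a.1 = 14 :=
  (actL_spec a ha 0 (by norm_num)).1

theorem conj_mem_QT {a : Nat × List Nat × List Nat} (ha : a ∈ actL) {q : Th} (hq : q ∈ QT) :
    (fl LG a.1)⁻¹ * q * fl LG a.1 ∈ QT := by
  have := conj_QT_word [a.1] (by simpa using actL_cases ha) q hq
  simpa [ev_cons] using this

theorem conj_zT {a : Nat × List Nat × List Nat} (ha : a ∈ actL) :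
    (fl LG a.1)⁻¹ * zT * fl LG a.1 = zT := by
  have hz : zT ∈ QT := ⟨aA, aA_mem_QA, rfl⟩
  have h := QT_le hz
  rw [Subgroup.mem_centralizer_singleton_iff] at h
  have key : ∀ l, (l = 6 ∨ l = 8 ∨ l = 10 ∨ l = 11 ∨ l = 14) → fl LG l * zT = zT * fl LG l := by
    intro l hl
    rw [zT_eq, ev_cons, ev_nil, mul_one]
    rcases hl with rfl | rfl | rfl | rfl | rfl
    · have := congrArg ΨT (eqA_sound (v := [6, 0]) (w := [0, 6]) (by decide +kernel))
      rw [ΨT_ev _ (by simp), ΨT_ev _ (by simp)] at this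
      simpa [ev_cons] using this
    · have := congrArg ΨT (eqA_sound (v := [8, 0]) (w := [0, 8]) (by decide +kernel))
      rw [ΨT_ev _ (by simp), ΨT_ev _ (by simp)] at this
      simpa [ev_cons] using this
    · have := congrArg ΨT (eqA_sound (v := [10, 0]) (w := [0, 10]) (by decide +kernel))
      rw [ΨT_ev _ (by simp), ΨT_ev _ (by simp)] at this
      simpa [ev_cons] using this
    · have := congrArg ΨT (eqA_sound (v := [11, 0]) (w := [0, 11]) (by decide +kernel))
      rw [ΨT_ev _ (by simp), ΨT_ev _ (by simp)] at this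
      simpa [ev_cons] using this
    · have h := relW_LG [15, 1, 14, 0] (by decide +kernel)
      simp only [ev_cons, ev_nil, mul_one] at h
      rw [show fl LG 15 = (fl LG 14)⁻¹ from fl_xor16 len_LG pair_LG 14,
        show fl LG 1 = (fl LG 0)⁻¹ from fl_xor16 len_LG pair_LG 0] at h
      calc fl LG 14 * fl LG 0 = fl LG 0 * fl LG 14 *
            ((fl LG 14)⁻¹ * ((fl LG 0)⁻¹ * (fl LG 14 * fl LG 0))) := by group
        _ = fl LG 0 * fl LG 14 := by rw [h, mul_one]
  rw [mul_assoc, ← key _ (actL_cases ha), inv_mul_cancel_left]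

theorem rep8_eq {q : Th} (hq : q ∈ QT) : q = rep8 (piQ q) ∨ q = rep8 (piQ q) * zT := by
  have hi : (rep8 (piQ q))⁻¹ * q ∈ QT := mul_mem (inv_mem (rep8_mem _)) hq
  have h0 : piQ ((rep8 (piQ q))⁻¹ * q) = 0 := by
    have h1 := piQ_mul (inv_mem (rep8_mem (piQ q))) (rep8_mem (piQ q))
    rw [inv_mul_cancel, piQ_one, piQ_rep8 (piQ_lt q)] at h1
    rw [piQ_mul (inv_mem (rep8_mem _)) hq, ← h1]
  rcases piQ_eq_zero hi h0 with h | h
  · exact Or.inl (inv_mul_eq_one.mp h).symm
  · exact Or.inr (by rw [← h, mul_inv_cancel_left])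

/-- A homomorphism of the subgroup fixing the centre, in coordinates. -/
theorem piQ_hom {f : Th → Th} (hmem : ∀ q ∈ QT, f q ∈ QT)
    (hmul : ∀ p ∈ QT, ∀ q ∈ QT, f (p * q) = f p * f q) (hz : piQ (f zT) = 0) {q : Th}
    (hq : q ∈ QT) :
    piQ (f q) = selX (piQ q) (unitL.map fun v => piQ (f (rep8 v))) := by
  have hzQ : zT ∈ QT := ⟨aA, aA_mem_QA, rfl⟩
  have hrep : ∀ p ∈ QT, piQ (f p) = piQ (f (rep8 (piQ p))) := by
    intro p hp
    rcases rep8_eq hp with h | h <;> conv_lhs => rw [h]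
    rw [hmul _ (rep8_mem _) _ hzQ, piQ_mul (hmem _ (rep8_mem _)) (hmem _ hzQ), hz, Nat.xor_zero]
  rw [hrep q hq]
  refine linear_unit (F := fun v => piQ (f (rep8 v))) ?_ ?_ (piQ_lt q)
  · have h1 : f 1 = 1 := by
      have := hmul 1 (one_mem _) 1 (one_mem _)
      rw [one_mul] at this
      exact left_eq_mul.mp this
    have := hrep 1 (one_mem _)
    rw [piQ_one, h1, piQ_one] at this
    exact this.symm
  · intro x y hx hy
    show piQ (f (rep8 (x ^^^ y))) = piQ (f (rep8 x)) ^^^ piQ (f (rep8 y))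
    rw [← piQ_mul (hmem _ (rep8_mem _)) (hmem _ (rep8_mem _)), ← hmul _ (rep8_mem _) _ (rep8_mem _),
      hrep _ (mul_mem (rep8_mem x) (rep8_mem y)), piQ_mul (rep8_mem _) (rep8_mem _),
      piQ_rep8 hx, piQ_rep8 hy]

theorem rep8_unit : ∀ j < 8, qW (2 * unitL.getD j 0) = qBas.getD (j + 1) [] := by decide +kernel

theorem actL_length : ∀ a ∈ actL, a.2.1.length = 8 := by decide +kernel

/-- Conjugation by a letter acts by its matrix. -/
theorem piQ_conj {a : Nat × List Nat × List Nat} (ha : a ∈ actL) {q : Th} (hq : q ∈ QT) :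
    piQ ((fl LG a.1)⁻¹ * q * fl LG a.1) = actM a (piQ q) := by
  rw [piQ_hom (f := fun x => (fl LG a.1)⁻¹ * x * fl LG a.1) (fun x hx => conj_mem_QT ha hx)
    (fun p _ q _ => by group) (by rw [conj_zT ha, piQ_zT]) hq]
  show selX _ _ = selX _ a.2.1
  congr 1
  refine List.ext_getElem ?_ fun j h1 h2 => ?_
  · rw [List.length_map, actL_length a ha]
    rfl
  · have hj : j < 8 := lt_of_lt_of_eq h2 (actL_length a ha)
    rw [List.getElem_map, ← List.getD_eq_getElem a.2.1 0 h2, ← conj_bas ha hj, rep8,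
      ← List.getD_eq_getElem unitL 0 (show j < unitL.length from hj), rep8_unit j hj]

end CfsgLib.Coset.Th.Out
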