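import Mathlib.LinearAlgebra.Matrix.GeneralLinearGroup.Defs
import Mathlib.LinearAlgebra.Matrix.Rank
import Mathlib.GroupTheory.Subgroup.Centralizer

/-!
A biinvariant for a matrix group relative to a subgroup preserving a splitting of the coordinates:
with `A g` the upper left block of the matrix of `g`, the ranks of `A g * A g⁻¹ ± 1`.
-/

set_option autoImplicit false

namespace CfsgLib.Coset.Th

open Matrix

variable {G F : Type*} [Group G] [Field F] {k m : ℕ}

/-- The upper left block. -/
def blockTL (M : Matrix (Fin (k + m)) (Fin (k + m)) F) : Matrix (Fin k) (Fin k) F :=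
  M.submatrix (Fin.castAdd m) (Fin.castAdd m)

/-- The matrices respecting the splitting. -/
def Respects (M : Matrix (Fin (k + m)) (Fin (k + m)) F) : Prop :=
  ∀ i j : Fin (k + m), ((i : ℕ) < k ↔ ¬ (j : ℕ) < k) → M i j = 0

theorem blockTL_mul_left {H : Matrix (Fin (k + m)) (Fin (k + m)) F} (hH : Respects H)
    (M : Matrix (Fin (k + m)) (Fin (k + m)) F) : blockTL (H * M) = blockTL H * blockTL M := by
  ext i j
  simp only [blockTL, submatrix_apply, Matrix.mul_apply]
  rw [Fin.sum_univ_add]
  rw [show ∑ x : Fin m, H (Fin.castAdd m i) (Fin.natAdd k x) *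
      M (Fin.natAdd k x) (Fin.castAdd m j) = 0 from Finset.sum_eq_zero fun x _ => by
    rw [hH _ _ (by simp), zero_mul], add_zero]

theorem blockTL_mul_right {H : Matrix (Fin (k + m)) (Fin (k + m)) F} (hH : Respects H)
    (M : Matrix (Fin (k + m)) (Fin (k + m)) F) : blockTL (M * H) = blockTL M * blockTL H := by
  ext i j
  simp only [blockTL, submatrix_apply, Matrix.mul_apply]
  rw [Fin.sum_univ_add]
  rw [show ∑ x : Fin m, M (Fin.castAdd m i) (Fin.natAdd k x) *
      H (Fin.natAdd k x) (Fin.castAdd m j) = 0 from Finset.sum_eq_zero fun x _ => by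
    rw [hH _ _ (by simp), mul_zero], add_zero]

theorem blockTL_one : blockTL (1 : Matrix (Fin (k + m)) (Fin (k + m)) F) = 1 :=
  submatrix_one _ (Fin.castAdd_injective k m)

variable (ρ : G →* GL (Fin (k + m)) F)

/-- The block of a group element. -/
def blk (g : G) : Matrix (Fin k) (Fin k) F :=
  blockTL ((ρ g : GL (Fin (k + m)) F) : Matrix (Fin (k + m)) (Fin (k + m)) F)

/-- The elements respecting the splitting, with their inverses. -/
def blockSub : Subgroup G where
  carrier := {g | Respects ((ρ g : GL (Fin (k + m)) F) : Matrix (Fin (k + m)) (Fin (k + m)) F) ∧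
    Respects ((ρ g⁻¹ : GL (Fin (k + m)) F) : Matrix (Fin (k + m)) (Fin (k + m)) F)}
  one_mem' := by
    have h : Respects (1 : Matrix (Fin (k + m)) (Fin (k + m)) F) := by
      intro i j hij
      apply Matrix.one_apply_ne
      rintro rfl
      tauto
    simp [h]
  mul_mem' := by
    have h : ∀ A B : Matrix (Fin (k + m)) (Fin (k + m)) F, Respects A → Respects B →
        Respects (A * B) := by
      intro A B hA hB i j hij
      rw [Matrix.mul_apply]
      refine Finset.sum_eq_zero fun x _ => ?_
      by_cases hx : (x : ℕ) < k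
      · by_cases hi : (i : ℕ) < k
        · rw [hB x j (by tauto), mul_zero]
        · rw [hA i x (by tauto), zero_mul]
      · by_cases hi : (i : ℕ) < k
        · rw [hA i x (by tauto), zero_mul]
        · rw [hB x j (by tauto), mul_zero]
    rintro a b ⟨ha, ha'⟩ ⟨hb, hb'⟩
    exact ⟨by rw [map_mul, Units.val_mul]; exact h _ _ ha hb,
      by rw [_root_.mul_inv_rev, map_mul, Units.val_mul]; exact h _ _ hb' ha'⟩
  inv_mem' := by
    rintro a ⟨ha, ha'⟩
    exact ⟨ha', by rw [inv_inv]; exact ha⟩

/-- The product of the block of an element and the block of its inverse. -/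
def blkPair (g : G) : Matrix (Fin k) (Fin k) F := blk ρ g * blk ρ g⁻¹

/-- The invariant. -/
noncomputable def sepInv (g : G) : ℕ × ℕ :=
  ((blkPair ρ g - 1).rank, (blkPair ρ g + 1).rank)

variable {ρ}

theorem blk_mul_left {h : G} (hh : h ∈ blockSub ρ) (g : G) :
    blk ρ (h * g) = blk ρ h * blk ρ g := by
  rw [blk, map_mul, Units.val_mul]; exact blockTL_mul_left hh.1 _

theorem blk_mul_right {h : G} (hh : h ∈ blockSub ρ) (g : G) :
    blk ρ (g * h) = blk ρ g * blk ρ h := by
  rw [blk, map_mul, Units.val_mul]; exact blockTL_mul_right hh.1 _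

theorem blk_one : blk ρ 1 = 1 := by
  rw [blk, map_one, Units.val_one]; exact blockTL_one

theorem blk_mul_inv {h : G} (hh : h ∈ blockSub ρ) : blk ρ h * blk ρ h⁻¹ = 1 := by
  rw [← blk_mul_left hh, mul_inv_cancel, blk_one]

theorem rank_conj {A B : Matrix (Fin k) (Fin k) F} (hAB : A * B = 1)
    (X : Matrix (Fin k) (Fin k) F) : (A * X * B).rank = X.rank := by
  refine le_antisymm ((rank_mul_le_left _ _).trans (rank_mul_le_right _ _)) ?_
  have h : B * (A * X * B) * A = X := by
    rw [show B * (A * X * B) * A = (B * A) * X * (B * A) by simp only [mul_assoc],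
      mul_eq_one_comm.mp hAB, one_mul, mul_one]
  conv_lhs => rw [← h]
  exact (rank_mul_le_left _ _).trans (rank_mul_le_right _ _)

/-- The invariant is biinvariant. -/
theorem sepInv_mul_left_right {h₁ h₂ : G} (h1 : h₁ ∈ blockSub ρ) (h2 : h₂ ∈ blockSub ρ) (g : G) :
    sepInv ρ (h₁ * g * h₂) = sepInv ρ g := by
  have e : blkPair ρ (h₁ * g * h₂) = blk ρ h₁ * blkPair ρ g * blk ρ h₁⁻¹ := by
    rw [blkPair, blk_mul_right h2, blk_mul_left h1,
      show (h₁ * g * h₂)⁻¹ = h₂⁻¹ * g⁻¹ * h₁⁻¹ by group,
      blk_mul_right (inv_mem h1), blk_mul_left (inv_mem h2), blkPair]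
    simp only [mul_assoc]
    rw [← mul_assoc (blk ρ h₂) (blk ρ h₂⁻¹), blk_mul_inv h2, one_mul]
  have hA := blk_mul_inv h1
  have e1 : blkPair ρ (h₁ * g * h₂) - 1 = blk ρ h₁ * (blkPair ρ g - 1) * blk ρ h₁⁻¹ := by
    rw [e, mul_sub, sub_mul, mul_one, hA]
  have e2 : blkPair ρ (h₁ * g * h₂) + 1 = blk ρ h₁ * (blkPair ρ g + 1) * blk ρ h₁⁻¹ := by
    rw [e, mul_add, add_mul, mul_one, hA]
  rw [sepInv, e1, e2, rank_conj hA, rank_conj hA, sepInv]

/-- A factorisation and a one sided inverse determine the rank. -/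
theorem rank_eq_of_cert {n r : ℕ} {N : Matrix (Fin n) (Fin n) F}
    (X : Matrix (Fin n) (Fin r) F) (Y : Matrix (Fin r) (Fin n) F)
    (U : Matrix (Fin r) (Fin n) F) (W : Matrix (Fin n) (Fin r) F)
    (hN : X * Y = N) (hU : U * N * W = 1) : N.rank = r := by
  refine le_antisymm ?_ ?_
  · rw [← hN]
    exact (rank_mul_le_left _ _).trans ((rank_le_card_width _).trans (Fintype.card_fin r).le)
  · have h := (rank_mul_le_left (U * N) W).trans (rank_mul_le_right U N)
    rw [hU, rank_one, Fintype.card_fin] at h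
    exact h

end CfsgLib.Coset.Th
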