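import Cfsg.Agent.Coset.Ly.MatCode
import Cfsg.Agent.Coset.Th.SepBase

/-!
Small square matrices modulo 3 with packed rows (24 bits a coordinate), and a kernel check that
certifies the ranks of `A * B - 1` and `A * B + 1`.
-/

set_option autoImplicit false
set_option maxRecDepth 100000

namespace CfsgLib.Coset.Th.Sep

open CfsgLib.Coset.Ly (encF encF_add encF_mul encF_zero quot_mask lane encF_lane vacc vacc_eq)

section Kernel

/-- Reduce every coordinate modulo 3. -/
noncomputable def red3 (mask x : Nat) : Nat :=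
  Nat.sub x (Nat.mul 3 (Nat.land (Nat.shiftRight (Nat.mul x 5462) 14) mask))

/-- Product of a vector and a matrix. -/
noncomputable def mul3 (mask : Nat) (rows : List Nat) (v : Nat) : Nat :=
  red3 mask (vacc rows v 0)

/-- A row has coordinates below 3. -/
noncomputable def row3 : Nat → Nat → Bool :=
  fun n => Nat.rec (fun r => Nat.beq r 0)
    (fun _ ih r => cond (Nat.ble (Nat.add (Nat.land r 16777215) 1) 3)
      (Nat.rec (ih 0) (fun m _ => ih (Nat.add m 1)) (Nat.shiftRight r 24)) false) n

/-- All rows are valid. -/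
noncomputable def mat3 (n : Nat) (rows : List Nat) : Bool :=
  cond (Nat.beq rows.length n) (allList (row3 n) rows) false

/-- The certificate `X Y + c = A B`, `Y = D_r Y`, `U X Y W = D_r` in one row. -/
noncomputable def certRow (mask c r : Nat) (A B X Y U W : List Nat) (i : Nat) : Bool :=
  cond (Nat.beq (red3 mask (Nat.add (mul3 mask Y (X.getD i 0)) (Nat.mul c (Nat.pow 2 (Nat.mul 24 i)))))
      (mul3 mask B (A.getD i 0)))
    (cond (Nat.beq (mul3 mask W (mul3 mask Y (mul3 mask X (U.getD i 0))))
        (cond (Nat.ble r i) 0 (Nat.pow 2 (Nat.mul 24 i))))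
      (cond (Nat.ble r i) (Nat.beq (Y.getD i 0) 0) true) false) false

end Kernel

/-- The code of a vector. -/
def code3 {n : ℕ} (v : Fin n → ZMod 3) : ℕ := encF n fun j => (v j).val

theorem val_lt24 {n : ℕ} (v : Fin n → ZMod 3) (j : Fin n) : (v j).val < 16777216 :=
  lt_trans (ZMod.val_lt _) (by norm_num)

theorem magic3 : ∀ x < 3000, 3 * (x * 5462 / 16384) ≤ x ∧ x - 3 * (x * 5462 / 16384) = x % 3 := by
  intro x hx
  have : x * 5462 / 16384 = x / 3 := by
    have h1 := Nat.div_add_mod x 3
    have h2 := Nat.mod_lt x (show 3 > 0 by norm_num)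
    rw [Nat.div_eq_iff (by norm_num)]
    omega
  rw [this]
  omega

theorem red3_eq {n : ℕ} (x : Fin n → ℕ) (hx : ∀ j, x j < 3000) :
    red3 (encF n fun _ => 1023) (encF n x) = encF n fun j => x j % 3 := by
  show encF n x - 3 * ((encF n x * 5462) >>> 14 &&& encF n fun _ => 1023) = _
  rw [Nat.shiftRight_eq_div_pow, show (2 : ℕ) ^ 14 = 16384 by norm_num, mul_comm (encF n x),
    encF_mul, quot_mask n _ fun j => by have := hx j; omega, encF_mul]
  refine Nat.sub_eq_of_eq_add ?_
  rw [encF_add]
  congr 1
  funext j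
  have := magic3 (x j) (hx j)
  rw [mul_comm 5462]
  omega

theorem row3_iff : ∀ (n r : ℕ), row3 n r = true → ∃ f : Fin n → ZMod 3, r = code3 f := by
  intro n
  induction n with
  | zero => intro r h; exact ⟨Fin.elim0, Nat.eq_of_beq_eq_true h⟩
  | succ n ih =>
    intro r h
    change cond (Nat.ble (Nat.add (Nat.land r 16777215) 1) 3) (Nat.rec (motive := fun _ => Bool)
      (row3 n 0) (fun m _ => row3 n (Nat.add m 1)) (Nat.shiftRight r 24)) false = true at h
    rw [show Nat.rec (motive := fun _ => Bool) (row3 n 0) (fun m _ => row3 n (Nat.add m 1))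
      (Nat.shiftRight r 24) = row3 n (Nat.shiftRight r 24) by
        cases Nat.shiftRight r 24 <;> rfl, cond_false_eq_true] at h
    obtain ⟨f, hf⟩ := ih _ h.2
    have h1 : r % 16777216 < 3 := by
      have h2 : Nat.land r 16777215 = r % 16777216 := Nat.and_two_pow_sub_one_eq_mod r 24
      have := Nat.ble_eq.mp h.1
      rw [h2] at this
      exact this
    refine ⟨Fin.cons ((r % 16777216 : ℕ) : ZMod 3) f, ?_⟩
    have h3 : r / 16777216 = code3 f := by
      rw [← hf]; exact (Nat.shiftRight_eq_div_pow r 24).symm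
    simp only [code3, encF, Fin.cons_zero]
    rw [show (fun j => ((Fin.cons ((r % 16777216 : ℕ) : ZMod 3) f : Fin (n + 1) → ZMod 3) j).val) ∘
        Fin.succ = fun j => (f j).val by funext j; simp,
      ZMod.val_natCast_of_lt h1]
    unfold code3 at h3
    rw [← h3]
    omega

/-- The matrix of packed rows. -/
def mat (n : ℕ) (rows : List ℕ) : Matrix (Fin n) (Fin n) (ZMod 3) :=
  fun i j => (lane (rows.getD i 0) j : ZMod 3)

theorem row_code3 {n : ℕ} {rows : List ℕ} (h : mat3 n rows = true) (i : Fin n) :
    rows.getD i 0 = code3 (mat n rows i) := by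
  unfold mat3 at h
  rw [cond_false_eq_true] at h
  have hi : (i : ℕ) < rows.length := by rw [Nat.eq_of_beq_eq_true h.1]; exact i.2
  obtain ⟨f, hf⟩ := row3_iff n (rows.getD i 0) (by
    rw [List.getD_eq_getElem _ _ hi]; exact allList_iff.mp h.2 _ (List.getElem_mem hi))
  have e : mat n rows i = f := by
    funext j
    show ((lane (rows.getD i 0) j : ℕ) : ZMod 3) = f j
    rw [hf, code3, encF_lane n _ (val_lt24 f) j, ZMod.natCast_zmod_val]
  rw [e, hf]

theorem mul3_code {n : ℕ} (hn : n ≤ 700) {rows : List ℕ} (h : mat3 n rows = true)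
    (v : Fin n → ZMod 3) :
    mul3 (encF n fun _ => 1023) rows (code3 v) = code3 (Matrix.vecMul v (mat n rows)) := by
  have hl : rows.length = n := by
    have h' := h
    unfold mat3 at h'
    rw [cond_false_eq_true] at h'
    exact Nat.eq_of_beq_eq_true h'.1
  let g : ℕ → Fin n → ℕ := fun i j => if hi : i < n then (mat n rows ⟨i, hi⟩ j).val else 0
  have hg : ∀ i < n, rows.getD i 0 = encF n (g i) := by
    intro i hi
    rw [row_code3 h ⟨i, hi⟩, code3]
    simp [g, hi]
  have h0 := vacc_eq g n rows (fun j => (v j).val) hl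
    (fun j => lt_trans (ZMod.val_lt _) (by norm_num)) hg (fun _ => 0)
  rw [encF_zero] at h0
  unfold mul3
  rw [code3, h0, red3_eq, code3]
  · congr 1
    funext j
    rw [← ZMod.val_natCast]
    congr 1
    simp only [Nat.cast_add, Nat.cast_zero, zero_add, Nat.cast_sum, Nat.cast_mul,
      ZMod.natCast_zmod_val, Matrix.vecMul, dotProduct]
    refine Finset.sum_congr rfl fun i _ => ?_
    simp [g]
  · intro j
    have : ∀ i : Fin n, (v i).val * g i j ≤ 4 := fun i => by
      have h1 := ZMod.val_lt (v i)
      have h2 : g i j ≤ 2 := by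
        simp only [g, dif_pos i.2]
        exact Nat.le_of_lt_succ (ZMod.val_lt _)
      calc (v i).val * g i j ≤ 2 * 2 := Nat.mul_le_mul (by omega) h2
        _ = 4 := rfl
    have := Finset.sum_le_sum (s := Finset.univ) fun i (_ : i ∈ Finset.univ) => this i
    simp only [Finset.sum_const, Finset.card_univ, Fintype.card_fin, smul_eq_mul] at this
    omega

theorem code3_injective {n : ℕ} : Function.Injective (code3 : (Fin n → ZMod 3) → ℕ) := by
  intro v w h
  funext j
  apply ZMod.val_injective
  rw [← encF_lane n _ (val_lt24 v) j, ← encF_lane n _ (val_lt24 w) j]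
  unfold code3 at h
  rw [h]

theorem code3_zero {n : ℕ} : code3 (0 : Fin n → ZMod 3) = 0 := by
  rw [code3, show (fun j : Fin n => ((0 : Fin n → ZMod 3) j).val) = fun _ => 0 from rfl, encF_zero]

theorem code3_single : ∀ (n : ℕ) (i : Fin n),
    code3 (Pi.single i (1 : ZMod 3)) = 2 ^ (24 * (i : ℕ)) := by
  intro n
  induction n with
  | zero => intro i; exact i.elim0
  | succ n ih =>
    intro i
    induction i using Fin.cases with
    | zero =>
      simp only [code3, encF, Pi.single_eq_same]
      rw [show (fun j : Fin (n + 1) => ((Pi.single 0 1 : Fin (n + 1) → ZMod 3) j).val) ∘ Fin.succ =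
        fun _ => 0 by funext j; simp [Fin.succ_ne_zero], encF_zero]
      rfl
    | succ i =>
      have h1 : ((Pi.single i.succ 1 : Fin (n + 1) → ZMod 3) 0) = 0 :=
        Pi.single_eq_of_ne (Fin.succ_ne_zero i).symm _
      have h2 : (fun j : Fin (n + 1) => ((Pi.single i.succ 1 : Fin (n + 1) → ZMod 3) j).val) ∘
          Fin.succ = fun j => ((Pi.single i 1 : Fin n → ZMod 3) j).val := by
        funext j
        simp [Pi.single_apply, Fin.succ_inj]
      show encF (n + 1) _ = _
      simp only [encF]
      rw [h1, h2, show encF n (fun j => ((Pi.single i 1 : Fin n → ZMod 3) j).val) = 2 ^ (24 * (i : ℕ))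
        from ih i, ZMod.val_zero, zero_add, Fin.val_succ, Nat.mul_succ, pow_add]
      ring

theorem rank_trunc {R : Type*} [CommRing R] [Nontrivial R] {n r : ℕ} (hr : r ≤ n) :
    (Matrix.diagonal fun i : Fin n => if (i : ℕ) < r then (1 : R) else 0).rank = r := by
  obtain ⟨P, hP⟩ : ∃ P : Matrix (Fin n) (Fin r) R,
      ∀ (i : Fin n) (k : Fin r), P i k = if (i : ℕ) = k then 1 else 0 :=
    ⟨fun i k => if (i : ℕ) = k then 1 else 0, fun _ _ => rfl⟩
  have h1 : (Matrix.diagonal fun i : Fin n => if (i : ℕ) < r then (1 : R) else 0) =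
      P * P.transpose := by
    ext i j
    rw [Matrix.mul_apply]
    simp only [Matrix.transpose_apply, hP, ite_mul, one_mul, zero_mul]
    by_cases hi : (i : ℕ) < r
    · rw [Finset.sum_eq_single (⟨i, hi⟩ : Fin r)]
      · by_cases hij : i = j
        · subst hij; simp [hi]
        · simp [hij, Fin.val_ne_iff.mpr (Ne.symm hij)]
      · intro k _ hk
        rw [if_neg]
        exact fun e => hk (Fin.ext e.symm)
      · simp
    · rw [Finset.sum_eq_zero fun (k : Fin r) _ => if_neg fun e : (i : ℕ) = (k : ℕ) => hi (e ▸ k.2)]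
      simp [Matrix.diagonal_apply, hi]
  have h2 : P.transpose * P = 1 := by
    ext k l
    rw [Matrix.mul_apply, Finset.sum_eq_single (⟨k, lt_of_lt_of_le k.2 hr⟩ : Fin n)]
    · rw [Matrix.transpose_apply, hP, hP]
      simp [Matrix.one_apply, Fin.ext_iff]
    · intro i _ hi
      rw [Matrix.transpose_apply]
      rw [hP i k]
      rw [if_neg, zero_mul]
      exact fun e => hi (Fin.ext e)
    · simp
  rw [h1]
  refine le_antisymm ((Matrix.rank_mul_le_left _ _).trans
    ((Matrix.rank_le_card_width _).trans (Fintype.card_fin r).le)) ?_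
  have h := (Matrix.rank_mul_le_left (P.transpose * (P * P.transpose)) P).trans
    (Matrix.rank_mul_le_right P.transpose (P * P.transpose))
  rw [← Matrix.mul_assoc P.transpose, h2, Matrix.one_mul, h2, Matrix.rank_one, Fintype.card_fin] at h
  exact h

/-- The rank of `A B - c` from a certificate. -/
theorem rank_of_cert {n c r : ℕ} (hn : n ≤ 700) (hr : r ≤ n) (hc : c < 3) {A B X Y U W : List ℕ}
    {mask : ℕ} (hm : mask = encF n fun _ => 1023)
    (hA : mat3 n A = true) (hB : mat3 n B = true) (hX : mat3 n X = true) (hY : mat3 n Y = true)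
    (hU : mat3 n U = true) (hW : mat3 n W = true)
    (h : ∀ i < n, certRow mask c r A B X Y U W i = true) :
    (mat n A * mat n B - (c : ZMod 3) • (1 : Matrix (Fin n) (Fin n) (ZMod 3))).rank = r := by
  classical
  subst hm
  let D : Matrix (Fin n) (Fin n) (ZMod 3) :=
    Matrix.diagonal fun i => if (i : ℕ) < r then 1 else 0
  have hfacts : ∀ i : Fin n,
      Matrix.vecMul (mat n X i) (mat n Y) + (c : ZMod 3) • Pi.single i 1 =
        Matrix.vecMul (mat n A i) (mat n B) ∧
      Matrix.vecMul (Matrix.vecMul (Matrix.vecMul (mat n U i) (mat n X)) (mat n Y)) (mat n W) =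
        D i ∧
      (r ≤ (i : ℕ) → mat n Y i = 0) := by
    intro i
    have hi := h i i.2
    rw [certRow, cond_false_eq_true, cond_false_eq_true, row_code3 hX i, row_code3 hA i,
      row_code3 hU i, mul3_code hn hY, mul3_code hn hB, mul3_code hn hX, mul3_code hn hY,
      mul3_code hn hW] at hi
    obtain ⟨h1, h2, h3⟩ := hi
    refine ⟨?_, ?_, fun hri => ?_⟩
    · apply code3_injective
      rw [← Nat.eq_of_beq_eq_true h1]
      set u := Matrix.vecMul (mat n X i) (mat n Y)
      have e : Nat.add (code3 u) (Nat.mul c (Nat.pow 2 (Nat.mul 24 (i : ℕ)))) =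
          encF n fun j => (u j).val + c * ((Pi.single i 1 : Fin n → ZMod 3) j).val := by
        show code3 u + c * 2 ^ (24 * (i : ℕ)) = _
        rw [← code3_single n i, code3, code3, encF_mul, encF_add]
      rw [e, red3_eq _ fun j => by
        have := ZMod.val_lt (u j)
        have h' := ZMod.val_lt ((Pi.single i 1 : Fin n → ZMod 3) j)
        have : c * ((Pi.single i 1 : Fin n → ZMod 3) j).val ≤ 2 * 2 :=
          Nat.mul_le_mul (by omega) (by omega)
        omega]
      show encF n _ = encF n _
      congr 1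
      funext j
      rw [← ZMod.val_natCast]
      simp
    · apply code3_injective
      rw [Nat.eq_of_beq_eq_true h2]
      by_cases hir : (i : ℕ) < r
      · rw [show Nat.ble r i = false from Bool.eq_false_iff.mpr fun hb => by
          have := Nat.ble_eq.mp hb; omega, cond_false]
        show 2 ^ (24 * (i : ℕ)) = _
        rw [← code3_single n i]
        congr 1
        funext j
        simp [D, Matrix.diagonal_apply, Pi.single_apply, hir, eq_comm]
      · rw [Nat.ble_eq_true_of_le (not_lt.1 hir), cond_true, ← code3_zero]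
        congr 1
        funext j
        simp [D, Matrix.diagonal_apply, hir]
    · rw [Nat.ble_eq_true_of_le hri, cond_true] at h3
      apply code3_injective
      rw [← row_code3 hY i, Nat.eq_of_beq_eq_true h3, code3_zero]
  have hDY : D * mat n Y = mat n Y := by
    ext i j
    rw [Matrix.diagonal_mul]
    by_cases hir : (i : ℕ) < r
    · simp [hir]
    · simp [hir, (hfacts i).2.2 (not_lt.1 hir)]
  have e1 : mat n X * mat n Y =
      mat n A * mat n B - (c : ZMod 3) • (1 : Matrix (Fin n) (Fin n) (ZMod 3)) := by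
    rw [eq_sub_iff_add_eq]
    ext i j
    have h' := congrFun (hfacts i).1 j
    rw [Matrix.add_apply, Matrix.smul_apply]
    simp only [Matrix.mul_apply, Matrix.vecMul, dotProduct, Pi.add_apply, Pi.smul_apply] at h' ⊢
    rw [← h']
    simp [Matrix.one_apply, Pi.single_apply, eq_comm]
  have e2 : mat n U * (mat n X * mat n Y) * mat n W = D := by
    ext i j
    have h' := congrFun (hfacts i).2.1 j
    rw [← h', Matrix.vecMul_vecMul, Matrix.vecMul_vecMul, mul_assoc, mul_assoc (mat n X)]
    rfl
  have hD : D.rank = r := by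
    exact rank_trunc hr
  rw [← e1]
  refine le_antisymm ?_ ?_
  · rw [← hDY]
    exact (Matrix.rank_mul_le_right _ _).trans ((Matrix.rank_mul_le_left _ _).trans hD.le)
  · have h' := (Matrix.rank_mul_le_left (mat n U * (mat n X * mat n Y)) (mat n W)).trans
      (Matrix.rank_mul_le_right (mat n U) (mat n X * mat n Y))
    rw [e2, hD] at h'
    exact h'

end CfsgLib.Coset.Th.Sep
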