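import Cfsg.Agent.Coset.Th.SepCode
import Cfsg.Agent.Coset.Th.SepData0
import Cfsg.Agent.Coset.Th.SepData1
import Cfsg.Agent.Coset.Th.SepData2

/-!
The ranks of the block products at the eleven nodes.
-/

set_option autoImplicit false
set_option maxRecDepth 100000
set_option Elab.async false

namespace CfsgLib.Coset.Th.Sep

open CfsgLib.Coset.Ly (encF)

/-- The reduction mask for 52 coordinates. -/
def mask52 : Nat := 0x3ff0003ff0003ff0003ff0003ff0003ff0003ff0003ff0003ff0003ff0003ff0003ff0003ff0003ff0003ff0003ff0003ff0003ff0003ff0003ff0003ff0003ff0003ff0003ff0003ff0003ff0003ff0003ff0003ff0003ff0003ff0003ff0003ff0003ff0003ff0003ff0003ff0003ff0003ff0003ff0003ff0003ff0003ff0003ff0003ff0003ff0003ff0003ff0003ff0003ff0003ff0003ff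

theorem mask52_eq : mask52 = encF 52 fun _ => 1023 := by decide +kernel

/-- The block of each node. -/
def blkA : List (List Nat) := [blkA0, blkA1, blkA2, blkA3, blkA4, blkA5, blkA6, blkA7, blkA8, blkA9, blkA10]

/-- The block of each inverse node. -/
def blkB : List (List Nat) := [blkB0, blkB1, blkB2, blkB3, blkB4, blkB5, blkB6, blkB7, blkB8, blkB9, blkB10]

theorem okA0 : mat3 52 blkA0 = true := by decide +kernel

theorem okB0 : mat3 52 blkB0 = true := by decide +kernel

theorem okX0_0 : mat3 52 certX0_0 = true := by decide +kernel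

theorem okY0_0 : mat3 52 certY0_0 = true := by decide +kernel

theorem okU0_0 : mat3 52 certU0_0 = true := by decide +kernel

theorem okW0_0 : mat3 52 certW0_0 = true := by decide +kernel

theorem row0_0 : ∀ i < 52, certRow mask52 1 0 blkA0 blkB0 certX0_0 certY0_0 certU0_0 certW0_0 i = true := by
  decide +kernel

theorem rank0_0 : (mat 52 blkA0 * mat 52 blkB0 -
    ((1 : ℕ) : ZMod 3) • (1 : Matrix (Fin 52) (Fin 52) (ZMod 3))).rank = 0 :=
  rank_of_cert (by norm_num) (by norm_num) (by norm_num) mask52_eq okA0 okB0 okX0_0 okY0_0 okU0_0 okW0_0 row0_0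

theorem okX0_1 : mat3 52 certX0_1 = true := by decide +kernel

theorem okY0_1 : mat3 52 certY0_1 = true := by decide +kernel

theorem okU0_1 : mat3 52 certU0_1 = true := by decide +kernel

theorem okW0_1 : mat3 52 certW0_1 = true := by decide +kernel

theorem row0_1 : ∀ i < 52, certRow mask52 2 52 blkA0 blkB0 certX0_1 certY0_1 certU0_1 certW0_1 i = true := by
  decide +kernel

theorem rank0_1 : (mat 52 blkA0 * mat 52 blkB0 -
    ((2 : ℕ) : ZMod 3) • (1 : Matrix (Fin 52) (Fin 52) (ZMod 3))).rank = 52 :=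
  rank_of_cert (by norm_num) (by norm_num) (by norm_num) mask52_eq okA0 okB0 okX0_1 okY0_1 okU0_1 okW0_1 row0_1

theorem okA1 : mat3 52 blkA1 = true := by decide +kernel

theorem okB1 : mat3 52 blkB1 = true := by decide +kernel

theorem okX1_0 : mat3 52 certX1_0 = true := by decide +kernel

theorem okY1_0 : mat3 52 certY1_0 = true := by decide +kernel

theorem okU1_0 : mat3 52 certU1_0 = true := by decide +kernel

theorem okW1_0 : mat3 52 certW1_0 = true := by decide +kernel

theorem row1_0 : ∀ i < 52, certRow mask52 1 40 blkA1 blkB1 certX1_0 certY1_0 certU1_0 certW1_0 i = true := by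
  decide +kernel

theorem rank1_0 : (mat 52 blkA1 * mat 52 blkB1 -
    ((1 : ℕ) : ZMod 3) • (1 : Matrix (Fin 52) (Fin 52) (ZMod 3))).rank = 40 :=
  rank_of_cert (by norm_num) (by norm_num) (by norm_num) mask52_eq okA1 okB1 okX1_0 okY1_0 okU1_0 okW1_0 row1_0

theorem okX1_1 : mat3 52 certX1_1 = true := by decide +kernel

theorem okY1_1 : mat3 52 certY1_1 = true := by decide +kernel

theorem okU1_1 : mat3 52 certU1_1 = true := by decide +kernel

theorem okW1_1 : mat3 52 certW1_1 = true := by decide +kernel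

theorem row1_1 : ∀ i < 52, certRow mask52 2 52 blkA1 blkB1 certX1_1 certY1_1 certU1_1 certW1_1 i = true := by
  decide +kernel

theorem rank1_1 : (mat 52 blkA1 * mat 52 blkB1 -
    ((2 : ℕ) : ZMod 3) • (1 : Matrix (Fin 52) (Fin 52) (ZMod 3))).rank = 52 :=
  rank_of_cert (by norm_num) (by norm_num) (by norm_num) mask52_eq okA1 okB1 okX1_1 okY1_1 okU1_1 okW1_1 row1_1

theorem okA2 : mat3 52 blkA2 = true := by decide +kernel

theorem okB2 : mat3 52 blkB2 = true := by decide +kernel

theorem okX2_0 : mat3 52 certX2_0 = true := by decide +kernel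

theorem okY2_0 : mat3 52 certY2_0 = true := by decide +kernel

theorem okU2_0 : mat3 52 certU2_0 = true := by decide +kernel

theorem okW2_0 : mat3 52 certW2_0 = true := by decide +kernel

theorem row2_0 : ∀ i < 52, certRow mask52 1 27 blkA2 blkB2 certX2_0 certY2_0 certU2_0 certW2_0 i = true := by
  decide +kernel

theorem rank2_0 : (mat 52 blkA2 * mat 52 blkB2 -
    ((1 : ℕ) : ZMod 3) • (1 : Matrix (Fin 52) (Fin 52) (ZMod 3))).rank = 27 :=
  rank_of_cert (by norm_num) (by norm_num) (by norm_num) mask52_eq okA2 okB2 okX2_0 okY2_0 okU2_0 okW2_0 row2_0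

theorem okX2_1 : mat3 52 certX2_1 = true := by decide +kernel

theorem okY2_1 : mat3 52 certY2_1 = true := by decide +kernel

theorem okU2_1 : mat3 52 certU2_1 = true := by decide +kernel

theorem okW2_1 : mat3 52 certW2_1 = true := by decide +kernel

theorem row2_1 : ∀ i < 52, certRow mask52 2 52 blkA2 blkB2 certX2_1 certY2_1 certU2_1 certW2_1 i = true := by
  decide +kernel

theorem rank2_1 : (mat 52 blkA2 * mat 52 blkB2 -
    ((2 : ℕ) : ZMod 3) • (1 : Matrix (Fin 52) (Fin 52) (ZMod 3))).rank = 52 :=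
  rank_of_cert (by norm_num) (by norm_num) (by norm_num) mask52_eq okA2 okB2 okX2_1 okY2_1 okU2_1 okW2_1 row2_1

theorem okA3 : mat3 52 blkA3 = true := by decide +kernel

theorem okB3 : mat3 52 blkB3 = true := by decide +kernel

theorem okX3_0 : mat3 52 certX3_0 = true := by decide +kernel

theorem okY3_0 : mat3 52 certY3_0 = true := by decide +kernel

theorem okU3_0 : mat3 52 certU3_0 = true := by decide +kernel

theorem okW3_0 : mat3 52 certW3_0 = true := by decide +kernel

theorem row3_0 : ∀ i < 52, certRow mask52 1 23 blkA3 blkB3 certX3_0 certY3_0 certU3_0 certW3_0 i = true := by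
  decide +kernel

theorem rank3_0 : (mat 52 blkA3 * mat 52 blkB3 -
    ((1 : ℕ) : ZMod 3) • (1 : Matrix (Fin 52) (Fin 52) (ZMod 3))).rank = 23 :=
  rank_of_cert (by norm_num) (by norm_num) (by norm_num) mask52_eq okA3 okB3 okX3_0 okY3_0 okU3_0 okW3_0 row3_0

theorem okX3_1 : mat3 52 certX3_1 = true := by decide +kernel

theorem okY3_1 : mat3 52 certY3_1 = true := by decide +kernel

theorem okU3_1 : mat3 52 certU3_1 = true := by decide +kernel

theorem okW3_1 : mat3 52 certW3_1 = true := by decide +kernel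

theorem row3_1 : ∀ i < 52, certRow mask52 2 52 blkA3 blkB3 certX3_1 certY3_1 certU3_1 certW3_1 i = true := by
  decide +kernel

theorem rank3_1 : (mat 52 blkA3 * mat 52 blkB3 -
    ((2 : ℕ) : ZMod 3) • (1 : Matrix (Fin 52) (Fin 52) (ZMod 3))).rank = 52 :=
  rank_of_cert (by norm_num) (by norm_num) (by norm_num) mask52_eq okA3 okB3 okX3_1 okY3_1 okU3_1 okW3_1 row3_1

theorem okA4 : mat3 52 blkA4 = true := by decide +kernel

theorem okB4 : mat3 52 blkB4 = true := by decide +kernel

theorem okX4_0 : mat3 52 certX4_0 = true := by decide +kernel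

theorem okY4_0 : mat3 52 certY4_0 = true := by decide +kernel

theorem okU4_0 : mat3 52 certU4_0 = true := by decide +kernel

theorem okW4_0 : mat3 52 certW4_0 = true := by decide +kernel

theorem row4_0 : ∀ i < 52, certRow mask52 1 43 blkA4 blkB4 certX4_0 certY4_0 certU4_0 certW4_0 i = true := by
  decide +kernel

theorem rank4_0 : (mat 52 blkA4 * mat 52 blkB4 -
    ((1 : ℕ) : ZMod 3) • (1 : Matrix (Fin 52) (Fin 52) (ZMod 3))).rank = 43 :=
  rank_of_cert (by norm_num) (by norm_num) (by norm_num) mask52_eq okA4 okB4 okX4_0 okY4_0 okU4_0 okW4_0 row4_0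

theorem okX4_1 : mat3 52 certX4_1 = true := by decide +kernel

theorem okY4_1 : mat3 52 certY4_1 = true := by decide +kernel

theorem okU4_1 : mat3 52 certU4_1 = true := by decide +kernel

theorem okW4_1 : mat3 52 certW4_1 = true := by decide +kernel

theorem row4_1 : ∀ i < 52, certRow mask52 2 36 blkA4 blkB4 certX4_1 certY4_1 certU4_1 certW4_1 i = true := by
  decide +kernel

theorem rank4_1 : (mat 52 blkA4 * mat 52 blkB4 -
    ((2 : ℕ) : ZMod 3) • (1 : Matrix (Fin 52) (Fin 52) (ZMod 3))).rank = 36 :=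
  rank_of_cert (by norm_num) (by norm_num) (by norm_num) mask52_eq okA4 okB4 okX4_1 okY4_1 okU4_1 okW4_1 row4_1

theorem okA5 : mat3 52 blkA5 = true := by decide +kernel

theorem okB5 : mat3 52 blkB5 = true := by decide +kernel

theorem okX5_0 : mat3 52 certX5_0 = true := by decide +kernel

theorem okY5_0 : mat3 52 certY5_0 = true := by decide +kernel

theorem okU5_0 : mat3 52 certU5_0 = true := by decide +kernel

theorem okW5_0 : mat3 52 certW5_0 = true := by decide +kernel

theorem row5_0 : ∀ i < 52, certRow mask52 1 30 blkA5 blkB5 certX5_0 certY5_0 certU5_0 certW5_0 i = true := by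
  decide +kernel

theorem rank5_0 : (mat 52 blkA5 * mat 52 blkB5 -
    ((1 : ℕ) : ZMod 3) • (1 : Matrix (Fin 52) (Fin 52) (ZMod 3))).rank = 30 :=
  rank_of_cert (by norm_num) (by norm_num) (by norm_num) mask52_eq okA5 okB5 okX5_0 okY5_0 okU5_0 okW5_0 row5_0

theorem okX5_1 : mat3 52 certX5_1 = true := by decide +kernel

theorem okY5_1 : mat3 52 certY5_1 = true := by decide +kernel

theorem okU5_1 : mat3 52 certU5_1 = true := by decide +kernel

theorem okW5_1 : mat3 52 certW5_1 = true := by decide +kernel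

theorem row5_1 : ∀ i < 52, certRow mask52 2 52 blkA5 blkB5 certX5_1 certY5_1 certU5_1 certW5_1 i = true := by
  decide +kernel

theorem rank5_1 : (mat 52 blkA5 * mat 52 blkB5 -
    ((2 : ℕ) : ZMod 3) • (1 : Matrix (Fin 52) (Fin 52) (ZMod 3))).rank = 52 :=
  rank_of_cert (by norm_num) (by norm_num) (by norm_num) mask52_eq okA5 okB5 okX5_1 okY5_1 okU5_1 okW5_1 row5_1

theorem okA6 : mat3 52 blkA6 = true := by decide +kernel

theorem okB6 : mat3 52 blkB6 = true := by decide +kernel

theorem okX6_0 : mat3 52 certX6_0 = true := by decide +kernel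

theorem okY6_0 : mat3 52 certY6_0 = true := by decide +kernel

theorem okU6_0 : mat3 52 certU6_0 = true := by decide +kernel

theorem okW6_0 : mat3 52 certW6_0 = true := by decide +kernel

theorem row6_0 : ∀ i < 52, certRow mask52 1 45 blkA6 blkB6 certX6_0 certY6_0 certU6_0 certW6_0 i = true := by
  decide +kernel

theorem rank6_0 : (mat 52 blkA6 * mat 52 blkB6 -
    ((1 : ℕ) : ZMod 3) • (1 : Matrix (Fin 52) (Fin 52) (ZMod 3))).rank = 45 :=
  rank_of_cert (by norm_num) (by norm_num) (by norm_num) mask52_eq okA6 okB6 okX6_0 okY6_0 okU6_0 okW6_0 row6_0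

theorem okX6_1 : mat3 52 certX6_1 = true := by decide +kernel

theorem okY6_1 : mat3 52 certY6_1 = true := by decide +kernel

theorem okU6_1 : mat3 52 certU6_1 = true := by decide +kernel

theorem okW6_1 : mat3 52 certW6_1 = true := by decide +kernel

theorem row6_1 : ∀ i < 52, certRow mask52 2 52 blkA6 blkB6 certX6_1 certY6_1 certU6_1 certW6_1 i = true := by
  decide +kernel

theorem rank6_1 : (mat 52 blkA6 * mat 52 blkB6 -
    ((2 : ℕ) : ZMod 3) • (1 : Matrix (Fin 52) (Fin 52) (ZMod 3))).rank = 52 :=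
  rank_of_cert (by norm_num) (by norm_num) (by norm_num) mask52_eq okA6 okB6 okX6_1 okY6_1 okU6_1 okW6_1 row6_1

theorem okA7 : mat3 52 blkA7 = true := by decide +kernel

theorem okB7 : mat3 52 blkB7 = true := by decide +kernel

theorem okX7_0 : mat3 52 certX7_0 = true := by decide +kernel

theorem okY7_0 : mat3 52 certY7_0 = true := by decide +kernel

theorem okU7_0 : mat3 52 certU7_0 = true := by decide +kernel

theorem okW7_0 : mat3 52 certW7_0 = true := by decide +kernel

theorem row7_0 : ∀ i < 52, certRow mask52 1 38 blkA7 blkB7 certX7_0 certY7_0 certU7_0 certW7_0 i = true := by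
  decide +kernel

theorem rank7_0 : (mat 52 blkA7 * mat 52 blkB7 -
    ((1 : ℕ) : ZMod 3) • (1 : Matrix (Fin 52) (Fin 52) (ZMod 3))).rank = 38 :=
  rank_of_cert (by norm_num) (by norm_num) (by norm_num) mask52_eq okA7 okB7 okX7_0 okY7_0 okU7_0 okW7_0 row7_0

theorem okX7_1 : mat3 52 certX7_1 = true := by decide +kernel

theorem okY7_1 : mat3 52 certY7_1 = true := by decide +kernel

theorem okU7_1 : mat3 52 certU7_1 = true := by decide +kernel

theorem okW7_1 : mat3 52 certW7_1 = true := by decide +kernel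

theorem row7_1 : ∀ i < 52, certRow mask52 2 52 blkA7 blkB7 certX7_1 certY7_1 certU7_1 certW7_1 i = true := by
  decide +kernel

theorem rank7_1 : (mat 52 blkA7 * mat 52 blkB7 -
    ((2 : ℕ) : ZMod 3) • (1 : Matrix (Fin 52) (Fin 52) (ZMod 3))).rank = 52 :=
  rank_of_cert (by norm_num) (by norm_num) (by norm_num) mask52_eq okA7 okB7 okX7_1 okY7_1 okU7_1 okW7_1 row7_1

theorem okA8 : mat3 52 blkA8 = true := by decide +kernel

theorem okB8 : mat3 52 blkB8 = true := by decide +kernel

theorem okX8_0 : mat3 52 certX8_0 = true := by decide +kernel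

theorem okY8_0 : mat3 52 certY8_0 = true := by decide +kernel

theorem okU8_0 : mat3 52 certU8_0 = true := by decide +kernel

theorem okW8_0 : mat3 52 certW8_0 = true := by decide +kernel

theorem row8_0 : ∀ i < 52, certRow mask52 1 52 blkA8 blkB8 certX8_0 certY8_0 certU8_0 certW8_0 i = true := by
  decide +kernel

theorem rank8_0 : (mat 52 blkA8 * mat 52 blkB8 -
    ((1 : ℕ) : ZMod 3) • (1 : Matrix (Fin 52) (Fin 52) (ZMod 3))).rank = 52 :=
  rank_of_cert (by norm_num) (by norm_num) (by norm_num) mask52_eq okA8 okB8 okX8_0 okY8_0 okU8_0 okW8_0 row8_0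

theorem okX8_1 : mat3 52 certX8_1 = true := by decide +kernel

theorem okY8_1 : mat3 52 certY8_1 = true := by decide +kernel

theorem okU8_1 : mat3 52 certU8_1 = true := by decide +kernel

theorem okW8_1 : mat3 52 certW8_1 = true := by decide +kernel

theorem row8_1 : ∀ i < 52, certRow mask52 2 40 blkA8 blkB8 certX8_1 certY8_1 certU8_1 certW8_1 i = true := by
  decide +kernel

theorem rank8_1 : (mat 52 blkA8 * mat 52 blkB8 -
    ((2 : ℕ) : ZMod 3) • (1 : Matrix (Fin 52) (Fin 52) (ZMod 3))).rank = 40 :=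
  rank_of_cert (by norm_num) (by norm_num) (by norm_num) mask52_eq okA8 okB8 okX8_1 okY8_1 okU8_1 okW8_1 row8_1

theorem okA9 : mat3 52 blkA9 = true := by decide +kernel

theorem okB9 : mat3 52 blkB9 = true := by decide +kernel

theorem okX9_0 : mat3 52 certX9_0 = true := by decide +kernel

theorem okY9_0 : mat3 52 certY9_0 = true := by decide +kernel

theorem okU9_0 : mat3 52 certU9_0 = true := by decide +kernel

theorem okW9_0 : mat3 52 certW9_0 = true := by decide +kernel

theorem row9_0 : ∀ i < 52, certRow mask52 1 46 blkA9 blkB9 certX9_0 certY9_0 certU9_0 certW9_0 i = true := by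
  decide +kernel

theorem rank9_0 : (mat 52 blkA9 * mat 52 blkB9 -
    ((1 : ℕ) : ZMod 3) • (1 : Matrix (Fin 52) (Fin 52) (ZMod 3))).rank = 46 :=
  rank_of_cert (by norm_num) (by norm_num) (by norm_num) mask52_eq okA9 okB9 okX9_0 okY9_0 okU9_0 okW9_0 row9_0

theorem okX9_1 : mat3 52 certX9_1 = true := by decide +kernel

theorem okY9_1 : mat3 52 certY9_1 = true := by decide +kernel

theorem okU9_1 : mat3 52 certU9_1 = true := by decide +kernel

theorem okW9_1 : mat3 52 certW9_1 = true := by decide +kernel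

theorem row9_1 : ∀ i < 52, certRow mask52 2 36 blkA9 blkB9 certX9_1 certY9_1 certU9_1 certW9_1 i = true := by
  decide +kernel

theorem rank9_1 : (mat 52 blkA9 * mat 52 blkB9 -
    ((2 : ℕ) : ZMod 3) • (1 : Matrix (Fin 52) (Fin 52) (ZMod 3))).rank = 36 :=
  rank_of_cert (by norm_num) (by norm_num) (by norm_num) mask52_eq okA9 okB9 okX9_1 okY9_1 okU9_1 okW9_1 row9_1

theorem okA10 : mat3 52 blkA10 = true := by decide +kernel

theorem okB10 : mat3 52 blkB10 = true := by decide +kernel

theorem okX10_0 : mat3 52 certX10_0 = true := by decide +kernel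

theorem okY10_0 : mat3 52 certY10_0 = true := by decide +kernel

theorem okU10_0 : mat3 52 certU10_0 = true := by decide +kernel

theorem okW10_0 : mat3 52 certW10_0 = true := by decide +kernel

theorem row10_0 : ∀ i < 52, certRow mask52 1 52 blkA10 blkB10 certX10_0 certY10_0 certU10_0 certW10_0 i = true := by
  decide +kernel

theorem rank10_0 : (mat 52 blkA10 * mat 52 blkB10 -
    ((1 : ℕ) : ZMod 3) • (1 : Matrix (Fin 52) (Fin 52) (ZMod 3))).rank = 52 :=
  rank_of_cert (by norm_num) (by norm_num) (by norm_num) mask52_eq okA10 okB10 okX10_0 okY10_0 okU10_0 okW10_0 row10_0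

theorem okX10_1 : mat3 52 certX10_1 = true := by decide +kernel

theorem okY10_1 : mat3 52 certY10_1 = true := by decide +kernel

theorem okU10_1 : mat3 52 certU10_1 = true := by decide +kernel

theorem okW10_1 : mat3 52 certW10_1 = true := by decide +kernel

theorem row10_1 : ∀ i < 52, certRow mask52 2 0 blkA10 blkB10 certX10_1 certY10_1 certU10_1 certW10_1 i = true := by
  decide +kernel

theorem rank10_1 : (mat 52 blkA10 * mat 52 blkB10 -
    ((2 : ℕ) : ZMod 3) • (1 : Matrix (Fin 52) (Fin 52) (ZMod 3))).rank = 0 :=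
  rank_of_cert (by norm_num) (by norm_num) (by norm_num) mask52_eq okA10 okB10 okX10_1 okY10_1 okU10_1 okW10_1 row10_1

/-- The two ranks at each node. -/
def rankList : List (ℕ × ℕ) := [(0, 52), (40, 52), (27, 52), (23, 52), (43, 36), (30, 52), (45, 52), (38, 52), (52, 40), (46, 36), (52, 0)]

theorem rankList_injective : ∀ m < 11, ∀ n < 11,
    rankList.getD m (0, 0) = rankList.getD n (0, 0) → m = n := by decide +kernel

theorem okA {n : ℕ} (hn : n < 11) : mat3 52 (blkA.getD n []) = true := by
  interval_cases n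
  · exact okA0
  · exact okA1
  · exact okA2
  · exact okA3
  · exact okA4
  · exact okA5
  · exact okA6
  · exact okA7
  · exact okA8
  · exact okA9
  · exact okA10

theorem okB {n : ℕ} (hn : n < 11) : mat3 52 (blkB.getD n []) = true := by
  interval_cases n
  · exact okB0
  · exact okB1
  · exact okB2
  · exact okB3
  · exact okB4
  · exact okB5
  · exact okB6
  · exact okB7
  · exact okB8
  · exact okB9
  · exact okB10

theorem ranks {n : ℕ} (hn : n < 11) :
    ((mat 52 (blkA.getD n []) * mat 52 (blkB.getD n []) -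
        ((1 : ℕ) : ZMod 3) • (1 : Matrix (Fin 52) (Fin 52) (ZMod 3))).rank,
      (mat 52 (blkA.getD n []) * mat 52 (blkB.getD n []) -
        ((2 : ℕ) : ZMod 3) • (1 : Matrix (Fin 52) (Fin 52) (ZMod 3))).rank) =
      rankList.getD n (0, 0) := by
  interval_cases n
  · exact Prod.ext rank0_0 rank0_1
  · exact Prod.ext rank1_0 rank1_1
  · exact Prod.ext rank2_0 rank2_1
  · exact Prod.ext rank3_0 rank3_1
  · exact Prod.ext rank4_0 rank4_1
  · exact Prod.ext rank5_0 rank5_1
  · exact Prod.ext rank6_0 rank6_1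
  · exact Prod.ext rank7_0 rank7_1
  · exact Prod.ext rank8_0 rank8_1
  · exact Prod.ext rank9_0 rank9_1
  · exact Prod.ext rank10_0 rank10_1

end CfsgLib.Coset.Th.Sep
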