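import Cfsg.Agent.Coset.Th.Rep
import Cfsg.Agent.Coset.Th.SepRanks
import Cfsg.Agent.Coset.Th.NodeWords

/-!
The first 52 rows and columns of the matrices of the node words and of their inverses.
-/

set_option autoImplicit false
set_option maxRecDepth 100000
set_option Elab.async false

namespace CfsgLib.Coset.Th.Sep

/-- The first `n` coordinates, repacked with 24 bits a coordinate. -/
noncomputable def repack : Nat → Nat → Nat :=
  fun n => Nat.rec (fun _ => 0)
    (fun _ ih r => Nat.add (Nat.land r 1023) (Nat.mul 16777216 (force (Nat.shiftRight r 10) ih))) n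

/-- A row of the upper left block of the matrix of a word. -/
noncomputable def rowCheck (w rows : List Nat) (i : Nat) : Bool :=
  Nat.beq (force (vrun K1 matL (Nat.pow 2 (Nat.mul 10 i)) w) (repack 52)) (rows.getD i 0)

/-- The word of the inverse. -/
def invW (w : List Nat) : List Nat := (w.map fun l => Nat.xor l 1).reverse

theorem rowsA0 : ∀ i < 52, rowCheck (nodeW.getD 0 []) (blkA.getD 0 []) i = true := by
  decide +kernel

theorem rowsB0 : ∀ i < 52, rowCheck (invW (nodeW.getD 0 [])) (blkB.getD 0 []) i = true := by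
  decide +kernel

theorem rowsA1 : ∀ i < 52, rowCheck (nodeW.getD 1 []) (blkA.getD 1 []) i = true := by
  decide +kernel

theorem rowsB1 : ∀ i < 52, rowCheck (invW (nodeW.getD 1 [])) (blkB.getD 1 []) i = true := by
  decide +kernel

theorem rowsA2 : ∀ i < 52, rowCheck (nodeW.getD 2 []) (blkA.getD 2 []) i = true := by
  decide +kernel

theorem rowsB2 : ∀ i < 52, rowCheck (invW (nodeW.getD 2 [])) (blkB.getD 2 []) i = true := by
  decide +kernel

theorem rowsA3 : ∀ i < 52, rowCheck (nodeW.getD 3 []) (blkA.getD 3 []) i = true := by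
  decide +kernel

theorem rowsB3 : ∀ i < 52, rowCheck (invW (nodeW.getD 3 [])) (blkB.getD 3 []) i = true := by
  decide +kernel

theorem rowsA4 : ∀ i < 52, rowCheck (nodeW.getD 4 []) (blkA.getD 4 []) i = true := by
  decide +kernel

theorem rowsB4 : ∀ i < 52, rowCheck (invW (nodeW.getD 4 [])) (blkB.getD 4 []) i = true := by
  decide +kernel

theorem rowsA5 : ∀ i < 52, rowCheck (nodeW.getD 5 []) (blkA.getD 5 []) i = true := by
  decide +kernel

theorem rowsB5 : ∀ i < 52, rowCheck (invW (nodeW.getD 5 [])) (blkB.getD 5 []) i = true := by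
  decide +kernel

theorem rowsA6 : ∀ i < 52, rowCheck (nodeW.getD 6 []) (blkA.getD 6 []) i = true := by
  decide +kernel

theorem rowsB6 : ∀ i < 52, rowCheck (invW (nodeW.getD 6 [])) (blkB.getD 6 []) i = true := by
  decide +kernel

theorem rowsA7 : ∀ i < 52, rowCheck (nodeW.getD 7 []) (blkA.getD 7 []) i = true := by
  decide +kernel

theorem rowsB7 : ∀ i < 52, rowCheck (invW (nodeW.getD 7 [])) (blkB.getD 7 []) i = true := by
  decide +kernel

theorem rowsA8 : ∀ i < 52, rowCheck (nodeW.getD 8 []) (blkA.getD 8 []) i = true := by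
  decide +kernel

theorem rowsB8 : ∀ i < 52, rowCheck (invW (nodeW.getD 8 [])) (blkB.getD 8 []) i = true := by
  decide +kernel

theorem rowsA9 : ∀ i < 52, rowCheck (nodeW.getD 9 []) (blkA.getD 9 []) i = true := by
  decide +kernel

theorem rowsB9 : ∀ i < 52, rowCheck (invW (nodeW.getD 9 [])) (blkB.getD 9 []) i = true := by
  decide +kernel

theorem rowsA10 : ∀ i < 52, rowCheck (nodeW.getD 10 []) (blkA.getD 10 []) i = true := by
  decide +kernel

theorem rowsB10 : ∀ i < 52, rowCheck (invW (nodeW.getD 10 [])) (blkB.getD 10 []) i = true := by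
  decide +kernel

end CfsgLib.Coset.Th.Sep
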