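import Cfsg.Agent.Coset.Th.Cover
import Cfsg.Agent.Coset.Th.DeriveCheck

/-!
Crossing `u` from a coset of a node: the node reached is read off the colouring of the 17199 points.
-/

set_option autoImplicit false
set_option maxRecDepth 100000
set_option Elab.async false

namespace CfsgLib.Coset.Th

variable {Γ : Type*} [Group Γ] {L : List Γ}

/-- The part of the model fixing the coset of a node. -/
noncomputable def Frame.stabS (hF : Frame L) (n : Nat) : Subgroup A where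
  carrier := {a | hF.Rel (ev L (nW n) * hF.Ψ a) (ev L (nW n))}
  one_mem' := by simpa using hF.rel_refl _
  mul_mem' := fun {a b} ha hb => by
    show hF.Rel _ _
    rw [map_mul, ← mul_assoc]
    exact hF.rel_trans (hF.rel_mul ha _) hb
  inv_mem' := fun {a} ha => by
    show hF.Rel _ _
    have := hF.rel_mul (hF.rel_symm ha) (hF.Ψ a⁻¹)
    simpa [mul_assoc, ← map_mul] using this

theorem Frame.gens_le (hF : Frame L) {n : Nat} (hn1 : 1 ≤ n) (hn : n < 11) :
    genW LA (cvG n) ≤ hF.stabS n := by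
  refine (Subgroup.closure_le _).mpr ?_
  rintro _ ⟨w, hw, rfl⟩
  obtain ⟨i, hi, he, hl⟩ := cvG_listed n hn hn1 w hw
  show hF.Rel _ _
  have h := hF.known.stab i hi
  rw [he] at h
  rw [hF.Ψ_ev _ hl]
  simpa [pe] using h

theorem Frame.Ψ_u (hF : Frame L) {q : A} (hq : q ∈ K0) :
    ∃ q', hF.Ψ q * fl L 14 = fl L 14 * hF.Ψ q' := by
  induction hq using Subgroup.closure_induction with
  | mem x hx =>
    obtain ⟨w, hw, rfl⟩ := hx
    obtain ⟨i, hi, rfl⟩ := List.getElem_of_mem hw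
    have hi6 : i < 6 := by
      have : kgW.length = 6 := by decide +kernel
      omega
    refine ⟨ev LA (kmW.getD i []), ?_⟩
    rw [hF.Ψ_ev _ ((by decide +kernel : ∀ w ∈ kgW, ∀ l ∈ w, l < 14) _ (List.getElem_mem hi)),
      hF.Ψ_ev _ ((by decide +kernel : ∀ k < 6, ∀ l ∈ kmW.getD k [], l < 14) i hi6)]
    have := hF.conj_k hi6
    rwa [List.getD_eq_getElem _ _ hi] at this
  | one => exact ⟨1, by simp⟩
  | mul a b _ _ ha hb =>
    obtain ⟨a', ha⟩ := ha
    obtain ⟨b', hb⟩ := hb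
    exact ⟨a' * b', by rw [map_mul, mul_assoc, hb, ← mul_assoc, ha, mul_assoc, map_mul]⟩
  | inv a _ ha =>
    obtain ⟨a', ha⟩ := ha
    refine ⟨a'⁻¹, ?_⟩
    rw [map_inv, map_inv, inv_mul_eq_iff_eq_mul, ← mul_assoc, ha, mul_inv_cancel_right]

/-- The colour of a point at a node. -/
noncomputable def lab (n p : Nat) : Nat := cLab (cvPar n p)

theorem lab_lt {n : Nat} (hn1 : 1 ≤ n) (hn : n < 11) (p : Fin 17199) : lab n p < 11 :=
  (cover n hn1 hn p).choose_spec.2.2.2.1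

/-- Crossing `u`. -/
theorem Frame.step (hF : Frame L) {n : Nat} (hn1 : 1 ≤ n) (hn : n < 11) (a : A) :
    ∃ b : A, hF.Rel (ev L (nW n) * hF.Ψ a * fl L 14)
      (ev L (nW (lab n (τ a (0 : Fin 17199)))) * hF.Ψ b) := by
  obtain ⟨j, hj, hjn, hjm, -, hl1, hl2, g, hg, hge⟩ := cover n hn1 hn (τ a 0)
  have hq : (g * ev LA (factAt j).2.1)⁻¹ * a ∈ K0 := by
    rw [← pstab_zero, mem_pstab, map_mul, map_inv, Equiv.Perm.mul_apply, ← hge,
      Equiv.Perm.inv_def, Equiv.symm_apply_apply]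
  obtain ⟨q, hq', rfl⟩ : ∃ q ∈ K0, a = g * ev LA (factAt j).2.1 * q :=
    ⟨_, hq, (mul_inv_cancel_left _ _).symm⟩
  obtain ⟨q', he⟩ := hF.Ψ_u hq'
  refine ⟨ev LA (factAt j).2.2.2 * q', ?_⟩
  have hg' : hF.Rel (ev L (nW n) * hF.Ψ g) (ev L (nW n)) := hF.gens_le hn1 hn hg
  show hF.Rel _ (ev L (nW (cLab (cvPar n _))) * _)
  rw [← hjm, map_mul, map_mul, map_mul, hF.Ψ_ev _ hl1, hF.Ψ_ev _ hl2]
  simp only [← mul_assoc]
  rw [mul_assoc _ (hF.Ψ q), he, ← mul_assoc]
  refine hF.rel_trans (hF.rel_mul (hF.rel_mul (hF.rel_mul hg' _) _) _) (hF.rel_mul ?_ _)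
  have := hF.known.fact j hj
  rw [hjn] at this
  simpa [pe] using this

end CfsgLib.Coset.Th
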