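import Cfsg.Agent.Coset.Th.TPData
import Cfsg.Agent.Coset.Ly.Iv
import Cfsg.Agent.Coset.Ly.Fast

set_option autoImplicit false
set_option maxRecDepth 100000
set_option Elab.async false

/-! The action on 819 cosets. -/

namespace CfsgLib.Coset.Th

open CfsgLib.Coset.Ly (iv checkRelsF)

namespace TP

theorem hR : checkRules rels subs R = true := by decide +kernel
theorem hdefs : checkDefs E 14 13 7458 = true := by decide +kernel
theorem hsteps : checkChunks E (iv 14) R 14 9 7458 342 C = true := by decide +kernel
theorem htable : checkTable E (iv 14) (7458 + chunk * 342) 819 14 10 4 Rep Ref Tb = true := by decide +kernel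
theorem hperm : checkPerm (iv 14) 819 14 10 4 Tb = true := by decide +kernel
theorem hrels : checkRelsF 819 10 Tb rels = true := by decide +kernel
theorem htrans : checkTrans 819 14 10 Tb Par = true := by decide +kernel

end TP

end CfsgLib.Coset.Th
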