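import Cfsg.Agent.Coset.Th.TQData
import Cfsg.Agent.Coset.Th.T1Data
import Cfsg.Agent.Coset.Th.T2Data
import Cfsg.Agent.Coset.Th.T3Data
import Cfsg.Agent.Coset.Ly.Iv
import Cfsg.Agent.Coset.Ly.Fast

set_option autoImplicit false
set_option maxRecDepth 100000
set_option Elab.async false

/-! The point stabiliser up to a kernel of order two. -/

namespace CfsgLib.Coset.Th

open CfsgLib.Coset.Ly (iv checkRelsF)

namespace TQ

theorem hR : checkRules rels subs R = true := by decide +kernel
theorem hdefs : checkDefs E 12 11 1072 = true := by decide +kernel
theorem hsteps : checkChunks E (iv 12) R 12 7 1072 82 C = true := by decide +kernel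
theorem htable : checkTable E (iv 12) (1072 + chunk * 82) 1024 12 10 4 Rep Ref Tb = true := by decide +kernel

end TQ

namespace T1

theorem hR : checkRules rels subs R = true := by decide +kernel
theorem hdefs : checkDefs E 8 7 72 = true := by decide +kernel
theorem hsteps : checkChunks E (iv 8) R 8 2 72 4 C = true := by decide +kernel
theorem htable : checkTable E (iv 8) (72 + chunk * 4) 72 8 7 3 Rep Ref Tb = true := by decide +kernel

end T1

namespace T2

theorem hR : checkRules rels subs R = true := by decide +kernel
theorem hdefs : checkDefs E 4 3 7 = true := by decide +kernel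
theorem hsteps : checkChunks E (iv 4) R 4 0 7 1 C = true := by decide +kernel
theorem htable : checkTable E (iv 4) (7 + chunk * 1) 7 4 3 2 Rep Ref Tb = true := by decide +kernel

end T2

namespace T3

theorem hR : checkRules rels subs R = true := by decide +kernel
theorem hdefs : checkDefs E 2 2 3 = true := by decide +kernel
theorem hsteps : checkChunks E (iv 2) R 2 0 3 1 C = true := by decide +kernel
theorem htable : checkTable E (iv 2) (3 + chunk * 1) 3 2 2 1 Rep Ref Tb = true := by decide +kernel

end T3

end CfsgLib.Coset.Th
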