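import Cfsg.Agent.Coset.Presented
import Cfsg.Agent.Coset.Sift
import Cfsg.Agent.Coset.Ly.Fast
import Cfsg.Agent.Coset.Th.Words
import Cfsg.Agent.Coset.Th.TP
import Cfsg.Agent.Coset.Th.TQ
import Cfsg.Agent.Coset.Th.ChainData

/-!
The group presented by the relators on fourteen letters: finiteness, an action on 819 points and
the bound two on its kernel.
-/

set_option autoImplicit false
set_option maxRecDepth 100000
set_option Elab.async false

namespace CfsgLib.Coset.Th

open CfsgLib.Coset.Ly (iv checkRelsF checkRels_of_checkRelsF)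

theorem fl_iv {G : Type*} [Group G] {L : List G} {k : Nat} (hk : L.length = k)
    (h : ∀ l, l < k → Nat.xor l 1 < k ∧ fl L l * fl L (Nat.xor l 1) = 1) (x : Nat) :
    fl L (iv k x) = (fl L x)⁻¹ := by
  unfold iv
  cases hx : Nat.ble k x
  · have hlt : x < k := by
      by_contra hge
      rw [Nat.ble_eq.mpr (by omega)] at hx
      exact Bool.noConfusion hx
    exact (inv_eq_of_mul_eq_one_right (h x hlt).2).symm
  · have hge : k ≤ x := Nat.ble_eq.mp hx
    rw [cond_true, fl_of_le _ (hk ▸ hge), inv_one]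

/-- The presented group. -/
abbrev A : Type := NumGr 14 relsA

/-- Its generators. -/
noncomputable abbrev LA : List A := numGens 14 relsA

theorem len_LA : LA.length = 14 := length_numGens

theorem ev_relsA : ∀ w ∈ relsA, ev LA w = 1 := ev_numGens

theorem pairsA : ∀ l, l < 14 → Nat.xor l 1 < 14 ∧ fl LA l * fl LA (Nat.xor l 1) = 1 := by
  intro l hl
  have h : ∀ l < 14, Nat.xor l 1 < 14 ∧ [l, Nat.xor l 1] ∈ relsA := by decide +kernel
  refine ⟨(h l hl).1, ?_⟩
  simpa using ev_relsA _ (h l hl).2

theorem inv_LA (x : Nat) : fl LA (iv 14 x) = (fl LA x)⁻¹ := fl_iv len_LA pairsA x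

theorem closure_LA : Subgroup.closure {x | x ∈ LA} = ⊤ := closure_numGens

theorem inv_level {k : Nat} (S : List Nat) (hk : S.length = k)
    (hS : ∀ l < k, Nat.xor l 1 < k ∧ S.getD (Nat.xor l 1) 14 = Nat.xor (S.getD l 14) 1 ∧
      S.getD l 14 < 14) (x : Nat) : fl (lv LA S) (iv k x) = (fl (lv LA S) x)⁻¹ := by
  refine fl_iv (by simp [lv, hk]) (fun l hl => ⟨(hS l hl).1, ?_⟩) x
  rw [fl_lv, fl_lv, len_LA, (hS l hl).2.1]
  exact (pairsA _ (hS l hl).2.2).2

theorem level_step {E Rep Tb : Nat → Nat} {n m d d' N nC dn dk k : Nat}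
    {C Ref : Nat → Nat} {R : Tr (List Nat × Nat)} {relsX relsS subs : List (List Nat)}
    (S S' : List Nat) (hk : S.length = k)
    (hS : ∀ l < k, Nat.xor l 1 < k ∧ S.getD (Nat.xor l 1) 14 = Nat.xor (S.getD l 14) 1 ∧
      S.getD l 14 < 14)
    (hrel : ∀ w ∈ relsX, ev LA w = 1)
    (hc : checkLevel relsX 14 S S' relsS subs = true)
    (hR : checkRules relsS subs R = true) (hd : checkDefs E k d' N = true)
    (hs : checkChunks E (iv k) R k d N nC C = true)
    (ht : checkTable E (iv k) (N + chunk * nC) n k dn dk Rep Ref Tb = true) (hn : 0 < n)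
    (hm : Finite (genBy LA S') ∧ Nat.card (genBy LA S') ≤ m) :
    Finite (genBy LA S) ∧ Nat.card (genBy LA S) ≤ n * m := by
  obtain rfl : k = (lv LA S).length := by simp [lv, hk]
  have h : TableOK (lv LA S) (genBy LA S') E (iv (lv LA S).length) n Rep Tb :=
    tableOK_of_check (inv_level S hk hS) hR hd hs ht
      (level_rels len_LA hc hrel) (level_subs len_LA hc)
  simp only [checkLevel, Bool.and_eq_true, List.all_eq_true, List.contains_iff_mem] at hc
  exact h.finite_card_le hn (genBy_mono fun l hl => hc.1.2 l hl) hm.1 hm.2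

/-- The letters fixing the first point. -/
def SP : List Nat := [0, 1, 4, 5, 6, 7, 8, 9, 10, 11, 12, 13]
/-- The letters of the second level. -/
def SQ : List Nat := [6, 7, 8, 9, 10, 11, 12, 13]

/-- The subgroup of the coset table. -/
noncomputable abbrev P : Subgroup A := genW LA TP.subs

theorem P_le : P ≤ genBy LA SP := by
  refine (Subgroup.closure_le _).mpr ?_
  rintro _ ⟨w, hw, rfl⟩
  exact ev_mem_genBy SP ((by decide +kernel : ∀ w ∈ TP.subs, ∀ l ∈ w, l ∈ SP) w hw)

theorem top_table : TableOK LA P TP.E (iv 14) 819 TP.Rep TP.Tb :=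
  tableOK_of_check inv_LA TP.hR (len_LA.symm ▸ TP.hdefs) (len_LA.symm ▸ TP.hsteps)
    (len_LA.symm ▸ TP.htable)
    (fun w hw => ev_relsA w ((by decide +kernel : ∀ w ∈ TP.rels, w ∈ relsA) w hw))
    (fun _ hw => ev_mem_genW hw)

theorem card_genBy_SQ : Finite (genBy LA SQ) ∧ Nat.card (genBy LA SQ) ≤ 1512 := by
  have h3 := level_step [12, 13] [] rfl (by decide +kernel) ev_relsA (by decide +kernel)
    T3.hR T3.hdefs T3.hsteps T3.htable (by decide) (card_genBy_nil (L := LA))
  have h2 := level_step [10, 11, 12, 13] [12, 13] rfl (by decide +kernel) ev_relsA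
    (by decide +kernel) T2.hR T2.hdefs T2.hsteps T2.htable (by decide) h3
  exact level_step SQ [10, 11, 12, 13] rfl (by decide +kernel) ev_relsA
    (by decide +kernel) T1.hR T1.hdefs T1.hsteps T1.htable (by decide) h2

theorem card_le_of_genBy {m : Nat} (h : Finite (genBy LA SP) ∧ Nat.card (genBy LA SP) ≤ m) :
    Finite A ∧ Nat.card A ≤ 819 * m := by
  have hf : Finite P := by
    have := h.1
    exact Finite.of_injective _ (Subgroup.inclusion_injective P_le)
  have hc : Nat.card P ≤ m := by
    have := h.1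
    exact (Subgroup.card_le_of_le P_le).trans h.2
  obtain ⟨hf', hc'⟩ := top_table.finite_card_le (by decide) (closure_LA ▸ le_top) hf hc
  rw [closure_LA] at hf' hc'
  rw [Subgroup.card_top] at hc'
  exact ⟨Finite.of_equiv _ Subgroup.topEquiv.toEquiv, hc'⟩

theorem card_le_two : Finite A ∧ Nat.card A ≤ 1268047872 :=
  card_le_of_genBy (m := 1548288) (level_step SP SQ rfl (by decide +kernel) ev_relsA
    (by decide +kernel) TQ.hR TQ.hdefs TQ.hsteps TQ.htable (by decide) card_genBy_SQ)

instance : Finite A := card_le_two.1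

theorem sig_rels : ∀ w ∈ relsA, ev (sigList TP.hperm) w = 1 := by
  intro w hw
  have hl : ∀ l ∈ w, l < 14 := (by decide +kernel : ∀ w ∈ relsA, ∀ l ∈ w, l < 14) w hw
  have hmem : w ∈ TP.rels := (by decide +kernel : ∀ w ∈ relsA, w ∈ TP.rels) w hw
  rw [← inv_eq_one]
  refine Equiv.ext fun i => Fin.ext ?_
  rw [ev_sigList_inv_apply TP.hperm w i hl, checkRels_of_checkRelsF TP.hrels i i.2 w hmem]
  rfl

/-- The action on 819 points. -/
noncomputable def ρ : A →* Equiv.Perm (Fin 819) := numHom (by simp [sigList]) sig_rels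

theorem matches_ρ : Matches LA ρ TP.Tb := by
  intro l hl i
  rw [ρ, numHom_fl, fl_sigList, sig_symm_apply TP.hperm (len_LA ▸ hl)]

theorem transitive (i : Fin 819) : ∃ g, ρ g ⟨0, by decide⟩ = i :=
  (matches_ρ.transitive (by decide) (len_LA.symm ▸ TP.htrans) i).imp fun _ h => h.2

/-- The base of the action. -/
def baseF : List (Fin 819) := [0, 1, 50, 26]

theorem orbit_A (M : Nat) (hM : M ≤ Nat.card (baseStab ρ baseF)) :
    634023936 * M ≤ Nat.card (baseStab ρ ([] : List (Fin 819))) := by
  have h3 := orbit_step matches_ρ (base := [(0 : Fin 819), 1, 50]) (β := 26) (m := 9) (dm := 4)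
    (gens := CA3G) (P := CA3P) (Inv := CA3Inv)
    (by decide +kernel) (by rw [len_LA]; decide +kernel) (by decide +kernel) hM
  have h2 := orbit_step matches_ρ (base := [(0 : Fin 819), 1]) (β := 50) (m := 168) (dm := 8)
    (gens := CA2G) (P := CA2P) (Inv := CA2Inv)
    (by decide +kernel) (by rw [len_LA]; decide +kernel) (by decide +kernel) h3
  have h1 := orbit_step matches_ρ (base := [(0 : Fin 819)]) (β := 1) (m := 512) (dm := 9)
    (gens := CA1G) (P := CA1P) (Inv := CA1Inv)
    (by decide +kernel) (by rw [len_LA]; decide +kernel) (by decide +kernel) h2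
  have h0 := orbit_step matches_ρ (base := []) (β := 0) (m := 819) (dm := 10)
    (gens := CA0G) (P := CA0P) (Inv := CA0Inv)
    (by decide +kernel) (by rw [len_LA]; decide +kernel) (by decide +kernel) h1
  have : 634023936 * M = 819 * (512 * (168 * (9 * M))) := by ring
  omega

theorem card_ker_le_two : Nat.card ρ.ker ≤ 2 := by
  have h := orbit_A _ (card_ker_le (ρ := ρ) baseF)
  have he : Nat.card (baseStab ρ ([] : List (Fin 819))) = Nat.card A := by simp [baseStab]
  have hA := card_le_two.2
  omega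

/-- A kernel of order two is central and of exponent two. -/
theorem ker_central {k : A} (hk : k ∈ ρ.ker) : k * k = 1 ∧ ∀ g : A, g * k = k * g := by
  have key : ∀ x ∈ ρ.ker, x ≠ 1 → x = k ∨ k = 1 := by
    intro x hx hx1
    by_contra hne
    push_neg at hne
    classical
    have hsub : Nat.card ({⟨1, ρ.ker.one_mem⟩, ⟨x, hx⟩, ⟨k, hk⟩} : Finset ρ.ker) = 3 := by
      rw [Nat.card_eq_finsetCard, Finset.card_insert_of_notMem, Finset.card_insert_of_notMem,
        Finset.card_singleton]
      · simpa [Subtype.ext_iff] using hne.1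
      · simpa [Subtype.ext_iff] using ⟨fun h => hx1 h.symm, fun h => hne.2 h.symm⟩
    have := Nat.card_le_card_of_injective _
      (Subtype.val_injective (p := fun y => y ∈ ({⟨1, ρ.ker.one_mem⟩, ⟨x, hx⟩, ⟨k, hk⟩} : Finset ρ.ker)))
    have := card_ker_le_two
    omega
  rcases eq_or_ne k 1 with rfl | hk1
  · simp
  constructor
  · by_contra h
    rcases key (k * k) (ρ.ker.mul_mem hk hk) h with h | h
    · exact hk1 (by simpa using h)
    · exact hk1 h
  · intro g
    have hc : g * k * g⁻¹ ∈ ρ.ker := (MonoidHom.normal_ker ρ).conj_mem k hk g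
    have h1 : g * k * g⁻¹ ≠ 1 := by simpa using hk1
    rcases key _ hc h1 with h | h
    · calc g * k = g * k * g⁻¹ * g := by group
        _ = k * g := by rw [h]
    · exact absurd h hk1

end CfsgLib.Coset.Th
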